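import Mathlib
import Groth.Prelude.Def_W4bk4goldsch23FF

/-! Over a perfect field, function fields are geometric. -/

namespace Groth.Agent.Helper17.FF

open Polynomial

universe u v

theorem irreducible_map_of_algClosedIn {k K : Type*} [Field k] [Field K] [Algebra k K]
    (hcl : ∀ y : K, IsAlgebraic k y → y ∈ Set.range (algebraMap k K)) {f : k[X]}
    (hf : Irreducible f) (hm : f.Monic) : Irreducible (f.map (algebraMap k K)) := by
  have hFm : (f.map (algebraMap k K)).Monic := hm.map _
  have hFnu : ¬ IsUnit (f.map (algebraMap k K)) := by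
    intro hu
    have h1 := natDegree_eq_zero_of_isUnit hu
    rw [natDegree_map] at h1
    exact hf.natDegree_pos.ne' h1
  obtain ⟨g, hgirr, hgdvd⟩ := WfDvdMonoid.exists_irreducible_factor hFnu hFm.ne_zero
  have hg0 : g ≠ 0 := hgirr.ne_zero
  have hlc : IsUnit (C (leadingCoeff g)⁻¹) :=
    isUnit_C.2 (isUnit_iff_ne_zero.2 (inv_ne_zero (leadingCoeff_ne_zero.2 hg0)))
  have hg'm : (g * C (leadingCoeff g)⁻¹).Monic := monic_mul_leadingCoeff_inv hg0
  have hg'irr : Irreducible (g * C (leadingCoeff g)⁻¹) := (irreducible_mul_isUnit hlc).2 hgirr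
  have hg'dvd : g * C (leadingCoeff g)⁻¹ ∣ f.map (algebraMap k K) :=
    (hlc.mul_right_dvd).2 hgdvd
  have hlift := integralClosure.mem_lifts_of_monic_of_dvd_map K hm hg'm hg'dvd
  have hlift' : g * C (leadingCoeff g)⁻¹ ∈ lifts (algebraMap k K) := by
    rw [lifts_iff_coeff_lifts] at hlift ⊢
    intro n
    obtain ⟨⟨c, hc⟩, hcn⟩ := hlift n
    have : c ∈ Set.range (algebraMap k K) := hcl c hc.isAlgebraic
    rw [← hcn]
    exact this
  obtain ⟨g₀, hg₀map, -, hg₀m⟩ := lifts_and_degree_eq_and_monic hlift' hg'm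
  rw [← hg₀map] at hg'dvd hg'irr
  have hdvd : g₀ ∣ f := (map_dvd_map _ (algebraMap k K).injective hg₀m).1 hg'dvd
  obtain ⟨h, hh⟩ := hdvd
  have hg₀nu : ¬ IsUnit g₀ := fun hu => hg'irr.not_isUnit (hu.map (mapRingHom (algebraMap k K)))
  have hhu : IsUnit h := (hf.isUnit_or_isUnit hh).resolve_left hg₀nu
  rw [hh, Polynomial.map_mul]
  exact (irreducible_mul_isUnit (hhu.map (mapRingHom (algebraMap k K)))).2 hg'irr

open scoped TensorProduct in
theorem isGeometric_of_perfect (k : Type u) (K : Type v) [Field k] [Field K] [Algebra k K]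
    [PerfectField k] (hK : FunFld.IsFunctionField k K) : FunFld.IsGeometric k K := by
  intro k' _ _ hfd
  obtain ⟨α, hα⟩ := Field.exists_primitive_element k k'
  have hint : IsIntegral k α := IsIntegral.of_finite k α
  have hfirr : Irreducible (minpoly k α) := minpoly.irreducible hint
  have hfm : (minpoly k α).Monic := minpoly.monic hint
  have hF := irreducible_map_of_algClosedIn hK.2 hfirr hfm
  haveI : Fact (Irreducible ((minpoly k α).map (algebraMap k K))) := ⟨hF⟩
  let e₁ : AdjoinRoot (minpoly k α) ≃ₐ[k] k' :=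
    (IntermediateField.adjoinRootEquivAdjoin k hint).trans
      ((IntermediateField.equivOfEq hα).trans IntermediateField.topEquiv)
  let e₂ : k' ⊗[k] K ≃ₐ[k] K ⊗[k] k' := Algebra.TensorProduct.comm k k' K
  let e₃ : K ⊗[k] k' ≃ₐ[k] K ⊗[k] AdjoinRoot (minpoly k α) :=
    Algebra.TensorProduct.congr AlgEquiv.refl e₁.symm
  let q : (K ⊗[k] k)[X] :=
    (minpoly k α).map (Algebra.TensorProduct.includeRight : k →ₐ[k] K ⊗[k] k).toRingHom
  let e₄ : K ⊗[k] AdjoinRoot (minpoly k α) ≃ₐ[K] AdjoinRoot q :=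
    AdjoinRoot.tensorAlgEquiv (minpoly k α) q rfl
  let e₅ : AdjoinRoot q ≃+* AdjoinRoot ((minpoly k α).map (algebraMap k K)) :=
    AdjoinRoot.mapRingEquiv (Algebra.TensorProduct.rid k k K).toRingEquiv q _ (by
      have : (q.map ((Algebra.TensorProduct.rid k k K).toRingEquiv : K ⊗[k] k →+* K)) =
          (minpoly k α).map (algebraMap k K) := by
        show ((minpoly k α).map _).map _ = _
        rw [Polynomial.map_map]
        congr 1
        ext c
        simp [Algebra.algebraMap_eq_smul_one]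
      rw [this])
  let E : k' ⊗[k] K ≃+* AdjoinRoot ((minpoly k α).map (algebraMap k K)) :=
    (e₂.toRingEquiv.trans e₃.toRingEquiv).trans (e₄.toRingEquiv.trans e₅)
  exact E.toMulEquiv.isField (Field.toIsField _)

end Groth.Agent.Helper17.FF
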