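import Groth.Agent.Lib.Helper17.FF23
import Groth.Prelude.Def_W4bk4goldsch45

/-! Class group of a function field over a finite field; counting effective divisors. -/

namespace Groth.Agent.Helper17.FF

open FunFld Polynomial Module

variable {k K : Type*} [Field k] [Field K] [Algebra k K]

lemma degHom_apply (D : Divisor k K) : degHom k K D = D.deg := by
  unfold degHom Divisor.deg
  rw [Finsupp.liftAddHom_apply]
  rfl

lemma mem_ker_degHom (D : Divisor k K) : D ∈ (degHom k K).ker ↔ D.deg = 0 := by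
  rw [AddMonoidHom.mem_ker, degHom_apply]

lemma div_zero' (hK : IsFunctionField k K) : FunFld.div k (0 : K) = 0 := by
  ext P; rw [div_apply hK, ord_zero]; rfl

lemma div_one' (hK : IsFunctionField k K) : FunFld.div k (1 : K) = 0 := by
  have := div_of_mem_range hK (k := k) (K := K) 1
  rwa [map_one] at this

theorem mem_prinDivs_iff (hK : IsFunctionField k K) (D : Divisor k K) :
    D ∈ prinDivs k K ↔ ∃ f : K, f ≠ 0 ∧ D = FunFld.div k f := by
  constructor
  · intro h
    let S : AddSubgroup (Divisor k K) :=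
      { carrier := {D | ∃ f : K, f ≠ 0 ∧ D = FunFld.div k f}
        zero_mem' := ⟨1, one_ne_zero, (div_one' hK).symm⟩
        add_mem' := by
          rintro _ _ ⟨f, hf, rfl⟩ ⟨g, hg, rfl⟩
          exact ⟨f * g, mul_ne_zero hf hg, (div_mul hK hf hg).symm⟩
        neg_mem' := by
          rintro _ ⟨f, hf, rfl⟩
          exact ⟨f⁻¹, inv_ne_zero hf, (div_inv hK f).symm⟩ }
    have hle : prinDivs k K ≤ S := by
      unfold prinDivs
      rw [AddSubgroup.closure_le]
      rintro _ ⟨f, rfl⟩
      by_cases hf : f = 0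
      · rw [hf, div_zero' hK]; exact S.zero_mem
      · exact ⟨f, hf, rfl⟩
    exact hle h
  · rintro ⟨f, -, rfl⟩
    exact AddSubgroup.subset_closure ⟨f, rfl⟩

lemma div_mem_prinDivs (f : K) : FunFld.div k f ∈ prinDivs k K :=
  AddSubgroup.subset_closure ⟨f, rfl⟩

/-- coefficients of an effective divisor are bounded by its degree -/
lemma coeff_mul_deg_le {D : Divisor k K} (h0 : 0 ≤ D) (P : Place k K) :
    D P * (P.deg : ℤ) ≤ D.deg := by
  classical
  have h1 : Finsupp.single P (D P) ≤ D := by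
    intro Q
    by_cases hQ : Q = P
    · subst hQ; rw [Finsupp.single_eq_same]
    · rw [Finsupp.single_eq_of_ne hQ]; exact h0 Q
  have := deg_mono h1
  rwa [deg_single] at this

theorem finite_effective [Finite k] (hK : IsFunctionField k K) (n : ℕ) :
    Finite {D : Divisor k K // 0 ≤ D ∧ D.deg = n} := by
  classical
  have hS := finite_places_deg_le hK n
  haveI : Finite {P : Place k K | P.deg ≤ n} := hS.to_subtype
  let φ : {D : Divisor k K // 0 ≤ D ∧ D.deg = n} → ({P : Place k K | P.deg ≤ n} → Fin (n + 1)) :=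
    fun D P => ⟨(D.1 P.1).toNat, by
      have h1 := coeff_mul_deg_le D.2.1 P.1
      rw [D.2.2] at h1
      have h2 := deg_pos hK P.1
      have h3 : (1 : ℤ) ≤ (P.1.deg : ℤ) := by exact_mod_cast h2
      have h4 := D.2.1 P.1
      rw [Finsupp.zero_apply] at h4
      have : D.1 P.1 ≤ n := by nlinarith
      omega⟩
  apply Finite.of_injective φ
  intro D D' hDD'
  apply Subtype.ext
  ext P
  by_cases hP : P.deg ≤ n
  · have := congrFun hDD' ⟨P, hP⟩
    have h1 : (D.1 P).toNat = (D'.1 P).toNat := congrArg Fin.val this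
    have h2 := D.2.1 P
    have h3 := D'.2.1 P
    rw [Finsupp.zero_apply] at h2 h3
    omega
  · push Not at hP
    have hz : ∀ E : {D : Divisor k K // 0 ≤ D ∧ D.deg = n}, E.1 P = 0 := by
      intro E
      have h1 := coeff_mul_deg_le E.2.1 P
      rw [E.2.2] at h1
      have h2 := E.2.1 P
      rw [Finsupp.zero_apply] at h2
      by_contra hne
      have h3 : 1 ≤ E.1 P := by omega
      have h4 : (n : ℤ) < P.deg := by exact_mod_cast hP
      nlinarith
    rw [hz D, hz D']

/-- the class group of degree zero divisors -/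
abbrev Pic0 (k K : Type*) [Field k] [Field K] [Algebra k K] : Type _ :=
  (degHom k K).ker ⧸ (prinDivs k K).addSubgroupOf (degHom k K).ker

lemma pic0_mk_eq_iff (A B : (degHom k K).ker) :
    (QuotientAddGroup.mk A : Pic0 k K) = QuotientAddGroup.mk B ↔
      (B : Divisor k K) - A ∈ prinDivs k K := by
  rw [QuotientAddGroup.eq, AddSubgroup.mem_addSubgroupOf]
  have : ((-A + B : (degHom k K).ker) : Divisor k K) = (B : Divisor k K) - A := by
    push_cast; abel
  rw [this]

theorem finite_pic0 [Finite k] (hK : IsFunctionField k K) : Finite (Pic0 k K) := by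
  classical
  obtain ⟨P₀⟩ := exists_place hK
  set D₀ : Divisor k K := Finsupp.single P₀ (genus k K : ℤ) with hD₀
  have hdeg₀ : D₀.deg = ((genus k K * P₀.deg : ℕ) : ℤ) := by
    rw [hD₀, deg_single]; push_cast; ring
  haveI := finite_effective hK (genus k K * P₀.deg)
  have hmem : ∀ E : {D : Divisor k K // 0 ≤ D ∧ D.deg = ((genus k K * P₀.deg : ℕ) : ℤ)},
      E.1 - D₀ ∈ (degHom k K).ker := by
    intro E
    rw [mem_ker_degHom, deg_sub, E.2.2, hdeg₀, sub_self]
  let Φ : {D : Divisor k K // 0 ≤ D ∧ D.deg = ((genus k K * P₀.deg : ℕ) : ℤ)} → Pic0 k K :=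
    fun E => QuotientAddGroup.mk ⟨E.1 - D₀, hmem E⟩
  apply Finite.of_surjective Φ
  intro c
  obtain ⟨⟨A, hA⟩, rfl⟩ := QuotientAddGroup.mk_surjective c
  rw [mem_ker_degHom] at hA
  have h1 := delta_le_genus hK (A + D₀)
  unfold delta at h1
  rw [deg_add, hA, hdeg₀] at h1
  have hpos : 0 < ell (A + D₀) := by
    have h2 := deg_pos hK P₀
    have h3 : (genus k K : ℤ) ≤ ((genus k K * P₀.deg : ℕ) : ℤ) := by
      push_cast
      have : (1 : ℤ) ≤ P₀.deg := by exact_mod_cast h2
      nlinarith [Nat.cast_nonneg (α := ℤ) (genus k K)]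
    have : (0 : ℤ) < ell (A + D₀) := by linarith
    exact_mod_cast this
  obtain ⟨f, hfL, hf0⟩ := exists_ne_zero_of_ell_pos hpos
  have hE0 : 0 ≤ A + D₀ + FunFld.div k f := by
    intro Q
    rw [Finsupp.zero_apply, Finsupp.add_apply, div_apply hK]
    have := (val_le_exp_iff Q hf0 _).1 (hfL Q)
    linarith
  have hEd : (A + D₀ + FunFld.div k f).deg = ((genus k K * P₀.deg : ℕ) : ℤ) := by
    rw [deg_add, deg_add, deg_div hK, hA, hdeg₀]; ring
  refine ⟨⟨A + D₀ + FunFld.div k f, hE0, hEd⟩, ?_⟩
  show (QuotientAddGroup.mk _ : Pic0 k K) = QuotientAddGroup.mk _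
  rw [pic0_mk_eq_iff]
  show A - (A + D₀ + FunFld.div k f - D₀) ∈ prinDivs k K
  have : A - (A + D₀ + FunFld.div k f - D₀) = FunFld.div k f⁻¹ := by
    rw [div_inv hK]; abel
  rw [this]
  exact div_mem_prinDivs _

end Groth.Agent.Helper17.FF
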