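import Groth.Agent.Lib.Helper17.FF20

/-! Linear systems `V ⊆ K`: the one-step estimate for `V ⊓ L(A)`. -/

namespace Groth.Agent.Helper17.FF

open FunFld Polynomial Module

variable {k K : Type*} [Field k] [Field K] [Algebra k K]

/-- `dim (V ∩ L(A+P)) ≤ dim (V ∩ L(A)) + deg P`. -/
theorem finrank_inf_L_step (hK : IsFunctionField k K) (V : Submodule k K) [FiniteDimensional k V]
    (A : Divisor k K) (P : Place k K) :
    finrank k ↥(V ⊓ L (A + Finsupp.single P 1 : Divisor k K)) ≤ finrank k ↥(V ⊓ L A) + P.deg := by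
  obtain ⟨t, ht⟩ := P.2.2 (WithZero.exp (-((A + Finsupp.single P 1 : Divisor k K) P)))
  have hres := residue_finite hK P
  set B : Divisor k K := A + Finsupp.single P 1 with hB
  set ψ := evalMap P B t ht with hψ
  have hker := ker_evalMap P A t ht
  let ι : ↥(V ⊓ L B) →ₗ[k] ↥(L B) := Submodule.inclusion inf_le_right
  let φ : ↥(V ⊓ L B) →ₗ[k] IsLocalRing.ResidueField P.O := ψ ∘ₗ ι
  haveI : FiniteDimensional k ↥(V ⊓ L B) :=
    Submodule.finiteDimensional_of_le (inf_le_left : V ⊓ L B ≤ V)
  haveI : FiniteDimensional k ↥(V ⊓ L A) :=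
    Submodule.finiteDimensional_of_le (inf_le_left : V ⊓ L A ≤ V)
  have h1 := LinearMap.finrank_range_add_finrank_ker φ
  have h3 : finrank k (LinearMap.range φ) ≤ P.deg := Submodule.finrank_le _
  -- the kernel injects into `V ⊓ L A`
  have hmem : ∀ y : LinearMap.ker φ, (y.1.1 : K) ∈ V ⊓ L A := by
    intro y
    refine ⟨y.1.2.1, ?_⟩
    have hy : ι y.1 ∈ LinearMap.ker ψ := by
      rw [LinearMap.mem_ker]
      exact LinearMap.mem_ker.1 y.2
    rw [hker, Submodule.mem_comap] at hy
    exact hy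
  let j : LinearMap.ker φ →ₗ[k] ↥(V ⊓ L A) :=
    { toFun := fun y => ⟨y.1.1, hmem y⟩
      map_add' := fun _ _ => rfl
      map_smul' := fun _ _ => rfl }
  have hj : Function.Injective j := by
    intro y z h
    apply Subtype.ext
    apply Subtype.ext
    exact congrArg (fun w : ↥(V ⊓ L A) => (w : K)) h
  have h2 : finrank k (LinearMap.ker φ) ≤ finrank k ↥(V ⊓ L A) :=
    LinearMap.finrank_le_finrank_of_injective hj
  omega

/-- subtracting a place: `dim (V ∩ L(A)) ≤ dim (V ∩ L(A - P)) + deg P`. -/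
theorem finrank_inf_L_sub_single (hK : IsFunctionField k K) (V : Submodule k K)
    [FiniteDimensional k V] (A : Divisor k K) (P : Place k K) :
    finrank k ↥(V ⊓ L A) ≤ finrank k ↥(V ⊓ L (A - Finsupp.single P 1 : Divisor k K)) + P.deg := by
  have h := finrank_inf_L_step hK V (A - Finsupp.single P 1) P
  rwa [sub_add_cancel] at h

lemma finrank_inf_L_mono (V : Submodule k K) [FiniteDimensional k V] {A B : Divisor k K}
    (h : A ≤ B) : finrank k ↥(V ⊓ L A) ≤ finrank k ↥(V ⊓ L B) := by
  haveI : FiniteDimensional k ↥(V ⊓ L B) :=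
    Submodule.finiteDimensional_of_le (inf_le_left : V ⊓ L B ≤ V)
  exact Submodule.finrank_mono (inf_le_inf_left V (L_mono h))

lemma L_inf_le {A B C : Divisor k K} (h : ∀ P, min (A P) (B P) ≤ C P) : L A ⊓ L B ≤ L C := by
  intro x hx P
  rcases hx with ⟨hA, hB⟩
  rcases le_total (A P) (B P) with hab | hab
  · refine (hA P).trans ?_
    rw [WithZero.exp_le_exp]
    have := h P
    rwa [min_eq_left hab] at this
  · refine (hB P).trans ?_
    rw [WithZero.exp_le_exp]
    have := h P
    rwa [min_eq_right hab] at this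

end Groth.Agent.Helper17.FF
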