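import Mathlib
import Groth.Prelude.Def_W4bk4goldsch23FF

/-! Subfields of function fields. -/

namespace Groth.Agent.Helper17.FF

open FunFld Polynomial Module

universe u v

section

variable {k : Type*} {K : Type*} [Field k] [Field K] [Algebra k K]

open scoped IntermediateField.algebraAdjoinAdjoin in
lemma essFiniteType_of_isFunctionField (hK : IsFunctionField k K) : Algebra.EssFiniteType k K := by
  obtain ⟨⟨x₀, hx₀, hfin⟩, -⟩ := hK
  have h1 : Algebra.FiniteType k (Algebra.adjoin k ({x₀} : Set K)) :=
    .adjoin_of_finite (Set.finite_singleton x₀)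
  have h2 : Algebra.EssFiniteType (Algebra.adjoin k ({x₀} : Set K))
      (IntermediateField.adjoin k ({x₀} : Set K)) := .of_isLocalization _ (nonZeroDivisors _)
  have h3 : Algebra.EssFiniteType k (IntermediateField.adjoin k ({x₀} : Set K)) :=
    .comp _ (Algebra.adjoin k ({x₀} : Set K)) _
  exact Algebra.EssFiniteType.comp k (IntermediateField.adjoin k ({x₀} : Set K)) K

open scoped IntermediateField.algebraAdjoinAdjoin in
lemma trdeg_le_one_of_isFunctionField (hK : IsFunctionField k K) : Algebra.trdeg k K ≤ 1 := by
  obtain ⟨⟨x₀, hx₀, hfin⟩, -⟩ := hK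
  have : Algebra.IsAlgebraic (IntermediateField.adjoin k ({x₀} : Set K)) K :=
    Algebra.IsAlgebraic.of_finite _ _
  have : Algebra.IsAlgebraic (Algebra.adjoin k ({x₀} : Set K)) K :=
    Algebra.IsAlgebraic.trans (Algebra.adjoin k ({x₀} : Set K))
      (IntermediateField.adjoin k ({x₀} : Set K)) K
  have h1 := Algebra.IsAlgebraic.trdeg_le_cardinalMk k ({x₀} : Set K)
  simpa using h1

/-- a finitely generated field extension of transcendence degree at most one is finite over
`k(x)` for every transcendental `x`. -/
theorem finite_adjoin_of_trdeg_le_one [Algebra.EssFiniteType k K] (htr : Algebra.trdeg k K ≤ 1)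
    {x : K} (hx : Transcendental k x) :
    FiniteDimensional (IntermediateField.adjoin k ({x} : Set K)) K := by
  have hai : AlgebraicIndependent k (fun _ : PUnit => x) :=
    algebraicIndependent_unique_type_iff.2 hx
  have htb : IsTranscendenceBasis k (fun _ : PUnit => x) :=
    hai.isTranscendenceBasis_of_trdeg_le_of_finite (by simpa using htr)
  have halg := htb.isAlgebraic_field
  rw [Set.range_const] at halg
  have : Algebra.EssFiniteType (IntermediateField.adjoin k ({x} : Set K)) K :=
    Algebra.EssFiniteType.of_comp k _ K
  exact Algebra.finite_of_essFiniteType_of_isAlgebraic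

/-- An intermediate field containing a transcendental element is a function field. -/
theorem isFunctionField_intermediateField (hK : IsFunctionField k K) (K₀ : IntermediateField k K)
    (h₀ : ∃ x ∈ K₀, Transcendental k x) : IsFunctionField k K₀ := by
  obtain ⟨x, hx, hxtr⟩ := h₀
  have hcl := hK.2
  haveI := essFiniteType_of_isFunctionField hK
  have htr := trdeg_le_one_of_isFunctionField hK
  haveI hfin : FiniteDimensional (IntermediateField.adjoin k ({x} : Set K)) K :=
    finite_adjoin_of_trdeg_le_one htr hxtr
  have hF : IntermediateField.adjoin k ({x} : Set K) ≤ K₀ :=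
    IntermediateField.adjoin_le_iff.2 (Set.singleton_subset_iff.2 hx)
  -- `K₀` is finitely generated
  have hfg : K₀.FG := by
    obtain ⟨t, ht⟩ := IntermediateField.fg_of_noetherian (IntermediateField.extendScalars hF)
    have h1 : K₀ = IntermediateField.adjoin k (({x} : Set K) ∪ (t : Set K)) := by
      rw [← IntermediateField.adjoin_adjoin_left, ht]
      rfl
    rw [h1]
    exact IntermediateField.fg_adjoin_of_finite ((Set.finite_singleton x).union t.finite_toSet)
  haveI : Algebra.EssFiniteType k K₀ := IntermediateField.essFiniteType_iff.2 hfg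
  have htr₀ : Algebra.trdeg k K₀ ≤ 1 :=
    (trdeg_le_of_injective K₀.val K₀.val.injective).trans htr
  have hxtr₀ : Transcendental k (⟨x, hx⟩ : K₀) := by
    intro halg
    exact hxtr (IsAlgebraic.algHom K₀.val halg)
  refine ⟨⟨⟨x, hx⟩, hxtr₀, finite_adjoin_of_trdeg_le_one htr₀ hxtr₀⟩, ?_⟩
  intro y hy
  obtain ⟨c, hc⟩ := hcl (y : K) (IsAlgebraic.algHom K₀.val hy)
  exact ⟨c, Subtype.ext hc⟩

end

/-- Intermediate fields of geometric extensions are geometric. -/
theorem isGeometric_intermediateField {k : Type u} {K : Type v} [Field k] [Field K] [Algebra k K]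
    (hg : IsGeometric k K) (K₀ : IntermediateField k K) : IsGeometric k K₀ := by
  intro k' _ _ hfin
  have hfield := hg k' hfin
  letI := hfield.toField
  -- the injection `k' ⊗ K₀ → k' ⊗ K`
  let f : TensorProduct k k' K₀ →ₐ[k] TensorProduct k k' K :=
    Algebra.TensorProduct.map (AlgHom.id k k') K₀.val
  have hf : Function.Injective f := by
    have : (f : TensorProduct k k' K₀ → TensorProduct k k' K) =
        (K₀.val.toLinearMap.lTensor k') := by
      funext z
      induction z using TensorProduct.induction_on with
      | zero => simp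
      | tmul a b => simp [f]
      | add a b ha hb => simp only [map_add, ha, hb]
    rw [this]
    exact Module.Flat.lTensor_preserves_injective_linearMap _ K₀.val.injective
  haveI : IsDomain (TensorProduct k k' K₀) := hf.isDomain f.toRingHom
  -- finite over `K₀`
  let e : TensorProduct k K₀ k' ≃ₐ[k] TensorProduct k k' K₀ := Algebra.TensorProduct.comm k K₀ k'
  haveI : IsDomain (TensorProduct k K₀ k') := e.injective.isDomain e.toAlgHom.toRingHom
  haveI : Module.Finite K₀ (TensorProduct k K₀ k') := Module.Finite.base_change k K₀ k'
  haveI : Algebra.IsIntegral K₀ (TensorProduct k K₀ k') := Algebra.IsIntegral.of_finite _ _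
  have h1 : IsField (TensorProduct k K₀ k') :=
    isField_of_isIntegral_of_isField' (R := K₀) (S := TensorProduct k K₀ k') (Field.toIsField K₀)
  exact e.symm.toMulEquiv.isField h1

end Groth.Agent.Helper17.FF
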