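import Mathlib
import Groth.Agent.Lib.Helper17.FFSub

/-! Constant field extensions `K' = k' ⊗_k K` of geometric function fields. -/

namespace Groth.Agent.Helper17.FF

open FunFld Polynomial Module
open scoped TensorProduct

universe u v

section

variable {k k' : Type u} {K K' : Type v} [Field k] [Field k'] [Field K] [Field K']
    [Algebra k k'] [Algebra k K] [Algebra K K'] [Algebra k' K'] [Algebra k K']
    [IsScalarTower k k' K'] [IsScalarTower k K K']

/-- the `k'`-algebra isomorphism `k' ⊗ K ≃ K'` -/
noncomputable def constEquivL
    (h : Function.Bijective (Algebra.TensorProduct.productMap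
      (IsScalarTower.toAlgHom k k' K') (IsScalarTower.toAlgHom k K K'))) :
    k' ⊗[k] K ≃ₐ[k'] K' :=
  AlgEquiv.ofBijective
    (Algebra.TensorProduct.productLeftAlgHom (Algebra.ofId k' K') (IsScalarTower.toAlgHom k K K')) h

@[simp] lemma constEquivL_tmul
    (h : Function.Bijective (Algebra.TensorProduct.productMap
      (IsScalarTower.toAlgHom k k' K') (IsScalarTower.toAlgHom k K K'))) (a : k') (y : K) :
    constEquivL h (a ⊗ₜ[k] y) = algebraMap k' K' a * algebraMap K K' y := rfl

/-- the `K`-algebra isomorphism `K ⊗ k' ≃ K'` -/
noncomputable def constEquivR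
    (h : Function.Bijective (Algebra.TensorProduct.productMap
      (IsScalarTower.toAlgHom k k' K') (IsScalarTower.toAlgHom k K K'))) :
    K ⊗[k] k' ≃ₐ[K] K' :=
  AlgEquiv.ofBijective
    (Algebra.TensorProduct.productLeftAlgHom (Algebra.ofId K K') (IsScalarTower.toAlgHom k k' K'))
    (by
      have : (⇑(Algebra.TensorProduct.productLeftAlgHom (Algebra.ofId K K')
          (IsScalarTower.toAlgHom k k' K')) : K ⊗[k] k' → K') =
          ⇑(Algebra.TensorProduct.productMap
            (IsScalarTower.toAlgHom k k' K') (IsScalarTower.toAlgHom k K K')) ∘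
            ⇑(Algebra.TensorProduct.comm k K k') := by
        funext z
        induction z using TensorProduct.induction_on with
        | zero => simp
        | tmul a b =>
          simp only [Function.comp_apply, Algebra.TensorProduct.comm_tmul,
            Algebra.TensorProduct.productMap_apply_tmul]
          show algebraMap K K' a * algebraMap k' K' b = algebraMap k' K' b * algebraMap K K' a
          ring
        | add a b ha hb => simp only [map_add, ha, hb, Function.comp_apply]
      rw [this]
      exact h.comp (Algebra.TensorProduct.comm k K k').bijective)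

@[simp] lemma constEquivR_tmul
    (h : Function.Bijective (Algebra.TensorProduct.productMap
      (IsScalarTower.toAlgHom k k' K') (IsScalarTower.toAlgHom k K K'))) (y : K) (a : k') :
    constEquivR h (y ⊗ₜ[k] a) = algebraMap K K' y * algebraMap k' K' a := rfl

lemma finite_const [FiniteDimensional k k']
    (h : Function.Bijective (Algebra.TensorProduct.productMap
      (IsScalarTower.toAlgHom k k' K') (IsScalarTower.toAlgHom k K K'))) :
    Module.Finite K K' :=
  Module.Finite.equiv (constEquivR h).toLinearEquiv

lemma finrank_const [FiniteDimensional k k']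
    (h : Function.Bijective (Algebra.TensorProduct.productMap
      (IsScalarTower.toAlgHom k k' K') (IsScalarTower.toAlgHom k K K'))) :
    Module.finrank K K' = Module.finrank k k' := by
  rw [← (constEquivR h).toLinearEquiv.finrank_eq, Module.finrank_baseChange]

theorem isGeometric_const [FiniteDimensional k k']
    (h : Function.Bijective (Algebra.TensorProduct.productMap
      (IsScalarTower.toAlgHom k k' K') (IsScalarTower.toAlgHom k K K')))
    (hg : IsGeometric k K) : IsGeometric k' K' := by
  intro k'' _ _ hfin
  letI : Algebra k k'' := ((algebraMap k' k'').comp (algebraMap k k')).toAlgebra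
  haveI : IsScalarTower k k' k'' := IsScalarTower.of_algebraMap_eq (fun _ => rfl)
  haveI : FiniteDimensional k k'' := FiniteDimensional.trans k k' k''
  have hf := hg k'' inferInstance
  let e1 : k'' ⊗[k'] K' ≃ₐ[k''] k'' ⊗[k'] (k' ⊗[k] K) :=
    Algebra.TensorProduct.congr AlgEquiv.refl (constEquivL h).symm
  let e2 := Algebra.TensorProduct.cancelBaseChange k k' k'' k'' K
  exact (e1.trans e2).toMulEquiv.isField hf

theorem isFunctionField_const [FiniteDimensional k k']
    (h : Function.Bijective (Algebra.TensorProduct.productMap
      (IsScalarTower.toAlgHom k k' K') (IsScalarTower.toAlgHom k K K')))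
    (hK : IsFunctionField k K) (hg : IsGeometric k K) : IsFunctionField k' K' := by
  classical
  haveI hfinK : Module.Finite K K' := finite_const h
  haveI : Algebra.IsAlgebraic k k' := Algebra.IsAlgebraic.of_finite k k'
  haveI : Algebra.IsAlgebraic K K' := Algebra.IsAlgebraic.of_finite K K'
  obtain ⟨⟨x, hx, hfin⟩, hcl⟩ := id hK
  refine ⟨?_, ?_⟩
  · -- a transcendental element
    set x' : K' := algebraMap K K' x with hx'
    have hx'tr : Transcendental k' x' := by
      intro halg
      have h1 : IsAlgebraic k x' := halg.restrictScalars k
      exact hx ((isAlgebraic_algebraMap_iff (algebraMap K K').injective).1 h1)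
    haveI := essFiniteType_of_isFunctionField hK
    haveI : Algebra.EssFiniteType k' K' :=
      Algebra.EssFiniteType.of_surjective (constEquivL h).toAlgHom (constEquivL h).surjective
    have htr : Algebra.trdeg k' K' ≤ 1 := by
      have h1 := lift_trdeg_add_eq k k' K'
      rw [trdeg_eq_zero, Cardinal.lift_zero, zero_add, Cardinal.lift_inj] at h1
      have h2 := trdeg_add_eq k K (A := K')
      rw [trdeg_eq_zero (R := K) (A := K'), add_zero] at h2
      rw [h1, ← h2]
      exact trdeg_le_one_of_isFunctionField hK
    exact ⟨x', hx'tr, finite_adjoin_of_trdeg_le_one htr hx'tr⟩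
  · -- constants
    intro y hy
    have hint : IsIntegral k' y := hy.isIntegral
    set f : k'[X] := minpoly k' y with hf
    haveI : Fact (Irreducible f) := ⟨minpoly.irreducible hint⟩
    have hf0 : f ≠ 0 := minpoly.ne_zero hint
    haveI : FiniteDimensional k' (AdjoinRoot f) := (AdjoinRoot.powerBasis hf0).finite
    have hdim : Module.finrank k' (AdjoinRoot f) = f.natDegree := by
      rw [(AdjoinRoot.powerBasis hf0).finrank, AdjoinRoot.powerBasis_dim]
    haveI : FiniteDimensional k (AdjoinRoot f) := FiniteDimensional.trans k k' (AdjoinRoot f)
    have hfield := hg (AdjoinRoot f) inferInstance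
    let g₁ : AdjoinRoot f →ₐ[k] K' :=
      AdjoinRoot.liftAlgHom f (IsScalarTower.toAlgHom k k' K') y (by
        have := minpoly.aeval k' y
        rwa [Polynomial.aeval_def] at this)
    let Ψ : K ⊗[k] AdjoinRoot f →ₐ[K] K' :=
      Algebra.TensorProduct.productLeftAlgHom (Algebra.ofId K K') g₁
    have hfield' : IsField (K ⊗[k] AdjoinRoot f) :=
      (Algebra.TensorProduct.comm k K (AdjoinRoot f)).toMulEquiv.isField hfield
    letI := hfield'.toField
    have hΨinj : Function.Injective Ψ := (Ψ : K ⊗[k] AdjoinRoot f →+* K').injective
    have h1 : Module.finrank K (K ⊗[k] AdjoinRoot f) ≤ Module.finrank K K' :=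
      LinearMap.finrank_le_finrank_of_injective (f := Ψ.toLinearMap) hΨinj
    rw [Module.finrank_baseChange, finrank_const h, ← Module.finrank_mul_finrank k k' (AdjoinRoot f),
      hdim] at h1
    have hpos : 0 < Module.finrank k k' := Module.finrank_pos
    have hdeg : f.natDegree = 1 := by
      have h2 : 0 < f.natDegree := minpoly.natDegree_pos hint
      have h3 : f.natDegree ≤ 1 := by
        by_contra hcon
        have : 2 ≤ f.natDegree := by omega
        nlinarith
      omega
    exact (minpoly.natDegree_eq_one_iff).1 hdeg

end

end Groth.Agent.Helper17.FF
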