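import Mathlib
import Groth.Agent.Lib.Helper17.FFConst
import Groth.Agent.Lib.Helper17.FF26
import Groth.Prelude.Def_W4bk4goldsch23Ext

/-! Change of constant field: a finite extension `K'` of a function field `K/k` is a function
field over the algebraic closure `k₁` of `k` in `K'`; places and degrees compare. -/

namespace Groth.Agent.Helper17.FF

open FunFld Polynomial Module IntermediateField

universe u v

section W1

variable {k L : Type*} [Field k] [Field L] [Algebra k L]

/-- `k`-linearly independent families in an algebraic subextension stay independent over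
`k(z)`, `z` transcendental. -/
theorem linearIndependent_adjoin_of_algebraic (A : IntermediateField k L)
    [Algebra.IsAlgebraic k A] {z : L} (hz : Transcendental k z) {ι : Type*} (c : ι → A)
    (hc : LinearIndependent k c) :
    LinearIndependent k⟮z⟯ (fun i => ((c i : A) : L)) := by
  classical
  have hzA : Transcendental A z := fun h => hz (h.restrictScalars k)
  set F : IntermediateField k L := k⟮z⟯ with hF
  have hzF : z ∈ F := mem_adjoin_simple_self k z
  letI algL : Algebra k[X] L := (Polynomial.aeval z : k[X] →ₐ[k] L).toRingHom.toAlgebra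
  letI algF : Algebra k[X] F :=
    (Polynomial.aeval (⟨z, hzF⟩ : F) : k[X] →ₐ[k] F).toRingHom.toAlgebra
  have hmapL : ∀ q : k[X], algebraMap k[X] L q = Polynomial.aeval z q := fun q => rfl
  have hmapF : ∀ q : k[X], algebraMap k[X] F q = Polynomial.aeval (⟨z, hzF⟩ : F) q := fun q => rfl
  have hcoe : ∀ q : k[X], ((Polynomial.aeval (⟨z, hzF⟩ : F) q : F) : L) = Polynomial.aeval z q := by
    intro q
    have := Polynomial.aeval_algHom_apply F.val (⟨z, hzF⟩ : F) q
    exact this.symm
  haveI : IsScalarTower k[X] F L := IsScalarTower.of_algebraMap_eq (fun q => by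
    rw [hmapL, hmapF]
    exact (hcoe q).symm)
  have hinjF : Function.Injective (algebraMap k[X] F) := by
    intro a b hab
    have h1 : Polynomial.aeval z a = Polynomial.aeval z b := by
      rw [← hcoe a, ← hcoe b]; exact congrArg _ hab
    exact (transcendental_iff_injective.1 hz) h1
  haveI : FaithfulSMul k[X] F := (faithfulSMul_iff_algebraMap_injective k[X] F).2 hinjF
  haveI : IsFractionRing k[X] F := by
    apply IsFractionRing.of_field
    intro w
    obtain ⟨r, s, hrs⟩ := (IntermediateField.mem_adjoin_simple_iff k (w : L)).1 w.2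
    refine ⟨r, s, Subtype.ext ?_⟩
    rw [hrs, hmapF, hmapF]
    show _ = ((Polynomial.aeval (⟨z, hzF⟩ : F) r / Polynomial.aeval (⟨z, hzF⟩ : F) s : F) : L)
    rw [IntermediateField.coe_div, hcoe, hcoe]
  have h1 : LinearIndependent k[X] (fun i => ((c i : A) : L)) := by
    rw [linearIndependent_iff']
    intro s g hg i hi
    have hg' : ∑ i ∈ s, Polynomial.aeval z (g i) * ((c i : A) : L) = 0 := by
      rw [← hg]
      refine Finset.sum_congr rfl fun i _ => ?_
      rw [Algebra.smul_def, hmapL]
    let P₁ : A[X] := ∑ i ∈ s, Polynomial.C (c i) * (g i).map (algebraMap k A)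
    have hP : Polynomial.aeval z P₁ = 0 := by
      rw [← hg']
      simp only [P₁, map_sum, map_mul, Polynomial.aeval_C, Polynomial.aeval_map_algebraMap]
      refine Finset.sum_congr rfl fun i _ => ?_
      rw [mul_comm]; rfl
    have hP0 : P₁ = 0 := by
      by_contra h
      exact hzA ⟨P₁, h, hP⟩
    ext j
    have hj : P₁.coeff j = 0 := by rw [hP0]; simp
    have hj' : ∑ i ∈ s, (g i).coeff j • c i = 0 := by
      rw [← hj]
      simp only [P₁, Polynomial.finset_sum_coeff, Polynomial.coeff_C_mul, Polynomial.coeff_map]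
      refine Finset.sum_congr rfl fun i _ => ?_
      rw [Algebra.smul_def, mul_comm]
    have := linearIndependent_iff'.1 hc s (fun i => (g i).coeff j) hj' i hi
    simpa using this
  exact h1.localization F (nonZeroDivisors k[X])

theorem linearDisjoint_adjoin_of_algebraic (A : IntermediateField k L)
    [Algebra.IsAlgebraic k A] {z : L} (hz : Transcendental k z) :
    A.LinearDisjoint k⟮z⟯ :=
  IntermediateField.LinearDisjoint.of_basis_left (Basis.ofVectorSpace k A)
    (linearIndependent_adjoin_of_algebraic A hz _ (Basis.ofVectorSpace k A).linearIndependent)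

end W1

open FunFld Polynomial Module IntermediateField
section W1

variable {k L : Type*} [Field k] [Field L] [Algebra k L]

lemma rank_eq_of_carrier_eq {F₁ F₂ : Type*} [Field F₁] [Field F₂] [Algebra F₁ L] [Algebra F₂ L]
    (S₁ : IntermediateField F₁ L) (S₂ : IntermediateField F₂ L) (h : ∀ x, x ∈ S₁ ↔ x ∈ S₂) :
    Module.rank S₁ L = Module.rank S₂ L :=
  rank_eq_of_equiv_equiv (fun x => (⟨x.1, (h _).1 x.2⟩ : S₂)) (AddEquiv.refl L)
    ⟨fun a b hab => Subtype.ext (by simpa using congrArg Subtype.val hab),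
      fun y => ⟨⟨y.1, (h _).2 y.2⟩, rfl⟩⟩ (fun r m => rfl)

lemma finrank_eq_of_carrier_eq {F₁ F₂ : Type*} [Field F₁] [Field F₂] [Algebra F₁ L] [Algebra F₂ L]
    (S₁ : IntermediateField F₁ L) (S₂ : IntermediateField F₂ L) (h : ∀ x, x ∈ S₁ ↔ x ∈ S₂) :
    finrank S₁ L = finrank S₂ L :=
  congrArg Cardinal.toNat (rank_eq_of_carrier_eq S₁ S₂ h)

theorem finrank_adjoin_mul (A : IntermediateField k L) [Algebra.IsAlgebraic k A] {z : L}
    (hz : Transcendental k z) [FiniteDimensional k⟮z⟯ L] :
    FiniteDimensional k A ∧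
      finrank k⟮z⟯ L = finrank k A * finrank (IntermediateField.adjoin A ({z} : Set L)) L := by
  have H := linearDisjoint_adjoin_of_algebraic A hz
  have hr := H.adjoin_rank_eq_rank_left_of_isAlgebraic_left
  set M : IntermediateField k⟮z⟯ L := adjoin k⟮z⟯ (A : Set L) with hM
  have hfin : FiniteDimensional k A := by
    have h1 := Module.rank_lt_aleph0 k⟮z⟯ M
    rw [hr] at h1
    exact Module.rank_lt_aleph0_iff.1 h1
  refine ⟨hfin, ?_⟩
  have h2 : finrank k⟮z⟯ M = finrank k A := congrArg Cardinal.toNat hr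
  have h3 := Module.finrank_mul_finrank k⟮z⟯ M L
  rw [← h3, h2]
  congr 1
  apply finrank_eq_of_carrier_eq
  intro x
  have e1 : x ∈ M ↔ x ∈ IntermediateField.restrictScalars k M := Iff.rfl
  have e2 : x ∈ adjoin A ({z} : Set L) ↔ x ∈ IntermediateField.restrictScalars k (adjoin A ({z} : Set L)) := Iff.rfl
  rw [e1, e2, hM, restrictScalars_adjoin_eq_sup, restrictScalars_adjoin_eq_sup, adjoin_self, sup_comm]

end W1

open FunFld Polynomial Module IntermediateField

universe w
section W2

variable {k : Type u} {K : Type v} {K' : Type w} [Field k] [Field K] [Field K'] [Algebra k K] [Algebra K K']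
  [Algebra k K'] [IsScalarTower k K K']

theorem isFunctionField_algebraicClosure [FiniteDimensional K K'] (hK : IsFunctionField k K) :
    IsFunctionField (algebraicClosure k K') K' := by
  classical
  have : Algebra.IsAlgebraic K K' := Algebra.IsAlgebraic.of_finite K K'
  obtain ⟨⟨x, hx, hfin⟩, hcl⟩ := id hK
  refine ⟨?_, ?_⟩
  · set x' : K' := algebraMap K K' x with hx'
    have hx'tr : Transcendental (algebraicClosure k K') x' := by
      intro halg
      have h1 : IsAlgebraic k x' := halg.restrictScalars k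
      exact hx ((isAlgebraic_algebraMap_iff (algebraMap K K').injective).1 h1)
    have := essFiniteType_of_isFunctionField hK
    have : Algebra.EssFiniteType k K' := Algebra.EssFiniteType.comp k K K'
    have : Algebra.EssFiniteType (algebraicClosure k K') K' :=
      Algebra.EssFiniteType.of_comp k (algebraicClosure k K') K'
    have htr : Algebra.trdeg (algebraicClosure k K') K' ≤ 1 := by
      have h1 := lift_trdeg_add_eq k (algebraicClosure k K') K'
      rw [trdeg_eq_zero, Cardinal.lift_zero, zero_add, Cardinal.lift_inj] at h1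
      have h2 := lift_trdeg_add_eq k K K'
      rw [trdeg_eq_zero (R := K) (A := K'), Cardinal.lift_zero, add_zero] at h2
      have h3 := trdeg_le_one_of_isFunctionField hK
      rw [h1]
      have h4 : Cardinal.lift.{w} (Algebra.trdeg k K) ≤ 1 := Cardinal.lift_le_one_iff.2 h3
      rw [h2] at h4
      exact Cardinal.lift_le_one_iff.1 h4
    exact ⟨x', hx'tr, finite_adjoin_of_trdeg_le_one htr hx'tr⟩
  · intro y hy
    have h1 : IsAlgebraic k y := hy.restrictScalars k
    exact ⟨⟨y, mem_algebraicClosure_iff.2 h1⟩, rfl⟩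

end W2

open FunFld Polynomial Module IntermediateField

section W3

lemma val_le_one_of_isIntegral {k K : Type*} [Field k] [Field K] [Algebra k K]
    {Γ₀ : Type*} [LinearOrderedCommGroupWithZero Γ₀] (v : Valuation K Γ₀)
    (hv : ∀ c : k, v (algebraMap k K c) ≤ 1) {y : K} (hy : IsIntegral k y) : v y ≤ 1 := by
  obtain ⟨f, hm, hf⟩ := hy
  by_cases hn : f.natDegree = 0
  · rw [Polynomial.natDegree_eq_zero] at hn
    obtain ⟨c, rfl⟩ := hn
    have hc : c = 1 := by
      have := hm.leadingCoeff
      simpa using this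
    simp [hc] at hf
  simp only [Polynomial.eval₂_eq_sum_range, Finset.sum_range_succ, hm.coeff_natDegree, map_one,
    one_mul, add_eq_zero_iff_eq_neg] at hf
  apply_fun v at hf
  simp only [Valuation.map_neg, map_pow] at hf
  contrapose! hf
  refine ne_of_lt (v.map_sum_lt ?_ ?_)
  · simp [hn, (hf.trans' (zero_lt_one)).ne']
  · simp only [Finset.mem_range, map_mul, map_pow]
    intro _ hi
    exact mul_lt_of_le_one_of_lt (hv _) <| pow_lt_pow_right₀ hf hi

variable {k k₁ L : Type*} [Field k] [Field k₁] [Field L] [Algebra k k₁] [Algebra k₁ L]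
  [Algebra k L] [IsScalarTower k k₁ L]

variable (k₁) in
/-- a place of `L/k` as a place of `L/k₁`, `k₁/k` algebraic. -/
def placeUp [Algebra.IsAlgebraic k k₁] (Q : Place k L) : Place k₁ L :=
  ⟨Q.1, fun c => val_le_one_of_isIntegral Q.1 Q.2.1
    (((Algebra.IsAlgebraic.isAlgebraic (R := k) c).algebraMap (A := L)).isIntegral), Q.2.2⟩

variable (k) in
def placeDown (Q : Place k₁ L) : Place k L :=
  ⟨Q.1, fun c => by rw [IsScalarTower.algebraMap_apply k k₁ L]; exact Q.2.1 _, Q.2.2⟩

@[simp] lemma placeUp_val [Algebra.IsAlgebraic k k₁] (Q : Place k L) : (placeUp k₁ Q).1 = Q.1 := rfl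
@[simp] lemma placeDown_val (Q : Place k₁ L) : (placeDown k Q).1 = Q.1 := rfl

lemma placeDown_placeUp [Algebra.IsAlgebraic k k₁] (Q : Place k L) :
    placeDown k (placeUp k₁ Q) = Q := Subtype.ext rfl

lemma placeUp_placeDown [Algebra.IsAlgebraic k k₁] (Q : Place k₁ L) :
    placeUp k₁ (placeDown k Q) = Q := Subtype.ext rfl

lemma placeUp_injective [Algebra.IsAlgebraic k k₁] : Function.Injective (placeUp k₁ (k := k) (L := L)) :=
  fun _ _ h => Subtype.ext (congrArg (fun Q : Place k₁ L => Q.1) h)

lemma placeUp_ord [Algebra.IsAlgebraic k k₁] (Q : Place k L) (x : L) :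
    (placeUp k₁ Q).ord x = Q.ord x := rfl

theorem deg_placeUp [Algebra.IsAlgebraic k k₁] (Q : Place k L) :
    Q.deg = finrank k k₁ * (placeUp k₁ Q).deg := by
  let a0 : Algebra k₁ Q.O := Place.algO (placeUp k₁ Q)
  have : IsScalarTower k k₁ Q.O :=
    IsScalarTower.of_algebraMap_eq (fun c => Subtype.ext (IsScalarTower.algebraMap_apply k k₁ L c))
  have h := Module.finrank_mul_finrank k k₁ (IsLocalRing.ResidueField Q.O)
  exact h.symm

end W3

open FunFld Polynomial Module IntermediateField

section W4

variable {k K K' : Type*} [Field k] [Field K] [Field K'] [Algebra k K] [Algebra K K']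
  [Algebra k K']

lemma isOverWith_pos {Q : Place k K'} {P : Place k K} {e : ℕ} (h : IsOverWith Q P e) : 0 < e := by
  rcases Nat.eq_zero_or_pos e with rfl | h0
  · have := h 0
    simp at this
  · exact h0

lemma isOverWith_unique {Q : Place k K'} {P : Place k K} {e e' : ℕ} (h : IsOverWith Q P e)
    (h' : IsOverWith Q P e') : e = e' := by
  obtain ⟨t, ht⟩ := exists_uniformizer P
  have h1 := (h t).symm.trans (h' t)
  rw [ht, ← WithZero.exp_nsmul, ← WithZero.exp_nsmul] at h1
  have h2 := WithZero.exp_injective h1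
  simpa using h2

lemma ramIdx_eq {Q : Place k K'} {P : Place k K} {e : ℕ} (h : IsOverWith Q P e) :
    ramIdx Q P = e := by
  classical
  have hov : IsOver Q P := ⟨e, h⟩
  unfold ramIdx
  rw [dif_pos hov]
  exact isOverWith_unique (Nat.find_spec hov) h

lemma isOverWith_ramIdx {Q : Place k K'} {P : Place k K} (h : IsOver Q P) :
    IsOverWith Q P (ramIdx Q P) := by
  obtain ⟨e, he⟩ := h
  rw [ramIdx_eq he]; exact he

lemma ramIdx_pos {Q : Place k K'} {P : Place k K} (h : IsOver Q P) : 0 < ramIdx Q P :=
  isOverWith_pos (isOverWith_ramIdx h)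

lemma isOverWith_le_one_iff {Q : Place k K'} {P : Place k K} {e : ℕ} (he : IsOverWith Q P e)
    (x : K) : Q.1 (algebraMap K K' x) ≤ 1 ↔ P.1 x ≤ 1 := by
  rw [he x]
  have hpos := isOverWith_pos he
  constructor
  · intro h
    by_contra hc
    push Not at hc
    exact absurd h (not_le.2 (one_lt_pow₀ hc hpos.ne'))
  · intro h; exact pow_le_one' h e

lemma isOverWith_ord {Q : Place k K'} {P : Place k K} {e : ℕ} (he : IsOverWith Q P e)
    (x : K) : Q.ord (algebraMap K K' x) = e * P.ord x := by
  rcases eq_or_ne x 0 with rfl | hx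
  · simp [ord_zero]
  · unfold Place.ord
    rw [he x, WithZero.log_pow]
    simp

lemma isOver_unique {Q : Place k K'} {P P' : Place k K} (h : IsOver Q P) (h' : IsOver Q P') :
    P = P' := by
  obtain ⟨e, he⟩ := h
  obtain ⟨e', he'⟩ := h'
  apply place_ext
  intro x
  rw [← isOverWith_le_one_iff he, ← isOverWith_le_one_iff he']

variable [IsScalarTower k K K']

theorem exists_isOverWith [Algebra.IsAlgebraic K K'] (hK : IsFunctionField k K)
    (Q : Place k K') : ∃ (P : Place k K) (e : ℕ), IsOverWith Q P e := by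
  classical
  set w : Valuation K (WithZero (Multiplicative ℤ)) := Q.1.comap (algebraMap K K') with hw
  have hwa : ∀ y : K, w y = Q.1 (algebraMap K K' y) := fun y => rfl
  have hwk : ∀ c : k, w (algebraMap k K c) ≤ 1 := fun c => by
    rw [hwa, ← IsScalarTower.algebraMap_apply]; exact Q.2.1 c
  have hnt : ∃ x : K, x ≠ 0 ∧ w x < 1 := by
    by_contra hcon
    push Not at hcon
    have hle : ∀ x : K, Q.1 (algebraMap K K' x) ≤ 1 := by
      intro x
      rcases eq_or_ne x 0 with rfl | hx
      · simp
      · have h1 := hcon x⁻¹ (inv_ne_zero hx)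
        rw [map_inv₀] at h1
        rw [← hwa]
        exact (one_le_inv₀ (val_pos w hx)).1 h1
    obtain ⟨y, hy⟩ := Q.2.2 (WithZero.exp 1)
    have h2 := val_le_one_of_isIntegral Q.1 hle (Algebra.IsIntegral.isIntegral (R := K) y)
    rw [hy, ← WithZero.exp_zero, WithZero.exp_le_exp] at h2
    omega
  obtain ⟨x, hx0, hx1⟩ := hnt
  set B := w.valuationSubring with hB
  have hkB : ∀ c : k, algebraMap k K c ∈ B := fun c =>
    (Valuation.mem_valuationSubring_iff _ _).2 (hwk c)
  have hxB : B.valuation x < 1 := by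
    rw [lt_one_iff_of_le_one_iff B.valuation B (fun y => B.valuation_le_one_iff y)]
    exact (lt_one_iff_of_le_one_iff w B (fun y => (w.mem_valuationSubring_iff y).symm) x).1 hx1
  obtain ⟨P, hP⟩ := exists_place_of_valuationSubring hK B hkB hx0 hxB
  have hP' : ∀ y, P.1 y ≤ 1 ↔ w y ≤ 1 := fun y => (hP y).trans (w.mem_valuationSubring_iff y)
  have hone : ∀ y : K, y ≠ 0 → P.1 y = 1 → w y = 1 := by
    intro y hy h1
    apply le_antisymm ((hP' y).1 h1.le)
    have h2 : P.1 y⁻¹ ≤ 1 := by rw [map_inv₀, h1, inv_one]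
    have h3 := (hP' y⁻¹).1 h2
    rw [map_inv₀] at h3
    exact (inv_le_one₀ (val_pos w hy)).1 h3
  obtain ⟨t, ht⟩ := exists_uniformizer P
  have ht0 : t ≠ 0 := fun h => by
    rw [h, map_zero] at ht; exact WithZero.exp_ne_zero ht.symm
  have hwt0 : w t ≠ 0 := (Valuation.ne_zero_iff _).2 ht0
  have hwt1 : w t < 1 := by
    by_contra hc
    push Not at hc
    have h1 : w t⁻¹ ≤ 1 := by rw [map_inv₀]; exact (inv_le_one₀ (val_pos w ht0)).2 hc
    have h2 := (hP' t⁻¹).2 h1
    rw [map_inv₀, ht, ← WithZero.exp_neg, ← WithZero.exp_zero, WithZero.exp_le_exp] at h2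
    omega
  have hlog : WithZero.log (w t) < 0 := by
    have h1 := hwt1
    rw [← WithZero.exp_log hwt0, ← WithZero.exp_zero, WithZero.exp_lt_exp] at h1
    exact h1
  set e : ℕ := (-(WithZero.log (w t))).toNat with he
  have hecast : (e : ℤ) = -(WithZero.log (w t)) := Int.toNat_of_nonneg (by omega)
  have hwt : w t = WithZero.exp (-(e : ℤ)) := by
    rw [hecast, neg_neg, WithZero.exp_log hwt0]
  have epos : 0 < e := by omega
  refine ⟨P, e, fun y => ?_⟩
  rcases eq_or_ne y 0 with rfl | hy
  · simp [zero_pow epos.ne']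
  · have h1 : P.1 (y / t ^ (P.ord y)) = 1 := by
      rw [map_div₀, map_zpow₀, ht, val_eq_exp_neg_ord P hy, ← WithZero.exp_zsmul,
        smul_eq_mul, mul_neg, mul_one]
      exact div_self WithZero.exp_ne_zero
    have h2 := hone _ (div_ne_zero hy (zpow_ne_zero _ ht0)) h1
    rw [map_div₀, map_zpow₀, div_eq_one_iff_eq (zpow_ne_zero _ hwt0)] at h2
    rw [← hwa, h2, hwt, val_eq_exp_neg_ord P hy, ← WithZero.exp_zsmul, ← WithZero.exp_nsmul]
    congr 1
    simp only [smul_eq_mul, nsmul_eq_mul]
    ring

end W4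

open FunFld Polynomial Module IntermediateField

section W5

variable {k K K' : Type*} [Field k] [Field K] [Field K'] [Algebra k K] [Algebra K K']
  [Algebra k K'] [IsScalarTower k K K']

/-- a nonconstant function whose only pole is `P` -/
theorem exists_only_pole (hK : IsFunctionField k K) (P : Place k K) :
    ∃ y : K, y ∉ Set.range (algebraMap k K) ∧ (∀ Q : Place k K, Q ≠ P → Q.1 y ≤ 1) ∧
      1 < P.1 y := by
  classical
  have hdeg := deg_pos hK P
  have hell : 2 ≤ ell (Finsupp.single P ((genus k K + 1 : ℕ) : ℤ) : Divisor k K) := by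
    have h1 := delta_le_genus hK (Finsupp.single P ((genus k K + 1 : ℕ) : ℤ))
    unfold delta at h1
    rw [deg_single] at h1
    push_cast at h1
    have h2 : ((genus k K : ℤ) + 1) * 1 ≤ ((genus k K : ℤ) + 1) * (P.deg : ℤ) :=
      mul_le_mul_of_nonneg_left (by exact_mod_cast hdeg) (by positivity)
    have : (2 : ℤ) ≤ ell (Finsupp.single P ((genus k K + 1 : ℕ) : ℤ) : Divisor k K) := by
      push_cast; linarith
    exact_mod_cast this
  obtain ⟨x, hxL, hxk⟩ : ∃ x ∈ L (Finsupp.single P ((genus k K + 1 : ℕ) : ℤ) : Divisor k K),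
      x ∉ Set.range (algebraMap k K) := by
    by_contra hcon
    push Not at hcon
    have hle : L (Finsupp.single P ((genus k K + 1 : ℕ) : ℤ) : Divisor k K) ≤
        L (0 : Divisor k K) := by
      intro x hx
      rw [L_zero hK]
      obtain ⟨c, rfl⟩ := hcon x hx
      exact Submodule.algebraMap_mem c
    have := (L_zero_finite hK).1
    have h3 := Submodule.finrank_mono hle
    rw [(L_zero_finite hK).2] at h3
    unfold ell at hell
    omega
  have hxQ : ∀ Q : Place k K, Q ≠ P → Q.1 x ≤ 1 := by
    intro Q hQ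
    have := hxL Q
    rwa [Finsupp.single_eq_of_ne hQ, WithZero.exp_zero] at this
  refine ⟨x, hxk, hxQ, ?_⟩
  obtain ⟨Q, hQ⟩ := exists_pole hK hxk
  by_cases hQP : Q = P
  · rw [← hQP]; exact hQ
  · exact absurd (hxQ Q hQP) (not_le.2 hQ)

/-- `[K' : k(y)]` computed through `K`. -/
theorem finrank_adjoin_map (y : K) [FiniteDimensional K K'] [FiniteDimensional k⟮y⟯ K] :
    FiniteDimensional k⟮algebraMap K K' y⟯ K' ∧
      finrank k⟮algebraMap K K' y⟯ K' = finrank k⟮y⟯ K * finrank K K' := by
  have hmap : (k⟮y⟯).map (IsScalarTower.toAlgHom k K K') = k⟮algebraMap K K' y⟯ := by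
    rw [adjoin_map]; simp
  have hmem : ∀ r : k⟮y⟯, algebraMap K K' (r : K) ∈ k⟮algebraMap K K' y⟯ := by
    intro r
    rw [← hmap]
    exact ⟨r, r.2, rfl⟩
  have hrank : Module.rank k⟮y⟯ K' = Module.rank k⟮algebraMap K K' y⟯ K' := by
    refine rank_eq_of_equiv_equiv (fun r => (⟨algebraMap K K' (r : K), hmem r⟩ :
      k⟮algebraMap K K' y⟯)) (AddEquiv.refl K') ⟨?_, ?_⟩ ?_
    · intro a b hab
      have h1 : algebraMap K K' (a : K) = algebraMap K K' (b : K) := congrArg Subtype.val hab
      exact Subtype.ext ((algebraMap K K').injective h1)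
    · intro b
      have hb : (b : K') ∈ (k⟮y⟯).map (IsScalarTower.toAlgHom k K K') := by rw [hmap]; exact b.2
      obtain ⟨a, ha, hab⟩ := hb
      exact ⟨⟨a, ha⟩, Subtype.ext hab⟩
    · intro r m
      rw [Algebra.smul_def, Algebra.smul_def]
      rfl
  have : FiniteDimensional k⟮y⟯ K' := FiniteDimensional.trans k⟮y⟯ K K'
  have hfin : FiniteDimensional k⟮algebraMap K K' y⟯ K' := by
    have h1 := Module.rank_lt_aleph0 k⟮y⟯ K'
    rw [hrank] at h1
    exact Module.rank_lt_aleph0_iff.1 h1
  refine ⟨hfin, ?_⟩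
  rw [Module.finrank_mul_finrank k⟮y⟯ K K']
  exact (congrArg Cardinal.toNat hrank).symm

end W5

open FunFld Polynomial Module IntermediateField

section W6

variable {k K K' : Type*} [Field k] [Field K] [Field K'] [Algebra k K] [Algebra K K']
  [Algebra k K'] [IsScalarTower k K K']

theorem sum_ramIdx_mul_deg [FiniteDimensional K K'] (hK : IsFunctionField k K) (P : Place k K) :
    {Q : Place k K' | IsOver Q P}.Finite ∧
    ∀ (Qs : Finset (Place k K')), (∀ Q, Q ∈ Qs ↔ IsOver Q P) →
      (∑ Q ∈ Qs, ramIdx Q P * Q.deg) = finrank K K' * P.deg := by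
  classical
  have : Algebra.IsAlgebraic K K' := Algebra.IsAlgebraic.of_finite K K'
  obtain ⟨y, hyk, hyQ, hyP⟩ := exists_only_pole hK P
  have hy0 := ne_zero_of_not_mem_range hyk
  have hyt : Transcendental k y := transcendental_of_not_mem hK hyk
  set y' : K' := algebraMap K K' y with hy'
  have hK₁ : IsFunctionField (algebraicClosure k K') K' := isFunctionField_algebraicClosure hK
  have hy't : Transcendental k y' :=
    (transcendental_algebraMap_iff (algebraMap K K').injective).2 hyt
  have hy't₁ : Transcendental (algebraicClosure k K') y' := fun h => hy't (h.restrictScalars k)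
  set n : ℤ := -P.ord y with hn
  have hnpos : 0 < n := by
    have := (ord_neg_iff P hy0).2 hyP
    omega
  have h1 : n * P.deg = finrank k⟮y⟯ K := by
    rw [← deg_poles hK hyt]
    have : ((-FunFld.div k y) ⊔ 0 : Divisor k K) = Finsupp.single P n := by
      ext Q
      rw [Finsupp.sup_apply, Finsupp.neg_apply, div_apply hK, Finsupp.zero_apply]
      by_cases hQ : Q = P
      · subst hQ
        rw [Finsupp.single_eq_same]
        exact max_eq_left hnpos.le
      · rw [Finsupp.single_eq_of_ne hQ]
        have := (ord_nonneg_iff Q hy0).2 (hyQ Q hQ)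
        exact max_eq_right (by omega)
    rw [this, deg_single]
  set E : Divisor (algebraicClosure k K') K' := (-FunFld.div (algebraicClosure k K') y') ⊔ 0
    with hE
  have hEdeg : E.deg = finrank (algebraicClosure k K')⟮y'⟯ K' := deg_poles hK₁ hy't₁
  have hEapp : ∀ Q : Place k K', E (placeUp (algebraicClosure k K') Q) =
      if IsOver Q P then (ramIdx Q P : ℤ) * n else 0 := by
    intro Q
    rw [hE, Finsupp.sup_apply, Finsupp.neg_apply, div_apply hK₁, Finsupp.zero_apply, placeUp_ord]
    obtain ⟨P', e, he⟩ := exists_isOverWith hK Q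
    rw [isOverWith_ord he]
    by_cases hPP : P' = P
    · subst hPP
      have hov : IsOver Q P' := ⟨e, he⟩
      rw [if_pos hov, ramIdx_eq he]
      have h2 : -((e : ℤ) * P'.ord y) = e * n := by rw [hn]; ring
      rw [h2]
      exact max_eq_left (by positivity)
    · have hnov : ¬ IsOver Q P := fun h => hPP (isOver_unique ⟨e, he⟩ h)
      rw [if_neg hnov]
      have h2 := (ord_nonneg_iff P' hy0).2 (hyQ P' hPP)
      have h3 : 0 ≤ (e : ℤ) * P'.ord y := by positivity
      exact max_eq_right (by omega)
  have hfin : {Q : Place k K' | IsOver Q P}.Finite := by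
    apply Set.Finite.subset ((E.support.image (placeDown k)).finite_toSet)
    intro Q hQ
    simp only [Finset.coe_image, Set.mem_image, Finset.mem_coe, Finsupp.mem_support_iff]
    refine ⟨placeUp (algebraicClosure k K') Q, ?_, placeDown_placeUp Q⟩
    have hQ' : IsOver Q P := hQ
    rw [hEapp, if_pos hQ']
    have := ramIdx_pos hQ'
    positivity
  refine ⟨hfin, fun Qs hQs => ?_⟩
  have hsub : E.support ⊆ Qs.map ⟨placeUp (algebraicClosure k K'), placeUp_injective⟩ := by
    intro Q₁ hQ₁
    rw [Finsupp.mem_support_iff] at hQ₁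
    rw [Finset.mem_map]
    refine ⟨placeDown k Q₁, ?_, placeUp_placeDown (k := k) Q₁⟩
    rw [hQs]
    by_contra hno
    apply hQ₁
    rw [← placeUp_placeDown (k := k) Q₁, hEapp, if_neg hno]
  have hEsum : E.deg = ∑ Q ∈ Qs, ((ramIdx Q P : ℤ) * n) *
      ((placeUp (algebraicClosure k K') Q).deg : ℤ) := by
    rw [deg_eq_sum_of_support_subset E _ hsub, Finset.sum_map]
    refine Finset.sum_congr rfl fun Q hQ => ?_
    simp only [Function.Embedding.coeFn_mk]
    rw [hEapp, if_pos ((hQs Q).1 hQ)]
  have := finite_of_transcendental hK hyt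
  obtain ⟨hfin3, h3⟩ := finrank_adjoin_map (k := k) (K' := K') y
  obtain ⟨hfink₁, h4⟩ := finrank_adjoin_mul (algebraicClosure k K') hy't
  have key : n * ((∑ Q ∈ Qs, ramIdx Q P * Q.deg : ℕ) : ℤ) =
      n * ((finrank K K' * P.deg : ℕ) : ℤ) := by
    have e1 : n * ((∑ Q ∈ Qs, ramIdx Q P * Q.deg : ℕ) : ℤ) =
        (finrank k (algebraicClosure k K') : ℤ) * E.deg := by
      rw [hEsum, Finset.mul_sum]
      push_cast
      rw [Finset.mul_sum]
      refine Finset.sum_congr rfl fun Q _ => ?_
      rw [deg_placeUp (k₁ := algebraicClosure k K') Q]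
      push_cast
      ring
    rw [e1, hEdeg]
    have e2 : ((finrank k (algebraicClosure k K') : ℤ)) *
        (finrank (algebraicClosure k K')⟮y'⟯ K' : ℤ) = (finrank k⟮y'⟯ K' : ℤ) := by
      exact_mod_cast h4.symm
    rw [e2, h3]
    push_cast
    rw [← h1]
    ring
  exact_mod_cast mul_left_cancel₀ hnpos.ne' key

end W6

end Groth.Agent.Helper17.FF
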