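import Mathlib
import Groth.Agent.Lib.Helper17.FFW
import Groth.Agent.Lib.Helper17.FF24

/-! Conorm of divisors in a finite extension of function fields. -/

namespace Groth.Agent.Helper17.FF

open FunFld Polynomial Module IntermediateField

section Conorm

variable {k K K' : Type*} [Field k] [Field K] [Field K'] [Algebra k K] [Algebra K K']
  [Algebra k K'] [IsScalarTower k K K']

/-- the place of `K` below a place of `K'` -/
noncomputable def placeBelow [Algebra.IsAlgebraic K K'] (hK : IsFunctionField k K)
    (Q : Place k K') : Place k K := (exists_isOverWith hK Q).choose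

lemma isOver_placeBelow [Algebra.IsAlgebraic K K'] (hK : IsFunctionField k K) (Q : Place k K') :
    IsOver Q (placeBelow hK Q) := (exists_isOverWith hK Q).choose_spec

lemma isOver_iff [Algebra.IsAlgebraic K K'] (hK : IsFunctionField k K) (Q : Place k K')
    (P : Place k K) : IsOver Q P ↔ P = placeBelow hK Q :=
  ⟨fun h => isOver_unique h (isOver_placeBelow hK Q), fun h => h ▸ isOver_placeBelow hK Q⟩

lemma ord_algebraMap [Algebra.IsAlgebraic K K'] (hK : IsFunctionField k K) (Q : Place k K')
    (x : K) : Q.ord (algebraMap K K' x) =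
      (ramIdx Q (placeBelow hK Q) : ℤ) * (placeBelow hK Q).ord x :=
  isOverWith_ord (isOverWith_ramIdx (isOver_placeBelow hK Q)) x

theorem conorm_apply [FiniteDimensional K K'] (hK : IsFunctionField k K) (D : Divisor k K)
    (Q : Place k K') :
    conorm K' D Q = (ramIdx Q (placeBelow hK Q) : ℤ) * D (placeBelow hK Q) := by
  classical
  unfold conorm
  rw [Finsupp.sum_apply]
  have hterm : ∀ (P : Place k K) (n : ℤ),
      (n • if h : {Q : Place k K' | IsOver Q P}.Finite then
        h.toFinset.sum (fun Q => (ramIdx Q P : ℤ) • Finsupp.single Q 1) else 0 : Divisor k K') Q =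
      n * (if IsOver Q P then (ramIdx Q P : ℤ) else 0) := by
    intro P n
    have hf := (sum_ramIdx_mul_deg (K' := K') hK P).1
    rw [dif_pos hf, Finsupp.smul_apply, Finsupp.finset_sum_apply, smul_eq_mul]
    congr 1
    simp only [Finsupp.smul_apply, Finsupp.single_apply, smul_eq_mul, mul_ite, mul_one, mul_zero]
    rw [Finset.sum_ite_eq']
    simp [Set.Finite.mem_toFinset]
  simp only [hterm]
  rw [Finsupp.sum_eq_single (placeBelow hK Q)]
  · rw [if_pos (isOver_placeBelow hK Q)]; ring
  · intro P _ hP
    rw [if_neg (fun h => hP ((isOver_iff hK Q P).1 h)), mul_zero]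
  · simp

theorem deg_conorm [FiniteDimensional K K'] (hK : IsFunctionField k K) (D : Divisor k K) :
    (conorm K' D).deg = finrank K K' * D.deg := by
  classical
  rw [← degHom_apply]
  unfold conorm
  rw [map_finsuppSum]
  have hterm : ∀ (P : Place k K) (n : ℤ),
      degHom k K' (n • if h : {Q : Place k K' | IsOver Q P}.Finite then
        h.toFinset.sum (fun Q => (ramIdx Q P : ℤ) • Finsupp.single Q 1) else 0 : Divisor k K') =
      (finrank K K' : ℤ) * (n * P.deg) := by
    intro P n
    obtain ⟨hf, hsum⟩ := sum_ramIdx_mul_deg (K' := K') hK P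
    have h2 := hsum hf.toFinset (fun Q => by simp [Set.Finite.mem_toFinset])
    rw [dif_pos hf, map_zsmul, map_sum, smul_eq_mul]
    have h3 : ∑ Q ∈ hf.toFinset, degHom k K' ((ramIdx Q P : ℤ) • Finsupp.single Q 1) =
        ((∑ Q ∈ hf.toFinset, ramIdx Q P * Q.deg : ℕ) : ℤ) := by
      push_cast
      refine Finset.sum_congr rfl fun Q _ => ?_
      rw [map_zsmul, degHom_apply, deg_single, smul_eq_mul, one_mul]
    rw [h3, h2]
    push_cast
    ring
  simp only [hterm]
  unfold Divisor.deg
  rw [Finsupp.mul_sum]

end Conorm

open FunFld Polynomial Module IntermediateField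

section Conorm2

variable {k K K' : Type*} [Field k] [Field K] [Field K'] [Algebra k K] [Algebra K K']
  [Algebra k K'] [IsScalarTower k K K']

theorem finite_support_ord_ext [FiniteDimensional K K'] (hK : IsFunctionField k K) (x : K') :
    (Function.support fun Q : Place k K' => Q.ord x).Finite := by
  have hK₁ : IsFunctionField (algebraicClosure k K') K' := isFunctionField_algebraicClosure hK
  have h1 := finite_support_ord hK₁ x
  have h2 := Set.Finite.preimage
    ((placeUp_injective (k := k) (k₁ := algebraicClosure k K') (L := K')).injOn) h1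
  exact h2.subset (fun Q hQ => hQ)

lemma div_apply_ext [FiniteDimensional K K'] (hK : IsFunctionField k K) (x : K')
    (Q : Place k K') : FunFld.div k x Q = Q.ord x := by
  unfold FunFld.div
  rw [dif_pos (finite_support_ord_ext hK x)]
  rfl

theorem div_algebraMap [FiniteDimensional K K'] (hK : IsFunctionField k K) (x : K) :
    FunFld.div k (algebraMap K K' x) = conorm K' (FunFld.div k x) := by
  have : Algebra.IsAlgebraic K K' := Algebra.IsAlgebraic.of_finite K K'
  ext Q
  rw [div_apply_ext hK, conorm_apply hK, div_apply hK, ord_algebraMap hK]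

end Conorm2

open FunFld Polynomial Module IntermediateField

section MapDiv

variable {k K : Type*} [Field k] [Field K] [Algebra k K]

theorem mapDiv_apply_of_finite {ι : Type*} [Fintype ι] [Nonempty ι] (φ : ι → K)
    (hfin : ∀ i, (Function.support fun P : Place k K => P.ord (φ i)).Finite) (P : Place k K) :
    mapDiv k φ P = -Finset.univ.inf' Finset.univ_nonempty (fun i => P.ord (φ i)) := by
  classical
  have hfin' : (Function.support fun P : Place k K =>
      -Finset.univ.inf' Finset.univ_nonempty (fun i => P.ord (φ i))).Finite := by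
    refine (Set.finite_iUnion (fun i => hfin i)).subset ?_
    intro Q hQ
    simp only [Function.mem_support] at hQ
    by_contra hnot
    simp only [Set.mem_iUnion, Function.mem_support, not_exists, not_not] at hnot
    apply hQ
    simp [hnot]
  unfold mapDiv
  rw [dif_pos hfin']
  rfl

variable {K' : Type*} [Field K'] [Algebra K K'] [Algebra k K'] [IsScalarTower k K K']

theorem mapDiv_algebraMap [FiniteDimensional K K'] (hK : IsFunctionField k K)
    {ι : Type*} [Fintype ι] [Nonempty ι] (φ : ι → K) :
    mapDiv k (fun i => algebraMap K K' (φ i)) = conorm K' (mapDiv k φ) := by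
  have : Algebra.IsAlgebraic K K' := Algebra.IsAlgebraic.of_finite K K'
  ext Q
  rw [mapDiv_apply_of_finite _ (fun i => finite_support_ord_ext hK _), conorm_apply hK,
    mapDiv_apply_of_finite _ (fun i => finite_support_ord hK _)]
  simp only [ord_algebraMap hK]
  rw [mul_neg, neg_inj]
  have h0 : (0 : ℤ) ≤ (ramIdx Q (placeBelow hK Q) : ℤ) := by positivity
  have := Finset.apply_inf'_eq_inf'_comp (s := (Finset.univ : Finset ι)) Finset.univ_nonempty
    (f := fun i => (placeBelow hK Q).ord (φ i))
    (fun z : ℤ => (ramIdx Q (placeBelow hK Q) : ℤ) * z) (fun x y => mul_min_of_nonneg x y h0)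
  exact this.symm

end MapDiv

open FunFld Polynomial Module IntermediateField

section Transport

variable {k K M : Type*} [Field k] [Field K] [Field M] [Algebra k K] [Algebra k M]

/-- transport of a place along an isomorphism -/
noncomputable def mapPlace (σ : K ≃ₐ[k] M) (P : Place k K) : Place k M :=
  ⟨P.1.comap (σ.symm : M →+* K), fun c => by
      rw [Valuation.comap_apply]
      have : (σ.symm : M →+* K) (algebraMap k M c) = algebraMap k K c := σ.symm.commutes c
      rw [this]; exact P.2.1 c,
    fun γ => by
      obtain ⟨x, hx⟩ := P.2.2 γ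
      exact ⟨σ x, by rw [Valuation.comap_apply]; simpa using hx⟩⟩

@[simp] lemma mapPlace_apply (σ : K ≃ₐ[k] M) (P : Place k K) (x : M) :
    (mapPlace σ P).1 x = P.1 (σ.symm x) := rfl

lemma mapPlace_ord (σ : K ≃ₐ[k] M) (P : Place k K) (x : M) :
    (mapPlace σ P).ord x = P.ord (σ.symm x) := rfl

lemma mapPlace_ord' (σ : K ≃ₐ[k] M) (P : Place k K) (x : K) :
    (mapPlace σ P).ord (σ x) = P.ord x := by
  rw [mapPlace_ord, AlgEquiv.symm_apply_apply]

lemma mapPlace_symm_mapPlace (σ : K ≃ₐ[k] M) (P : Place k K) :
    mapPlace σ.symm (mapPlace σ P) = P := by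
  apply Subtype.ext
  apply Valuation.ext
  intro x
  simp

lemma mapPlace_mapPlace_symm (σ : K ≃ₐ[k] M) (P : Place k M) :
    mapPlace σ (mapPlace σ.symm P) = P := by
  apply Subtype.ext
  apply Valuation.ext
  intro x
  simp

/-- the bijection on places induced by an isomorphism -/
noncomputable def placeEquiv (σ : K ≃ₐ[k] M) : Place k K ≃ Place k M where
  toFun := mapPlace σ
  invFun := mapPlace σ.symm
  left_inv := mapPlace_symm_mapPlace σ
  right_inv := mapPlace_mapPlace_symm σ

/-- over an algebraically closed field the degree of a divisor is the sum of its coefficients -/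
lemma deg_eq_sum_of_isAlgClosed [IsAlgClosed k] (hK : IsFunctionField k K) (D : Divisor k K) :
    D.deg = D.sum fun _ n => n := by
  unfold Divisor.deg
  refine Finsupp.sum_congr fun P _ => ?_
  rw [deg_eq_one_of_isAlgClosed hK P]; simp

theorem deg_mapDiv_algEquiv [IsAlgClosed k] (hK : IsFunctionField k K) (hM : IsFunctionField k M)
    (σ : K ≃ₐ[k] M) {ι : Type*} [Fintype ι] [Nonempty ι] (φ : ι → K) :
    (mapDiv k (fun i => σ (φ i))).deg = (mapDiv k φ).deg := by
  have h1 : mapDiv k (fun i => σ (φ i)) = Finsupp.equivMapDomain (placeEquiv σ) (mapDiv k φ) := by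
    ext P₀
    rw [Finsupp.equivMapDomain_apply, mapDiv_apply_of_finite _ (fun i => finite_support_ord hM _),
      mapDiv_apply_of_finite _ (fun i => finite_support_ord hK _)]
    congr 2
  rw [deg_eq_sum_of_isAlgClosed hM, deg_eq_sum_of_isAlgClosed hK, h1, Finsupp.sum_equivMapDomain]

end Transport

section Embed

variable {k K : Type*} [Field k] [Field K] [Algebra k K]

theorem finiteDimensional_fieldRange (hK : IsFunctionField k K) (τ : K →ₐ[k] K) :
    IsFunctionField k τ.fieldRange ∧ FiniteDimensional τ.fieldRange K := by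
  obtain ⟨⟨x, hx, hfin⟩, hcl⟩ := id hK
  have hτx : Transcendental k (τ x) := fun h => hx ((isAlgebraic_algHom_iff τ τ.injective).1 h)
  have hmem : τ x ∈ τ.fieldRange := ⟨x, rfl⟩
  refine ⟨isFunctionField_intermediateField hK _ ⟨τ x, hmem, hτx⟩, ?_⟩
  have hfin' : FiniteDimensional k⟮τ x⟯ K := finite_of_transcendental hK hτx
  have hF : k⟮τ x⟯ ≤ τ.fieldRange :=
    IntermediateField.adjoin_le_iff.2 (Set.singleton_subset_iff.2 hmem)
  have h1 : FiniteDimensional (IntermediateField.extendScalars hF) K := inferInstance
  have h2 := Module.rank_lt_aleph0 (IntermediateField.extendScalars hF) K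
  rw [rank_eq_of_carrier_eq (IntermediateField.extendScalars hF) τ.fieldRange (fun y => Iff.rfl)] at h2
  exact Module.rank_lt_aleph0_iff.1 h2

theorem deg_mapDiv_comp_algHom [IsAlgClosed k] (hK : IsFunctionField k K) (τ : K →ₐ[k] K)
    {ι : Type*} [Fintype ι] [Nonempty ι] (φ : ι → K) :
    (mapDiv k (τ ∘ φ)).deg = Module.finrank τ.fieldRange K * (mapDiv k φ).deg := by
  obtain ⟨hK₀, hfin⟩ := finiteDimensional_fieldRange hK τ
  let σ : K ≃ₐ[k] τ.fieldRange := AlgEquiv.ofInjectiveField τ
  have h1 : (τ ∘ φ) = fun i => algebraMap τ.fieldRange K (σ (φ i)) := by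
    funext i
    rfl
  rw [h1, mapDiv_algebraMap hK₀, deg_conorm hK₀, deg_mapDiv_algEquiv hK hK₀ σ φ]

end Embed

open FunFld Polynomial Module IntermediateField

section ExtDeg

variable {k K K' : Type*} [Field k] [Field K] [Field K'] [Algebra k K] [Algebra K K']
  [Algebra k K'] [IsScalarTower k K K']

theorem finite_algebraicClosure [FiniteDimensional K K'] (hK : IsFunctionField k K) :
    FiniteDimensional k (algebraicClosure k K') := by
  obtain ⟨⟨y, hyt, hfin⟩, -⟩ := id hK
  have hy't : Transcendental k (algebraMap K K' y) :=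
    (transcendental_algebraMap_iff (algebraMap K K').injective).2 hyt
  obtain ⟨hfin3, -⟩ := finrank_adjoin_map (k := k) (K' := K') y
  exact (finrank_adjoin_mul (algebraicClosure k K') hy't).1

theorem residue_finite_ext [FiniteDimensional K K'] (hK : IsFunctionField k K)
    (Q : Place k K') : FiniteDimensional k (IsLocalRing.ResidueField Q.O) := by
  have hK₁ : IsFunctionField (algebraicClosure k K') K' := isFunctionField_algebraicClosure hK
  have h1 := residue_finite hK₁ (placeUp (algebraicClosure k K') Q)
  have h2 := finite_algebraicClosure (K' := K') hK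
  let a0 : Algebra (algebraicClosure k K') Q.O := Place.algO (placeUp (algebraicClosure k K') Q)
  have : IsScalarTower k (algebraicClosure k K') Q.O :=
    IsScalarTower.of_algebraMap_eq (fun c => Subtype.ext
      (IsScalarTower.algebraMap_apply k (algebraicClosure k K') K' c))
  have h1' : Module.Finite (algebraicClosure k K') (IsLocalRing.ResidueField Q.O) := h1
  exact Module.Finite.trans (algebraicClosure k K') (IsLocalRing.ResidueField Q.O)

theorem deg_pos_ext [FiniteDimensional K K'] (hK : IsFunctionField k K) (Q : Place k K') :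
    0 < Q.deg := by
  have := residue_finite_ext hK Q
  exact Module.finrank_pos

theorem deg_le_of_isOver [FiniteDimensional K K'] (hK : IsFunctionField k K)
    {Q : Place k K'} {P : Place k K} (hov : IsOver Q P) : P.deg ≤ Q.deg := by
  classical
  have := residue_finite hK P
  have := residue_finite_ext hK Q
  obtain ⟨e, he⟩ := hov
  let b := Module.finBasis k (IsLocalRing.ResidueField P.O)
  have hsurj := IsLocalRing.residue_surjective (R := P.O)
  choose u hu using fun i => hsurj (b i)
  have hw : ∀ i, Q.1 (algebraMap K K' ((u i : P.O) : K)) ≤ 1 := by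
    intro i
    rw [isOverWith_le_one_iff he]
    exact (u i).2
  let w : Fin (finrank k (IsLocalRing.ResidueField P.O)) → Q.O := fun i => ⟨_, hw i⟩
  have hli : LinearIndependent k (fun i => IsLocalRing.residue Q.O (w i)) := by
    rw [Fintype.linearIndependent_iff]
    intro c hc
    have h1 : IsLocalRing.residue Q.O (∑ i, algebraMap k Q.O (c i) * w i) = 0 := by
      rw [map_sum, ← hc]
      refine Finset.sum_congr rfl fun i _ => ?_
      rfl
    have h2 := (mem_maximalIdeal_iff Q _).1 ((IsLocalRing.residue_eq_zero_iff _).1 h1)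
    have h5 : ((∑ i, algebraMap k Q.O (c i) * w i : Q.O) : K') =
        ∑ i, algebraMap k K' (c i) * algebraMap K K' ((u i : P.O) : K) := by
      push_cast
      rfl
    have h6 : algebraMap K K' ((∑ i, algebraMap k P.O (c i) * u i : P.O) : K) =
        ∑ i, algebraMap k K' (c i) * algebraMap K K' ((u i : P.O) : K) := by
      have h60 : ((∑ i, algebraMap k P.O (c i) * u i : P.O) : K) =
          ∑ i, algebraMap k K (c i) * ((u i : P.O) : K) := by
        push_cast
        rfl
      rw [h60, map_sum]
      refine Finset.sum_congr rfl fun i _ => ?_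
      rw [map_mul, ← IsScalarTower.algebraMap_apply]
    rw [← h6] at h5
    rw [h5, he] at h2
    have h3 : P.1 ((∑ i, algebraMap k P.O (c i) * u i : P.O) : K) < 1 := by
      by_contra hge
      push Not at hge
      exact absurd h2 (not_lt.2 (one_le_pow₀ hge))
    have h7 := (IsLocalRing.residue_eq_zero_iff _).2 ((mem_maximalIdeal_iff P _).2 h3)
    rw [map_sum] at h7
    have h8 : ∑ i, c i • b i = 0 := by
      rw [← h7]
      refine Finset.sum_congr rfl fun i _ => ?_
      rw [← hu]; rfl
    exact (Fintype.linearIndependent_iff.1 b.linearIndependent) c h8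
  have := hli.fintype_card_le_finrank
  simpa [Place.deg] using this

end ExtDeg

end Groth.Agent.Helper17.FF
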