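import Mathlib
import Groth.Agent.Lib.Helper17.FFSub

/-! Separating variables of geometric function fields. -/

namespace Groth.Agent.Helper17.FF

open FunFld Polynomial Module

universe u v

open scoped TensorProduct in
/-- For a geometric extension in characteristic `p`, `p`-th powers of `k`-linearly independent
elements are `k`-linearly independent. -/
theorem linearIndepOn_pow_of_isGeometric {k : Type u} {K : Type v} [Field k] [Field K]
    [Algebra k K] (p : ℕ) [hp : Fact p.Prime] [CharP K p] (hg : IsGeometric k K) (s : Finset K)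
    (hs : LinearIndepOn k id (s : Set K)) : LinearIndepOn k (· ^ p) (s : Set K) := by
  classical
  haveI : CharP k p := (RingHom.charP_iff (algebraMap k K) (algebraMap k K).injective p).2 inferInstance
  haveI : CharP (AlgebraicClosure k) p :=
    charP_of_injective_algebraMap (algebraMap k (AlgebraicClosure k)).injective p
  unfold LinearIndepOn
  rw [Fintype.linearIndependent_iff]
  intro c hc
  -- p-th roots of the coefficients
  have hr : ∀ a : ↥(s : Set K), ∃ r : AlgebraicClosure k,
      r ^ p = algebraMap k (AlgebraicClosure k) (c a) := fun a =>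
    IsAlgClosed.exists_pow_nat_eq _ hp.out.pos
  choose r hr using hr
  set k' : IntermediateField k (AlgebraicClosure k) := IntermediateField.adjoin k (Set.range r)
    with hk'
  haveI : FiniteDimensional k k' :=
    IntermediateField.finiteDimensional_adjoin
      (fun x _ => (Algebra.IsIntegral.isIntegral (R := k) x))
  have hfield := hg k' inferInstance
  letI := hfield.toField
  have hmem : ∀ a, r a ∈ k' := fun a => IntermediateField.subset_adjoin k _ ⟨a, rfl⟩
  let r' : ↥(s : Set K) → k' := fun a => ⟨r a, hmem a⟩
  have hr' : ∀ a, r' a ^ p = algebraMap k k' (c a) := fun a => Subtype.ext (hr a)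
  haveI : CharP (k' ⊗[k] K) p :=
    charP_of_injective_algebraMap (algebraMap k (k' ⊗[k] K)).injective p
  set z : k' ⊗[k] K := ∑ a, r' a ⊗ₜ[k] (a : K) with hz
  have hzp : z ^ p = 0 := by
    rw [hz, sum_pow_char]
    have h1 : ∀ a : ↥(s : Set K), (r' a ⊗ₜ[k] (a : K)) ^ p = (1 : k') ⊗ₜ[k] (c a • (a : K) ^ p) := by
      intro a
      rw [Algebra.TensorProduct.tmul_pow, hr', Algebra.algebraMap_eq_smul_one,
        TensorProduct.smul_tmul]
    simp only [h1]
    rw [← TensorProduct.tmul_sum]
    have : ∑ a, c a • (a : K) ^ p = 0 := hc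
    rw [this, TensorProduct.tmul_zero]
  have hz0 : z = 0 := by
    have := pow_eq_zero_iff (M₀ := k' ⊗[k] K) (a := z) hp.out.ne_zero
    exact this.1 hzp
  have hli := Module.Flat.linearIndependent_one_tmul (S := k') (R := k) hs
  rw [Fintype.linearIndependent_iff] at hli
  have hz' : ∑ a, r' a • ((1 : k') ⊗ₜ[k] (id (a : K))) = 0 := by
    rw [← hz0, hz]
    refine Finset.sum_congr rfl fun a _ => ?_
    rw [TensorProduct.smul_tmul', smul_eq_mul, mul_one]
    rfl
  have hr0 := hli r' hz'
  intro a
  have h2 := hr' a
  rw [hr0 a, zero_pow hp.out.ne_zero] at h2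
  exact ((_root_.map_eq_zero _).1 h2.symm)

/-- A geometric function field has a separating variable. -/
theorem exists_separating {k : Type u} {K : Type v} [Field k] [Field K] [Algebra k K]
    (hK : IsFunctionField k K) (hg : IsGeometric k K) :
    ∃ x : K, Transcendental k x ∧
      Algebra.IsSeparable (IntermediateField.adjoin k ({x} : Set K)) K := by
  classical
  obtain ⟨⟨x₀, hx₀, hfin⟩, -⟩ := id hK
  rcases CharP.exists' k with h0 | ⟨p, hp, hpk⟩
  · refine ⟨x₀, hx₀, ?_⟩
    haveI : CharZero (IntermediateField.adjoin k ({x₀} : Set K)) :=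
      charZero_of_injective_algebraMap
        (algebraMap k (IntermediateField.adjoin k ({x₀} : Set K))).injective
    haveI : Algebra.IsAlgebraic (IntermediateField.adjoin k ({x₀} : Set K)) K :=
      Algebra.IsAlgebraic.of_finite _ _
    infer_instance
  · haveI : CharP K p := charP_of_injective_algebraMap (algebraMap k K).injective p
    haveI := essFiniteType_of_isFunctionField hK
    have htr := trdeg_le_one_of_isFunctionField hK
    obtain ⟨s, hs, hsep⟩ :=
      exists_isTranscendenceBasis_and_isSeparable_of_linearIndepOn_pow_of_essFiniteType p hp.out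
        (fun s hs => linearIndepOn_pow_of_isGeometric p hg s hs)
    have hai : AlgebraicIndependent k (fun _ : PUnit.{v + 1} => x₀) :=
      algebraicIndependent_unique_type_iff.2 hx₀
    have htb : IsTranscendenceBasis k (fun _ : PUnit.{v + 1} => x₀) :=
      hai.isTranscendenceBasis_of_trdeg_le_of_finite (by simpa using htr)
    have hcard := hs.cardinalMk_eq htb
    have hcard' : s.card = 1 := by
      have h1 : Cardinal.mk ↥s = (s.card : Cardinal) := by simp
      rw [h1, Cardinal.mk_punit] at hcard
      exact_mod_cast hcard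
    obtain ⟨x, rfl⟩ := Finset.card_eq_one.1 hcard'
    refine ⟨x, ?_, ?_⟩
    · have := hs.1.transcendental ⟨x, Finset.mem_singleton_self x⟩
      exact this
    · have h2 : ((({x} : Finset K) : Set K)) = {x} := by simp
      rw [h2] at hsep
      exact hsep

open scoped TensorProduct KaehlerDifferential in
/-- For a separating variable `x`, the module of differentials of `K/k` is free of rank one on
`dx`. -/
theorem exists_kaehler_equiv {k : Type*} {K : Type*} [Field k] [Field K] [Algebra k K] {x : K}
    (hx : Transcendental k x)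
    (hsep : Algebra.IsSeparable (IntermediateField.adjoin k ({x} : Set K)) K) :
    ∃ E : Ω[K⁄k] ≃ₗ[K] K, E (KaehlerDifferential.D k K x) = 1 := by
  classical
  set F : IntermediateField k K := IntermediateField.adjoin k ({x} : Set K) with hF
  have hxF : x ∈ F := IntermediateField.mem_adjoin_simple_self k x
  letI algK : Algebra k[X] K := (Polynomial.aeval x : k[X] →ₐ[k] K).toRingHom.toAlgebra
  letI algF : Algebra k[X] F := (Polynomial.aeval (⟨x, hxF⟩ : F) : k[X] →ₐ[k] F).toRingHom.toAlgebra
  have hmapK : ∀ q : k[X], algebraMap k[X] K q = Polynomial.aeval x q := fun q => rfl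
  have hmapF : ∀ q : k[X], algebraMap k[X] F q = Polynomial.aeval (⟨x, hxF⟩ : F) q := fun q => rfl
  haveI : IsScalarTower k k[X] K := IsScalarTower.of_algebraMap_eq (fun c =>
    ((Polynomial.aeval x).commutes c).symm)
  haveI : IsScalarTower k k[X] F := IsScalarTower.of_algebraMap_eq (fun c =>
    ((Polynomial.aeval (⟨x, hxF⟩ : F)).commutes c).symm)
  have hcoe : ∀ q : k[X], ((Polynomial.aeval (⟨x, hxF⟩ : F) q : F) : K) = Polynomial.aeval x q := by
    intro q
    have := Polynomial.aeval_algHom_apply F.val (⟨x, hxF⟩ : F) q
    exact this.symm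
  haveI : IsScalarTower k[X] F K := IsScalarTower.of_algebraMap_eq (fun q => by
    rw [hmapK, hmapF]
    exact (hcoe q).symm)
  have hinjF : Function.Injective (algebraMap k[X] F) := by
    intro a b hab
    have h1 : Polynomial.aeval x a = Polynomial.aeval x b := by
      rw [← hcoe a, ← hcoe b]; exact congrArg _ hab
    exact (transcendental_iff_injective.1 hx) h1
  haveI : FaithfulSMul k[X] F := (faithfulSMul_iff_algebraMap_injective k[X] F).2 hinjF
  haveI : IsFractionRing k[X] F := by
    apply IsFractionRing.of_field
    intro z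
    obtain ⟨r, s, hrs⟩ := (IntermediateField.mem_adjoin_simple_iff k (z : K)).1 z.2
    refine ⟨r, s, Subtype.ext ?_⟩
    rw [hrs, hmapF, hmapF]
    show _ = ((Polynomial.aeval (⟨x, hxF⟩ : F) r / Polynomial.aeval (⟨x, hxF⟩ : F) s : F) : K)
    rw [IntermediateField.coe_div, hcoe, hcoe]
  haveI : Algebra.FormallyEtale k[X] F :=
    Algebra.FormallyEtale.of_isLocalization (nonZeroDivisors k[X])
  haveI : Algebra.FormallyEtale F K := Algebra.FormallyEtale.of_isSeparable F K
  haveI : Algebra.FormallyEtale k[X] K := Algebra.FormallyEtale.comp k[X] F K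
  let e := KaehlerDifferential.tensorKaehlerEquivOfFormallyEtale k k[X] K
  let e2 : K ⊗[k[X]] Ω[k[X]⁄k] ≃ₗ[K] K ⊗[k[X]] k[X] :=
    LinearEquiv.baseChange k[X] K _ _ (KaehlerDifferential.polynomialEquiv k)
  let e3 : K ⊗[k[X]] k[X] ≃ₗ[K] K := TensorProduct.AlgebraTensorModule.rid k[X] K K
  refine ⟨e.symm ≪≫ₗ e2 ≪≫ₗ e3, ?_⟩
  have hx' : x = algebraMap k[X] K Polynomial.X := by rw [hmapK, Polynomial.aeval_X]
  rw [LinearEquiv.trans_apply, LinearEquiv.trans_apply]
  conv_lhs => rw [hx']
  rw [KaehlerDifferential.tensorKaehlerEquivOfFormallyEtale_symm_D_algebraMap]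
  show e3 (e2 ((1 : K) ⊗ₜ[k[X]] KaehlerDifferential.D k k[X] Polynomial.X)) = 1
  rw [LinearEquiv.baseChange_tmul, KaehlerDifferential.polynomialEquiv_D, Polynomial.derivative_X]
  show (TensorProduct.AlgebraTensorModule.rid k[X] K K) ((1 : K) ⊗ₜ[k[X]] (1 : k[X])) = 1
  simp

open scoped KaehlerDifferential in
theorem finrank_kaehler {k : Type u} {K : Type v} [Field k] [Field K] [Algebra k K]
    (hK : IsFunctionField k K) (hg : IsGeometric k K) : Module.finrank K (Ω[K⁄k]) = 1 := by
  obtain ⟨x, hx, hsep⟩ := exists_separating hK hg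
  obtain ⟨E, -⟩ := exists_kaehler_equiv hx hsep
  rw [E.finrank_eq, Module.finrank_self]

open scoped KaehlerDifferential in
/-- `y` is a separating variable iff `dy ≠ 0`. -/
theorem isSeparable_iff_D_ne_zero {k : Type u} {K : Type v} [Field k] [Field K] [Algebra k K]
    (hK : IsFunctionField k K) (hg : IsGeometric k K) (y : K) :
    Algebra.IsSeparable (IntermediateField.adjoin k ({y} : Set K)) K ↔
      KaehlerDifferential.D k K y ≠ 0 := by
  constructor
  · intro hsep
    have hytr : Transcendental k y := by
      intro halg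
      obtain ⟨c, hc⟩ := hK.2 y halg
      obtain ⟨⟨x₀, hx₀, -⟩, -⟩ := id hK
      apply hx₀
      -- `x₀` is algebraic over `k⟮y⟯ = ⊥`
      have h1 : IsAlgebraic (IntermediateField.adjoin k ({y} : Set K)) x₀ :=
        (Algebra.IsSeparable.isAlgebraic (IntermediateField.adjoin k ({y} : Set K)) K).isAlgebraic x₀
      have h2 : IntermediateField.adjoin k ({y} : Set K) = ⊥ := by
        rw [IntermediateField.adjoin_simple_eq_bot_iff, ← hc]
        exact IntermediateField.algebraMap_mem _ c
      haveI : Algebra.IsAlgebraic k (IntermediateField.adjoin k ({y} : Set K)) := by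
        rw [h2]; infer_instance
      exact h1.restrictScalars k
    obtain ⟨E, hE⟩ := exists_kaehler_equiv hytr hsep
    intro h0
    rw [h0, map_zero] at hE
    exact zero_ne_one hE
  · intro hD
    have hytr : Transcendental k y := by
      intro halg
      obtain ⟨c, hc⟩ := hK.2 y halg
      apply hD
      rw [← hc, Derivation.map_algebraMap]
    haveI := essFiniteType_of_isFunctionField hK
    have htr := trdeg_le_one_of_isFunctionField hK
    haveI hfin : FiniteDimensional (IntermediateField.adjoin k ({y} : Set K)) K :=
      finite_adjoin_of_trdeg_le_one htr hytr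
    have hrank := finrank_kaehler hK hg
    set F : IntermediateField k K := IntermediateField.adjoin k ({y} : Set K) with hF
    have hyF : y ∈ F := IntermediateField.mem_adjoin_simple_self k y
    haveI : Algebra.FormallyUnramified F K := by
      constructor
      constructor
      intro a b
      obtain ⟨a', rfl⟩ := KaehlerDifferential.map_surjective k F K a
      obtain ⟨b', rfl⟩ := KaehlerDifferential.map_surjective k F K b
      obtain ⟨ca, rfl⟩ := exists_smul_eq_of_finrank_eq_one hrank hD a'
      obtain ⟨cb, rfl⟩ := exists_smul_eq_of_finrank_eq_one hrank hD b'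
      have h0 : KaehlerDifferential.map k F K K (KaehlerDifferential.D k K y) = 0 := by
        rw [KaehlerDifferential.map_D]
        show KaehlerDifferential.D F K (algebraMap F K ⟨y, hyF⟩) = 0
        rw [Derivation.map_algebraMap]
      rw [map_smul, map_smul, h0, smul_zero, smul_zero]
    exact (Algebra.FormallyUnramified.iff_isSeparable F K).1 inferInstance

end Groth.Agent.Helper17.FF
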