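import Mathlib
import Groth.Prelude.Def_LocRes
import Groth.Agent.Lib.Helper17.FFSep
namespace Groth.Agent.Helper17.FF

universe u v w

open FunFld Module LaurentSeries HahnSeries

section Laurent

variable {k : Type*} {F : Type*} [Field k] [Field F] [Algebra k F]

lemma lval_le_exp_iff_coeff {f : F⸨X⸩} {n : ℤ} :
    Valued.v f ≤ WithZero.exp (-n) ↔ ∀ m < n, f.coeff m = 0 :=
  LaurentSeries.valuation_le_iff_coeff_lt_eq_zero F

/-- product coefficient at the sum of lower bounds -/
lemma coeff_mul_of_val_le {f g : F⸨X⸩} {a b : ℤ} (hf : Valued.v f ≤ WithZero.exp (-a))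
    (hg : Valued.v g ≤ WithZero.exp (-b)) : (f * g).coeff (a + b) = f.coeff a * g.coeff b := by
  classical
  rw [lval_le_exp_iff_coeff] at hf hg
  rw [HahnSeries.coeff_mul]
  rw [Finset.sum_eq_single (a, b)]
  · rintro ⟨i, j⟩ hij hne
    rw [Finset.mem_antidiagonal] at hij
    obtain ⟨hi, hj, hsum⟩ := hij
    simp only at hi hj hsum
    exfalso
    have hi' : a ≤ i := by
      by_contra hc
      exact hi (hf i (not_le.1 hc))
    have hj' : b ≤ j := by
      by_contra hc
      exact hj (hg j (not_le.1 hc))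
    apply hne
    have : i = a ∧ j = b := by omega
    rw [this.1, this.2]
  · intro hnot
    rw [Finset.mem_antidiagonal] at hnot
    simp only [not_and] at hnot
    by_cases h1 : f.coeff a = 0
    · rw [h1, zero_mul]
    · by_cases h2 : g.coeff b = 0
      · rw [h2, mul_zero]
      · exact absurd trivial (hnot h1 h2)

lemma lval_mul_le {f g : F⸨X⸩} {a b : ℤ} (hf : Valued.v f ≤ WithZero.exp (-a))
    (hg : Valued.v g ≤ WithZero.exp (-b)) : Valued.v (f * g) ≤ WithZero.exp (-(a + b)) := by
  rw [map_mul, neg_add, WithZero.exp_add]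
  exact mul_le_mul' hf hg

/-- the derivative lowers the order by at most one -/
lemma val_D_le {f : F⸨X⸩} {n : ℤ} (hf : Valued.v f ≤ WithZero.exp (-n)) :
    Valued.v (LocRes.D F f) ≤ WithZero.exp (-(n - 1)) := by
  rw [lval_le_exp_iff_coeff] at hf ⊢
  intro m hm
  rw [LocRes.D_coeff, hf (m + 1) (by omega), smul_zero]

/-- the derivative of an integral series is integral -/
lemma val_D_le_one {f : F⸨X⸩} (hf : Valued.v f ≤ 1) : Valued.v (LocRes.D F f) ≤ 1 := by
  rw [← WithZero.exp_zero, ← neg_zero, lval_le_exp_iff_coeff] at hf ⊢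
  intro m hm
  rw [LocRes.D_coeff]
  by_cases h : m + 1 < 0
  · rw [hf (m + 1) h, smul_zero]
  · have : m + 1 = 0 := by omega
    rw [this, zero_smul]

lemma lval_eq_exp_iff {f : F⸨X⸩} {n : ℤ} :
    Valued.v f = WithZero.exp (-n) ↔ (∀ m < n, f.coeff m = 0) ∧ f.coeff n ≠ 0 := by
  constructor
  · intro h
    have h1 : ∀ m < n, f.coeff m = 0 := lval_le_exp_iff_coeff.1 h.le
    refine ⟨h1, fun h0 => ?_⟩
    have h2 : Valued.v f ≤ WithZero.exp (-(n + 1)) := by
      rw [lval_le_exp_iff_coeff]
      intro m hm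
      rcases lt_or_eq_of_le (show m ≤ n by omega) with h3 | h3
      · exact h1 m h3
      · rw [h3]; exact h0
    rw [h, WithZero.exp_le_exp] at h2
    omega
  · rintro ⟨h1, h2⟩
    apply le_antisymm (lval_le_exp_iff_coeff.2 h1)
    by_contra hc
    push Not at hc
    have hf0 : f ≠ 0 := fun h => h2 (by rw [h]; rfl)
    have hv0 : Valued.v f ≠ 0 := (Valuation.ne_zero_iff _).2 hf0
    obtain ⟨m, hm⟩ : ∃ m : ℤ, Valued.v f = WithZero.exp m := ⟨_, (WithZero.exp_log hv0).symm⟩
    rw [hm, WithZero.exp_lt_exp] at hc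
    have h3 : Valued.v f ≤ WithZero.exp (-(n + 1)) := by
      rw [hm, WithZero.exp_le_exp]; omega
    exact h2 (lval_le_exp_iff_coeff.1 h3 n (by omega))

/-- order of the derivative when the order is prime to the characteristic -/
lemma val_D_eq {f : F⸨X⸩} {n : ℤ} (hf : Valued.v f = WithZero.exp (-n)) (hn : (n : F) ≠ 0) :
    Valued.v (LocRes.D F f) = WithZero.exp (-(n - 1)) := by
  rw [lval_eq_exp_iff] at hf ⊢
  obtain ⟨h1, h2⟩ := hf
  refine ⟨fun m hm => ?_, ?_⟩
  · rw [LocRes.D_coeff, h1 (m + 1) (by omega), smul_zero]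
  · rw [LocRes.D_coeff, sub_add_cancel, zsmul_eq_mul]
    exact mul_ne_zero hn h2

lemma val_D_uniformizer {f : F⸨X⸩} (hf : Valued.v f = WithZero.exp (-1)) :
    Valued.v (LocRes.D F f) = 1 := by
  have := val_D_eq (n := 1) hf (by simp)
  simpa using this

end Laurent

section Coeffwise

variable {k : Type*} {F : Type*} [Field k] [Field F] [Algebra k F]

/-- the coefficientwise extension of a derivation of the coefficient field -/
noncomputable def cwD (δ : Derivation k F F) (f : F⸨X⸩) : F⸨X⸩ := f.map (δ : F →ₗ[k] F)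

@[simp] lemma cwD_coeff (δ : Derivation k F F) (f : F⸨X⸩) (n : ℤ) :
    (cwD δ f).coeff n = δ (f.coeff n) := rfl

lemma cwD_add (δ : Derivation k F F) (f g : F⸨X⸩) : cwD δ (f + g) = cwD δ f + cwD δ g := by
  ext n; simp

lemma cwD_support (δ : Derivation k F F) (f : F⸨X⸩) : (cwD δ f).support ⊆ f.support := by
  intro n hn
  rw [HahnSeries.mem_support] at hn ⊢
  intro h
  apply hn
  rw [cwD_coeff, h, map_zero]

lemma cwD_mul (δ : Derivation k F F) (f g : F⸨X⸩) :
    cwD δ (f * g) = f * cwD δ g + g * cwD δ f := by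
  ext n
  rw [cwD_coeff, HahnSeries.coeff_add, HahnSeries.coeff_mul,
    HahnSeries.coeff_mul_right' g.isPWO_support (cwD_support δ g), mul_comm g,
    HahnSeries.coeff_mul_left' f.isPWO_support (cwD_support δ f), map_sum,
    ← Finset.sum_add_distrib]
  refine Finset.sum_congr rfl fun ij _ => ?_
  rw [Derivation.leibniz, cwD_coeff, cwD_coeff, smul_eq_mul, smul_eq_mul]
  ring

lemma cwD_C (δ : Derivation k F F) (c : k) : cwD δ (HahnSeries.C (algebraMap k F c)) = 0 := by
  ext n
  have hC : (HahnSeries.C (algebraMap k F c) : F⸨X⸩) = HahnSeries.single 0 (algebraMap k F c) := rfl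
  rw [cwD_coeff, hC, HahnSeries.coeff_single, HahnSeries.coeff_zero]
  split_ifs
  · exact δ.map_algebraMap c
  · exact map_zero _

lemma val_cwD_le (δ : Derivation k F F) {f : F⸨X⸩} {n : ℤ} (hf : Valued.v f ≤ WithZero.exp (-n)) :
    Valued.v (cwD δ f) ≤ WithZero.exp (-n) := by
  rw [lval_le_exp_iff_coeff] at hf ⊢
  intro m hm
  rw [cwD_coeff, hf m hm, map_zero]

end Coeffwise

section DerComp

open scoped KaehlerDifferential

variable {k K L : Type*} [Field k] [Field K] [CommRing L] [Algebra k K] [Algebra k L]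

/-- derivations through an algebra homomorphism factor through the module of differentials -/
lemma der_comp_eq (φ : K →ₐ[k] L) (d : K → L) (hadd : ∀ a b, d (a + b) = d a + d b)
    (hmul : ∀ a b, d (a * b) = φ a * d b + φ b * d a) (hk : ∀ c : k, d (algebraMap k K c) = 0)
    {z t c : K} (h : KaehlerDifferential.D k K z = c • KaehlerDifferential.D k K t) :
    d z = φ c * d t := by
  letI algKL : Algebra K L := φ.toRingHom.toAlgebra
  haveI : IsScalarTower k K L :=
    ⟨fun c x y => show φ (c • x) * y = c • (φ x * y) by rw [map_smul, smul_mul_assoc]⟩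
  let dd : Derivation k K L :=
    { toFun := d
      map_add' := hadd
      map_smul' := fun c a => by
        show d (c • a) = c • d a
        rw [Algebra.smul_def, hmul, hk, mul_zero, add_zero, φ.commutes, ← Algebra.smul_def]
      map_one_eq_zero' := by
        show d 1 = 0
        rw [← map_one (algebraMap k K), hk]
      leibniz' := fun a b => by
        show d (a * b) = φ a * d b + φ b * d a
        exact hmul a b }
  have h1 := congrArg dd.liftKaehlerDifferential h
  rw [map_smul, Derivation.liftKaehlerDifferential_comp_D,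
    Derivation.liftKaehlerDifferential_comp_D] at h1
  exact h1

end DerComp

section Expansion

open scoped KaehlerDifferential

variable {k : Type u} {K : Type v} {F : Type w} [Field k] [Field K] [Field F] [Algebra k K]
  [Algebra k F]

/-- rank one differentials: any differential is a multiple of a nonzero one -/
lemma exists_smul_D_eq (hfr : finrank K (Ω[K⁄k]) = 1) {t : K}
    (ht : KaehlerDifferential.D k K t ≠ 0) (z : K) :
    ∃ c : K, KaehlerDifferential.D k K z = c • KaehlerDifferential.D k K t := by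
  obtain ⟨c, hc⟩ := (finrank_eq_one_iff_of_nonzero' _ ht).1 hfr (KaehlerDifferential.D k K z)
  exact ⟨c, hc.symm⟩

lemma dExp_eq (φ : K →ₐ[k] F⸨X⸩) {z t c : K}
    (h : KaehlerDifferential.D k K z = c • KaehlerDifferential.D k K t) :
    LocRes.D F (φ z) = φ c * LocRes.D F (φ t) :=
  der_comp_eq φ (fun a => LocRes.D F (φ a)) (fun a b => by simp only [map_add])
    (fun a b => by simp only [map_mul, Derivation.leibniz, smul_eq_mul])
    (fun c => by rw [LocRes.map_algebraMap, LocRes.D_apply, LocRes.derivative_C]) h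

lemma cwD_eq (φ : K →ₐ[k] F⸨X⸩) (δ : Derivation k F F) {z t c : K}
    (h : KaehlerDifferential.D k K z = c • KaehlerDifferential.D k K t) :
    cwD δ (φ z) = φ c * cwD δ (φ t) :=
  der_comp_eq φ (fun a => cwD δ (φ a)) (fun a b => by simp only [map_add, cwD_add])
    (fun a b => by simp only [map_mul, cwD_mul])
    (fun c => by simp only [LocRes.map_algebraMap, cwD_C]) h

variable {w : Valuation K (WithZero (Multiplicative ℤ))} {φ : K →ₐ[k] F⸨X⸩}

lemma val_D_unif (hφ : LocRes.IsExpansionAt w φ) {t : K} (ht : w t = WithZero.exp (-1)) :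
    Valued.v (LocRes.D F (φ t)) = 1 :=
  val_D_uniformizer (by rw [hφ.1, ht])

lemma D_unif_ne_zero (hφ : LocRes.IsExpansionAt w φ) {t : K} (ht : w t = WithZero.exp (-1)) :
    KaehlerDifferential.D k K t ≠ 0 := by
  intro h0
  have h1 : KaehlerDifferential.D k K t = (0 : K) • KaehlerDifferential.D k K t := by
    rw [zero_smul, h0]
  have h2 := dExp_eq φ h1
  rw [map_zero, zero_mul] at h2
  have h3 := val_D_unif hφ ht
  rw [h2, map_zero] at h3
  exact zero_ne_one h3

/-- the expansion of a separating element has nonzero derivative -/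
lemma D_expansion_ne_zero (hfr : finrank K (Ω[K⁄k]) = 1) (hφ : LocRes.IsExpansionAt w φ) {x : K}
    (hx : KaehlerDifferential.D k K x ≠ 0) : LocRes.D F (φ x) ≠ 0 := by
  obtain ⟨t, ht⟩ := hφ.2.2
  obtain ⟨c, hc⟩ := exists_smul_D_eq hfr hx t
  have h2 := dExp_eq φ hc
  intro h0
  rw [h0, mul_zero] at h2
  have h3 := val_D_unif hφ ht
  rw [h2, map_zero] at h3
  exact zero_ne_one h3

/-- the coefficient field of an expansion of a field with rank one differentials is
formally unramified over the base -/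
theorem derivation_eq_zero_of_expansion (hfr : finrank K (Ω[K⁄k]) = 1)
    (hφ : LocRes.IsExpansionAt w φ) (δ : Derivation k F F) : δ = 0 := by
  obtain ⟨t, ht⟩ := hφ.2.2
  have htD := D_unif_ne_zero hφ ht
  ext a
  obtain ⟨z, hz1, hza⟩ := hφ.2.1 a
  obtain ⟨c, hc⟩ := exists_smul_D_eq hfr htD z
  have h1 := dExp_eq φ hc
  have h2 := cwD_eq φ δ hc
  have hv1 : Valued.v (φ c) ≤ 1 := by
    have h3 : Valued.v (LocRes.D F (φ z)) ≤ 1 := val_D_le_one (by rw [hφ.1]; exact hz1)
    rw [h1, map_mul, val_D_unif hφ ht, mul_one] at h3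
    exact h3
  have hv2 : Valued.v (cwD δ (φ t)) ≤ WithZero.exp (-1) :=
    val_cwD_le δ (by rw [hφ.1, ht])
  have hv3 : Valued.v (cwD δ (φ z)) ≤ WithZero.exp (-1) := by
    rw [h2, map_mul]
    calc Valued.v (φ c) * Valued.v (cwD δ (φ t)) ≤ 1 * WithZero.exp (-1) :=
          mul_le_mul' hv1 hv2
      _ = WithZero.exp (-1) := one_mul _
  have h4 := lval_le_exp_iff_coeff.1 hv3 0 (by norm_num)
  rw [cwD_coeff, hza] at h4
  rw [h4]; rfl

theorem isSeparable_of_expansion (hfr : finrank K (Ω[K⁄k]) = 1)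
    (hφ : LocRes.IsExpansionAt w φ) [FiniteDimensional k F] : Algebra.IsSeparable k F := by
  haveI : Algebra.FormallyUnramified k F := by
    constructor
    by_contra hns
    rw [not_subsingleton_iff_nontrivial] at hns
    obtain ⟨ω, hω⟩ := exists_ne (0 : Ω[F⁄k])
    obtain ⟨ℓ, hℓ⟩ : ∃ ℓ : Ω[F⁄k] →ₗ[F] F, ℓ ω ≠ 0 := by
      by_contra hcon
      push Not at hcon
      exact hω ((Module.forall_dual_apply_eq_zero_iff F ω).1 hcon)
    have h0 := derivation_eq_zero_of_expansion hfr hφ (ℓ.compDer (KaehlerDifferential.D k F))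
    have h1 : ℓ = 0 := by
      have h2 : ∀ a : F, ℓ (KaehlerDifferential.D k F a) = 0 := fun a => by
        have := congrArg (fun d : Derivation k F F => d a) h0
        simpa using this
      apply LinearMap.ext_on_range (KaehlerDifferential.span_range_derivation k F)
      intro a
      rw [h2 a, LinearMap.zero_apply]
    rw [h1] at hℓ
    exact hℓ rfl
  exact Algebra.FormallyUnramified.isSeparable k F

theorem exists_locRes_ne_zero (hfr : finrank K (Ω[K⁄k]) = 1)
    (hφ : LocRes.IsExpansionAt w φ) [FiniteDimensional k F] {x : K}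
    (hx : KaehlerDifferential.D k K x ≠ 0) : ∃ y : K, LocRes.locRes φ y x ≠ 0 := by
  haveI := isSeparable_of_expansion hfr hφ
  obtain ⟨b, hb⟩ : ∃ b : F, Algebra.trace k F b ≠ 0 := by
    by_contra hcon
    push Not at hcon
    exact Algebra.trace_ne_zero k F (LinearMap.ext hcon)
  set g := LocRes.D F (φ x) with hg
  have hg0 : g ≠ 0 := D_expansion_ne_zero hfr hφ hx
  obtain ⟨t, ht⟩ := hφ.2.2
  have hvg0 : Valued.v g ≠ 0 := (Valuation.ne_zero_iff _).2 hg0
  obtain ⟨m, hm⟩ : ∃ m : ℤ, Valued.v g = WithZero.exp (-m) :=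
    ⟨-WithZero.log (Valued.v g), by rw [neg_neg, WithZero.exp_log hvg0]⟩
  set u := t ^ (-1 - m) with hu
  set ψ := φ u * g with hψdef
  have hψ : Valued.v ψ = WithZero.exp (-(-1 : ℤ)) := by
    rw [hψdef, map_mul, hφ.1, hu, map_zpow₀, ht, hm, ← WithZero.exp_zsmul, ← WithZero.exp_add]
    congr 1
    simp only [smul_eq_mul]
    ring
  obtain ⟨hψ1, hψ2⟩ := lval_eq_exp_iff.1 hψ
  obtain ⟨z, hz1, hza⟩ := hφ.2.1 (b / ψ.coeff (-1))
  refine ⟨z * u, ?_⟩
  have hres : LocRes.resExp φ (z * u) x = b := by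
    unfold LocRes.resExp
    rw [LocRes.res_apply, map_mul, mul_assoc, ← hg, ← hψdef]
    have h1 := coeff_mul_of_val_le (a := 0) (b := -1) (f := φ z) (g := ψ)
      (by rw [hφ.1, neg_zero, WithZero.exp_zero]; exact hz1) hψ.le
    rw [zero_add] at h1
    rw [h1, hza, div_mul_cancel₀ _ hψ2]
  unfold LocRes.locRes
  rw [hres]
  exact hb

end Expansion

end Groth.Agent.Helper17.FF
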