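import Groth.Agent.Lib.Helper17.FF4

/-! degree API, the one-step estimate `ℓ(A+P) ≤ ℓ(A) + deg P`, finite-dimensionality of `L(D)`. -/

namespace Groth.Agent.Helper17.FF

open FunFld Polynomial Module

variable {k K : Type*} [Field k] [Field K] [Algebra k K]

lemma deg_add (D E : Divisor k K) : (D + E).deg = D.deg + E.deg := by
  unfold Divisor.deg
  exact Finsupp.sum_add_index' (fun _ => by simp) (fun _ _ _ => by ring)

lemma deg_zero : (0 : Divisor k K).deg = 0 := Finsupp.sum_zero_index

lemma deg_single (P : Place k K) (n : ℤ) :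
    Divisor.deg (k := k) (K := K) (Finsupp.single P n) = n * P.deg := by
  unfold Divisor.deg
  rw [Finsupp.sum_single_index]
  simp

lemma deg_neg (D : Divisor k K) : (-D).deg = -D.deg :=
  eq_neg_of_add_eq_zero_left (by rw [← deg_add, neg_add_cancel, deg_zero])

lemma deg_sub (D E : Divisor k K) : (D - E).deg = D.deg - E.deg := by
  rw [sub_eq_add_neg, deg_add, deg_neg]; ring

lemma deg_nonneg {D : Divisor k K} (h : 0 ≤ D) : 0 ≤ D.deg := by
  unfold Divisor.deg
  exact Finset.sum_nonneg fun P _ => mul_nonneg (h P) (Nat.cast_nonneg _)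

lemma deg_mono {D E : Divisor k K} (h : D ≤ E) : D.deg ≤ E.deg := by
  have h1 : 0 ≤ E - D := sub_nonneg.2 h
  have h2 := deg_nonneg h1
  rw [deg_sub] at h2
  linarith

/-- discreteness -/
lemma val_lt_exp_iff_le (P : Place k K) (y : K) (n : ℤ) :
    P.1 y < WithZero.exp n ↔ P.1 y ≤ WithZero.exp (n - 1) := by
  rcases eq_or_ne y 0 with rfl | hy
  · simp
  · rw [val_lt_exp_iff P hy, val_le_exp_iff P hy]
    constructor <;> intro h <;> omega

lemma mem_maximalIdeal_iff (P : Place k K) (z : P.O) :
    z ∈ IsLocalRing.maximalIdeal P.O ↔ P.1 (z : K) < 1 := by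
  rw [IsLocalRing.mem_maximalIdeal, mem_nonunits_iff, isUnit_iff]
  exact ⟨fun h => lt_of_le_of_ne z.2 h, fun h => h.ne⟩

/-- the evaluation map `L(B) → κ(P)`, `y ↦ (t y) mod P`, where `ord_P t = B(P)`. -/
noncomputable def evalMap (P : Place k K) (B : Divisor k K) (t : K)
    (ht : P.1 t = WithZero.exp (-(B P))) : L B →ₗ[k] IsLocalRing.ResidueField P.O where
  toFun y := IsLocalRing.residue P.O ⟨t * y.1, by
    show P.1 (t * y.1) ≤ 1
    rw [map_mul, ht]
    calc WithZero.exp (-(B P)) * P.1 y.1 ≤ WithZero.exp (-(B P)) * WithZero.exp (B P) :=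
          mul_le_mul' le_rfl (y.2 P)
      _ = 1 := by rw [← WithZero.exp_add, neg_add_cancel, WithZero.exp_zero]⟩
  map_add' y z := by
    rw [← map_add]
    congr 1
    apply Subtype.ext
    show t * (y.1 + z.1) = t * y.1 + t * z.1
    ring
  map_smul' c y := by
    simp only [RingHom.id_apply]
    refine Eq.trans ?_ (Algebra.smul_def c _).symm
    show _ = (IsLocalRing.residue P.O) (algebraMap k P.O c) * _
    refine Eq.trans (congrArg (IsLocalRing.residue P.O) (Subtype.ext ?_))
      (map_mul (IsLocalRing.residue P.O) (algebraMap k P.O c) _)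
    show t * (c • y.1) = algebraMap k K c * (t * y.1)
    rw [Algebra.smul_def]; ring

lemma evalMap_apply (P : Place k K) (B : Divisor k K) (t : K)
    (ht : P.1 t = WithZero.exp (-(B P))) (y : L B) (h : t * y.1 ∈ P.O) :
    evalMap P B t ht y = IsLocalRing.residue P.O ⟨t * y.1, h⟩ := rfl

lemma ker_evalMap (P : Place k K) (A : Divisor k K) (t : K)
    (ht : P.1 t = WithZero.exp (-((A + Finsupp.single P 1 : Divisor k K) P))) :
    LinearMap.ker (evalMap P (A + Finsupp.single P 1) t ht) =
      Submodule.comap (L (A + Finsupp.single P 1 : Divisor k K)).subtype (L A) := by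
  classical
  ext y
  rw [LinearMap.mem_ker, Submodule.mem_comap, Submodule.subtype_apply]
  have hmem : t * y.1 ∈ P.O := by
    show P.1 (t * y.1) ≤ 1
    rw [map_mul, ht]
    calc _ ≤ WithZero.exp (-((A + Finsupp.single P 1 : Divisor k K) P)) *
            WithZero.exp ((A + Finsupp.single P 1 : Divisor k K) P) :=
          mul_le_mul' le_rfl (y.2 P)
      _ = 1 := by rw [← WithZero.exp_add, neg_add_cancel, WithZero.exp_zero]
  rw [evalMap_apply P _ t ht y hmem, IsLocalRing.residue_eq_zero_iff, mem_maximalIdeal_iff]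
  have ht0 : P.1 t ≠ 0 := by rw [ht]; exact WithZero.exp_ne_zero
  have hBP : (A + Finsupp.single P 1 : Divisor k K) P = A P + 1 := by
    rw [Finsupp.add_apply, Finsupp.single_eq_same]
  show P.1 (t * y.1) < 1 ↔ _
  rw [map_mul, ht, hBP]
  have key : WithZero.exp (-(A P + 1)) * P.1 y.1 < 1 ↔ P.1 y.1 ≤ WithZero.exp (A P) := by
    rw [WithZero.exp_neg, inv_mul_lt_iff₀ WithZero.exp_pos, mul_one, val_lt_exp_iff_le,
      add_sub_cancel_right]
  rw [key]
  constructor
  · intro h Q
    by_cases hQ : Q = P
    · subst hQ; exact h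
    · have := y.2 Q
      rwa [Finsupp.add_apply, Finsupp.single_eq_of_ne hQ, add_zero] at this
  · intro h
    exact h P

theorem L_step (hK : IsFunctionField k K) (A : Divisor k K) (P : Place k K)
    (hA : FiniteDimensional k (L A)) :
    FiniteDimensional k (L (A + Finsupp.single P 1 : Divisor k K)) ∧
      finrank k (L (A + Finsupp.single P 1 : Divisor k K)) ≤ finrank k (L A) + P.deg := by
  obtain ⟨t, ht⟩ := P.2.2 (WithZero.exp (-((A + Finsupp.single P 1 : Divisor k K) P)))
  have hle : L A ≤ L (A + Finsupp.single P 1 : Divisor k K) := L_mono (by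
    intro Q
    rw [Finsupp.add_apply]
    have : (0 : ℤ) ≤ (Finsupp.single P (1 : ℤ)) Q := by
      classical
      rw [Finsupp.single_apply]; split_ifs <;> norm_num
    linarith)
  have hres := residue_finite hK P
  set ψ := evalMap P (A + Finsupp.single P 1) t ht with hψ
  have hker := ker_evalMap P A t ht
  let e := Submodule.comapSubtypeEquivOfLe hle
  have hkerfd : FiniteDimensional k (LinearMap.ker ψ) := by
    rw [hker]; exact Module.Finite.equiv e.symm
  have hquot : FiniteDimensional k (↥(L (A + Finsupp.single P 1 : Divisor k K)) ⧸ LinearMap.ker ψ) :=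
    Module.Finite.equiv ψ.quotKerEquivRange.symm
  have hfd : FiniteDimensional k (L (A + Finsupp.single P 1 : Divisor k K)) :=
    Module.Finite.of_submodule_quotient (LinearMap.ker ψ)
  refine ⟨hfd, ?_⟩
  have h1 := LinearMap.finrank_range_add_finrank_ker ψ
  have h2 : finrank k (LinearMap.ker ψ) = finrank k (L A) := by
    rw [hker]; exact e.finrank_eq
  have h3 : finrank k (LinearMap.range ψ) ≤ P.deg := Submodule.finrank_le _
  omega

theorem L_chain_single (hK : IsFunctionField k K) (P : Place k K) :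
    ∀ (n : ℕ) (A : Divisor k K), FiniteDimensional k (L A) →
    FiniteDimensional k (L (A + Finsupp.single P (n : ℤ) : Divisor k K)) ∧
      finrank k (L (A + Finsupp.single P (n : ℤ) : Divisor k K)) ≤ finrank k (L A) + n * P.deg := by
  intro n
  induction n with
  | zero =>
    intro A hA
    have e : (A + Finsupp.single P ((0 : ℕ) : ℤ) : Divisor k K) = A := by simp
    rw [e]
    exact ⟨hA, by omega⟩
  | succ n ih =>
    intro A hA
    obtain ⟨h1, h2⟩ := ih A hA
    obtain ⟨h3, h4⟩ := L_step hK (A + Finsupp.single P (n : ℤ)) P h1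
    have e : (A + Finsupp.single P ((n + 1 : ℕ) : ℤ) : Divisor k K) =
        A + Finsupp.single P (n : ℤ) + Finsupp.single P 1 := by
      rw [add_assoc, ← Finsupp.single_add]; push_cast; rfl
    rw [e]
    refine ⟨h3, ?_⟩
    have : (n + 1) * P.deg = n * P.deg + P.deg := by ring
    omega

theorem L_chain (hK : IsFunctionField k K) :
    ∀ (E : Divisor k K), 0 ≤ E → ∀ (A : Divisor k K), FiniteDimensional k (L A) →
    FiniteDimensional k (L (A + E)) ∧ (finrank k (L (A + E)) : ℤ) ≤ finrank k (L A) + E.deg := by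
  intro E
  induction E using Finsupp.induction with
  | zero =>
    intro _ A hA
    rw [add_zero, deg_zero, add_zero]
    exact ⟨hA, le_rfl⟩
  | single_add a b f haf hb ih =>
    intro hE A hA
    have hfa : f a = 0 := Finsupp.notMem_support_iff.1 haf
    have hb0 : 0 ≤ b := by
      have := hE a
      rwa [Finsupp.add_apply, Finsupp.single_eq_same, hfa, add_zero] at this
    have hf0 : 0 ≤ f := by
      intro c
      by_cases hc : c = a
      · rw [hc, hfa]; rfl
      · have := hE c
        rwa [Finsupp.add_apply, Finsupp.single_eq_of_ne hc, zero_add] at this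
    obtain ⟨h1, h2⟩ := ih hf0 A hA
    obtain ⟨n, rfl⟩ := Int.eq_ofNat_of_zero_le hb0
    obtain ⟨h3, h4⟩ := L_chain_single hK a n (A + f) h1
    have e : A + (Finsupp.single a (n : ℤ) + f) = A + f + Finsupp.single a (n : ℤ) := by abel
    rw [e]
    refine ⟨h3, ?_⟩
    rw [add_comm (Finsupp.single a (n : ℤ)) f, deg_add, deg_single]
    have h5 : (finrank k (L (A + f + Finsupp.single a (n : ℤ) : Divisor k K)) : ℤ) ≤
        finrank k (L (A + f)) + n * a.deg := by exact_mod_cast h4
    linarith

theorem L_zero_finite (hK : IsFunctionField k K) :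
    FiniteDimensional k (L (0 : Divisor k K)) ∧ finrank k (L (0 : Divisor k K)) = 1 := by
  rw [L_zero hK, ← Algebra.toSubmodule_bot (R := k) (A := K)]
  have e := Subalgebra.toSubmoduleEquiv (⊥ : Subalgebra k K)
  have h1 : FiniteDimensional k (⊥ : Subalgebra k K) := inferInstance
  exact ⟨Module.Finite.equiv e.symm, by rw [e.finrank_eq]; exact Subalgebra.finrank_bot⟩

theorem L_finite (hK : IsFunctionField k K) (D : Divisor k K) : FiniteDimensional k (L D) := by
  have h0 := (L_zero_finite hK).1
  have h1 := (L_chain hK (D ⊔ 0) le_sup_right 0 h0).1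
  rw [zero_add] at h1
  exact Submodule.finiteDimensional_of_le (L_mono (le_sup_left : D ≤ D ⊔ 0))

theorem ell_le (hK : IsFunctionField k K) {D₁ D₂ : Divisor k K} (h : D₁ ≤ D₂) :
    (ell D₂ : ℤ) - ell D₁ ≤ D₂.deg - D₁.deg := by
  have h1 := (L_chain hK (D₂ - D₁) (sub_nonneg.2 h) D₁ (L_finite hK D₁)).2
  rw [add_sub_cancel, deg_sub] at h1
  unfold ell
  linarith

end Groth.Agent.Helper17.FF
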