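import Mathlib
import Groth.Agent.Lib.Helper17.FFSep

/-! The subfield `kK^p` of a geometric function field in characteristic `p`. -/

namespace Groth.Agent.Helper17.FF

open FunFld Polynomial Module

universe u v

section general

variable {F : Type*} {K : Type*} [Field F] [Field K] [Algebra F K] (p : ℕ) [hp : Fact p.Prime]
  [CharP K p]

/-- derivations vanish on `F(K^p)` -/
lemma D_eq_zero_of_mem_adjoin_pow {x : K}
    (hx : x ∈ IntermediateField.adjoin F (Set.range fun y : K => y ^ p)) :
    KaehlerDifferential.D F K x = 0 := by
  induction hx using IntermediateField.adjoin_induction with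
  | mem z hz =>
    obtain ⟨y, rfl⟩ := hz
    show KaehlerDifferential.D F K (y ^ p) = 0
    rw [Derivation.leibniz_pow, ← Nat.cast_smul_eq_nsmul K, CharP.cast_eq_zero, zero_smul]
  | algebraMap c => exact Derivation.map_algebraMap _ c
  | add a b _ _ ha hb => rw [map_add, ha, hb, add_zero]
  | inv a _ ha => rw [Derivation.leibniz_inv, ha, smul_zero]
  | mul a b _ _ ha hb => rw [Derivation.leibniz, ha, hb, smul_zero, smul_zero, add_zero]

/-- if `K = F(K^p)` is finite over `F` then `K/F` is separable. -/
theorem isSeparable_of_adjoin_pow_eq_top [FiniteDimensional F K]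
    (h : IntermediateField.adjoin F (Set.range fun y : K => y ^ p) = ⊤) :
    Algebra.IsSeparable F K := by
  haveI : Algebra.FormallyUnramified F K := by
    constructor
    have h1 : ∀ z : K, KaehlerDifferential.D F K z = 0 := fun z =>
      D_eq_zero_of_mem_adjoin_pow p (by rw [h]; trivial)
    have h2 := KaehlerDifferential.span_range_derivation F K
    have h3 : Set.range (KaehlerDifferential.D F K) ⊆ {0} := by
      rintro _ ⟨z, rfl⟩
      exact h1 z
    have h4 : (⊤ : Submodule K (KaehlerDifferential F K)) = ⊥ := by
      rw [← h2, Submodule.span_eq_bot]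
      intro w hw
      exact h3 hw
    constructor
    intro a b
    have ha : a ∈ (⊤ : Submodule K (KaehlerDifferential F K)) := trivial
    have hb : b ∈ (⊤ : Submodule K (KaehlerDifferential F K)) := trivial
    rw [h4, Submodule.mem_bot] at ha hb
    rw [ha, hb]
  exact (Algebra.FormallyUnramified.iff_isSeparable F K).1 inferInstance

end general

section ff

variable {k : Type u} {K : Type v} [Field k] [Field K] [Algebra k K] (p : ℕ) [hp : Fact p.Prime]
  [CharP K p]

variable (k K) in
/-- the subfield `kK^p` -/
abbrev kKp : IntermediateField k K := IntermediateField.adjoin k (Set.range fun y : K => y ^ p)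

lemma pow_mem_kKp (y : K) : y ^ p ∈ kKp k K p :=
  IntermediateField.subset_adjoin k _ ⟨y, rfl⟩

/-- `K = kK^p(s)` for a separating variable `s`. -/
theorem adjoin_kKp_separating {s : K}
    (hsep : Algebra.IsSeparable (IntermediateField.adjoin k ({s} : Set K)) K) :
    (IntermediateField.adjoin (kKp k K p) ({s} : Set K)) = ⊤ := by
  haveI : CharP (IntermediateField.adjoin k ({s} : Set K)) p :=
    (RingHom.charP_iff (algebraMap (IntermediateField.adjoin k ({s} : Set K)) K)
      (algebraMap (IntermediateField.adjoin k ({s} : Set K)) K).injective p).2 inferInstance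
  haveI : ExpChar (IntermediateField.adjoin k ({s} : Set K)) p := ExpChar.prime hp.out
  have h1 := IntermediateField.adjoin_eq_adjoin_pow_expChar_of_isSeparable'
    (IntermediateField.adjoin k ({s} : Set K)) K Set.univ p
  rw [IntermediateField.adjoin_univ, Set.image_univ] at h1
  apply IntermediateField.restrictScalars_injective k
  rw [IntermediateField.adjoin_adjoin_left, IntermediateField.restrictScalars_top]
  have h2 := congrArg (IntermediateField.restrictScalars k) h1
  rw [IntermediateField.adjoin_adjoin_left, IntermediateField.restrictScalars_top] at h2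
  rw [Set.union_comm, ← h2]

/-- a separating variable is not in `kK^p`. -/
lemma separating_not_mem_kKp {s : K} (hs : Transcendental k s)
    (hsep : Algebra.IsSeparable (IntermediateField.adjoin k ({s} : Set K)) K) :
    s ∉ kKp k K p := by
  intro hmem
  obtain ⟨E, hE⟩ := exists_kaehler_equiv hs hsep
  rw [D_eq_zero_of_mem_adjoin_pow p hmem, map_zero] at hE
  exact zero_ne_one hE

/-- `[K : E] = p` whenever `K = E(s)` with `s ∉ E`, `K^p ⊆ E`. -/
theorem finrank_of_adjoin_simple_eq_top (E : IntermediateField k K) (hE : ∀ y : K, y ^ p ∈ E)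
    {s : K} (hs : s ∉ E) (htop : IntermediateField.adjoin E ({s} : Set K) = ⊤) :
    Module.finrank E K = p := by
  set a : E := ⟨s ^ p, hE s⟩ with ha
  have hirr : Irreducible (X ^ p - C a : E[X]) := by
    apply X_pow_sub_C_irreducible_of_prime hp.out
    intro b hb
    have h1 : ((b : E) : K) ^ p = s ^ p := congrArg (fun z : E => (z : K)) hb
    have h2 : (((b : E) : K) - s) ^ p = 0 := by rw [sub_pow_char, h1, sub_self]
    have h3 : ((b : E) : K) - s = 0 := pow_eq_zero_iff hp.out.ne_zero |>.1 h2
    apply hs
    rw [← sub_eq_zero.1 h3]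
    exact b.2
  have hroot : Polynomial.aeval s (X ^ p - C a : E[X]) = 0 := by
    rw [map_sub, map_pow, aeval_X, aeval_C]
    show s ^ p - (a : K) = 0
    rw [sub_self]
  have hmonic : (X ^ p - C a : E[X]).Monic := monic_X_pow_sub_C a hp.out.ne_zero
  have hmin : (X ^ p - C a : E[X]) = minpoly E s :=
    minpoly.eq_of_irreducible_of_monic hirr hroot hmonic
  have hint : IsIntegral E s := ⟨_, hmonic, by rw [← Polynomial.aeval_def]; exact hroot⟩
  have h1 := IntermediateField.adjoin.finrank hint
  rw [htop, IntermediateField.finrank_top', ← hmin, natDegree_X_pow_sub_C] at h1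
  exact h1

theorem finrank_kKp (hK : IsFunctionField k K) (hg : IsGeometric k K) :
    Module.finrank (kKp k K p) K = p := by
  obtain ⟨s, hs, hsep⟩ := exists_separating hK hg
  exact finrank_of_adjoin_simple_eq_top p (kKp k K p) (pow_mem_kKp p)
    (separating_not_mem_kKp p hs hsep) (adjoin_kKp_separating p hsep)

theorem mem_kKp_iff_D_eq_zero (hK : IsFunctionField k K) (hg : IsGeometric k K) (x : K) :
    x ∈ kKp k K p ↔ KaehlerDifferential.D k K x = 0 := by
  refine ⟨D_eq_zero_of_mem_adjoin_pow p, ?_⟩
  intro hD
  by_contra hx
  have hfr := finrank_kKp p hK hg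
  have hxtr : Transcendental k x := by
    intro halg
    obtain ⟨c, hc⟩ := hK.2 x halg
    apply hx
    rw [← hc]
    exact IntermediateField.algebraMap_mem _ c
  haveI := essFiniteType_of_isFunctionField hK
  have htr := trdeg_le_one_of_isFunctionField hK
  haveI hfin : FiniteDimensional (IntermediateField.adjoin k ({x} : Set K)) K :=
    finite_adjoin_of_trdeg_le_one htr hxtr
  -- `E(x) = K`
  haveI := IntermediateField.isSimpleOrder_of_finrank_prime (kKp k K p) K (by rw [hfr]; exact hp.out)
  have htop : IntermediateField.adjoin (kKp k K p) ({x} : Set K) = ⊤ := by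
    rcases eq_bot_or_eq_top (IntermediateField.adjoin (kKp k K p) ({x} : Set K)) with h | h
    · exfalso
      rw [IntermediateField.adjoin_simple_eq_bot_iff] at h
      obtain ⟨e, he⟩ := IntermediateField.mem_bot.1 h
      apply hx
      rw [← he]
      exact e.2
    · exact h
  have h2 : IntermediateField.adjoin (IntermediateField.adjoin k ({x} : Set K))
      (Set.range fun y : K => y ^ p) = ⊤ := by
    apply IntermediateField.restrictScalars_injective k
    rw [IntermediateField.adjoin_adjoin_left, IntermediateField.restrictScalars_top]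
    have h3 := congrArg (IntermediateField.restrictScalars k) htop
    rw [IntermediateField.adjoin_adjoin_left, IntermediateField.restrictScalars_top] at h3
    rw [Set.union_comm, h3]
  have hsep := isSeparable_of_adjoin_pow_eq_top p h2
  exact (isSeparable_iff_D_ne_zero hK hg x).1 hsep hD

theorem purelyInseparable_degree_p_iff (hK : IsFunctionField k K) (hg : IsGeometric k K)
    (K₀ : IntermediateField k K) :
    (IsPurelyInseparable K₀ K ∧ Module.finrank K₀ K = p) ↔ K₀ = kKp k K p := by
  constructor
  · rintro ⟨hpi, hfr⟩
    haveI : CharP K₀ p :=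
      (RingHom.charP_iff (algebraMap K₀ K) (algebraMap K₀ K).injective p).2 inferInstance
    haveI : ExpChar K₀ p := ExpChar.prime hp.out
    haveI : FiniteDimensional K₀ K := Module.finite_of_finrank_pos (by rw [hfr]; exact hp.out.pos)
    have hpow : ∀ y : K, y ^ p ∈ K₀ := by
      intro y
      obtain ⟨n, c, hmin⟩ := IsPurelyInseparable.minpoly_eq_X_pow_sub_C K₀ p y
      have hdeg : (minpoly K₀ y).natDegree ≤ p := by
        rw [← hfr]; exact minpoly.natDegree_le y
      rw [hmin, natDegree_X_pow_sub_C] at hdeg
      have hn : n ≤ 1 := by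
        by_contra hcon
        have h2 : 2 ≤ n := by omega
        have h3 : p ^ 2 ≤ p ^ n := Nat.pow_le_pow_right hp.out.pos h2
        have h4 : p < p ^ 2 := by
          have := hp.out.one_lt
          nlinarith
        omega
      have hroot := minpoly.aeval K₀ y
      rw [hmin, map_sub, map_pow, aeval_X, aeval_C, sub_eq_zero] at hroot
      interval_cases n
      · rw [pow_zero, pow_one] at hroot
        rw [hroot]
        exact pow_mem c.2 p
      · rw [pow_one] at hroot
        rw [hroot]
        exact c.2
    have hle : kKp k K p ≤ K₀ := by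
      rw [IntermediateField.adjoin_le_iff]
      rintro _ ⟨y, rfl⟩
      exact hpow y
    have hfr' := finrank_kKp p hK hg
    haveI : FiniteDimensional (kKp k K p) K :=
      Module.finite_of_finrank_pos (by rw [hfr']; exact hp.out.pos)
    exact (IntermediateField.eq_of_le_of_finrank_eq' hle (by rw [hfr', hfr])).symm
  · rintro rfl
    refine ⟨?_, finrank_kKp p hK hg⟩
    haveI : CharP (kKp k K p) p :=
      (RingHom.charP_iff (algebraMap (kKp k K p) K) (algebraMap (kKp k K p) K).injective p).2
        inferInstance
    haveI : ExpChar (kKp k K p) p := ExpChar.prime hp.out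
    rw [isPurelyInseparable_iff_pow_mem (kKp k K p) p]
    intro x
    refine ⟨1, ⟨x ^ p, pow_mem_kKp p x⟩, ?_⟩
    rw [pow_one]
    rfl

end ff

end Groth.Agent.Helper17.FF
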