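import Mathlib
import Groth.Agent.Lib.Helper17.FFW2
import Groth.Agent.Lib.Helper17.FFSep2
namespace Groth.Agent.Helper17.FF

open FunFld Polynomial Module IntermediateField

section SepPlace

universe u v

variable {k : Type u} {K : Type v} [Field k] [Field K] [Algebra k K]

/-- for a place `P` with separable residue field, the place of `kK^p` below has degree at least
`deg P`. -/
lemma deg_le_deg_placeBelow_kKp (p : ℕ) [hp : Fact p.Prime] [CharP K p]
    (hK : IsFunctionField k K) (P : Place k K)
    [Algebra.IsSeparable k (IsLocalRing.ResidueField P.O)]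
    (P₁ : Place k (kKp k K p)) (hov : IsOver P P₁) (hK₁ : IsFunctionField k (kKp k K p)) :
    P.deg ≤ P₁.deg := by
  classical
  have : CharP k p := (RingHom.charP_iff (algebraMap k K) (algebraMap k K).injective p).2 inferInstance
  have : ExpChar k p := ExpChar.prime hp.out
  have := residue_finite hK P
  have := residue_finite hK₁ P₁
  obtain ⟨e, he⟩ := hov
  let b := Module.finBasis k (IsLocalRing.ResidueField P.O)
  have hb : LinearIndependent k (fun i => (b i) ^ p ^ 1) :=
    b.linearIndependent.map_pow_expChar_pow_of_isSeparable p 1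
  have hsurj := IsLocalRing.residue_surjective (R := P.O)
  choose u hu using fun i => hsurj (b i)
  have hw : ∀ i, P₁.1 (⟨((u i : P.O) : K) ^ p, pow_mem_kKp p _⟩ : kKp k K p) ≤ 1 := by
    intro i
    rw [← isOverWith_le_one_iff he]
    show P.1 (((u i : P.O) : K) ^ p) ≤ 1
    rw [map_pow]
    exact pow_le_one' (u i).2 p
  let w : Fin (finrank k (IsLocalRing.ResidueField P.O)) → P₁.O := fun i => ⟨_, hw i⟩
  have hli : LinearIndependent k (fun i => IsLocalRing.residue P₁.O (w i)) := by
    rw [Fintype.linearIndependent_iff]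
    intro c hc
    have h1 : IsLocalRing.residue P₁.O (∑ i, algebraMap k P₁.O (c i) * w i) = 0 := by
      rw [map_sum, ← hc]
      refine Finset.sum_congr rfl fun i _ => ?_
      rfl
    have h2 := (mem_maximalIdeal_iff P₁ _).1 ((IsLocalRing.residue_eq_zero_iff _).1 h1)
    have h3 : P.1 (∑ i, algebraMap k K (c i) * ((u i : P.O) : K) ^ p) < 1 := by
      have h4 := he (∑ i, algebraMap k P₁.O (c i) * w i : P₁.O)
      have h5 : algebraMap (kKp k K p) K ((∑ i, algebraMap k P₁.O (c i) * w i : P₁.O) : kKp k K p)
          = ∑ i, algebraMap k K (c i) * ((u i : P.O) : K) ^ p := by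
        push_cast
        rfl
      rw [h5] at h4
      rw [h4]
      exact pow_lt_one' h2 (isOverWith_pos he).ne'
    have h6 : (∑ i, algebraMap k K (c i) * ((u i : P.O) : K) ^ p) =
        ((∑ i, algebraMap k P.O (c i) * (u i) ^ p : P.O) : K) := by
      push_cast
      rfl
    rw [h6] at h3
    have h7 := (IsLocalRing.residue_eq_zero_iff _).2 ((mem_maximalIdeal_iff P _).2 h3)
    rw [map_sum] at h7
    have h8 : ∑ i, c i • (b i) ^ p ^ 1 = 0 := by
      rw [← h7]
      refine Finset.sum_congr rfl fun i _ => ?_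
      rw [pow_one, ← hu, ← map_pow]; rfl
    exact (Fintype.linearIndependent_iff.1 hb) c h8
  have := hli.fintype_card_le_finrank
  simpa [Place.deg] using this


open scoped KaehlerDifferential in
theorem D_uniformizer_ne_zero (hK : IsFunctionField k K) (hg : IsGeometric k K) (P : Place k K)
    [Algebra.IsSeparable k (IsLocalRing.ResidueField P.O)] (t : K)
    (ht : P.1 t = WithZero.exp (-1 : ℤ)) : KaehlerDifferential.D k K t ≠ 0 := by
  classical
  have ht0 : t ≠ 0 := fun h => by
    rw [h, map_zero] at ht; exact WithZero.exp_ne_zero ht.symm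
  have htk : t ∉ Set.range (algebraMap k K) :=
    not_mem_range_of_val_ne_one P ht0 (by rw [ht]; exact exp_neg_one_lt_one.ne)
  have httr := transcendental_of_not_mem hK htk
  obtain ⟨p, hp⟩ := CharP.exists K
  rcases CharP.char_is_prime_or_zero K p with hprime | hzero
  · have : Fact p.Prime := ⟨hprime⟩
    intro hD
    have hmem : t ∈ kKp k K p := (mem_kKp_iff_D_eq_zero p hK hg t).2 hD
    have hK₁ : IsFunctionField k (kKp k K p) :=
      isFunctionField_intermediateField hK _ ⟨t, hmem, httr⟩
    have hfr : finrank (kKp k K p) K = p := finrank_kKp p hK hg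
    have : FiniteDimensional (kKp k K p) K :=
      Module.finite_of_finrank_pos (by rw [hfr]; exact hprime.pos)
    have : Algebra.IsAlgebraic (kKp k K p) K := Algebra.IsAlgebraic.of_finite _ _
    set P₁ := placeBelow hK₁ P with hP₁
    have hov : IsOver P P₁ := isOver_placeBelow hK₁ P
    have huniq : ∀ Q : Place k K, IsOver Q P₁ → Q = P := by
      intro Q hQ
      apply place_ext
      intro x
      obtain ⟨e, he⟩ := hQ
      obtain ⟨e', he'⟩ := hov
      have h1 := isOverWith_le_one_iff he (⟨x ^ p, pow_mem_kKp p x⟩ : kKp k K p)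
      have h2 := isOverWith_le_one_iff he' (⟨x ^ p, pow_mem_kKp p x⟩ : kKp k K p)
      have h3 : algebraMap (kKp k K p) K ⟨x ^ p, pow_mem_kKp p x⟩ = x ^ p := rfl
      rw [h3, map_pow, pow_le_one_iff hprime.ne_zero] at h1 h2
      rw [h1, h2]
    obtain ⟨hfin, hsum⟩ := sum_ramIdx_mul_deg (K' := K) hK₁ P₁
    have h4 := hsum {P} (fun Q => by
      rw [Finset.mem_singleton]; exact ⟨fun h => h ▸ hov, huniq Q⟩)
    rw [Finset.sum_singleton, hfr] at h4
    have hdeg : P.deg ≤ P₁.deg := deg_le_deg_placeBelow_kKp p hK P P₁ hov hK₁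
    have hpos := deg_pos hK P
    have he : p ≤ ramIdx P P₁ := by
      by_contra hlt
      push Not at hlt
      have h5 : ramIdx P P₁ * P.deg < p * P₁.deg :=
        calc ramIdx P P₁ * P.deg < p * P.deg := Nat.mul_lt_mul_of_pos_right hlt hpos
          _ ≤ p * P₁.deg := Nat.mul_le_mul_left _ hdeg
      omega
    have h5 := isOverWith_ord (isOverWith_ramIdx hov) (⟨t, hmem⟩ : kKp k K p)
    have h6 : P.ord t = 1 := ord_uniformizer P ht
    rw [show algebraMap (kKp k K p) K ⟨t, hmem⟩ = t from rfl, h6] at h5
    have h7 : (ramIdx P P₁ : ℤ) ∣ 1 := ⟨_, h5⟩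
    have h8 := Int.le_of_dvd one_pos h7
    have := hprime.two_le
    omega
  · subst hzero
    have : CharZero K := CharP.charP_to_charZero K
    have : FiniteDimensional k⟮t⟯ K := finite_of_transcendental hK httr
    have : Algebra.IsSeparable k⟮t⟯ K := Algebra.IsAlgebraic.isSeparable_of_perfectField
    exact (isSeparable_iff_D_ne_zero hK hg t).1 inferInstance

end SepPlace
end Groth.Agent.Helper17.FF
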