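import Mathlib
import Groth.Agent.Lib.Helper17.FFW3
namespace Groth.Agent.Helper17.FF

open FunFld Polynomial Module IntermediateField

section Galois

variable {k K K' : Type*} [Field k] [Field K] [Field K'] [Algebra k K] [Algebra K K']
  [Algebra k K'] [IsScalarTower k K K']

/-- the action of `Aut(K'/K)` on places of `K'/k` -/
noncomputable def galPlace (σ : K' ≃ₐ[K] K') (Q : Place k K') : Place k K' :=
  ⟨Q.1.comap (σ : K' →+* K'), fun c => by
      rw [Valuation.comap_apply]
      have : (σ : K' →+* K') (algebraMap k K' c) = algebraMap k K' c := by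
        rw [IsScalarTower.algebraMap_apply k K K']
        exact σ.commutes _
      rw [this]; exact Q.2.1 c,
    fun γ => by
      obtain ⟨x, hx⟩ := Q.2.2 γ
      exact ⟨σ.symm x, by rw [Valuation.comap_apply]; simpa using hx⟩⟩

@[simp] lemma galPlace_apply (σ : K' ≃ₐ[K] K') (Q : Place k K') (x : K') :
    (galPlace σ Q).1 x = Q.1 (σ x) := rfl

lemma galPlace_mul (σ τ : K' ≃ₐ[K] K') (Q : Place k K') :
    galPlace τ (galPlace σ Q) = galPlace (σ * τ) Q := by
  apply Subtype.ext
  apply Valuation.ext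
  intro x
  simp [AlgEquiv.mul_apply]

lemma galPlace_one (Q : Place k K') : galPlace (1 : K' ≃ₐ[K] K') Q = Q := by
  apply Subtype.ext
  apply Valuation.ext
  intro x
  simp

lemma prod_lt_one_withZero {ι : Type*} (s : Finset ι) (hs : s.Nonempty)
    (f : ι → WithZero (Multiplicative ℤ)) (h : ∀ i ∈ s, f i < 1) : ∏ i ∈ s, f i < 1 := by
  refine Finset.prod_induction_nonempty f (· < 1) ?_ hs h
  intro a b ha hb
  exact lt_of_le_of_lt (mul_le_of_le_one_right' hb.le) ha

theorem exists_galPlace_eq [FiniteDimensional K K'] [IsGalois K K'] (Q₁ Q₂ : Place k K')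
    (h : (Q₁.1.comap (algebraMap K K')).IsEquiv (Q₂.1.comap (algebraMap K K'))) :
    ∃ σ : K' ≃ₐ[K] K', galPlace σ Q₁ = Q₂ := by
  classical
  by_contra hcon
  push Not at hcon
  let S₁ : Finset (Place k K') := Finset.univ.image (fun σ : K' ≃ₐ[K] K' => galPlace σ Q₁)
  let S₂ : Finset (Place k K') := Finset.univ.image (fun σ : K' ≃ₐ[K] K' => galPlace σ Q₂)
  have hdisj : ∀ σ : K' ≃ₐ[K] K', galPlace σ Q₁ ∉ S₂ := by
    intro σ hmem
    obtain ⟨τ, -, hτ⟩ := Finset.mem_image.1 hmem
    apply hcon (σ * τ⁻¹)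
    rw [← galPlace_mul, ← hτ, galPlace_mul, mul_inv_cancel, galPlace_one]
  obtain ⟨y, hy⟩ := weak_approx (fun Q : ↥(S₁ ∪ S₂) => (Q : Place k K')) Subtype.val_injective
    (fun Q => if (Q : Place k K') ∈ S₂ then 0 else 1) (fun _ => 0)
  have hy₂ : ∀ σ : K' ≃ₐ[K] K', Q₂.1 (σ y) < 1 := by
    intro σ
    have hm : galPlace σ Q₂ ∈ S₂ := Finset.mem_image.2 ⟨σ, Finset.mem_univ _, rfl⟩
    have := hy ⟨galPlace σ Q₂, Finset.mem_union_right _ hm⟩
    simp only [hm, if_true, sub_zero, neg_zero, WithZero.exp_zero] at this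
    exact this
  have hy₁ : ∀ σ : K' ≃ₐ[K] K', Q₁.1 (σ y) = 1 := by
    intro σ
    have hm : galPlace σ Q₁ ∈ S₁ := Finset.mem_image.2 ⟨σ, Finset.mem_univ _, rfl⟩
    have := hy ⟨galPlace σ Q₁, Finset.mem_union_left _ hm⟩
    simp only [hdisj σ, if_false, neg_zero, WithZero.exp_zero] at this
    have h2 : (galPlace σ Q₁).1 y = (galPlace σ Q₁).1 (1 + (y - 1)) := by ring_nf
    have h3 := Valuation.map_add_eq_of_lt_left (galPlace σ Q₁).1 (x := 1) (y := y - 1)
      (by rw [map_one]; exact this)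
    rw [← galPlace_apply, h2, h3, map_one]
  have hN := Algebra.norm_eq_prod_automorphisms K y
  have h1 : Q₁.1 (algebraMap K K' (Algebra.norm K y)) = 1 := by
    rw [hN, map_prod]
    exact Finset.prod_eq_one fun σ _ => hy₁ σ
  have h2 : Q₂.1 (algebraMap K K' (Algebra.norm K y)) < 1 := by
    rw [hN, map_prod]
    exact prod_lt_one_withZero _ ⟨1, Finset.mem_univ _⟩ _ fun σ _ => hy₂ σ
  have h3 := h 1 (Algebra.norm K y)
  simp only [Valuation.comap_apply, map_one] at h3
  exact absurd (h3.1 h1.ge) (not_le.2 h2)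

end Galois

open FunFld Polynomial Module IntermediateField
open scoped Pointwise

section Galois2

variable {k K K' : Type*} [Field k] [Field K] [Field K'] [Algebra k K] [Algebra K K']
  [Algebra k K'] [IsScalarTower k K K']

lemma place_eq_of_O_eq {P Q : Place k K} (h : P.O = Q.O) : P = Q := by
  apply place_ext
  intro x
  rw [← Valuation.mem_valuationSubring_iff, ← Valuation.mem_valuationSubring_iff]
  show x ∈ P.O ↔ x ∈ Q.O
  rw [h]

lemma galPlace_O (σ : K' ≃ₐ[K] K') (Q : Place k K') : (galPlace σ Q).O = σ⁻¹ • Q.O := by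
  ext x
  rw [ValuationSubring.mem_pointwise_smul_iff_inv_smul_mem, inv_inv]
  rfl

lemma mem_decomp_iff (σ : K' ≃ₐ[K] K') (Q : Place k K') :
    σ ∈ Q.O.decompositionSubgroup K ↔ galPlace σ Q = Q := by
  rw [MulAction.mem_stabilizer_iff]
  constructor
  · intro h
    apply place_eq_of_O_eq
    rw [galPlace_O]
    conv_lhs => rw [← h]
    rw [inv_smul_smul]
  · intro h
    have h1 := congrArg Place.O h
    rw [galPlace_O] at h1
    conv_lhs => rw [← h1]
    rw [smul_inv_smul]

lemma isOverWith_galPlace {Q : Place k K'} {P : Place k K} {e : ℕ} (h : IsOverWith Q P e)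
    (σ : K' ≃ₐ[K] K') : IsOverWith (galPlace σ Q) P e := by
  intro x
  rw [galPlace_apply, AlgEquiv.commutes]
  exact h x

lemma isEquiv_of_isOver {Q₁ Q₂ : Place k K'} {P : Place k K} (h₁ : IsOver Q₁ P)
    (h₂ : IsOver Q₂ P) :
    (Q₁.1.comap (algebraMap K K')).IsEquiv (Q₂.1.comap (algebraMap K K')) := by
  obtain ⟨e₁, he₁⟩ := h₁
  obtain ⟨e₂, he₂⟩ := h₂
  intro r s
  simp only [Valuation.comap_apply]
  rw [he₁ r, he₁ s, he₂ r, he₂ s,
    pow_le_pow_iff_left₀ zero_le' zero_le' (isOverWith_pos he₁).ne',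
    pow_le_pow_iff_left₀ zero_le' zero_le' (isOverWith_pos he₂).ne']

variable [FiniteDimensional K K'] [IsGalois K K']

theorem exists_galPlace_of_isOver {Q Q' : Place k K'} {P : Place k K} (h : IsOver Q P)
    (h' : IsOver Q' P) : ∃ σ : K' ≃ₐ[K] K', galPlace σ Q = Q' :=
  exists_galPlace_eq Q Q' (isEquiv_of_isOver h h')

theorem card_over_mul_card_decomp {Q : Place k K'} {P : Place k K} (hQ : IsOver Q P) :
    Nat.card {Q' : Place k K' // IsOver Q' P} * Nat.card (Q.O.decompositionSubgroup K) =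
      finrank K K' := by
  classical
  rw [← IsGalois.card_aut_eq_finrank K K', ← Subgroup.card_mul_index (Q.O.decompositionSubgroup K),
    mul_comm]
  congr 1
  rw [MulAction.index_stabilizer, ← Nat.card_coe_set_eq]
  have hmem : ∀ Q' : {Q' : Place k K' // IsOver Q' P},
      Q'.1.O ∈ MulAction.orbit (K' ≃ₐ[K] K') Q.O := by
    intro Q'
    obtain ⟨σ, hσ⟩ := exists_galPlace_of_isOver hQ Q'.2
    rw [MulAction.mem_orbit_iff]
    exact ⟨σ⁻¹, by rw [← hσ, galPlace_O]⟩
  refine Nat.card_congr (Equiv.ofBijective (fun Q' => ⟨Q'.1.O, hmem Q'⟩) ⟨?_, ?_⟩)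
  · intro Q₁ Q₂ h12
    apply Subtype.ext
    apply place_eq_of_O_eq
    exact congrArg Subtype.val h12
  · rintro ⟨A, hA⟩
    obtain ⟨σ, rfl⟩ := MulAction.mem_orbit_iff.1 hA
    obtain ⟨e, he⟩ := hQ
    refine ⟨⟨galPlace σ⁻¹ Q, ⟨e, isOverWith_galPlace he _⟩⟩, ?_⟩
    apply Subtype.ext
    show (galPlace σ⁻¹ Q).O = σ • Q.O
    rw [galPlace_O, inv_inv]

end Galois2

open FunFld Polynomial Module IntermediateField
open scoped Pointwise

section Galois3

variable {k K K' : Type*} [Field k] [Field K] [Field K'] [Algebra k K] [Algebra K K']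
  [Algebra k K'] [IsScalarTower k K K']

/-- `σ` maps the valuation ring of `galPlace σ Q` isomorphically onto that of `Q`. -/
noncomputable def galPlaceRingEquiv (σ : K' ≃ₐ[K] K') (Q : Place k K') :
    (galPlace σ Q).O ≃+* Q.O where
  toFun x := ⟨σ x, x.2⟩
  invFun y := ⟨σ.symm y, by
    show Q.1 (σ (σ.symm y)) ≤ 1
    rw [σ.apply_symm_apply]; exact y.2⟩
  left_inv x := Subtype.ext (σ.symm_apply_apply x)
  right_inv y := Subtype.ext (σ.apply_symm_apply y)
  map_mul' x y := Subtype.ext (map_mul σ (x : K') y)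
  map_add' x y := Subtype.ext (map_add σ (x : K') y)

theorem deg_galPlace (σ : K' ≃ₐ[K] K') (Q : Place k K') : (galPlace σ Q).deg = Q.deg := by
  let f := galPlaceRingEquiv σ Q
  let e := IsLocalRing.ResidueField.mapEquiv f
  have hf : ∀ (c : k) (x : (galPlace σ Q).O), f (c • x) = c • f x := by
    intro c x
    apply Subtype.ext
    show σ ((algebraMap k K' c) * (x : K')) = algebraMap k K' c * σ (x : K')
    rw [map_mul, IsScalarTower.algebraMap_apply k K K', AlgEquiv.commutes]
  let L : IsLocalRing.ResidueField (galPlace σ Q).O ≃ₗ[k] IsLocalRing.ResidueField Q.O :=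
    { e.toAddEquiv with
      map_smul' := fun c z => by
        obtain ⟨x, rfl⟩ := IsLocalRing.residue_surjective z
        show e (IsLocalRing.residue _ (c • x)) = c • e (IsLocalRing.residue _ x)
        show IsLocalRing.residue _ (f (c • x)) = c • IsLocalRing.residue _ (f x)
        rw [hf]
        rfl }
  exact L.finrank_eq

end Galois3

open FunFld Polynomial Module IntermediateField
open scoped Pointwise

section Galois4

variable {k K K' : Type*} [Field k] [Field K] [Field K'] [Algebra k K] [Algebra K K']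
  [Algebra k K'] [IsScalarTower k K K'] [FiniteDimensional K K'] [IsGalois K K']

theorem galois_conj_over {Q : Place k K'} {P : Place k K} {e : ℕ} (he : IsOverWith Q P e)
    (Q' : Place k K') (hQ' : IsOver Q' P) : IsOverWith Q' P e ∧ Q'.deg = Q.deg := by
  obtain ⟨σ, rfl⟩ := exists_galPlace_of_isOver ⟨e, he⟩ hQ'
  exact ⟨isOverWith_galPlace he σ, deg_galPlace σ Q⟩

theorem card_decomp_mul_deg (hK : IsFunctionField k K) {Q : Place k K'} {P : Place k K} {e : ℕ}
    (he : IsOverWith Q P e) :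
    Nat.card (Q.O.decompositionSubgroup K) * P.deg = e * Q.deg := by
  classical
  obtain ⟨hfin, hsum⟩ := sum_ramIdx_mul_deg (K' := K') hK P
  have h1 := hsum hfin.toFinset (fun Q' => by simp [Set.Finite.mem_toFinset])
  have h2 : ∑ Q' ∈ hfin.toFinset, ramIdx Q' P * Q'.deg = hfin.toFinset.card * (e * Q.deg) := by
    rw [Finset.sum_const_nat]
    intro Q' hQ'
    have hQ'' : IsOver Q' P := by simpa [Set.Finite.mem_toFinset] using hQ'
    obtain ⟨h3, h4⟩ := galois_conj_over he Q' hQ''
    rw [ramIdx_eq h3, h4]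
  have h3 := card_over_mul_card_decomp (K := K) (Q := Q) (P := P) ⟨e, he⟩
  have h4 : Nat.card {Q' : Place k K' // IsOver Q' P} = hfin.toFinset.card := by
    have : Nat.card {Q' : Place k K' // IsOver Q' P} = Nat.card ↥{Q' : Place k K' | IsOver Q' P} := rfl
    rw [this, Nat.card_coe_set_eq, Set.ncard_eq_toFinset_card _ hfin]
  have hpos : 0 < hfin.toFinset.card := by
    apply Finset.card_pos.2
    exact ⟨Q, by simp [Set.Finite.mem_toFinset]; exact ⟨e, he⟩⟩
  rw [h2, ← h3, h4] at h1
  have h5 : hfin.toFinset.card * (e * Q.deg) =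
      hfin.toFinset.card * (Nat.card (Q.O.decompositionSubgroup K) * P.deg) := by
    rw [h1]; ring
  exact (Nat.eq_of_mul_eq_mul_left hpos h5).symm

end Galois4

end Groth.Agent.Helper17.FF
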