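import Mathlib
import Groth.Agent.Lib.Helper17.FF26
namespace Groth.Agent.Helper17.FF

open FunFld Polynomial Module

section Ram

variable {k L : Type*} [Field k] [Field L] [Algebra k L]

lemma coe_eval₂_O (Q : Place k L) (g : k[X]) (xO : Q.O) :
    ((eval₂ (algebraMap k Q.O) xO g : Q.O) : L) = eval₂ (algebraMap k L) (xO : L) g := by
  have := hom_eval₂ g (algebraMap k Q.O) Q.O.subtype xO
  exact this

lemma residue_eval₂_O (Q : Place k L) (g : k[X]) (xO : Q.O) :
    IsLocalRing.residue Q.O (eval₂ (algebraMap k Q.O) xO g) =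
      aeval (IsLocalRing.residue Q.O xO) g := by
  have := hom_eval₂ g (algebraMap k Q.O) (IsLocalRing.residue Q.O) xO
  rw [this, aeval_def]
  rfl

/-- inductive step for ramification groups: a `k`-automorphism in `G_j` (`j ≥ 1`) moving a local
parameter by order `≥ j + 1` lies in `G_{j+1}`, when the residue field is separable over `k`. -/
theorem ram_step (Q : Place k L) [Algebra.IsSeparable k (IsLocalRing.ResidueField Q.O)]
    (σ : L →+* L) (hfix : ∀ c : k, σ (algebraMap k L c) = algebraMap k L c)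
    (j : ℕ) (hj : 1 ≤ j)
    (hσ : ∀ x : L, Q.1 x ≤ 1 → Q.1 (σ x - x) ≤ WithZero.exp (-(j : ℤ)))
    (t : L) (ht : Q.1 t = WithZero.exp (-1 : ℤ))
    (hσt : Q.1 (σ t - t) ≤ WithZero.exp (-((j + 1 : ℕ) : ℤ))) :
    ∀ x : L, Q.1 x ≤ 1 → Q.1 (σ x - x) ≤ WithZero.exp (-((j + 1 : ℕ) : ℤ)) := by
  intro x hx
  have hexpj : (WithZero.exp (-(j : ℤ)) : WithZero (Multiplicative ℤ)) ≤ 1 := by
    rw [← WithZero.exp_zero, WithZero.exp_le_exp]; omega
  have hδ : Q.1 (σ x - x) ≤ WithZero.exp (-(j : ℤ)) := hσ x hx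
  have hσx : Q.1 (σ x) ≤ 1 := by
    have : σ x = x + (σ x - x) := by ring
    rw [this]
    exact (Q.1.map_add _ _).trans (max_le hx (hδ.trans hexpj))
  set xO : Q.O := ⟨x, hx⟩ with hxO
  set δO : Q.O := ⟨σ x - x, hδ.trans hexpj⟩ with hδO
  set xbar := IsLocalRing.residue Q.O xO with hxbar
  set g : k[X] := minpoly k xbar with hg
  have hsep : g.Separable := Algebra.IsSeparable.isSeparable k xbar
  have hroot : aeval xbar g = 0 := minpoly.aeval k xbar
  have hder : aeval xbar (derivative g) ≠ 0 := hsep.aeval_derivative_ne_zero hroot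
  -- `g(x) = t w`
  have hgx : Q.1 (eval₂ (algebraMap k L) x g) < 1 := by
    rw [← coe_eval₂_O Q g xO, ← mem_maximalIdeal_iff, ← IsLocalRing.residue_eq_zero_iff,
      residue_eval₂_O]
    exact hroot
  have ht0 : t ≠ 0 := fun h => by
    rw [h, map_zero] at ht; exact WithZero.exp_ne_zero ht.symm
  set w : L := eval₂ (algebraMap k L) x g / t with hw
  have hwt : eval₂ (algebraMap k L) x g = t * w := by rw [hw]; field_simp
  have hgx' : Q.1 (eval₂ (algebraMap k L) x g) ≤ WithZero.exp (-1 : ℤ) := by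
    have h0 := (val_lt_exp_iff_le Q (eval₂ (algebraMap k L) x g) 0).1
      (by rw [WithZero.exp_zero]; exact hgx)
    simpa using h0
  have hw1 : Q.1 w ≤ 1 := by
    rw [hw, map_div₀, ht, div_le_one₀ WithZero.exp_pos]
    exact hgx'
  -- `σ (g x) = g (σ x)`
  have hσg : σ (eval₂ (algebraMap k L) x g) = eval₂ (algebraMap k L) (σ x) g := by
    rw [hom_eval₂]
    congr 1
    ext c
    exact hfix c
  -- valuation of `σ (t w) - t w`
  have hσt1 : Q.1 (σ t) ≤ WithZero.exp (-1 : ℤ) := by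
    have h0 : σ t = t + (σ t - t) := by ring
    rw [h0]
    refine (Q.1.map_add _ _).trans (max_le ht.le (hσt.trans ?_))
    rw [WithZero.exp_le_exp]; push_cast; omega
  have hdiff : Q.1 (eval₂ (algebraMap k L) (σ x) g - eval₂ (algebraMap k L) x g) ≤
      WithZero.exp (-((j + 1 : ℕ) : ℤ)) := by
    rw [← hσg, hwt, map_mul]
    have h0 : σ t * σ w - t * w = σ t * (σ w - w) + w * (σ t - t) := by ring
    rw [h0]
    refine (Q.1.map_add _ _).trans (max_le ?_ ?_)
    · rw [map_mul]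
      calc Q.1 (σ t) * Q.1 (σ w - w) ≤ WithZero.exp (-1 : ℤ) * WithZero.exp (-(j : ℤ)) :=
            mul_le_mul' hσt1 (hσ w hw1)
        _ = WithZero.exp (-((j + 1 : ℕ) : ℤ)) := by
            rw [← WithZero.exp_add]; congr 1; push_cast; ring
    · rw [map_mul]
      calc Q.1 w * Q.1 (σ t - t) ≤ 1 * WithZero.exp (-((j + 1 : ℕ) : ℤ)) := mul_le_mul' hw1 hσt
        _ = _ := one_mul _
  -- Taylor expansion in `O_Q`
  obtain ⟨c, hc⟩ := binomExpansion (g.map (algebraMap k Q.O)) xO δO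
  rw [eval_map, eval_map, derivative_map, eval_map] at hc
  have hc' := congrArg (fun z : Q.O => (z : L)) hc
  beta_reduce at hc'
  push_cast at hc'
  rw [coe_eval₂_O, coe_eval₂_O, coe_eval₂_O] at hc'
  have hsum : ((xO + δO : Q.O) : L) = σ x := by
    show x + (σ x - x) = σ x
    ring
  rw [hsum] at hc'
  -- the derivative is a unit
  set u : Q.O := eval₂ (algebraMap k Q.O) xO (derivative g) with hu
  have huunit : Q.1 (u : L) = 1 := by
    rw [← isUnit_iff]
    by_contra hnu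
    have h1 : u ∈ IsLocalRing.maximalIdeal Q.O := (IsLocalRing.mem_maximalIdeal _).2 hnu
    have h2 := (IsLocalRing.residue_eq_zero_iff _).2 h1
    rw [hu, residue_eval₂_O] at h2
    exact hder h2
  rw [← coe_eval₂_O Q (derivative g) xO] at hc'
  have hδL : ((δO : Q.O) : L) = σ x - x := rfl
  rw [hδL] at hc'
  -- `u δ = (g(σ x) - g(x)) - c δ²`
  have hkey : (u : L) * (σ x - x) = (eval₂ (algebraMap k L) (σ x) g - eval₂ (algebraMap k L) x g) -
      (c : L) * (σ x - x) ^ 2 := by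
    rw [hc']; ring
  have hsq : Q.1 ((c : L) * (σ x - x) ^ 2) ≤ WithZero.exp (-((j + 1 : ℕ) : ℤ)) := by
    rw [map_mul, map_pow]
    calc Q.1 (c : L) * Q.1 (σ x - x) ^ 2 ≤ 1 * WithZero.exp (-(j : ℤ)) ^ 2 :=
          mul_le_mul' c.2 (pow_le_pow_left₀ zero_le hδ 2)
      _ = WithZero.exp (-(j : ℤ)) ^ 2 := one_mul _
      _ ≤ WithZero.exp (-((j + 1 : ℕ) : ℤ)) := by
          rw [← WithZero.exp_nsmul, WithZero.exp_le_exp]
          simp only [nsmul_eq_mul]
          push_cast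
          nlinarith
  have hfin : Q.1 ((u : L) * (σ x - x)) ≤ WithZero.exp (-((j + 1 : ℕ) : ℤ)) := by
    rw [hkey]
    exact (Q.1.map_sub _ _).trans (max_le hdiff hsq)
  rwa [map_mul, huunit, one_mul] at hfin

theorem ram_iff (Q : Place k L) [Algebra.IsSeparable k (IsLocalRing.ResidueField Q.O)]
    (σ : L →+* L) (hfix : ∀ c : k, σ (algebraMap k L c) = algebraMap k L c)
    (hσ : ∀ x : L, Q.1 x ≤ 1 → Q.1 (σ x - x) ≤ WithZero.exp (-(1 : ℤ)))
    (t : L) (ht : Q.1 t = WithZero.exp (-1 : ℤ)) (j : ℕ) (hj : 1 ≤ j) :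
    (∀ x : L, Q.1 x ≤ 1 → Q.1 (σ x - x) ≤ WithZero.exp (-(j : ℤ))) ↔
      Q.1 (σ t - t) ≤ WithZero.exp (-(j : ℤ)) := by
  have ht1 : Q.1 t ≤ 1 := by
    rw [ht, ← WithZero.exp_zero, WithZero.exp_le_exp]; omega
  refine ⟨fun h => h t ht1, ?_⟩
  induction j, hj using Nat.le_induction with
  | base => intro _; simpa using hσ
  | succ n hn ih =>
    intro h
    have h1 : Q.1 (σ t - t) ≤ WithZero.exp (-(n : ℤ)) := by
      refine h.trans ?_
      rw [WithZero.exp_le_exp]; push_cast; omega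
    exact ram_step Q σ hfix n hn (ih h1) t ht h

end Ram
end Groth.Agent.Helper17.FF
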