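import Mathlib
import Groth.Agent.Lib.Helper17.FFRam
import Groth.Agent.Lib.Helper17.FFGal
namespace Groth.Agent.Helper17.FF

open FunFld Polynomial Module

section Ram2

variable {k K K' : Type*} [Field k] [Field K] [Field K'] [Algebra k K] [Algebra K K']
  [Algebra k K'] [IsScalarTower k K K']

/-- membership in the `j`-th ramification group (numbering of the statements: `G₁` is inertia) -/
def InG (Q : Place k K') (j : ℕ) (σ : K' ≃ₐ[K] K') : Prop :=
  ∀ x : K', Q.1 x ≤ 1 → Q.1 (σ x - x) ≤ WithZero.exp (-(j : ℤ))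

lemma inG_mono (Q : Place k K') {i j : ℕ} (hij : i ≤ j) {σ : K' ≃ₐ[K] K'} (h : InG Q j σ) :
    InG Q i σ := by
  intro x hx
  refine (h x hx).trans ?_
  rw [WithZero.exp_le_exp]; omega

lemma inG_one_mem (Q : Place k K') (j : ℕ) : InG Q j (1 : K' ≃ₐ[K] K') := by
  intro x _
  simp

lemma exp_neg_le_one (j : ℕ) : (WithZero.exp (-(j : ℤ)) : WithZero (Multiplicative ℤ)) ≤ 1 := by
  rw [← WithZero.exp_zero, WithZero.exp_le_exp]; omega

lemma inG_apply_le_one (Q : Place k K') {j : ℕ} {σ : K' ≃ₐ[K] K'} (h : InG Q j σ) {x : K'}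
    (hx : Q.1 x ≤ 1) : Q.1 (σ x) ≤ 1 := by
  have : σ x = x + (σ x - x) := by ring
  rw [this]
  exact (Q.1.map_add _ _).trans (max_le hx ((h x hx).trans (exp_neg_le_one j)))

lemma inG_pow_apply_le_one (Q : Place k K') {j : ℕ} {σ : K' ≃ₐ[K] K'} (h : InG Q j σ) (n : ℕ)
    {x : K'} (hx : Q.1 x ≤ 1) : Q.1 ((σ ^ n) x) ≤ 1 := by
  induction n with
  | zero => simpa using hx
  | succ n ih =>
    rw [pow_succ', AlgEquiv.mul_apply]
    exact inG_apply_le_one Q h ih

variable [FiniteDimensional K K']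

lemma galPlace_eq_of_inG (Q : Place k K') {j : ℕ} {σ : K' ≃ₐ[K] K'} (h : InG Q j σ) :
    galPlace σ Q = Q := by
  apply place_ext
  intro x
  rw [galPlace_apply]
  refine ⟨fun hx => ?_, fun hx => inG_apply_le_one Q h hx⟩
  obtain ⟨n, hn, hn1⟩ := (isOfFinOrder_of_finite σ).exists_pow_eq_one
  have h1 := inG_pow_apply_le_one Q h (n - 1) hx
  have h2 : (σ ^ (n - 1)) (σ x) = x := by
    rw [← AlgEquiv.mul_apply, ← pow_succ, Nat.sub_add_cancel hn, hn1]
    rfl
  rwa [h2] at h1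

lemma val_apply_of_inG (Q : Place k K') {j : ℕ} {σ : K' ≃ₐ[K] K'} (h : InG Q j σ) (x : K') :
    Q.1 (σ x) = Q.1 x := by
  have := congrArg (fun P : Place k K' => P.1 x) (galPlace_eq_of_inG Q h)
  simpa using this

lemma inG_mul (Q : Place k K') {j : ℕ} {σ τ : K' ≃ₐ[K] K'} (hσ : InG Q j σ) (hτ : InG Q j τ) :
    InG Q j (σ * τ) := by
  intro x hx
  have h0 : (σ * τ) x - x = σ (τ x - x) + (σ x - x) := by
    rw [AlgEquiv.mul_apply, map_sub]; ring
  rw [h0]
  refine (Q.1.map_add _ _).trans (max_le ?_ (hσ x hx))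
  rw [val_apply_of_inG Q hσ]
  exact hτ x hx

lemma inG_inv (Q : Place k K') {j : ℕ} {σ : K' ≃ₐ[K] K'} (hσ : InG Q j σ) :
    InG Q j σ⁻¹ := by
  intro x hx
  have h0 : Q.1 (σ⁻¹ x - x) = Q.1 (σ (σ⁻¹ x - x)) := (val_apply_of_inG Q hσ _).symm
  rw [h0, map_sub]
  have h1 : σ (σ⁻¹ x) = x := by
    rw [← AlgEquiv.mul_apply, mul_inv_cancel]; rfl
  rw [h1, ← Valuation.map_neg, neg_sub]
  exact hσ x hx

/-- the ramification groups as subgroups -/
def ramGroup (Q : Place k K') (j : ℕ) : Subgroup (K' ≃ₐ[K] K') where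
  carrier := {σ | InG Q j σ}
  mul_mem' := fun ha hb => inG_mul Q ha hb
  one_mem' := inG_one_mem Q j
  inv_mem' := fun ha => inG_inv Q ha

lemma mem_ramGroup (Q : Place k K') (j : ℕ) (σ : K' ≃ₐ[K] K') :
    σ ∈ ramGroup (K := K) Q j ↔ InG Q j σ := Iff.rfl

end Ram2

section Ram3

variable {k L : Type*} [Field k] [Field L] [Algebra k L]

/-- `σ ∈ G_j` moves elements of `m^n` by elements of `m^{n+j-1}`. -/
lemma val_sub_le_of_inG (Q : Place k L) (σ : L →+* L) (j : ℕ) (hj : 1 ≤ j)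
    (hσ : ∀ x : L, Q.1 x ≤ 1 → Q.1 (σ x - x) ≤ WithZero.exp (-(j : ℤ)))
    (t : L) (ht : Q.1 t = WithZero.exp (-1 : ℤ)) (n : ℕ) :
    ∀ y : L, Q.1 y ≤ WithZero.exp (-(n : ℤ)) →
      Q.1 (σ y - y) ≤ WithZero.exp (-((n : ℤ) + j - 1)) := by
  have ht0 : t ≠ 0 := fun h => by
    rw [h, map_zero] at ht; exact WithZero.exp_ne_zero ht.symm
  have ht1 : Q.1 t ≤ 1 := by
    rw [ht, ← WithZero.exp_zero, WithZero.exp_le_exp]; omega
  have hσt : Q.1 (σ t) ≤ WithZero.exp (-1 : ℤ) := by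
    have h0 : σ t = t + (σ t - t) := by ring
    rw [h0]
    refine (Q.1.map_add _ _).trans (max_le ht.le ((hσ t ht1).trans ?_))
    rw [WithZero.exp_le_exp]; omega
  induction n with
  | zero =>
    intro y hy
    refine (hσ y (by simpa using hy)).trans ?_
    rw [WithZero.exp_le_exp]; push_cast; omega
  | succ n ih =>
    intro y hy
    set z : L := y / t with hz
    have hyz : y = t * z := by rw [hz]; field_simp
    have hzv : Q.1 z ≤ WithZero.exp (-(n : ℤ)) := by
      rw [hz, map_div₀, ht, div_le_iff₀ WithZero.exp_pos, ← WithZero.exp_add]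
      refine hy.trans ?_
      rw [WithZero.exp_le_exp]; push_cast; omega
    have h0 : σ y - y = σ t * (σ z - z) + z * (σ t - t) := by
      rw [hyz, map_mul]; ring
    rw [h0]
    refine (Q.1.map_add _ _).trans (max_le ?_ ?_)
    · rw [map_mul]
      calc Q.1 (σ t) * Q.1 (σ z - z) ≤
            WithZero.exp (-1 : ℤ) * WithZero.exp (-((n : ℤ) + j - 1)) :=
            mul_le_mul' hσt (ih z hzv)
        _ = _ := by rw [← WithZero.exp_add]; congr 1; push_cast; ring
    · rw [map_mul]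
      calc Q.1 z * Q.1 (σ t - t) ≤ WithZero.exp (-(n : ℤ)) * WithZero.exp (-(j : ℤ)) :=
            mul_le_mul' hzv (hσ t ht1)
        _ = _ := by rw [← WithZero.exp_add]; congr 1; push_cast; ring

end Ram3

open FunFld Polynomial Module

section Theta

variable {k K K' : Type*} [Field k] [Field K] [Field K'] [Algebra k K] [Algebra K K']
  [Algebra k K'] [IsScalarTower k K K'] [FiniteDimensional K K']

lemma residue_eq_iff (Q : Place k K') (a b : Q.O) :
    IsLocalRing.residue Q.O a = IsLocalRing.residue Q.O b ↔ Q.1 ((a : K') - b) < 1 := by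
  rw [← sub_eq_zero, ← map_sub, IsLocalRing.residue_eq_zero_iff, mem_maximalIdeal_iff]
  rfl

lemma val_apply_div_self (Q : Place k K') {σ : K' ≃ₐ[K] K'} (hσ : InG Q 1 σ) {t : K'}
    (ht : Q.1 t = WithZero.exp (-1 : ℤ)) : Q.1 (σ t / t) = 1 := by
  rw [map_div₀, val_apply_of_inG Q hσ, div_self]
  rw [ht]; exact WithZero.exp_ne_zero

/-- the tame character `G₁ → F_Q^×`, `σ ↦ σ t / t`. -/
noncomputable def theta1 (Q : Place k K') (t : K') (ht : Q.1 t = WithZero.exp (-1 : ℤ)) :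
    ramGroup (K := K) Q 1 →* (IsLocalRing.ResidueField Q.O)ˣ where
  toFun σ := Units.mk0 (IsLocalRing.residue Q.O ⟨σ.1 t / t, (val_apply_div_self Q σ.2 ht).le⟩) (by
    rw [Ne, IsLocalRing.residue_eq_zero_iff, mem_maximalIdeal_iff]
    show ¬ Q.1 (σ.1 t / t) < 1
    rw [val_apply_div_self Q σ.2 ht]
    exact lt_irrefl _)
  map_one' := by
    apply Units.ext
    show IsLocalRing.residue Q.O _ = 1
    rw [← map_one (IsLocalRing.residue Q.O), residue_eq_iff]
    have ht0 : t ≠ 0 := fun h => by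
      rw [h, map_zero] at ht; exact WithZero.exp_ne_zero ht.symm
    show Q.1 ((1 : K' ≃ₐ[K] K') t / t - 1) < 1
    rw [AlgEquiv.one_apply, div_self ht0, sub_self, map_zero]
    exact zero_lt_one
  map_mul' σ τ := by
    apply Units.ext
    show IsLocalRing.residue Q.O _ = IsLocalRing.residue Q.O _ * IsLocalRing.residue Q.O _
    rw [← map_mul, residue_eq_iff]
    have ht0 : t ≠ 0 := fun h => by
      rw [h, map_zero] at ht; exact WithZero.exp_ne_zero ht.symm
    show Q.1 ((σ.1 * τ.1) t / t - (σ.1 t / t) * (τ.1 t / t)) < 1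
    have h0 : (σ.1 * τ.1) t / t - (σ.1 t / t) * (τ.1 t / t) =
        (σ.1 t / t) * (σ.1 (τ.1 t / t) - τ.1 t / t) := by
      rw [AlgEquiv.mul_apply, map_div₀]
      have : σ.1 t ≠ 0 := fun h => ht0 (by simpa using h)
      field_simp
    rw [h0, map_mul, val_apply_div_self Q σ.2 ht, one_mul]
    refine lt_of_le_of_lt (σ.2 _ (val_apply_div_self Q τ.2 ht).le) ?_
    rw [← WithZero.exp_zero, WithZero.exp_lt_exp]; omega

lemma theta1_eq_one_iff (Q : Place k K') [Algebra.IsSeparable k (IsLocalRing.ResidueField Q.O)]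
    (t : K') (ht : Q.1 t = WithZero.exp (-1 : ℤ)) (σ : ramGroup (K := K) Q 1) :
    theta1 Q t ht σ = 1 ↔ InG Q 2 σ.1 := by
  have ht0 : t ≠ 0 := fun h => by
    rw [h, map_zero] at ht; exact WithZero.exp_ne_zero ht.symm
  have hfix : ∀ c : k, (σ.1 : K' →+* K') (algebraMap k K' c) = algebraMap k K' c := fun c => by
    rw [IsScalarTower.algebraMap_apply k K K']
    exact σ.1.commutes _
  have h1 := ram_iff Q (σ.1 : K' →+* K') hfix (fun x hx => by simpa using (mem_ramGroup Q 1 σ.1).1 σ.2 x hx) t ht 2 (by omega)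
  have h2 : theta1 Q t ht σ = 1 ↔ Q.1 (σ.1 t / t - 1) < 1 := by
    rw [← Units.val_inj]
    show IsLocalRing.residue Q.O _ = 1 ↔ _
    rw [← map_one (IsLocalRing.residue Q.O), residue_eq_iff]
    rfl
  rw [h2]
  have h3 : σ.1 t / t - 1 = (σ.1 t - t) / t := by field_simp
  rw [h3, map_div₀, ht, div_lt_one₀ WithZero.exp_pos, val_lt_exp_iff_le]
  exact h1.symm

theorem exists_generator_G1_mod_G2 (Q : Place k K')
    [Algebra.IsSeparable k (IsLocalRing.ResidueField Q.O)] :
    ∃ σ₀ : K' ≃ₐ[K] K', InG Q 1 σ₀ ∧ ∀ σ : K' ≃ₐ[K] K', InG Q 1 σ →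
      ∃ n : ℕ, InG Q 2 ((σ₀ ^ n)⁻¹ * σ) := by
  obtain ⟨t, ht⟩ := Q.2.2 (WithZero.exp (-1 : ℤ))
  let θ := theta1 (K := K) Q t ht
  have hfin : Finite θ.range := by
    have := Set.finite_range θ
    rw [← MonoidHom.coe_range] at this
    exact this.to_subtype
  have : IsCyclic θ.range := inferInstance
  obtain ⟨⟨g, ⟨σ₀, hσ₀⟩⟩, hg⟩ := IsCyclic.exists_generator (α := θ.range)
  refine ⟨σ₀.1, σ₀.2, fun σ hσ => ?_⟩
  have hmem := hg ⟨θ ⟨σ, hσ⟩, ⟨_, rfl⟩⟩
  rw [← (isOfFinOrder_of_finite _).mem_powers_iff_mem_zpowers] at hmem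
  obtain ⟨n, hn⟩ := hmem
  refine ⟨n, ?_⟩
  have hn' : g ^ n = θ ⟨σ, hσ⟩ := by
    have := congrArg Subtype.val hn
    simpa using this
  have h1 : θ ((σ₀ ^ n)⁻¹ * ⟨σ, hσ⟩) = 1 := by
    rw [map_mul, map_inv, map_pow, hσ₀, hn', inv_mul_cancel]
  exact (theta1_eq_one_iff Q t ht _).1 h1

end Theta

open FunFld Polynomial Module

section Psi

variable {k K K' : Type*} [Field k] [Field K] [Field K'] [Algebra k K] [Algebra K K']
  [Algebra k K'] [IsScalarTower k K K'] [FiniteDimensional K K']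

/-- the fractional ideal `m^n` as an additive subgroup -/
def valBall (Q : Place k K') (n : ℤ) : AddSubgroup K' where
  carrier := {y | Q.1 y ≤ WithZero.exp (-n)}
  zero_mem' := by simp
  add_mem' := fun ha hb => (Q.1.map_add _ _).trans (max_le ha hb)
  neg_mem' := fun ha => by
    show Q.1 (- _) ≤ _
    rw [Valuation.map_neg]; exact ha

lemma mem_valBall (Q : Place k K') (n : ℤ) (y : K') :
    y ∈ valBall Q n ↔ Q.1 y ≤ WithZero.exp (-n) := Iff.rfl

/-- the wild character `G_i → m^i / m^{i+1}`, `σ ↦ σ t - t`, for `i ≥ 2`. -/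
noncomputable def psi (Q : Place k K') (i : ℕ) (hi : 2 ≤ i) (t : K')
    (ht : Q.1 t = WithZero.exp (-1 : ℤ)) :
    ramGroup (K := K) Q i →* Multiplicative (K' ⧸ valBall Q ((i : ℤ) + 1)) where
  toFun σ := Multiplicative.ofAdd (QuotientAddGroup.mk (σ.1 t - t))
  map_one' := by
    show Multiplicative.ofAdd (QuotientAddGroup.mk ((1 : K' ≃ₐ[K] K') t - t)) = 1
    rw [AlgEquiv.one_apply, sub_self]
    rfl
  map_mul' σ τ := by
    rw [← ofAdd_add, ← QuotientAddGroup.mk_add]
    congr 1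
    rw [eq_comm, QuotientAddGroup.eq, mem_valBall]
    have h0 : -(σ.1 t - t + (τ.1 t - t)) + ((σ * τ : ramGroup (K := K) Q i).1 t - t) =
        σ.1 (τ.1 t - t) - (τ.1 t - t) := by
      show -(σ.1 t - t + (τ.1 t - t)) + ((σ.1 * τ.1) t - t) = _
      rw [AlgEquiv.mul_apply, map_sub]; ring
    rw [h0]
    have ht1 : Q.1 t ≤ 1 := by
      rw [ht, ← WithZero.exp_zero, WithZero.exp_le_exp]; omega
    have h1 := val_sub_le_of_inG Q (σ.1 : K' →+* K') i (by omega) σ.2 t ht i (τ.1 t - t)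
      (τ.2 t ht1)
    refine h1.trans ?_
    rw [WithZero.exp_le_exp]
    omega

lemma psi_eq_one_iff (Q : Place k K') [Algebra.IsSeparable k (IsLocalRing.ResidueField Q.O)]
    (i : ℕ) (hi : 2 ≤ i) (t : K')
    (ht : Q.1 t = WithZero.exp (-1 : ℤ)) (σ : ramGroup (K := K) Q i) :
    psi Q i hi t ht σ = 1 ↔ InG Q (i + 1) σ.1 := by
  have hfix : ∀ c : k, (σ.1 : K' →+* K') (algebraMap k K' c) = algebraMap k K' c := fun c => by
    rw [IsScalarTower.algebraMap_apply k K K']
    exact σ.1.commutes _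
  have h1 := ram_iff Q (σ.1 : K' →+* K') hfix
    (fun x hx => by simpa using inG_mono Q (by omega : 1 ≤ i) σ.2 x hx) t ht (i + 1) (by omega)
  have h2 : psi Q i hi t ht σ = 1 ↔ Q.1 (σ.1 t - t) ≤ WithZero.exp (-((i : ℤ) + 1)) := by
    show Multiplicative.ofAdd (QuotientAddGroup.mk (σ.1 t - t)) = 1 ↔ _
    rw [ofAdd_eq_one, QuotientAddGroup.eq_zero_iff, mem_valBall]
  rw [h2]
  have h3 : ((i + 1 : ℕ) : ℤ) = (i : ℤ) + 1 := by push_cast; ring
  rw [h3] at h1
  exact h1.symm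

theorem ram_quotient_elementary (Q : Place k K')
    [Algebra.IsSeparable k (IsLocalRing.ResidueField Q.O)]
    (i : ℕ) (hi : 2 ≤ i) (σ τ : K' ≃ₐ[K] K') (hσ : InG Q i σ) (hτ : InG Q i τ) :
    InG Q (i + 1) (σ * τ * σ⁻¹ * τ⁻¹) ∧ (ringChar K = 0 → InG Q (i + 1) σ) ∧
      ∀ p : ℕ, p.Prime → ringChar K = p → InG Q (i + 1) (σ ^ p) := by
  obtain ⟨t, ht⟩ := Q.2.2 (WithZero.exp (-1 : ℤ))
  let ψ := psi (K := K) Q i hi t ht
  let σ' : ramGroup (K := K) Q i := ⟨σ, hσ⟩
  let τ' : ramGroup (K := K) Q i := ⟨τ, hτ⟩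
  refine ⟨?_, ?_, ?_⟩
  · have h1 : ψ (σ' * τ' * σ'⁻¹ * τ'⁻¹) = 1 := by
      rw [map_mul, map_mul, map_mul, map_inv, map_inv, mul_inv_cancel_comm, mul_inv_cancel]
    exact (psi_eq_one_iff Q i hi t ht _).1 h1
  · intro h0
    have hchar : CharZero K := by
      have : CharP K 0 := by
        have := ringChar.charP K
        rwa [h0] at this
      exact CharP.charP_to_charZero K
    have hcharK' : CharZero K' := charZero_of_injective_algebraMap (algebraMap K K').injective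
    have hchark : CharZero k := by
      have hinj : Function.Injective (algebraMap k K') := (algebraMap k K').injective
      refine ⟨fun a b hab => ?_⟩
      have h2 : (a : K') = (b : K') := by
        rw [← map_natCast (algebraMap k K') a, ← map_natCast (algebraMap k K') b]
        exact congrArg _ hab
      exact_mod_cast h2
    obtain ⟨n, hn, hn1⟩ := (isOfFinOrder_of_finite σ).exists_pow_eq_one
    have h1 : ψ (σ' ^ n) = 1 := by
      have : σ' ^ n = 1 := by
        apply Subtype.ext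
        show σ ^ n = 1
        exact hn1
      rw [this, map_one]
    rw [map_pow] at h1
    have h2 : (ψ σ') ^ n = Multiplicative.ofAdd (QuotientAddGroup.mk ((n : K') * (σ t - t))) := by
      show (Multiplicative.ofAdd (QuotientAddGroup.mk (σ t - t) :
        K' ⧸ valBall Q ((i : ℤ) + 1))) ^ n = _
      rw [← ofAdd_nsmul, ← QuotientAddGroup.mk_nsmul, nsmul_eq_mul]
    rw [h2, ofAdd_eq_one, QuotientAddGroup.eq_zero_iff, mem_valBall, map_mul] at h1
    have hnv : Q.1 (n : K') = 1 := by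
      rw [← map_natCast (algebraMap k K') n]
      exact val_const Q (by exact_mod_cast hn.ne')
    rw [hnv, one_mul] at h1
    have h3 : ψ σ' = 1 := by
      show Multiplicative.ofAdd (QuotientAddGroup.mk (σ t - t)) = 1
      rw [ofAdd_eq_one, QuotientAddGroup.eq_zero_iff, mem_valBall]
      exact h1
    exact (psi_eq_one_iff Q i hi t ht _).1 h3
  · intro p hp hpK
    have hcharK : CharP K p := by
      have := ringChar.charP K
      rwa [hpK] at this
    have hcharK' : CharP K' p := charP_of_injective_algebraMap (algebraMap K K').injective p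
    have h1 : ψ (σ' ^ p) = 1 := by
      rw [map_pow]
      show (Multiplicative.ofAdd (QuotientAddGroup.mk (σ t - t) :
        K' ⧸ valBall Q ((i : ℤ) + 1))) ^ p = 1
      rw [← ofAdd_nsmul, ← QuotientAddGroup.mk_nsmul, nsmul_eq_mul, CharP.cast_eq_zero K' p,
        zero_mul]
      rfl
    exact (psi_eq_one_iff Q i hi t ht _).1 h1

end Psi

end Groth.Agent.Helper17.FF
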