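import Mathlib
import Groth.Agent.Lib.Helper17.FFGal
import Groth.Agent.Lib.Helper17.FFRam2
namespace Groth.Agent.Helper17.FF

open FunFld Polynomial Module IntermediateField

section ResMap

variable {k K K' : Type*} [Field k] [Field K] [Field K'] [Algebra k K] [Algebra K K']
  [Algebra k K'] [IsScalarTower k K K']

/-- the inclusion `O_P → O_Q` -/
def ringIncl {Q : Place k K'} {P : Place k K} {e : ℕ} (he : IsOverWith Q P e) : P.O →+* Q.O where
  toFun x := ⟨algebraMap K K' x, (isOverWith_le_one_iff he _).2 x.2⟩
  map_one' := Subtype.ext (map_one _)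
  map_mul' x y := Subtype.ext (map_mul _ _ _)
  map_zero' := Subtype.ext (map_zero _)
  map_add' x y := Subtype.ext (map_add _ _ _)

instance isLocalHom_ringIncl {Q : Place k K'} {P : Place k K} {e : ℕ} (he : IsOverWith Q P e) :
    IsLocalHom (ringIncl he) := by
  constructor
  intro x hx
  rw [isUnit_iff] at hx ⊢
  have h1 : Q.1 (algebraMap K K' (x : K)) = 1 := hx
  rw [he] at h1
  exact (pow_eq_one_iff_of_nonneg zero_le (isOverWith_pos he).ne').1 h1

/-- the residue field extension `F_P → F_Q` -/
noncomputable def resMap {Q : Place k K'} {P : Place k K} {e : ℕ} (he : IsOverWith Q P e) :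
    IsLocalRing.ResidueField P.O →ₐ[k] IsLocalRing.ResidueField Q.O :=
  { IsLocalRing.ResidueField.map (ringIncl he) with
    commutes' := fun c => by
      show IsLocalRing.ResidueField.map (ringIncl he) (IsLocalRing.residue P.O (algebraMap k P.O c)) =
        IsLocalRing.residue Q.O (algebraMap k Q.O c)
      rw [IsLocalRing.ResidueField.map_residue]
      congr 1
      apply Subtype.ext
      exact (IsScalarTower.algebraMap_apply k K K' c).symm }

lemma resMap_residue {Q : Place k K'} {P : Place k K} {e : ℕ} (he : IsOverWith Q P e) (x : P.O) :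
    resMap he (IsLocalRing.residue P.O x) = IsLocalRing.residue Q.O (ringIncl he x) :=
  IsLocalRing.ResidueField.map_residue _ _

lemma finrank_fieldRange_resMap {Q : Place k K'} {P : Place k K} {e : ℕ}
    (he : IsOverWith Q P e) : finrank k (resMap he).fieldRange = P.deg :=
  (AlgEquiv.ofInjectiveField (resMap he)).toLinearEquiv.finrank_eq.symm

attribute [-instance] IsLocalRing.instModuleResidueFieldOfAlgebra in
lemma deg_eq_mul_finrank_fieldRange {Q : Place k K'} {P : Place k K} {e : ℕ}
    (he : IsOverWith Q P e) :
    Q.deg = P.deg * finrank (resMap he).fieldRange (IsLocalRing.ResidueField Q.O) := by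
  rw [← finrank_fieldRange_resMap he]
  show Module.finrank k (IsLocalRing.ResidueField Q.O) = _
  exact (Module.finrank_mul_finrank k (resMap he).fieldRange (IsLocalRing.ResidueField Q.O)).symm

end ResMap

end Groth.Agent.Helper17.FF
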