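import Mathlib
import Groth.Agent.Lib.Helper17.FFGal
namespace Groth.Agent.Helper17.FF

open FunFld Polynomial Module IntermediateField

universe u v w

section Wk

/-- a field finite over a function field: a function field over its own constants, which are finite
over `k`. -/
structure IsWeakFF (k : Type u) (M : Type v) [Field k] [Field M] [Algebra k M] : Prop where
  ff : IsFunctionField (algebraicClosure k M) M
  fin : FiniteDimensional k (algebraicClosure k M)

variable {k : Type u} {M : Type v} {L : Type w} [Field k] [Field M] [Field L] [Algebra k M]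
  [Algebra M L] [Algebra k L] [IsScalarTower k M L]

lemma isWeakFF_of_finite {K : Type*} [Field K] [Algebra k K] [Algebra K M] [IsScalarTower k K M]
    [FiniteDimensional K M] (hK : IsFunctionField k K) : IsWeakFF k M :=
  ⟨isFunctionField_algebraicClosure hK, finite_algebraicClosure hK⟩

lemma IsWeakFF.of_isFunctionField (hM : IsFunctionField k M) : IsWeakFF k M :=
  isWeakFF_of_finite (K := M) hM

theorem wk_residue_finite (hM : IsWeakFF k M) (P : Place k M) :
    FiniteDimensional k (IsLocalRing.ResidueField P.O) := by
  have h1 := residue_finite hM.ff (placeUp (algebraicClosure k M) P)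
  have h2 := hM.fin
  let a0 : Algebra (algebraicClosure k M) P.O := Place.algO (placeUp (algebraicClosure k M) P)
  have : IsScalarTower k (algebraicClosure k M) P.O :=
    IsScalarTower.of_algebraMap_eq (fun c => Subtype.ext
      (IsScalarTower.algebraMap_apply k (algebraicClosure k M) M c))
  have h1' : Module.Finite (algebraicClosure k M) (IsLocalRing.ResidueField P.O) := h1
  exact Module.Finite.trans (algebraicClosure k M) (IsLocalRing.ResidueField P.O)

theorem wk_deg_pos (hM : IsWeakFF k M) (P : Place k M) : 0 < P.deg := by
  have := wk_residue_finite hM P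
  exact Module.finrank_pos

theorem wk_exists_isOverWith [Algebra.IsAlgebraic M L] (hM : IsWeakFF k M) (Q : Place k L) :
    ∃ (P : Place k M) (e : ℕ), IsOverWith Q P e := by
  obtain ⟨P₁, e, he⟩ := exists_isOverWith hM.ff (placeUp (algebraicClosure k M) Q)
  exact ⟨placeDown k P₁, e, he⟩

theorem wk_sum_ramIdx_mul_deg [FiniteDimensional M L] (hM : IsWeakFF k M) (P : Place k M) :
    {Q : Place k L | IsOver Q P}.Finite ∧
    ∀ (Qs : Finset (Place k L)), (∀ Q, Q ∈ Qs ↔ IsOver Q P) →
      (∑ Q ∈ Qs, ramIdx Q P * Q.deg) = finrank M L * P.deg := by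
  classical
  have hfink := hM.fin
  obtain ⟨hfin, hsum⟩ := sum_ramIdx_mul_deg (k := algebraicClosure k M) (K' := L) hM.ff
    (placeUp (algebraicClosure k M) P)
  refine ⟨?_, ?_⟩
  · have : {Q : Place k L | IsOver Q P} = (placeDown k) ''
        {Q₁ : Place (algebraicClosure k M) L | IsOver Q₁ (placeUp (algebraicClosure k M) P)} := by
      ext Q
      constructor
      · intro hQ
        exact ⟨placeUp (algebraicClosure k M) Q, hQ, placeDown_placeUp Q⟩
      · rintro ⟨Q₁, hQ₁, rfl⟩
        exact hQ₁
    rw [this]
    exact hfin.image _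
  · intro Qs hQs
    have h1 := hsum (Qs.map ⟨placeUp (algebraicClosure k M), placeUp_injective⟩) (fun Q₁ => by
      rw [Finset.mem_map]
      constructor
      · rintro ⟨Q, hQ, rfl⟩
        exact (hQs Q).1 hQ
      · intro h
        exact ⟨placeDown k Q₁, (hQs _).2 h, placeUp_placeDown Q₁⟩)
    rw [Finset.sum_map] at h1
    have h2 : ∀ Q ∈ Qs, ramIdx Q P * Q.deg = finrank k (algebraicClosure k M) *
        (ramIdx (placeUp (algebraicClosure k M) Q) (placeUp (algebraicClosure k M) P) *
          (placeUp (algebraicClosure k M) Q).deg) := by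
      intro Q hQ
      obtain ⟨e, he⟩ := (hQs Q).1 hQ
      have he' : IsOverWith (placeUp (algebraicClosure k M) Q)
        (placeUp (algebraicClosure k M) P) e := he
      rw [ramIdx_eq he, ramIdx_eq he', deg_placeUp (k₁ := algebraicClosure k M) Q]
      ring
    rw [Finset.sum_congr rfl h2, ← Finset.mul_sum]
    simp only [Function.Embedding.coeFn_mk] at h1
    rw [h1, deg_placeUp (k₁ := algebraicClosure k M) P]
    ring

theorem wk_card_decomp_mul_deg [FiniteDimensional M L] [IsGalois M L] (hM : IsWeakFF k M)
    {Q : Place k L} {P : Place k M} {e : ℕ} (he : IsOverWith Q P e) :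
    Nat.card (Q.O.decompositionSubgroup M) * P.deg = e * Q.deg := by
  have he' : IsOverWith (placeUp (algebraicClosure k M) Q)
    (placeUp (algebraicClosure k M) P) e := he
  have h1 := card_decomp_mul_deg hM.ff he'
  have h2 : Nat.card ((placeUp (algebraicClosure k M) Q).O.decompositionSubgroup M) =
      Nat.card (Q.O.decompositionSubgroup M) := rfl
  rw [h2] at h1
  rw [deg_placeUp (k₁ := algebraicClosure k M) Q, deg_placeUp (k₁ := algebraicClosure k M) P]
  calc Nat.card (Q.O.decompositionSubgroup M) *
        (finrank k (algebraicClosure k M) * (placeUp (algebraicClosure k M) P).deg)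
      = finrank k (algebraicClosure k M) * (Nat.card (Q.O.decompositionSubgroup M) *
        (placeUp (algebraicClosure k M) P).deg) := by ring
    _ = finrank k (algebraicClosure k M) * (e * (placeUp (algebraicClosure k M) Q).deg) := by
        rw [h1]
    _ = _ := by ring

end Wk

end Groth.Agent.Helper17.FF
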