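import Mathlib
import Groth.Agent.Lib.Helper17.FFIn
import Groth.Agent.Lib.Helper17.FFWk
namespace Groth.Agent.Helper17.FF

universe u v w

open FunFld Polynomial Module IntermediateField

section IC1

variable {L : Type*} [Field L]

lemma exp_neg_natCast_le_one (n : ℕ) :
    (WithZero.exp (-(n : ℤ)) : WithZero (Multiplicative ℤ)) ≤ 1 := by
  rw [← WithZero.exp_zero, WithZero.exp_le_exp]; omega

/-- `s`-adic digits: if `∑_{a<e} C_a s^a` is divisible by `s^e`, with integral `C_a` that are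
either units or divisible by `s^e`, then no `C_a` is a unit. -/
theorem coeffs_small (v : Valuation L (WithZero (Multiplicative ℤ))) (s : L)
    (hs : v s = WithZero.exp (-1 : ℤ)) (e : ℕ) (C : ℕ → L) (H1 : ∀ a, v (C a) ≤ 1)
    (H2 : ∀ a, v (C a) < 1 → v (C a) ≤ WithZero.exp (-(e : ℤ)))
    (hW : v (∑ a ∈ Finset.range e, C a * s ^ a) ≤ WithZero.exp (-(e : ℤ))) :
    ∀ a < e, v (C a) < 1 := by
  intro a
  induction a using Nat.strong_induction_on with
  | _ a ih =>
    intro hae
    have hspow : ∀ n : ℕ, v (s ^ n) = WithZero.exp (-(n : ℤ)) := by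
      intro n
      rw [map_pow, hs, ← WithZero.exp_nsmul]
      simp
    -- split the sum
    have hsplit : ∑ a' ∈ Finset.range e, C a' * s ^ a' =
        ∑ a' ∈ Finset.range a, C a' * s ^ a' + (C a * s ^ a +
          ∑ a' ∈ Finset.Ico (a + 1) e, C a' * s ^ a') := by
      rw [Finset.range_eq_Ico, ← Finset.sum_Ico_consecutive _ (Nat.zero_le a) hae.le,
        Finset.sum_eq_sum_Ico_succ_bot hae, Finset.range_eq_Ico]
    have h1 : v (∑ a' ∈ Finset.range a, C a' * s ^ a') ≤ WithZero.exp (-(e : ℤ)) := by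
      refine Valuation.map_sum_le v (fun a' ha' => ?_)
      have ha'' := Finset.mem_range.1 ha'
      rw [map_mul, hspow]
      calc v (C a') * WithZero.exp (-(a' : ℤ)) ≤ WithZero.exp (-(e : ℤ)) * 1 :=
            mul_le_mul' (H2 a' (ih a' ha'' (ha''.trans hae))) (exp_neg_natCast_le_one a')
        _ = _ := mul_one _
    have h2 : v (∑ a' ∈ Finset.Ico (a + 1) e, C a' * s ^ a') ≤
        WithZero.exp (-((a + 1 : ℕ) : ℤ)) := by
      refine Valuation.map_sum_le v (fun a' ha' => ?_)
      have ha'' := (Finset.mem_Ico.1 ha').1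
      rw [map_mul, hspow]
      calc v (C a') * WithZero.exp (-(a' : ℤ)) ≤ 1 * WithZero.exp (-((a + 1 : ℕ) : ℤ)) := by
            refine mul_le_mul' (H1 a') ?_
            rw [WithZero.exp_le_exp]; omega
        _ = _ := one_mul _
    have h3 : C a * s ^ a = ∑ a' ∈ Finset.range e, C a' * s ^ a' -
        ∑ a' ∈ Finset.range a, C a' * s ^ a' -
          ∑ a' ∈ Finset.Ico (a + 1) e, C a' * s ^ a' := by
      rw [hsplit]; ring
    have hle : (WithZero.exp (-(e : ℤ)) : WithZero (Multiplicative ℤ)) ≤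
        WithZero.exp (-((a + 1 : ℕ) : ℤ)) := by
      rw [WithZero.exp_le_exp]; push_cast; omega
    have h4 : v (C a * s ^ a) ≤ WithZero.exp (-((a + 1 : ℕ) : ℤ)) := by
      rw [h3]
      refine (Valuation.map_sub _ _ _).trans (max_le ?_ h2)
      exact (Valuation.map_sub _ _ _).trans (max_le (hW.trans hle) (h1.trans hle))
    rw [map_mul, hspow] at h4
    have h5 : v (C a) ≤ WithZero.exp (-1 : ℤ) := by
      have h6 : (WithZero.exp (-((a + 1 : ℕ) : ℤ)) : WithZero (Multiplicative ℤ)) =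
          WithZero.exp (-1 : ℤ) * WithZero.exp (-(a : ℤ)) := by
        rw [← WithZero.exp_add]; congr 1; push_cast; ring
      rw [h6] at h4
      exact le_of_mul_le_mul_right h4 WithZero.exp_pos
    refine lt_of_le_of_lt h5 ?_
    rw [← WithZero.exp_zero, WithZero.exp_lt_exp]; omega

end IC1

open FunFld Polynomial Module IntermediateField

section IC2

variable {k K K' : Type*} [Field k] [Field K] [Field K'] [Algebra k K] [Algebra K K']
  [Algebra k K'] [IsScalarTower k K K']

attribute [-instance] IsLocalRing.instModuleResidueFieldOfAlgebra in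
/-- lifts of a basis of the residue field extension are independent modulo the place -/
theorem small_of_sum_small {Q : Place k K'} {P : Place k K} {e : ℕ} (he : IsOverWith Q P e)
    {f : ℕ} (b : Basis (Fin f) (resMap he).fieldRange (IsLocalRing.ResidueField Q.O))
    (u : Fin f → K') (hu1 : ∀ l, Q.1 (u l) ≤ 1)
    (hu2 : ∀ l, IsLocalRing.residue Q.O ⟨u l, hu1 l⟩ = b l)
    (c : Fin f → K) (hc : ∀ l, P.1 (c l) ≤ 1)
    (h : Q.1 (∑ l, algebraMap K K' (c l) * u l) < 1) : ∀ l, P.1 (c l) < 1 := by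
  set X : Q.O := ∑ l, ringIncl he ⟨c l, hc l⟩ * ⟨u l, hu1 l⟩ with hX
  have hXcoe : (X : K') = ∑ l, algebraMap K K' (c l) * u l := by
    rw [hX]
    push_cast
    rfl
  have hX0 : IsLocalRing.residue Q.O X = 0 := by
    rw [IsLocalRing.residue_eq_zero_iff, mem_maximalIdeal_iff, hXcoe]
    exact h
  rw [hX, map_sum] at hX0
  have h1 : ∀ l, IsLocalRing.residue Q.O (ringIncl he ⟨c l, hc l⟩ * ⟨u l, hu1 l⟩) =
      (⟨resMap he (IsLocalRing.residue P.O ⟨c l, hc l⟩), ⟨_, rfl⟩⟩ : (resMap he).fieldRange) •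
        b l := by
    intro l
    rw [map_mul, hu2, ← resMap_residue]
    rfl
  rw [Finset.sum_congr rfl (fun l _ => h1 l)] at hX0
  have h2 := Fintype.linearIndependent_iff.1 b.linearIndependent _ hX0
  intro l
  have h3 := congrArg Subtype.val (h2 l)
  have h4 : resMap he (IsLocalRing.residue P.O ⟨c l, hc l⟩) = 0 := h3
  rw [map_eq_zero, IsLocalRing.residue_eq_zero_iff, mem_maximalIdeal_iff] at h4
  exact h4

end IC2

open FunFld Polynomial Module IntermediateField

section IC3

variable {k K K' : Type*} [Field k] [Field K] [Field K'] [Algebra k K] [Algebra K K']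
  [Algebra k K'] [IsScalarTower k K K']

lemma val_algebraMap_le_of_lt_one {Q : Place k K'} {P : Place k K} {e : ℕ}
    (he : IsOverWith Q P e) {c : K} (hc : P.1 c < 1) :
    Q.1 (algebraMap K K' c) ≤ WithZero.exp (-(e : ℤ)) := by
  rw [he c]
  have h1 : P.1 c ≤ WithZero.exp (-1 : ℤ) := by
    have := (val_lt_exp_iff_le P c 0).1 (by rw [WithZero.exp_zero]; exact hc)
    simpa using this
  calc P.1 c ^ e ≤ (WithZero.exp (-1 : ℤ)) ^ e := pow_le_pow_left₀ zero_le h1 e
    _ = WithZero.exp (-(e : ℤ)) := by rw [← WithZero.exp_nsmul]; simp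

attribute [-instance] IsLocalRing.instModuleResidueFieldOfAlgebra in
theorem local_claim {Q : Place k K'} {P : Place k K} {e : ℕ} (he : IsOverWith Q P e)
    {f : ℕ} (b : Basis (Fin f) (resMap he).fieldRange (IsLocalRing.ResidueField Q.O))
    (u : Fin f → K') (hu1 : ∀ l, Q.1 (u l) ≤ 1)
    (hu2 : ∀ l, IsLocalRing.residue Q.O ⟨u l, hu1 l⟩ = b l)
    (s : K') (hs : Q.1 s = WithZero.exp (-1 : ℤ))
    (c : ℕ → Fin f → K) (hc : ∀ a l, P.1 (c a l) ≤ 1)
    (hW : Q.1 (∑ a ∈ Finset.range e, (∑ l, algebraMap K K' (c a l) * u l) * s ^ a) ≤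
      WithZero.exp (-(e : ℤ))) :
    ∀ a < e, ∀ l, P.1 (c a l) < 1 := by
  have H1 : ∀ a, Q.1 (∑ l, algebraMap K K' (c a l) * u l) ≤ 1 := by
    intro a
    refine Valuation.map_sum_le _ (fun l _ => ?_)
    rw [map_mul]
    exact mul_le_one' ((isOverWith_le_one_iff he _).2 (hc a l)) (hu1 l)
  have H2 : ∀ a, Q.1 (∑ l, algebraMap K K' (c a l) * u l) < 1 →
      Q.1 (∑ l, algebraMap K K' (c a l) * u l) ≤ WithZero.exp (-(e : ℤ)) := by
    intro a ha
    have h1 := small_of_sum_small he b u hu1 hu2 (c a) (hc a) ha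
    refine Valuation.map_sum_le _ (fun l _ => ?_)
    rw [map_mul]
    calc Q.1 (algebraMap K K' (c a l)) * Q.1 (u l) ≤ WithZero.exp (-(e : ℤ)) * 1 :=
          mul_le_mul' (val_algebraMap_le_of_lt_one he (h1 l)) (hu1 l)
      _ = _ := mul_one _
  intro a ha l
  have h3 := coeffs_small Q.1 s hs e (fun a => ∑ l, algebraMap K K' (c a l) * u l) H1 H2 hW a ha
  exact small_of_sum_small he b u hu1 hu2 (c a) (hc a) h3 l

end IC3

open FunFld Polynomial Module IntermediateField

section IC4

variable {k K K' : Type*} [Field k] [Field K] [Field K'] [Algebra k K] [Algebra K K']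
  [Algebra k K'] [IsScalarTower k K K'] [FiniteDimensional K K']

theorem wk_residue_finite_ext (hK : IsWeakFF k K) (Q : Place k K') :
    FiniteDimensional k (IsLocalRing.ResidueField Q.O) := by
  have h1 := residue_finite_ext (k := algebraicClosure k K) hK.ff
    (placeUp (algebraicClosure k K) Q)
  have h2 := hK.fin
  let a0 : Algebra (algebraicClosure k K) Q.O := Place.algO (placeUp (algebraicClosure k K) Q)
  have : IsScalarTower k (algebraicClosure k K) Q.O :=
    IsScalarTower.of_algebraMap_eq (fun c => Subtype.ext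
      (IsScalarTower.algebraMap_apply k (algebraicClosure k K) K' c))
  have h1' : Module.Finite (algebraicClosure k K) (IsLocalRing.ResidueField Q.O) := h1
  exact Module.Finite.trans (algebraicClosure k K) (IsLocalRing.ResidueField Q.O)

theorem wk_deg_pos_ext (hK : IsWeakFF k K) (Q : Place k K') : 0 < Q.deg := by
  have := wk_residue_finite_ext hK Q
  exact Module.finrank_pos

end IC4

open FunFld Polynomial Module IntermediateField

section IC5


variable {k : Type u} {K : Type v} {K' : Type w} [Field k] [Field K] [Field K'] [Algebra k K]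
  [Algebra K K'] [Algebra k K'] [IsScalarTower k K K'] [FiniteDimensional K K']

attribute [-instance] IsLocalRing.instModuleResidueFieldOfAlgebra in
/-- local integral basis at a place `P`: the scaled form of the key property -/
theorem exists_local_basis₀ (hK : IsWeakFF k K) (P : Place k K) :
    ∃ (ι : Type w) (_ : Fintype ι) (z : ι → K'),
      Fintype.card ι = finrank K K' ∧
      (∀ i, ∀ Q : Place k K', IsOver Q P → Q.1 (z i) ≤ 1) ∧
      (∀ c : ι → K, (∀ i, P.1 (c i) ≤ 1) →
        (∀ Q : Place k K', IsOver Q P →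
          Q.1 (∑ i, algebraMap K K' (c i) * z i) ≤ WithZero.exp (-(ramIdx Q P : ℤ))) →
        ∀ i, P.1 (c i) < 1) := by
  classical
  obtain ⟨hfin, hsum⟩ := wk_sum_ramIdx_mul_deg (L := K') hK P
  set S : Finset (Place k K') := hfin.toFinset with hSdef
  have hS : ∀ Q, Q ∈ S ↔ IsOver Q P := fun Q => by simp [hSdef, Set.Finite.mem_toFinset]
  have hI : ∀ Q : S, IsOver Q.1 P := fun Q => (hS Q.1).1 Q.2
  have he : ∀ Q : S, IsOverWith Q.1 P (ramIdx Q.1 P) := fun Q => isOverWith_ramIdx (hI Q)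
  have hfd : ∀ Q : S, FiniteDimensional k (IsLocalRing.ResidueField Q.1.O) := fun Q =>
    wk_residue_finite_ext hK Q.1
  have hfdA : ∀ Q : S, FiniteDimensional (resMap (he Q)).fieldRange
      (IsLocalRing.ResidueField Q.1.O) := fun Q => by
    have := hfd Q
    exact FiniteDimensional.right k _ _
  let f : S → ℕ := fun Q => finrank (resMap (he Q)).fieldRange (IsLocalRing.ResidueField Q.1.O)
  let b : ∀ Q : S, Basis (Fin (f Q)) (resMap (he Q)).fieldRange
      (IsLocalRing.ResidueField Q.1.O) := fun Q => by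
    have := hfdA Q
    exact Module.finBasis _ _
  -- lifts of the basis
  have hlift : ∀ (Q : S) (l : Fin (f Q)), ∃ x : Q.1.O, IsLocalRing.residue Q.1.O x = b Q l :=
    fun Q l => IsLocalRing.residue_surjective _
  choose ut hut using hlift
  -- uniformizers
  have hsex : ∀ Q : S, ∃ s : K', ∀ Q' : S, Q'.1.1 (s - 0) =
      WithZero.exp (-(if Q' = Q then (1 : ℤ) else 0)) := fun Q =>
    weak_approx_exact (fun Q' : S => Q'.1) Subtype.val_injective (fun _ => 0) _
  choose s hs using hsex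
  have hs1 : ∀ Q : S, Q.1.1 (s Q) = WithZero.exp (-1 : ℤ) := fun Q => by
    have := hs Q Q; simpa using this
  have hs2 : ∀ Q Q' : S, Q' ≠ Q → Q'.1.1 (s Q) = 1 := fun Q Q' hne => by
    have := hs Q Q'; simpa [hne] using this
  -- approximations of the lifts
  have huex : ∀ (Q : S) (l : Fin (f Q)), ∃ u : K', ∀ Q' : S,
      Q'.1.1 (u - (if Q' = Q then ((ut Q l : Q.1.O) : K') else 0)) <
        WithZero.exp (-(if Q' = Q then (0 : ℤ) else (ramIdx Q'.1 P : ℤ) - 1)) := fun Q l =>
    weak_approx (fun Q' : S => Q'.1) Subtype.val_injective _ _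
  choose u hu using huex
  have hu1 : ∀ (Q : S) (l : Fin (f Q)), Q.1.1 (u Q l) ≤ 1 := by
    intro Q l
    have h1 := hu Q l Q
    simp only [if_true, neg_zero, WithZero.exp_zero] at h1
    have h2 : u Q l = (u Q l - ((ut Q l : Q.1.O) : K')) + ((ut Q l : Q.1.O) : K') := by ring
    rw [h2]
    exact (Q.1.1.map_add _ _).trans (max_le h1.le (ut Q l).2)
  have hu2 : ∀ (Q : S) (l : Fin (f Q)),
      IsLocalRing.residue Q.1.O ⟨u Q l, hu1 Q l⟩ = b Q l := by
    intro Q l
    rw [← hut Q l, residue_eq_iff]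
    have h1 := hu Q l Q
    simp only [if_true, neg_zero, WithZero.exp_zero] at h1
    exact h1
  have hu3 : ∀ (Q Q' : S) (l : Fin (f Q)), Q' ≠ Q →
      Q'.1.1 (u Q l) ≤ WithZero.exp (-(ramIdx Q'.1 P : ℤ)) := by
    intro Q Q' l hne
    have h1 := hu Q l Q'
    simp only [if_neg hne, sub_zero] at h1
    have h2 := (val_lt_exp_iff_le Q'.1 (u Q l) _).1 h1
    refine h2.trans ?_
    rw [WithZero.exp_le_exp]; omega
  have hu4 : ∀ (Q Q' : S) (l : Fin (f Q)), Q'.1.1 (u Q l) ≤ 1 := by
    intro Q Q' l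
    by_cases hne : Q' = Q
    · subst hne; exact hu1 Q' l
    · exact (hu3 Q Q' l hne).trans (exp_neg_natCast_le_one _)
  have hs4 : ∀ (Q Q' : S), Q'.1.1 (s Q) ≤ 1 := by
    intro Q Q'
    by_cases hne : Q' = Q
    · subst hne; rw [hs1]; rw [← WithZero.exp_zero, WithZero.exp_le_exp]; omega
    · exact (hs2 Q Q' hne).le
  -- the index type and the elements
  refine ⟨Σ Q : S, Fin (ramIdx Q.1 P) × Fin (f Q), inferInstance,
    fun i => s i.1 ^ (i.2.1 : ℕ) * u i.1 i.2.2, ?_, ?_, ?_⟩
  · -- cardinality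
    rw [Fintype.card_sigma]
    simp only [Fintype.card_prod, Fintype.card_fin]
    have h1 := hsum S hS
    have h2 : ∀ Q : S, Q.1.deg = P.deg * f Q := fun Q => deg_eq_mul_finrank_fieldRange (he Q)
    have h3 : ∑ Q ∈ S, ramIdx Q P * Q.deg = ∑ Q : S, ramIdx Q.1 P * Q.1.deg :=
      (Finset.sum_coe_sort S (fun Q => ramIdx Q P * Q.deg)).symm
    rw [h3, Finset.sum_congr rfl (fun Q _ => by rw [h2 Q])] at h1
    have h4 : ∑ Q : S, ramIdx Q.1 P * (P.deg * f Q) = P.deg * ∑ Q : S, ramIdx Q.1 P * f Q := by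
      rw [Finset.mul_sum]
      exact Finset.sum_congr rfl (fun Q _ => by ring)
    rw [h4, mul_comm (finrank K K')] at h1
    exact Nat.eq_of_mul_eq_mul_left (wk_deg_pos hK P) h1
  · -- integrality
    rintro ⟨Q, a, l⟩ Q' hQ'
    show Q'.1 (s Q ^ (a : ℕ) * u Q l) ≤ 1
    rw [map_mul, map_pow]
    exact mul_le_one' (pow_le_one' (hs4 Q ⟨Q', (hS Q').2 hQ'⟩) _) (hu4 Q ⟨Q', (hS Q').2 hQ'⟩ l)
  · -- the key property
    intro c hc hW
    rintro ⟨Q, a, l⟩
    have hWQ := hW Q.1 (hI Q)
    rw [Fintype.sum_sigma, ← Finset.add_sum_erase _ _ (Finset.mem_univ Q)] at hWQ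
    -- the other parts are small at `Q`
    have hother : Q.1.1 (∑ Q' ∈ Finset.univ.erase Q,
        ∑ y : Fin (ramIdx Q'.1 P) × Fin (f Q'),
          algebraMap K K' (c ⟨Q', y⟩) * (s Q' ^ (y.1 : ℕ) * u Q' y.2)) ≤
        WithZero.exp (-(ramIdx Q.1 P : ℤ)) := by
      refine Valuation.map_sum_le _ (fun Q' hQ' => ?_)
      have hne : Q ≠ Q' := fun h => (Finset.mem_erase.1 hQ').1 h.symm
      refine Valuation.map_sum_le _ (fun y _ => ?_)
      rw [map_mul, map_mul, map_pow, hs2 Q' Q hne, one_pow, one_mul]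
      calc Q.1.1 (algebraMap K K' (c ⟨Q', y⟩)) * Q.1.1 (u Q' y.2) ≤
            1 * WithZero.exp (-(ramIdx Q.1 P : ℤ)) :=
            mul_le_mul' ((isOverWith_le_one_iff (he Q) _).2 (hc _)) (hu3 Q' Q y.2 hne)
        _ = _ := one_mul _
    have hQpart : Q.1.1 (∑ y : Fin (ramIdx Q.1 P) × Fin (f Q),
          algebraMap K K' (c ⟨Q, y⟩) * (s Q ^ (y.1 : ℕ) * u Q y.2)) ≤
        WithZero.exp (-(ramIdx Q.1 P : ℤ)) := by
      have h1 : ∑ y : Fin (ramIdx Q.1 P) × Fin (f Q),
          algebraMap K K' (c ⟨Q, y⟩) * (s Q ^ (y.1 : ℕ) * u Q y.2) =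
          (∑ y : Fin (ramIdx Q.1 P) × Fin (f Q),
            algebraMap K K' (c ⟨Q, y⟩) * (s Q ^ (y.1 : ℕ) * u Q y.2) +
          ∑ Q' ∈ Finset.univ.erase Q, ∑ y : Fin (ramIdx Q'.1 P) × Fin (f Q'),
            algebraMap K K' (c ⟨Q', y⟩) * (s Q' ^ (y.1 : ℕ) * u Q' y.2)) -
          ∑ Q' ∈ Finset.univ.erase Q, ∑ y : Fin (ramIdx Q'.1 P) × Fin (f Q'),
            algebraMap K K' (c ⟨Q', y⟩) * (s Q' ^ (y.1 : ℕ) * u Q' y.2) := by ring
      rw [h1]
      exact (Valuation.map_sub _ _ _).trans (max_le hWQ hother)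
    -- rewrite the `Q`-part as a double sum over `range e`
    let c' : ℕ → Fin (f Q) → K := fun a' l' =>
      if h : a' < ramIdx Q.1 P then c ⟨Q, ⟨a', h⟩, l'⟩ else 0
    have hc' : ∀ a' l', P.1 (c' a' l') ≤ 1 := by
      intro a' l'
      simp only [c']
      split_ifs with h
      · exact hc _
      · simp
    have hrew : ∑ y : Fin (ramIdx Q.1 P) × Fin (f Q),
          algebraMap K K' (c ⟨Q, y⟩) * (s Q ^ (y.1 : ℕ) * u Q y.2) =
        ∑ a' ∈ Finset.range (ramIdx Q.1 P),
          (∑ l', algebraMap K K' (c' a' l') * u Q l') * s Q ^ a' := by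
      rw [Fintype.sum_prod_type, ← Fin.sum_univ_eq_sum_range
        (fun a' => (∑ l', algebraMap K K' (c' a' l') * u Q l') * s Q ^ a')]
      refine Finset.sum_congr rfl (fun a' _ => ?_)
      rw [Finset.sum_mul]
      refine Finset.sum_congr rfl (fun l' _ => ?_)
      simp only [c', a'.2, dif_pos]
      ring
    rw [hrew] at hQpart
    have hfinal := local_claim (he Q) (b Q) (u Q) (hu1 Q) (hu2 Q) (s Q) (hs1 Q) c' hc' hQpart
      a a.2 l
    simpa [c', a.2] using hfinal

end IC5

open FunFld Polynomial Module IntermediateField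

section IC6


variable {k : Type u} {K : Type v} {K' : Type w} [Field k] [Field K] [Field K'] [Algebra k K]
  [Algebra K K'] [Algebra k K'] [IsScalarTower k K K'] [FiniteDimensional K K']

/-- local integral basis at a place `P` -/
theorem exists_local_basis (hK : IsWeakFF k K) (P : Place k K) :
    ∃ (ι : Type w) (_ : Fintype ι) (z : ι → K'),
      Fintype.card ι = finrank K K' ∧
      (∀ i, ∀ Q : Place k K', IsOver Q P → Q.1 (z i) ≤ 1) ∧
      (∀ c : ι → K, (∀ Q : Place k K', IsOver Q P →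
          Q.1 (∑ i, algebraMap K K' (c i) * z i) ≤ 1) → ∀ i, P.1 (c i) ≤ 1) ∧
      LinearIndependent K z := by
  classical
  obtain ⟨ι, hι, z, hcard, hz, hG0⟩ := exists_local_basis₀ (K' := K') hK P
  obtain ⟨t, ht⟩ := P.2.2 (WithZero.exp (-1 : ℤ))
  have ht0 : t ≠ 0 := fun h => by
    rw [h, map_zero] at ht; exact WithZero.exp_ne_zero ht.symm
  have hG1 : ∀ c : ι → K, (∀ Q : Place k K', IsOver Q P →
      Q.1 (∑ i, algebraMap K K' (c i) * z i) ≤ 1) → ∀ i, P.1 (c i) ≤ 1 := by
    intro c hW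
    by_contra hcon
    push Not at hcon
    obtain ⟨i₀, hi₀⟩ := hcon
    have hne : (Finset.univ : Finset ι).Nonempty := ⟨i₀, Finset.mem_univ _⟩
    obtain ⟨i₁, -, hi₁⟩ := Finset.exists_mem_eq_sup' hne (fun i => P.1 (c i))
    set γ := Finset.univ.sup' hne (fun i => P.1 (c i)) with hγ
    have hγ1 : 1 < γ := lt_of_lt_of_le hi₀ (Finset.le_sup' (fun i => P.1 (c i)) (Finset.mem_univ i₀))
    have hγ0 : γ ≠ 0 := (lt_trans zero_lt_one hγ1).ne'
    obtain ⟨m, hm⟩ : ∃ m : ℤ, γ = WithZero.exp m := ⟨WithZero.log γ, (WithZero.exp_log hγ0).symm⟩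
    have hmpos : 0 < m := by
      rw [hm, ← WithZero.exp_zero, WithZero.exp_lt_exp] at hγ1; exact hγ1
    obtain ⟨M, rfl⟩ : ∃ M : ℕ, m = M := ⟨m.toNat, (Int.toNat_of_nonneg hmpos.le).symm⟩
    have hMpos : 0 < M := by exact_mod_cast hmpos
    have htM : P.1 (t ^ M) = WithZero.exp (-(M : ℤ)) := by
      rw [map_pow, ht, ← WithZero.exp_nsmul]; simp
    have hc' : ∀ i, P.1 (t ^ M * c i) ≤ 1 := by
      intro i
      rw [map_mul, htM]
      calc WithZero.exp (-(M : ℤ)) * P.1 (c i) ≤ WithZero.exp (-(M : ℤ)) * γ :=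
            mul_le_mul' le_rfl (Finset.le_sup' (fun i => P.1 (c i)) (Finset.mem_univ i))
        _ = 1 := by rw [hm, ← WithZero.exp_add]; simp
    have h1 := hG0 (fun i => t ^ M * c i) hc' (fun Q hQ => by
      have he := isOverWith_ramIdx hQ
      have h2 : ∑ i, algebraMap K K' (t ^ M * c i) * z i =
          algebraMap K K' (t ^ M) * ∑ i, algebraMap K K' (c i) * z i := by
        rw [Finset.mul_sum]
        exact Finset.sum_congr rfl (fun i _ => by rw [map_mul]; ring)
      rw [h2, map_mul, he, htM]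
      have hepos := ramIdx_pos hQ
      calc WithZero.exp (-(M : ℤ)) ^ ramIdx Q P * Q.1 (∑ i, algebraMap K K' (c i) * z i) ≤
            WithZero.exp (-(M : ℤ)) ^ ramIdx Q P * 1 := mul_le_mul' le_rfl (hW Q hQ)
        _ = WithZero.exp (-(M : ℤ)) ^ ramIdx Q P := mul_one _
        _ ≤ WithZero.exp (-(ramIdx Q P : ℤ)) := by
            rw [← WithZero.exp_nsmul, WithZero.exp_le_exp]
            simp only [nsmul_eq_mul]
            have : (1 : ℤ) ≤ M := by exact_mod_cast hMpos
            nlinarith) i₁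
    rw [map_mul, htM, ← hi₁, hm, ← WithZero.exp_add] at h1
    simp at h1
  refine ⟨ι, hι, z, hcard, hz, hG1, ?_⟩
  -- linear independence
  rw [Fintype.linearIndependent_iff]
  intro c hc i
  by_contra hci
  obtain ⟨m, hm⟩ : ∃ m : ℤ, P.1 (c i) = WithZero.exp m :=
    ⟨WithZero.log (P.1 (c i)), (WithZero.exp_log ((_root_.map_ne_zero _).2 hci)).symm⟩
  have h1 := hG1 (fun j => t ^ (m - 1) * c j) (fun Q hQ => by
    have h2 : ∑ j, algebraMap K K' (t ^ (m - 1) * c j) * z j =
        algebraMap K K' (t ^ (m - 1)) * ∑ j, c j • z j := by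
      rw [Finset.mul_sum]
      exact Finset.sum_congr rfl (fun j _ => by rw [map_mul, Algebra.smul_def]; ring)
    rw [h2, hc, mul_zero, map_zero]
    exact zero_le) i
  rw [map_mul, map_zpow₀, ht, hm, ← WithZero.exp_zsmul, ← WithZero.exp_add,
    ← WithZero.exp_zero, WithZero.exp_le_exp] at h1
  simp only [smul_eq_mul] at h1
  nlinarith

end IC6

open FunFld Polynomial Module IntermediateField

section IC7

lemma val_le_one_of_isIntegral' {R L : Type*} [CommRing R] [Field L] [Algebra R L]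
    {Γ₀ : Type*} [LinearOrderedCommGroupWithZero Γ₀] (v : Valuation L Γ₀)
    (hv : ∀ c : R, v (algebraMap R L c) ≤ 1) {y : L} (hy : IsIntegral R y) : v y ≤ 1 := by
  obtain ⟨f, hm, hf⟩ := hy
  by_contra hcon
  push Not at hcon
  have hy0 : y ≠ 0 := fun h => by rw [h, map_zero] at hcon; exact not_lt.2 zero_le hcon
  rw [Polynomial.eval₂_eq_sum_range, Finset.sum_range_succ, hm.coeff_natDegree, map_one,
    one_mul, add_eq_zero_iff_eq_neg] at hf
  have h1 : v (∑ i ∈ Finset.range f.natDegree, algebraMap R L (f.coeff i) * y ^ i) <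
      v (y ^ f.natDegree) := by
    by_cases hn : f.natDegree = 0
    · rw [hn, Finset.range_zero, Finset.sum_empty, map_zero, pow_zero, map_one]
      exact zero_lt_one
    refine Valuation.map_sum_lt v ?_ (fun i hi => ?_)
    · rw [map_pow]; exact pow_ne_zero _ ((map_ne_zero v).2 hy0)
    · rw [map_mul, map_pow, map_pow]
      calc v (algebraMap R L (f.coeff i)) * v y ^ i ≤ 1 * v y ^ i := mul_le_mul' (hv _) le_rfl
        _ = v y ^ i := one_mul _
        _ < v y ^ f.natDegree := pow_lt_pow_right₀ hcon (Finset.mem_range.1 hi)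
  rw [hf, Valuation.map_neg] at h1
  exact lt_irrefl _ h1


variable {k : Type u} {K : Type v} {K' : Type w} [Field k] [Field K] [Field K'] [Algebra k K]
  [Algebra K K'] [Algebra k K'] [IsScalarTower k K K'] [FiniteDimensional K K']

theorem integralClosure_eq_and_finite (hK : IsWeakFF k K) (P : Place k K) [Algebra P.O K']
    [IsScalarTower P.O K K'] :
    (∀ w : K', w ∈ integralClosure P.O K' ↔ ∀ Q : Place k K', IsOver Q P → Q.1 w ≤ 1) ∧
      Module.Finite P.O (integralClosure P.O K') := by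
  classical
  obtain ⟨ι, hι, z, hcard, hz, hG1, hli⟩ := exists_local_basis (K' := K') hK P
  have hmap : ∀ r : P.O, algebraMap P.O K' r = algebraMap K K' (r : K) := fun r =>
    IsScalarTower.algebraMap_apply P.O K K' r
  -- the ring of elements integral at all places over `P`
  let R' : Subalgebra P.O K' :=
    { carrier := {w | ∀ Q : Place k K', IsOver Q P → Q.1 w ≤ 1}
      mul_mem' := fun {a b} ha hb Q hQ => by
        rw [map_mul]; exact mul_le_one' (ha Q hQ) (hb Q hQ)
      add_mem' := fun {a b} ha hb Q hQ => (Q.1.map_add _ _).trans (max_le (ha Q hQ) (hb Q hQ))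
      algebraMap_mem' := fun r Q hQ => by
        obtain ⟨e, he⟩ := hQ
        rw [hmap]
        exact (isOverWith_le_one_iff he _).2 r.2 }
  have hmemR' : ∀ w : K', w ∈ R' ↔ ∀ Q : Place k K', IsOver Q P → Q.1 w ≤ 1 := fun w => Iff.rfl
  -- `z` is a basis
  have hspanK : Submodule.span K (Set.range z) = ⊤ :=
    hli.span_eq_top_of_card_eq_finrank' hcard
  have hspan : Subalgebra.toSubmodule R' = Submodule.span P.O (Set.range z) := by
    apply le_antisymm
    · intro w hw
      have hw' : w ∈ Submodule.span K (Set.range z) := by rw [hspanK]; trivial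
      obtain ⟨c, hc⟩ := (Submodule.mem_span_range_iff_exists_fun K).1 hw'
      have hc' : ∑ i, algebraMap K K' (c i) * z i = w := by
        rw [← hc]
        exact Finset.sum_congr rfl (fun i _ => (Algebra.smul_def _ _).symm)
      have hint := hG1 c (fun Q hQ => by rw [hc']; exact hw Q hQ)
      rw [← hc']
      refine Submodule.sum_mem _ (fun i _ => ?_)
      have h1 : algebraMap K K' (c i) * z i = (⟨c i, hint i⟩ : P.O) • z i := by
        rw [Algebra.smul_def, hmap]
      rw [h1]
      exact Submodule.smul_mem _ _ (Submodule.subset_span ⟨i, rfl⟩)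
    · rw [Submodule.span_le]
      rintro _ ⟨i, rfl⟩
      exact hz i
  have hfg : (Subalgebra.toSubmodule R').FG := by
    rw [hspan]
    exact Submodule.fg_span (Set.finite_range z)
  have heq : integralClosure P.O K' = R' := by
    apply le_antisymm
    · intro w hw Q hQ
      obtain ⟨e, he⟩ := hQ
      refine val_le_one_of_isIntegral' Q.1 (fun r => ?_) hw
      rw [hmap]
      exact (isOverWith_le_one_iff he _).2 r.2
    · intro w hw
      exact IsIntegral.of_mem_of_fg R' hfg w hw
  refine ⟨fun w => by rw [heq]; exact hmemR' w, ?_⟩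
  rw [heq]
  exact Module.Finite.of_fg hfg

end IC7

end Groth.Agent.Helper17.FF
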