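import Groth.Agent.Lib.Helper17.FF24

/-! Counting effective divisors of large degree over a finite constant field. -/

namespace Groth.Agent.Helper17.FF

open FunFld Polynomial Module

variable {k K : Type*} [Field k] [Field K] [Algebra k K]

lemma natCard_ne_zero_subtype (V : Type*) [AddCommGroup V] [Finite V] :
    Nat.card {v : V // v ≠ 0} = Nat.card V - 1 := by
  classical
  haveI := Fintype.ofFinite V
  rw [Nat.card_eq_fintype_card, Nat.card_eq_fintype_card,
    Fintype.card_subtype_compl (fun v : V => v = 0), Fintype.card_subtype_eq]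

lemma natCard_L_ne_zero [Finite k] (hK : IsFunctionField k K) (D : Divisor k K) :
    Nat.card {f : K // f ∈ L D ∧ f ≠ 0} = Nat.card k ^ ell D - 1 := by
  have hfd := L_finite hK D
  haveI : Finite (L D) := Module.finite_of_finite k
  have e : {f : K // f ∈ L D ∧ f ≠ 0} ≃ {v : L D // v ≠ 0} :=
    { toFun := fun f => ⟨⟨f.1, f.2.1⟩, fun h => f.2.2 (congrArg Subtype.val h)⟩
      invFun := fun v => ⟨v.1.1, v.1.2, fun h => v.2 (Subtype.ext h)⟩
      left_inv := fun f => rfl
      right_inv := fun v => rfl }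
  rw [Nat.card_congr e, natCard_ne_zero_subtype, Module.natCard_eq_pow_finrank (K := k)]
  rfl

theorem count_effective [Finite k] (hK : IsFunctionField k K) (n : ℕ)
    (hn : 2 * genus k K ≤ n + 1) (Dn : Divisor k K) (hDn : Dn.deg = n) :
    ((Nat.card k : ℤ) - 1) * (effDivCount k K n : ℤ) =
      (classNum k K : ℤ) * ((Nat.card k : ℤ) ^ (n + 1 - genus k K) - 1) := by
  classical
  haveI := finite_pic0 (k := k) (K := K) hK
  haveI : Fintype (Pic0 k K) := Fintype.ofFinite _
  haveI := finite_effective hK n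
  -- representatives
  let rep : Pic0 k K → (degHom k K).ker := fun c => Quotient.out c
  have hrep : ∀ c : Pic0 k K, (QuotientAddGroup.mk (rep c) : Pic0 k K) = c := fun c =>
    Quotient.out_eq c
  let Dc : Pic0 k K → Divisor k K := fun c => Dn + (rep c : Divisor k K)
  have hDcdeg : ∀ c, (Dc c).deg = n := by
    intro c
    show (Dn + (rep c : Divisor k K)).deg = n
    rw [deg_add, hDn, (mem_ker_degHom _).1 (rep c).2, add_zero]
  have hell : ∀ c, ell (Dc c) = n + 1 - genus k K := by
    intro c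
    have h1 := ell_eq_of_deg_ge hK (Dc c) (by rw [hDcdeg]; have : (2 * genus k K : ℤ) ≤ n + 1 := by exact_mod_cast hn
                                              linarith)
    rw [hDcdeg] at h1
    have h2 : (genus k K : ℤ) ≤ n + 1 := by
      have : (2 * genus k K : ℤ) ≤ n + 1 := by exact_mod_cast hn
      linarith [Nat.cast_nonneg (α := ℤ) (genus k K)]
    have : (ell (Dc c) : ℤ) = ((n + 1 - genus k K : ℕ) : ℤ) := by
      rw [h1, Nat.cast_sub (by exact_mod_cast h2)]; push_cast; ring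
    exact_mod_cast this
  -- the class of an effective divisor
  have hmemY : ∀ E : {D : Divisor k K // 0 ≤ D ∧ D.deg = n}, E.1 - Dn ∈ (degHom k K).ker := by
    intro E
    rw [mem_ker_degHom, deg_sub, E.2.2, hDn, sub_self]
  let cE : {D : Divisor k K // 0 ≤ D ∧ D.deg = n} → Pic0 k K :=
    fun E => QuotientAddGroup.mk ⟨E.1 - Dn, hmemY E⟩
  have hfE : ∀ E : {D : Divisor k K // 0 ≤ D ∧ D.deg = n},
      ∃ f : K, f ≠ 0 ∧ E.1 - Dc (cE E) = FunFld.div k f := by
    intro E
    have h1 := hrep (cE E)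
    have h2 : (QuotientAddGroup.mk (rep (cE E)) : Pic0 k K) =
        QuotientAddGroup.mk ⟨E.1 - Dn, hmemY E⟩ := h1
    rw [pic0_mk_eq_iff] at h2
    obtain ⟨f, hf0, hf⟩ := (mem_prinDivs_iff hK _).1 h2
    refine ⟨f, hf0, ?_⟩
    rw [← hf]
    show E.1 - (Dn + (rep (cE E) : Divisor k K)) = E.1 - Dn - (rep (cE E) : Divisor k K)
    abel
  choose fE hfE0 hfEdiv using hfE
  -- the map
  have hΨmem : ∀ (E : {D : Divisor k K // 0 ≤ D ∧ D.deg = n}) (u : kˣ),
      algebraMap k K u * fE E ∈ L (Dc (cE E)) ∧ algebraMap k K u * fE E ≠ 0 := by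
    intro E u
    have hu0 : algebraMap k K (u : k) ≠ 0 := (_root_.map_ne_zero _).2 u.ne_zero
    refine ⟨?_, mul_ne_zero hu0 (hfE0 E)⟩
    intro Q
    rw [val_le_exp_iff Q (mul_ne_zero hu0 (hfE0 E)), ord_mul Q hu0 (hfE0 E), ord_const, zero_add,
      ← div_apply hK, ← hfEdiv E, Finsupp.sub_apply]
    have := E.2.1 Q
    rw [Finsupp.zero_apply] at this
    linarith
  let Ψ : {D : Divisor k K // 0 ≤ D ∧ D.deg = n} × kˣ →
      {p : Pic0 k K × K // p.2 ∈ L (Dc p.1) ∧ p.2 ≠ 0} :=
    fun Eu => ⟨(cE Eu.1, algebraMap k K Eu.2 * fE Eu.1), hΨmem Eu.1 Eu.2⟩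
  have hdivΨ : ∀ (E : {D : Divisor k K // 0 ≤ D ∧ D.deg = n}) (u : kˣ),
      FunFld.div k (algebraMap k K u * fE E) = E.1 - Dc (cE E) := by
    intro E u
    have hu0 : algebraMap k K (u : k) ≠ 0 := (_root_.map_ne_zero _).2 u.ne_zero
    rw [div_mul hK hu0 (hfE0 E), div_of_mem_range hK, zero_add, hfEdiv E]
  have hΨinj : Function.Injective Ψ := by
    rintro ⟨E, u⟩ ⟨E', u'⟩ h
    have h1 : cE E = cE E' := congrArg (fun p => p.1.1) h
    have h2 : algebraMap k K u * fE E = algebraMap k K u' * fE E' := congrArg (fun p => p.1.2) h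
    have h3 : E.1 = E'.1 := by
      have h4 := hdivΨ E u
      have h5 := hdivΨ E' u'
      rw [h2, h5, h1] at h4
      exact (sub_left_inj.1 h4).symm
    have hEE' : E = E' := Subtype.ext h3
    subst hEE'
    have h6 := mul_right_cancel₀ (hfE0 E) h2
    have h7 : (u : k) = u' := (algebraMap k K).injective h6
    rw [Units.ext h7]
  have hΨsurj : Function.Surjective Ψ := by
    rintro ⟨⟨c, f⟩, hfL, hf0⟩
    simp only at hfL hf0
    have hE0 : 0 ≤ Dc c + FunFld.div k f := by
      intro Q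
      rw [Finsupp.zero_apply, Finsupp.add_apply, div_apply hK]
      have := (val_le_exp_iff Q hf0 _).1 (hfL Q)
      linarith
    have hEd : (Dc c + FunFld.div k f).deg = n := by rw [deg_add, deg_div hK, hDcdeg, add_zero]
    set E : {D : Divisor k K // 0 ≤ D ∧ D.deg = n} := ⟨Dc c + FunFld.div k f, hE0, hEd⟩ with hEdef
    have hcE : cE E = c := by
      rw [← hrep c]
      show (QuotientAddGroup.mk _ : Pic0 k K) = QuotientAddGroup.mk _
      rw [pic0_mk_eq_iff]
      show (rep c : Divisor k K) - (Dn + (rep c : Divisor k K) + FunFld.div k f - Dn) ∈ _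
      have : (rep c : Divisor k K) - (Dn + (rep c : Divisor k K) + FunFld.div k f - Dn) =
          FunFld.div k f⁻¹ := by rw [div_inv hK]; abel
      rw [this]
      exact div_mem_prinDivs _
    -- `f / fE E` is a nonzero constant
    have hdiv : FunFld.div k (f / fE E) = 0 := by
      rw [div_eq_mul_inv, div_mul hK hf0 (inv_ne_zero (hfE0 E)), div_inv hK, ← hfEdiv E, hcE]
      show FunFld.div k f + -(Dc c + FunFld.div k f - Dc c) = 0
      abel
    have hconst : f / fE E ∈ Set.range (algebraMap k K) := by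
      apply mem_range_of_forall_val_le_one hK
      intro Q
      have hne : f / fE E ≠ 0 := div_ne_zero hf0 (hfE0 E)
      rw [← ord_nonneg_iff Q hne, ← div_apply hK, hdiv]
      rfl
    obtain ⟨u, hu⟩ := hconst
    have hu0 : u ≠ 0 := by
      rintro rfl
      rw [map_zero] at hu
      exact div_ne_zero hf0 (hfE0 E) hu.symm
    refine ⟨(E, Units.mk0 u hu0), ?_⟩
    apply Subtype.ext
    show (cE E, algebraMap k K u * fE E) = (c, f)
    rw [hcE, hu, div_mul_cancel₀ _ (hfE0 E)]
  have hcardΨ := Nat.card_congr (Equiv.ofBijective Ψ ⟨hΨinj, hΨsurj⟩)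
  rw [Nat.card_prod, Nat.card_units] at hcardΨ
  -- count the target
  have hcardX : Nat.card {p : Pic0 k K × K // p.2 ∈ L (Dc p.1) ∧ p.2 ≠ 0} =
      Nat.card (Pic0 k K) * (Nat.card k ^ (n + 1 - genus k K) - 1) := by
    rw [Nat.card_congr (Equiv.subtypeProdEquivSigmaSubtype
      (fun (c : Pic0 k K) (f : K) => f ∈ L (Dc c) ∧ f ≠ 0))]
    haveI : ∀ c : Pic0 k K, Finite {f : K // f ∈ L (Dc c) ∧ f ≠ 0} := by
      intro c
      have hfd := L_finite hK (Dc c)
      haveI : Finite (L (Dc c)) := Module.finite_of_finite k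
      exact Finite.of_injective (fun f : {f : K // f ∈ L (Dc c) ∧ f ≠ 0} =>
        (⟨f.1, f.2.1⟩ : L (Dc c))) (fun a b h => Subtype.ext (congrArg (fun v : L (Dc c) => (v : K)) h))
    rw [Nat.card_sigma]
    simp only [natCard_L_ne_zero hK, hell]
    rw [Finset.sum_const, Finset.card_univ, smul_eq_mul, ← Nat.card_eq_fintype_card (α := Pic0 k K)]
  rw [hcardX] at hcardΨ
  have hq : 1 ≤ Nat.card k := Nat.card_pos
  have hqp : 1 ≤ Nat.card k ^ (n + 1 - genus k K) := Nat.one_le_pow _ _ hq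
  have : ((Nat.card {D : Divisor k K // 0 ≤ D ∧ D.deg = n} * (Nat.card k - 1) : ℕ) : ℤ) =
      ((Nat.card (Pic0 k K) * (Nat.card k ^ (n + 1 - genus k K) - 1) : ℕ) : ℤ) := by
    exact_mod_cast hcardΨ
  rw [Nat.cast_mul, Nat.cast_mul, Nat.cast_sub hq, Nat.cast_sub hqp] at this
  push_cast at this
  unfold effDivCount classNum
  linarith

end Groth.Agent.Helper17.FF
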