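import Mathlib
import Groth.Agent.Lib.Helper17.FFIC
namespace Groth.Agent.Helper17.FF

universe u v w

open FunFld Polynomial Module IntermediateField

section UR1

variable {k : Type u} {K : Type v} {K' : Type w} [Field k] [Field K] [Field K'] [Algebra k K]
  [Algebra K K'] [Algebra k K'] [IsScalarTower k K K'] [FiniteDimensional K K']

/-- every element of the maximal ideal is divisible by a uniformizer -/
lemma exists_eq_mul_of_lt_one (P : Place k K) {t : K} (ht : P.1 t = WithZero.exp (-1 : ℤ))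
    (r : P.O) (hr : P.1 (r : K) < 1) :
    ∃ r' : P.O, (r : K) = t * (r' : K) := by
  have ht0 : t ≠ 0 := fun h => by
    rw [h, map_zero] at ht; exact WithZero.exp_ne_zero ht.symm
  refine ⟨⟨(r : K) / t, ?_⟩, by field_simp⟩
  show P.1 ((r : K) / t) ≤ 1
  rw [map_div₀, ht, div_le_one₀ WithZero.exp_pos]
  have := (val_lt_exp_iff_le P (r : K) 0).1 (by rw [WithZero.exp_zero]; exact hr)
  simpa using this

/-- a polynomial over `O_P` whose reduction vanishes is divisible by a uniformizer -/
lemma exists_eq_C_mul_of_map_residue_eq_zero (P : Place k K) {t : K}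
    (ht : P.1 t = WithZero.exp (-1 : ℤ)) (ht1 : P.1 t ≤ 1) (h : P.O[X])
    (hh : h.map (IsLocalRing.residue P.O) = 0) :
    ∃ h' : P.O[X], h = C (⟨t, ht1⟩ : P.O) * h' := by
  classical
  have hcoeff : ∀ n, ∃ r' : P.O, ((h.coeff n : P.O) : K) = t * (r' : K) := by
    intro n
    apply exists_eq_mul_of_lt_one P ht
    have h1 := congrArg (fun q => Polynomial.coeff q n) hh
    simp only [coeff_map, coeff_zero] at h1
    rwa [IsLocalRing.residue_eq_zero_iff, mem_maximalIdeal_iff] at h1
  choose r' hr' using hcoeff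
  refine ⟨∑ n ∈ h.support, monomial n (r' n), ?_⟩
  ext n
  rw [coeff_C_mul, finsetSum_coeff]
  simp only [coeff_monomial]
  rw [Finset.sum_ite_eq']
  by_cases hn : n ∈ h.support
  · rw [if_pos hn]
    push_cast
    exact hr' n
  · rw [if_neg hn, mul_zero]
    rw [Polynomial.mem_support_iff, not_not] at hn
    rw [hn]

end UR1

open FunFld Polynomial Module IntermediateField

section UR2

variable {k : Type u} {K : Type v} {K' : Type w} [Field k] [Field K] [Field K'] [Algebra k K]
  [Algebra K K'] [Algebra k K'] [IsScalarTower k K K'] [FiniteDimensional K K']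

/-- if `R_P = O_P[y]` and the minimal polynomial of `y` has separable reduction, then `P` is
unramified in `K'`. -/
theorem ramIdx_eq_one_of_separable_reduction (hK : IsWeakFF k K) (P : Place k K) (y : K')
    (gO : P.O[X])
    (hmin : ∀ h : P.O[X], eval₂ ((algebraMap K K').comp P.O.subtype) y h = 0 → gO ∣ h)
    (hgy : eval₂ ((algebraMap K K').comp P.O.subtype) y gO = 0)
    (hsep : (gO.map (IsLocalRing.residue P.O)).Separable)
    (hyint : ∀ Q : Place k K', IsOver Q P → Q.1 y ≤ 1)
    (hgen : ∀ z : K', (∀ Q : Place k K', IsOver Q P → Q.1 z ≤ 1) →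
      ∃ h : P.O[X], z = eval₂ ((algebraMap K K').comp P.O.subtype) y h)
    {Q : Place k K'} {e : ℕ} (he : IsOverWith Q P e) : e = 1 := by
  classical
  by_contra hne
  have hepos := isOverWith_pos he
  have he2 : 2 ≤ e := by omega
  obtain ⟨t, ht⟩ := P.2.2 (WithZero.exp (-1 : ℤ))
  have ht0 : t ≠ 0 := fun h => by
    rw [h, map_zero] at ht; exact WithZero.exp_ne_zero ht.symm
  have ht1 : P.1 t ≤ 1 := by
    rw [ht, ← WithZero.exp_zero, WithZero.exp_le_exp]; omega
  obtain ⟨hfin, -⟩ := wk_sum_ramIdx_mul_deg (L := K') hK P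
  set S : Finset (Place k K') := hfin.toFinset with hSdef
  have hS : ∀ Q', Q' ∈ S ↔ IsOver Q' P := fun Q' => by simp [hSdef, Set.Finite.mem_toFinset]
  have hQS : Q ∈ S := (hS Q).2 ⟨e, he⟩
  -- the nilpotent element
  obtain ⟨w, hw⟩ := weak_approx_exact (fun Q' : S => Q'.1) Subtype.val_injective (fun _ => 0)
    (fun Q' => if Q' = ⟨Q, hQS⟩ then (e : ℤ) - 1 else (ramIdx Q'.1 P : ℤ))
  have hwQ : Q.1 w = WithZero.exp (-((e : ℤ) - 1)) := by
    have := hw ⟨Q, hQS⟩
    simpa using this
  have hwQ' : ∀ Q' : Place k K', IsOver Q' P → Q' ≠ Q →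
      Q'.1 w = WithZero.exp (-(ramIdx Q' P : ℤ)) := by
    intro Q' hQ' hne'
    have := hw ⟨Q', (hS Q').2 hQ'⟩
    have hne'' : (⟨Q', (hS Q').2 hQ'⟩ : S) ≠ ⟨Q, hQS⟩ := fun h => hne' (congrArg Subtype.val h)
    simpa [hne''] using this
  have hvalt : ∀ Q' : Place k K', IsOver Q' P →
      Q'.1 (algebraMap K K' t) = WithZero.exp (-(ramIdx Q' P : ℤ)) := by
    intro Q' hQ'
    rw [isOverWith_ramIdx hQ' t, ht, ← WithZero.exp_nsmul]
    simp
  have hramQ : ramIdx Q P = e := ramIdx_eq he
  have hw_int : ∀ Q' : Place k K', IsOver Q' P → Q'.1 w ≤ 1 := by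
    intro Q' hQ'
    by_cases hQQ : Q' = Q
    · subst hQQ
      rw [hwQ, ← WithZero.exp_zero, WithZero.exp_le_exp]; omega
    · rw [hwQ' Q' hQ' hQQ]; exact exp_neg_natCast_le_one _
  have hw2_int : ∀ Q' : Place k K', IsOver Q' P → Q'.1 (w ^ 2 / algebraMap K K' t) ≤ 1 := by
    intro Q' hQ'
    rw [map_div₀, map_pow, hvalt Q' hQ', div_le_one₀ WithZero.exp_pos]
    by_cases hQQ : Q' = Q
    · subst hQQ
      rw [hwQ, hramQ, ← WithZero.exp_nsmul, WithZero.exp_le_exp]
      simp only [nsmul_eq_mul]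
      push_cast
      have : (2 : ℤ) ≤ e := by exact_mod_cast he2
      linarith
    · rw [hwQ' Q' hQ' hQQ, ← WithZero.exp_nsmul, WithZero.exp_le_exp]
      simp only [nsmul_eq_mul]
      push_cast
      have : (0 : ℤ) ≤ ramIdx Q' P := by positivity
      linarith
  obtain ⟨h, hh⟩ := hgen w hw_int
  obtain ⟨h₂, hh₂⟩ := hgen _ hw2_int
  set ψ := (algebraMap K K').comp P.O.subtype with hψ
  -- `h² - t h₂` kills `y`
  have hkill : eval₂ ψ y (h ^ 2 - C (⟨t, ht1⟩ : P.O) * h₂) = 0 := by
    rw [eval₂_sub, eval₂_pow, eval₂_mul, eval₂_C, ← hh, ← hh₂]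
    show w ^ 2 - algebraMap K K' t * (w ^ 2 / algebraMap K K' t) = 0
    have : algebraMap K K' t ≠ 0 := (_root_.map_ne_zero _).2 ht0
    field_simp
    ring
  obtain ⟨q, hq⟩ := hmin _ hkill
  -- reduce modulo `P`
  have hred : (gO.map (IsLocalRing.residue P.O)) ∣ (h.map (IsLocalRing.residue P.O)) ^ 2 := by
    refine ⟨q.map (IsLocalRing.residue P.O), ?_⟩
    have h1 := congrArg (Polynomial.map (IsLocalRing.residue P.O)) hq
    rw [Polynomial.map_sub, Polynomial.map_pow, Polynomial.map_mul, Polynomial.map_C,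
      Polynomial.map_mul] at h1
    have h2 : IsLocalRing.residue P.O (⟨t, ht1⟩ : P.O) = 0 := by
      rw [IsLocalRing.residue_eq_zero_iff, mem_maximalIdeal_iff]
      show P.1 t < 1
      rw [ht, ← WithZero.exp_zero, WithZero.exp_lt_exp]; omega
    rw [h2, map_zero, zero_mul, sub_zero] at h1
    exact h1
  rw [hsep.squarefree.dvd_pow_iff_dvd (by norm_num)] at hred
  obtain ⟨qbar, hqbar⟩ := hred
  obtain ⟨q', hq'⟩ := Polynomial.map_surjective (IsLocalRing.residue P.O)
    IsLocalRing.residue_surjective qbar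
  have hzero : (h - gO * q').map (IsLocalRing.residue P.O) = 0 := by
    rw [Polynomial.map_sub, Polynomial.map_mul, hq', hqbar, sub_self]
  obtain ⟨h₃, hh₃⟩ := exists_eq_C_mul_of_map_residue_eq_zero P ht ht1 _ hzero
  have hwt : w = algebraMap K K' t * eval₂ ψ y h₃ := by
    have h1 : h = gO * q' + C (⟨t, ht1⟩ : P.O) * h₃ := by rw [← hh₃]; ring
    rw [hh, h1, eval₂_add, eval₂_mul, hgy, zero_mul, zero_add, eval₂_mul, eval₂_C]
    rfl
  -- `eval₂ ψ y h₃` is integral at `Q`
  have hev : Q.1 (eval₂ ψ y h₃) ≤ 1 := by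
    rw [eval₂_eq_sum_range]
    refine Valuation.map_sum_le _ (fun i _ => ?_)
    rw [map_mul, map_pow]
    refine mul_le_one' ?_ (pow_le_one' (hyint Q ⟨e, he⟩) _)
    show Q.1 (algebraMap K K' ((h₃.coeff i : P.O) : K)) ≤ 1
    exact (isOverWith_le_one_iff he _).2 (h₃.coeff i).2
  have h5 : Q.1 w ≤ WithZero.exp (-(e : ℤ)) := by
    rw [hwt, map_mul, hvalt Q ⟨e, he⟩, hramQ]
    calc WithZero.exp (-(e : ℤ)) * Q.1 (eval₂ ψ y h₃) ≤ WithZero.exp (-(e : ℤ)) * 1 :=
          mul_le_mul' le_rfl hev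
      _ = _ := mul_one _
  rw [hwQ, WithZero.exp_le_exp] at h5
  omega

end UR2

open FunFld Polynomial Module IntermediateField

section UR3


variable {k : Type u} {K : Type v} {K' : Type w} [Field k] [Field K] [Field K'] [Algebra k K]
  [Algebra K K'] [Algebra k K'] [IsScalarTower k K K'] [FiniteDimensional K K']

lemma mem_lifts_of_coeff_le_one (P : Place k K) (p : K[X]) (hp : ∀ n, P.1 (p.coeff n) ≤ 1) :
    p ∈ Polynomial.lifts (P.O.subtype : P.O →+* K) := by
  rw [Polynomial.lifts_iff_coeff_lifts]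
  intro n
  exact ⟨⟨p.coeff n, hp n⟩, rfl⟩

theorem ramIdx_eq_one_of_good (hK : IsWeakFF k K) [Algebra.IsSeparable K K']
    (pb : PowerBasis K K') (a b : K[X])
    (hab : a * minpoly K pb.gen + b * derivative (minpoly K pb.gen) = 1) (P : Place k K)
    (hg : ∀ n, P.1 ((minpoly K pb.gen).coeff n) ≤ 1) (ha : ∀ n, P.1 (a.coeff n) ≤ 1)
    (hb : ∀ n, P.1 (b.coeff n) ≤ 1) (hd : P.1 (Algebra.discr K pb.basis) = 1)
    {Q : Place k K'} {e : ℕ} (he : IsOverWith Q P e) : e = 1 := by
  classical
  set y := pb.gen with hy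
  set g := minpoly K y with hgdef
  have hyint0 : IsIntegral K y := IsIntegral.of_finite K y
  have hgm : g.Monic := minpoly.monic hyint0
  letI algPO : Algebra P.O K' := ((algebraMap K K').comp P.O.subtype).toAlgebra
  have hst : IsScalarTower P.O K K' := IsScalarTower.of_algebraMap_eq (fun _ => rfl)
  have hinj : Function.Injective (P.O.subtype : P.O →+* K) := Subtype.val_injective
  obtain ⟨gO, hgO, -, hgOm⟩ :=
    Polynomial.lifts_and_degree_eq_and_monic (mem_lifts_of_coeff_le_one P g hg) hgm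
  obtain ⟨aO, haO⟩ := mem_lifts_of_coeff_le_one P a ha
  obtain ⟨bO, hbO⟩ := mem_lifts_of_coeff_le_one P b hb
  rw [Polynomial.coe_mapRingHom] at haO hbO
  have hev : ∀ h : P.O[X], eval₂ ((algebraMap K K').comp P.O.subtype) y h =
      aeval y (h.map (P.O.subtype : P.O →+* K)) := by
    intro h
    rw [aeval_def, eval₂_map]
  have hgy : eval₂ ((algebraMap K K').comp P.O.subtype) y gO = 0 := by
    rw [hev, hgO]; exact minpoly.aeval K y
  have hmin : ∀ h : P.O[X], eval₂ ((algebraMap K K').comp P.O.subtype) y h = 0 → gO ∣ h := by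
    intro h hh
    rw [hev] at hh
    have h1 : g ∣ h.map (P.O.subtype : P.O →+* K) := minpoly.dvd K y hh
    rw [← hgO] at h1
    exact (Polynomial.map_dvd_map _ hinj hgOm).1 h1
  have hsep : (gO.map (IsLocalRing.residue P.O)).Separable := by
    have h1 : aO * gO + bO * derivative gO = 1 := by
      apply Polynomial.map_injective _ hinj
      rw [Polynomial.map_add, Polynomial.map_mul, Polynomial.map_mul, ← derivative_map, haO, hbO,
        hgO, Polynomial.map_one]
      exact hab
    have h2 := congrArg (Polynomial.map (IsLocalRing.residue P.O)) h1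
    rw [Polynomial.map_add, Polynomial.map_mul, Polynomial.map_mul, ← derivative_map,
      Polynomial.map_one] at h2
    exact ⟨_, _, h2⟩
  have hyintO : IsIntegral P.O y := ⟨gO, hgOm, hgy⟩
  have hyint : ∀ Q : Place k K', IsOver Q P → Q.1 y ≤ 1 := by
    intro Q' hQ'
    obtain ⟨e', he'⟩ := hQ'
    refine val_le_one_of_isIntegral' Q'.1 (fun r => ?_) hyintO
    exact (isOverWith_le_one_iff he' _).2 r.2
  have hgen : ∀ z : K', (∀ Q : Place k K', IsOver Q P → Q.1 z ≤ 1) →
      ∃ h : P.O[X], z = eval₂ ((algebraMap K K').comp P.O.subtype) y h := by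
    intro z hz
    have hzint : IsIntegral P.O z := ((integralClosure_eq_and_finite hK P).1 z).2 hz
    have h1 := Algebra.discr_mul_isIntegral_mem_adjoin (K := K) (B := pb) hyintO hzint
    have hd0 : Algebra.discr K pb.basis ≠ 0 := fun h0 => by
      rw [h0, map_zero] at hd; exact zero_ne_one hd
    have hdinv : P.1 (Algebra.discr K pb.basis)⁻¹ ≤ 1 := by rw [map_inv₀, hd, inv_one]
    have h2 : z = (⟨(Algebra.discr K pb.basis)⁻¹, hdinv⟩ : P.O) •
        (Algebra.discr K pb.basis • z) := by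
      rw [Algebra.smul_def, Algebra.smul_def]
      show z = algebraMap K K' (Algebra.discr K pb.basis)⁻¹ *
        (algebraMap K K' (Algebra.discr K pb.basis) * z)
      rw [← mul_assoc, ← map_mul, inv_mul_cancel₀ hd0, map_one, one_mul]
    have h3 : z ∈ Algebra.adjoin P.O ({y} : Set K') := by
      rw [h2]; exact Subalgebra.smul_mem _ h1 _
    rw [Algebra.adjoin_singleton_eq_range_aeval] at h3
    obtain ⟨h, hh⟩ := h3
    exact ⟨h, hh.symm⟩
  exact ramIdx_eq_one_of_separable_reduction hK P y gO hmin hgy hsep hyint hgen he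

end UR3

open FunFld Polynomial Module IntermediateField

section UR4

variable {k : Type u} {K : Type v} {K' : Type w} [Field k] [Field K] [Field K'] [Algebra k K]
  [Algebra K K'] [Algebra k K'] [IsScalarTower k K K'] [FiniteDimensional K K']

lemma val_eq_one_of_not_mem_support (P : Place k K) {x : K} (hx : x ≠ 0)
    (h : P ∉ Function.support fun P : Place k K => P.ord x) : P.1 x = 1 := by
  rw [Function.mem_support, not_not] at h
  exact (ord_eq_zero_iff P hx).1 h

theorem finite_ramified (hK : IsFunctionField k K) [Algebra.IsSeparable K K'] :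
    {Q : Place k K' | ¬ Function.Surjective (Q.1.comap (algebraMap K K'))}.Finite := by
  classical
  have halg : Algebra.IsAlgebraic K K' := Algebra.IsAlgebraic.of_finite K K'
  let pb := Field.powerBasisOfFiniteOfSeparable K K'
  have hsep : (minpoly K pb.gen).Separable := Algebra.IsSeparable.isSeparable K pb.gen
  obtain ⟨a, b, hab⟩ := hsep
  have hd0 : Algebra.discr K pb.basis ≠ 0 := Algebra.discr_not_zero_of_basis K pb.basis
  let XS : Finset K := (minpoly K pb.gen).coeffs ∪ a.coeffs ∪ b.coeffs ∪ {Algebra.discr K pb.basis}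
  have hX0 : ∀ x ∈ XS, x ≠ 0 := by
    intro x hx
    simp only [XS, Finset.mem_union, Finset.mem_singleton] at hx
    rcases hx with ((hx | hx) | hx) | hx
    · obtain ⟨n, hn, rfl⟩ := Polynomial.mem_coeffs_iff.1 hx
      exact Polynomial.mem_support_iff.1 hn
    · obtain ⟨n, hn, rfl⟩ := Polynomial.mem_coeffs_iff.1 hx
      exact Polynomial.mem_support_iff.1 hn
    · obtain ⟨n, hn, rfl⟩ := Polynomial.mem_coeffs_iff.1 hx
      exact Polynomial.mem_support_iff.1 hn
    · rw [hx]; exact hd0
  let B : Set (Place k K) := ⋃ x ∈ XS, Function.support (fun P : Place k K => P.ord x)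
  have hBfin : B.Finite := Set.Finite.biUnion XS.finite_toSet (fun x _ => finite_support_ord hK x)
  have hgood : ∀ P : Place k K, P ∉ B → ∀ x ∈ XS, P.1 x = 1 := by
    intro P hP x hx
    apply val_eq_one_of_not_mem_support P (hX0 x hx)
    intro hmem
    exact hP (Set.mem_biUnion hx hmem)
  have hcoeff : ∀ (P : Place k K) (p : K[X]), (∀ x ∈ p.coeffs, P.1 x = 1) →
      ∀ n, P.1 (p.coeff n) ≤ 1 := by
    intro P p hp n
    by_cases hn : p.coeff n = 0
    · rw [hn, map_zero]; exact zero_le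
    · exact (hp _ (Polynomial.coeff_mem_coeffs hn)).le
  refine (Set.Finite.biUnion hBfin
    (fun P _ => (sum_ramIdx_mul_deg (K' := K') hK P).1)).subset ?_
  intro Q hQ
  obtain ⟨P, e, he⟩ := exists_isOverWith hK Q
  simp only [Set.mem_iUnion]
  refine ⟨P, ?_, ⟨e, he⟩⟩
  by_contra hPB
  apply hQ
  have hg := hgood P hPB
  have he1 : e = 1 := ramIdx_eq_one_of_good (IsWeakFF.of_isFunctionField hK) pb a b hab P
    (hcoeff P _ (fun x hx => hg x (by simp [XS, hx])))
    (hcoeff P _ (fun x hx => hg x (by simp [XS, hx])))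
    (hcoeff P _ (fun x hx => hg x (by simp [XS, hx])))
    (hg _ (by simp [XS])) he
  subst he1
  intro γ
  obtain ⟨x, hx⟩ := P.2.2 γ
  exact ⟨x, by rw [Valuation.comap_apply, he x, pow_one, hx]⟩

end UR4

end Groth.Agent.Helper17.FF
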