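import Mathlib
import Groth.Agent.Lib.Helper17.FFUR
import Groth.Agent.Lib.Helper17.FFConst
namespace Groth.Agent.Helper17.FF

universe u v w

open FunFld Polynomial Module IntermediateField
open scoped TensorProduct



section UR5

variable {k : Type u} {K : Type v} {K' : Type w} [Field k] [Field K] [Field K'] [Algebra k K]
  [Algebra K K'] [Algebra k K'] [IsScalarTower k K K'] [FiniteDimensional K K']

/-- at a good place, `R_P = O_P[y]` -/
theorem exists_eval₂_of_good (hK : IsWeakFF k K) [Algebra.IsSeparable K K']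
    (pb : PowerBasis K K') (P : Place k K)
    (hg : ∀ n, P.1 ((minpoly K pb.gen).coeff n) ≤ 1) (hd : P.1 (Algebra.discr K pb.basis) = 1)
    (z : K') (hz : ∀ Q : Place k K', IsOver Q P → Q.1 z ≤ 1) :
    ∃ h : P.O[X], z = eval₂ ((algebraMap K K').comp P.O.subtype) pb.gen h := by
  classical
  set y := pb.gen with hy
  set g := minpoly K y with hgdef
  have hyint0 : IsIntegral K y := IsIntegral.of_finite K y
  have hgm : g.Monic := minpoly.monic hyint0
  letI algPO : Algebra P.O K' := ((algebraMap K K').comp P.O.subtype).toAlgebra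
  have hst : IsScalarTower P.O K K' := IsScalarTower.of_algebraMap_eq (fun _ => rfl)
  obtain ⟨gO, hgO, -, hgOm⟩ :=
    Polynomial.lifts_and_degree_eq_and_monic (mem_lifts_of_coeff_le_one P g hg) hgm
  have hgy : eval₂ ((algebraMap K K').comp P.O.subtype) y gO = 0 := by
    have : eval₂ ((algebraMap K K').comp P.O.subtype) y gO =
        aeval y (gO.map (P.O.subtype : P.O →+* K)) := by rw [aeval_def, eval₂_map]
    rw [this, hgO]; exact minpoly.aeval K y
  have hyintO : IsIntegral P.O y := ⟨gO, hgOm, hgy⟩
  have hzint : IsIntegral P.O z := ((integralClosure_eq_and_finite hK P).1 z).2 hz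
  have h1 := Algebra.discr_mul_isIntegral_mem_adjoin (K := K) (B := pb) hyintO hzint
  have hd0 : Algebra.discr K pb.basis ≠ 0 := fun h0 => by
    rw [h0, map_zero] at hd; exact zero_ne_one hd
  have hdinv : P.1 (Algebra.discr K pb.basis)⁻¹ ≤ 1 := by rw [map_inv₀, hd, inv_one]
  have h2 : z = (⟨(Algebra.discr K pb.basis)⁻¹, hdinv⟩ : P.O) •
      (Algebra.discr K pb.basis • z) := by
    rw [Algebra.smul_def, Algebra.smul_def]
    show z = algebraMap K K' (Algebra.discr K pb.basis)⁻¹ *
      (algebraMap K K' (Algebra.discr K pb.basis) * z)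
    rw [← mul_assoc, ← map_mul, inv_mul_cancel₀ hd0, map_one, one_mul]
  have h3 : z ∈ Algebra.adjoin P.O ({y} : Set K') := by
    rw [h2]; exact Subalgebra.smul_mem _ h1 _
  rw [Algebra.adjoin_singleton_eq_range_aeval] at h3
  obtain ⟨h, hh⟩ := h3
  exact ⟨h, hh.symm⟩

end UR5

section ConstExt

variable {k k' : Type u} {K K' : Type v} [Field k] [Field k'] [Field K] [Field K']
    [Algebra k k'] [FiniteDimensional k k'] [Algebra k K] [Algebra K K'] [Algebra k' K']
    [Algebra k K'] [IsScalarTower k k' K'] [IsScalarTower k K K']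

/-- a power basis of `k'/k` gives one of `k' ⊗ K` over `K` -/
theorem exists_powerBasis_const
    (h : Function.Bijective (Algebra.TensorProduct.productMap
      (IsScalarTower.toAlgHom k k' K') (IsScalarTower.toAlgHom k K K')))
    (pb : PowerBasis k k') :
    ∃ pb' : PowerBasis K K', pb'.gen = algebraMap k' K' pb.gen ∧
      minpoly K pb'.gen = (minpoly k pb.gen).map (algebraMap k K) := by
  classical
  have hfin : FiniteDimensional K K' := finite_const h
  set β := pb.gen with hβ
  set β' : K' := algebraMap k' K' β with hβ'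
  set g := minpoly k β with hg
  have hβint : IsIntegral k β := IsIntegral.of_finite k β
  have hgm : g.Monic := minpoly.monic hβint
  have hroot : aeval β' (g.map (algebraMap k K)) = 0 := by
    rw [aeval_map_algebraMap, hβ', aeval_algebraMap_apply, minpoly.aeval, map_zero]
  have hβ'int : IsIntegral K β' := IsIntegral.of_finite K β'
  -- `K(β') = ⊤`
  have htop : K⟮β'⟯ = ⊤ := by
    rw [eq_top_iff]
    intro y hy
    clear hy
    obtain ⟨t, rfl⟩ := h.2 y
    induction t using TensorProduct.induction_on with
    | zero => rw [map_zero]; exact zero_mem _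
    | tmul c x =>
      rw [Algebra.TensorProduct.productMap_apply_tmul]
      refine mul_mem ?_ (IntermediateField.algebraMap_mem _ x)
      obtain ⟨p, hp⟩ := pb.exists_eq_aeval' c
      show algebraMap k' K' c ∈ K⟮β'⟯
      rw [hp, ← aeval_algebraMap_apply, ← aeval_map_algebraMap K]
      exact IntermediateField.algebra_adjoin_le_adjoin K {β'}
        (Polynomial.aeval_mem_adjoin_singleton K β')
    | add a b ha hb => rw [map_add]; exact add_mem ha hb
  have hdvd : minpoly K β' ∣ g.map (algebraMap k K) := minpoly.dvd K β' hroot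
  have hdeg1 : (minpoly K β').natDegree = finrank K K' := by
    rw [← IntermediateField.adjoin.finrank hβ'int, htop, IntermediateField.finrank_top']
  have hdeg2 : (g.map (algebraMap k K)).natDegree = finrank K K' := by
    rw [natDegree_map, finrank_const h, hg, pb.natDegree_minpoly, pb.finrank]
  have hmin : g.map (algebraMap k K) = minpoly K β' :=
    Polynomial.eq_of_monic_of_dvd_of_natDegree_le (minpoly.monic hβ'int) (hgm.map _) hdvd
      (by rw [hdeg1, hdeg2])
  let e : K⟮β'⟯ ≃ₐ[K] K' := (IntermediateField.equivOfEq htop).trans IntermediateField.topEquiv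
  refine ⟨(IntermediateField.adjoin.powerBasis hβ'int).map e, ?_, ?_⟩
  · rw [PowerBasis.map_gen, IntermediateField.adjoin.powerBasis_gen]
    rfl
  · have h1 : ((IntermediateField.adjoin.powerBasis hβ'int).map e).gen = β' := by
      rw [PowerBasis.map_gen, IntermediateField.adjoin.powerBasis_gen]
      rfl
    rw [h1, hmin]

end ConstExt


open FunFld Polynomial Module IntermediateField
open scoped TensorProduct

section ConstExt2

variable {k k' : Type u} {K K' : Type v} [Field k] [Field k'] [Field K] [Field K']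
    [Algebra k k'] [FiniteDimensional k k'] [Algebra k K] [Algebra K K'] [Algebra k' K']
    [Algebra k K'] [IsScalarTower k k' K'] [IsScalarTower k K K']

lemma val_const_eq_one (P : Place k K) {c : k} (hc : c ≠ 0) : P.1 (algebraMap k K c) = 1 := by
  refine le_antisymm (P.2.1 c) ?_
  have h1 : P.1 (algebraMap k K c) * P.1 (algebraMap k K c⁻¹) = 1 := by
    rw [← map_mul, ← map_mul, mul_inv_cancel₀ hc, map_one, map_one]
  have h2 := P.2.1 c⁻¹
  by_contra hlt
  push Not at hlt
  have hne : P.1 (algebraMap k K c) ≠ 0 := by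
    intro h0; rw [h0, zero_mul] at h1; exact zero_ne_one h1
  have : P.1 (algebraMap k K c) * P.1 (algebraMap k K c⁻¹) < 1 := by
    calc P.1 (algebraMap k K c) * P.1 (algebraMap k K c⁻¹)
        ≤ P.1 (algebraMap k K c) * 1 := mul_le_mul' le_rfl h2
      _ = P.1 (algebraMap k K c) := mul_one _
      _ < 1 := hlt
  rw [h1] at this
  exact lt_irrefl _ this

theorem const_ext_main
    (h : Function.Bijective (Algebra.TensorProduct.productMap
      (IsScalarTower.toAlgHom k k' K') (IsScalarTower.toAlgHom k K K')))
    (hK : FunFld.IsFunctionField k K) [Algebra.IsSeparable k k']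
    (P : FunFld.Place k K) [Algebra P.O K'] [IsScalarTower P.O K K']
    (Q : FunFld.Place k K') (hQ : FunFld.IsOver Q P) :
    (integralClosure P.O K').toSubring =
      (Algebra.adjoin P.O (Set.range (algebraMap k' K'))).toSubring ∧
    FunFld.IsOverWith Q P 1 := by
  classical
  have hfin : FiniteDimensional K K' := finite_const h
  have hKw : IsWeakFF k K := IsWeakFF.of_isFunctionField hK
  let pb := Field.powerBasisOfFiniteOfSeparable k k'
  obtain ⟨pb', hgen, hmin⟩ := exists_powerBasis_const h pb
  set g := minpoly k pb.gen with hg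
  have hgsep : g.Separable := Algebra.IsSeparable.isSeparable k pb.gen
  have hsep' : (minpoly K pb'.gen).Separable := by rw [hmin]; exact hgsep.map
  -- `K'/K` separable
  have hsepKK' : Algebra.IsSeparable K K' := by
    have h1 : IsSeparable K pb'.gen := hsep'
    have h2 : Algebra.IsSeparable K K⟮pb'.gen⟯ :=
      (IntermediateField.isSeparable_adjoin_simple_iff_isSeparable K K').2 h1
    have htop : K⟮pb'.gen⟯ = ⊤ :=
      IntermediateField.adjoin_eq_top_of_algebra K _ pb'.adjoin_gen_eq_top
    rw [Algebra.isSeparable_def]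
    intro x
    have hx : x ∈ K⟮pb'.gen⟯ := by rw [htop]; trivial
    have := Algebra.IsSeparable.isSeparable K (⟨x, hx⟩ : K⟮pb'.gen⟯)
    unfold IsSeparable at this ⊢
    rwa [← minpoly.algebraMap_eq (algebraMap K⟮pb'.gen⟯ K').injective] at this
  -- Bezout
  obtain ⟨a, b, hab⟩ := hgsep
  have hab' : a.map (algebraMap k K) * minpoly K pb'.gen +
      b.map (algebraMap k K) * derivative (minpoly K pb'.gen) = 1 := by
    rw [hmin, derivative_map, ← Polynomial.map_mul, ← Polynomial.map_mul, ← Polynomial.map_add,
      hab, Polynomial.map_one]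
  have hcoef : ∀ (p : k[X]) (n : ℕ), P.1 ((p.map (algebraMap k K)).coeff n) ≤ 1 := by
    intro p n; rw [coeff_map]; exact P.2.1 _
  -- discriminant
  have hd : P.1 (Algebra.discr K pb'.basis) = 1 := by
    have hint : IsIntegral k (Algebra.discr K pb'.basis) := by
      refine Algebra.discr_isIntegral K (fun i => ?_)
      rw [PowerBasis.coe_basis, hgen]
      refine IsIntegral.pow ?_ _
      exact (IsIntegral.of_finite k pb.gen).map (IsScalarTower.toAlgHom k k' K')
    obtain ⟨c, hc⟩ := hK.2 _ hint.isAlgebraic
    have hd0 : Algebra.discr K pb'.basis ≠ 0 := Algebra.discr_not_zero_of_basis K pb'.basis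
    have hc0 : c ≠ 0 := by
      rintro rfl; rw [map_zero] at hc; exact hd0 hc.symm
    rw [← hc]; exact val_const_eq_one P hc0
  have hgcoef : ∀ n, P.1 ((minpoly K pb'.gen).coeff n) ≤ 1 := by
    intro n; rw [hmin]; exact hcoef _ n
  refine ⟨?_, ?_⟩
  · -- integral closure
    have hIC := (integralClosure_eq_and_finite (K' := K') hKw P).1
    have hmap : ∀ r : P.O, algebraMap P.O K' r = algebraMap K K' (r : K) := fun r =>
      IsScalarTower.algebraMap_apply P.O K K' r
    ext z
    show z ∈ integralClosure P.O K' ↔ z ∈ Algebra.adjoin P.O (Set.range (algebraMap k' K'))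
    constructor
    · intro hz
      obtain ⟨q, hq⟩ := exists_eval₂_of_good hKw pb' P hgcoef hd z ((hIC z).1 hz)
      have hfeq : (algebraMap K K').comp P.O.subtype = algebraMap P.O K' := by
        ext r; exact (hmap r).symm
      rw [hq, hfeq, ← aeval_def]
      refine Algebra.adjoin_mono ?_ (Polynomial.aeval_mem_adjoin_singleton P.O pb'.gen)
      rw [Set.singleton_subset_iff, hgen]
      exact ⟨_, rfl⟩
    · intro hz
      refine Algebra.adjoin_le (S := integralClosure P.O K') ?_ hz
      rintro _ ⟨c, rfl⟩
      refine (hIC _).2 (fun Q' hQ' => ?_)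
      refine val_le_one_of_isIntegral' (R := k) Q'.1 (fun c => Q'.2.1 c) ?_
      exact (IsIntegral.of_finite k c).map (IsScalarTower.toAlgHom k k' K')
  · obtain ⟨e, he⟩ := hQ
    have := ramIdx_eq_one_of_good hKw pb' _ _ hab' P hgcoef (hcoef a) (hcoef b) hd he
    rw [this] at he
    exact he

end ConstExt2


open FunFld Polynomial Module IntermediateField
open scoped TensorProduct

section Sep18

variable {k k' : Type u} {K K' : Type v} [Field k] [Field k'] [Field K] [Field K']
    [Algebra k k'] [Algebra k K] [Algebra K K'] [Algebra k' K']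
    [Algebra k K'] [IsScalarTower k k' K'] [IsScalarTower k K K']

/-- the inclusion of the valuation ring as a `k`-algebra map -/
def valO (P : Place k K) : P.O →ₐ[k] K :=
  { P.O.subtype with commutes' := fun _ => rfl }

/-- the residue map as a `k`-algebra map -/
noncomputable def resAlg (P : Place k K) : P.O →ₐ[k] IsLocalRing.ResidueField P.O :=
  { IsLocalRing.residue P.O with commutes' := fun _ => rfl }

variable (k' K') in
/-- `k' ⊗ O_P → K'` -/
noncomputable def phiO (P : Place k K) : k' ⊗[k] P.O →ₐ[k] K' :=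
  Algebra.TensorProduct.productMap (IsScalarTower.toAlgHom k k' K')
    ((IsScalarTower.toAlgHom k K K').comp (valO P))

lemma phiO_tmul (P : Place k K) (c : k') (r : P.O) :
    phiO k' K' P (c ⊗ₜ r) = algebraMap k' K' c * algebraMap K K' (r : K) := by
  unfold phiO
  rw [Algebra.TensorProduct.productMap_apply_tmul]
  rfl

theorem phiO_injective
    (h : Function.Bijective (Algebra.TensorProduct.productMap
      (IsScalarTower.toAlgHom k k' K') (IsScalarTower.toAlgHom k K K')))
    (P : Place k K) : Function.Injective (phiO k' K' P) := by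
  have h1 : Function.Injective (LinearMap.lTensor k' (valO P).toLinearMap) :=
    Module.Flat.lTensor_preserves_injective_linearMap _ Subtype.val_injective
  have h2 : ∀ z, phiO k' K' P z = Algebra.TensorProduct.productMap
      (IsScalarTower.toAlgHom k k' K') (IsScalarTower.toAlgHom k K K')
        (LinearMap.lTensor k' (valO P).toLinearMap z) := by
    intro z
    induction z using TensorProduct.induction_on with
    | zero => rw [map_zero, map_zero, map_zero]
    | tmul c r =>
      rw [phiO_tmul, LinearMap.lTensor_tmul, Algebra.TensorProduct.productMap_apply_tmul]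
      rfl
    | add a b ha hb => rw [map_add, map_add, map_add, ha, hb]
  intro a b hab
  rw [h2, h2] at hab
  exact h1 (h.1 hab)

theorem phiO_mem_adjoin (P : Place k K) [Algebra P.O K'] [IsScalarTower P.O K K']
    (z : k' ⊗[k] P.O) :
    phiO k' K' P z ∈ Algebra.adjoin P.O (Set.range (algebraMap k' K')) := by
  induction z using TensorProduct.induction_on with
  | zero => rw [map_zero]; exact zero_mem _
  | tmul c r =>
    rw [phiO_tmul]
    refine mul_mem (Algebra.subset_adjoin ⟨c, rfl⟩) ?_
    have : algebraMap K K' (r : K) = algebraMap P.O K' r :=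
      (IsScalarTower.algebraMap_apply P.O K K' r).symm
    rw [this]
    exact Subalgebra.algebraMap_mem _ r
  | add a b ha hb => rw [map_add]; exact add_mem ha hb


attribute [-instance] IsLocalRing.instModuleResidueFieldOfAlgebra IsLocalRing.ResidueField.algebra in
theorem isReduced_tensor_residue [FiniteDimensional k k'] (hKw : IsWeakFF k K) (P : Place k K)
    [Algebra.IsSeparable k (IsLocalRing.ResidueField P.O)] :
    IsReduced (k' ⊗[k] IsLocalRing.ResidueField P.O) := by
  have : Module.Finite k (IsLocalRing.ResidueField P.O) := wk_residue_finite hKw P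
  have : Algebra.FormallyUnramified k (IsLocalRing.ResidueField P.O) :=
    Algebra.FormallyUnramified.of_isSeparable k _
  exact Algebra.FormallyUnramified.isReduced_of_field k' (k' ⊗[k] IsLocalRing.ResidueField P.O)

attribute [-instance] IsLocalRing.instModuleResidueFieldOfAlgebra IsLocalRing.ResidueField.algebra in
/-- the key descent step -/
theorem phiO_descend [FiniteDimensional k k']
    (h : Function.Bijective (Algebra.TensorProduct.productMap
      (IsScalarTower.toAlgHom k k' K') (IsScalarTower.toAlgHom k K K')))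
    (hKw : IsWeakFF k K) (P : Place k K)
    [Algebra.IsSeparable k (IsLocalRing.ResidueField P.O)]
    [Algebra P.O K'] [IsScalarTower P.O K K']
    {t : K} (ht : P.1 t = WithZero.exp (-1 : ℤ))
    {w : K'} (hw : IsIntegral P.O w) (M : ℕ) (z : k' ⊗[k] P.O)
    (hz : phiO k' K' P z = algebraMap K K' t ^ (M + 1) * w) :
    ∃ z' : k' ⊗[k] P.O, phiO k' K' P z' = algebraMap K K' t ^ M * w := by
  classical
  have hred := isReduced_tensor_residue (k' := k') hKw P
  have ht0 : t ≠ 0 := fun h0 => by
    rw [h0, map_zero] at ht; exact WithZero.exp_ne_zero ht.symm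
  have htle : P.1 t ≤ 1 := by rw [ht]; exact exp_neg_natCast_le_one 1
  let tO : P.O := ⟨t, htle⟩
  have hmap : ∀ r : P.O, algebraMap P.O K' r = algebraMap K K' (r : K) := fun r =>
    IsScalarTower.algebraMap_apply P.O K K' r
  -- ring homs
  let ι : P.O →+* k' ⊗[k] P.O :=
    (Algebra.TensorProduct.includeRight : P.O →ₐ[k] k' ⊗[k] P.O).toRingHom
  let π : k' ⊗[k] P.O →ₐ[k] k' ⊗[k] IsLocalRing.ResidueField P.O :=
    Algebra.TensorProduct.map (AlgHom.id k k') (resAlg P)
  have hφι : ((phiO k' K' P).toRingHom).comp ι = algebraMap P.O K' := by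
    ext r
    show phiO k' K' P ((1 : k') ⊗ₜ r) = _
    rw [phiO_tmul, map_one, one_mul, hmap]
  obtain ⟨p, hpm, hp⟩ := hw
  set s : P.O := tO ^ (M + 1) with hs
  set q := scaleRoots p s with hq
  have hqm : q.Monic := (monic_scaleRoots_iff s).2 hpm
  have hqroot : eval₂ (algebraMap P.O K') (algebraMap P.O K' s * w) q = 0 :=
    scaleRoots_eval₂_eq_zero _ hp
  have hsw : algebraMap P.O K' s * w = phiO k' K' P z := by
    rw [hz, hmap, hs, SubmonoidClass.coe_pow, map_pow]
  rw [hsw, ← hφι] at hqroot
  have hq0 : eval₂ ι z q = 0 := by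
    apply phiO_injective h P
    rw [map_zero]
    have := Polynomial.hom_eval₂ q ι (phiO k' K' P).toRingHom z
    exact this.trans hqroot
  -- apply `π`
  have hπ : eval₂ (π.toRingHom.comp ι) (π z) q = 0 := by
    have := Polynomial.hom_eval₂ q ι π.toRingHom z
    rw [hq0, map_zero] at this
    exact this.symm
  have hcoef : ∀ i < q.natDegree, (π.toRingHom.comp ι) (q.coeff i) = 0 := by
    intro i hi
    show π ((1 : k') ⊗ₜ (q.coeff i)) = 0
    have h1 : π ((1 : k') ⊗ₜ (q.coeff i)) = (1 : k') ⊗ₜ (IsLocalRing.residue P.O (q.coeff i)) := by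
      show Algebra.TensorProduct.map (AlgHom.id k k') (resAlg P) ((1 : k') ⊗ₜ (q.coeff i)) = _
      rw [Algebra.TensorProduct.map_tmul]
      rfl
    rw [h1]
    have h2 : IsLocalRing.residue P.O (q.coeff i) = 0 := by
      rw [IsLocalRing.residue_eq_zero_iff, hq, coeff_scaleRoots, hs]
      have hnd : (scaleRoots p (tO ^ (M + 1))).natDegree = p.natDegree := natDegree_scaleRoots _ _
      rw [hq, hs, hnd] at hi
      refine Ideal.mul_mem_left _ _ ?_
      have h3 : tO ∈ IsLocalRing.maximalIdeal P.O := by
        rw [mem_maximalIdeal_iff]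
        show P.1 t < 1
        rw [ht, ← WithZero.exp_zero, WithZero.exp_lt_exp]; norm_num
      rw [← pow_mul]
      refine Ideal.pow_mem_of_mem _ h3 _ ?_
      exact Nat.mul_pos (Nat.succ_pos _) (Nat.sub_pos_of_lt hi)
    rw [h2, TensorProduct.tmul_zero]
  have hpow : (π z) ^ q.natDegree = 0 := by
    rw [eval₂_eq_sum_range, Finset.sum_range_succ, hqm.coeff_natDegree, map_one, one_mul,
      Finset.sum_eq_zero, zero_add] at hπ
    · exact hπ
    · intro i hi
      rw [hcoef i (Finset.mem_range.1 hi), zero_mul]
  have hπz : π z = 0 := IsNilpotent.eq_zero ⟨_, hpow⟩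
  -- kernel
  have hker : z ∈ RingHom.ker π := hπz
  have hsurj : Function.Surjective (resAlg P) := IsLocalRing.residue_surjective
  rw [show (π : k' ⊗[k] P.O →ₐ[k] _) = Algebra.TensorProduct.map (AlgHom.id k k') (resAlg P) from rfl,
    Algebra.TensorProduct.lTensor_ker _ hsurj] at hker
  have hkres : RingHom.ker (resAlg P) = Ideal.span {tO} := by
    ext r
    rw [RingHom.mem_ker, Ideal.mem_span_singleton']
    show IsLocalRing.residue P.O r = 0 ↔ _
    rw [IsLocalRing.residue_eq_zero_iff, mem_maximalIdeal_iff]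
    constructor
    · intro hr
      obtain ⟨r', hr'⟩ := exists_eq_mul_of_lt_one P ht r hr
      exact ⟨r', Subtype.ext (by rw [hr', mul_comm]; rfl)⟩
    · rintro ⟨a, rfl⟩
      show P.1 ((a : K) * t) < 1
      rw [map_mul, ht]
      calc P.1 (a : K) * WithZero.exp (-1 : ℤ) ≤ 1 * WithZero.exp (-1 : ℤ) :=
            mul_le_mul' a.2 le_rfl
        _ = WithZero.exp (-1 : ℤ) := one_mul _
        _ < 1 := by rw [← WithZero.exp_zero, WithZero.exp_lt_exp]; norm_num
  rw [hkres, Ideal.map_span, Set.image_singleton, Ideal.mem_span_singleton'] at hker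
  obtain ⟨z', hz'⟩ := hker
  refine ⟨z', ?_⟩
  have h5 : phiO k' K' P z = phiO k' K' P z' * algebraMap K K' t := by
    rw [← hz', map_mul]
    congr 1
    show phiO k' K' P ((1 : k') ⊗ₜ tO) = _
    rw [phiO_tmul, map_one, one_mul]
  rw [hz, pow_succ] at h5
  have ht' : algebraMap K K' t ≠ 0 := (_root_.map_ne_zero _).2 ht0
  have : (phiO k' K' P z' - algebraMap K K' t ^ M * w) * algebraMap K K' t = 0 := by
    rw [sub_mul, ← h5]; ring
  rcases mul_eq_zero.1 this with h6 | h6
  · exact sub_eq_zero.1 h6
  · exact absurd h6 ht'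


theorem exists_phiO_eq
    (h : Function.Bijective (Algebra.TensorProduct.productMap
      (IsScalarTower.toAlgHom k k' K') (IsScalarTower.toAlgHom k K K')))
    (P : Place k K) {t : K} (ht : P.1 t = WithZero.exp (-1 : ℤ)) (w : K') :
    ∃ (M : ℕ) (z : k' ⊗[k] P.O), phiO k' K' P z = algebraMap K K' t ^ M * w := by
  have htle : P.1 t ≤ 1 := by rw [ht]; exact exp_neg_natCast_le_one 1
  let tO : P.O := ⟨t, htle⟩
  obtain ⟨y, rfl⟩ := h.2 w
  induction y using TensorProduct.induction_on with
  | zero => exact ⟨0, 0, by rw [map_zero, map_zero, mul_zero]⟩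
  | tmul c x =>
    obtain ⟨M, hM⟩ : ∃ M : ℕ, P.1 (t ^ M * x) ≤ 1 := by
      rcases eq_or_ne x 0 with rfl | hx
      · exact ⟨0, by rw [mul_zero, map_zero]; exact zero_le_one⟩
      · have hx' : P.1 x ≠ 0 := (_root_.map_ne_zero _).2 hx
        obtain ⟨n, hn⟩ : ∃ n : ℤ, P.1 x = WithZero.exp n := ⟨_, (WithZero.exp_log hx').symm⟩
        refine ⟨n.toNat, ?_⟩
        rw [map_mul, map_pow, ht, hn, ← WithZero.exp_nsmul, ← WithZero.exp_add]
        refine le_of_le_of_eq ?_ WithZero.exp_zero
        rw [WithZero.exp_le_exp]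
        have := Int.self_le_toNat n
        simp only [nsmul_eq_mul, mul_neg, mul_one]
        omega
    refine ⟨M, c ⊗ₜ ⟨t ^ M * x, hM⟩, ?_⟩
    rw [phiO_tmul, Algebra.TensorProduct.productMap_apply_tmul]
    show algebraMap k' K' c * algebraMap K K' (t ^ M * x) =
      algebraMap K K' t ^ M * (algebraMap k' K' c * algebraMap K K' x)
    rw [map_mul, map_pow]; ring
  | add a b ha hb =>
    obtain ⟨M1, z1, h1⟩ := ha
    obtain ⟨M2, z2, h2⟩ := hb
    refine ⟨M1 + M2, ((1 : k') ⊗ₜ (tO ^ M2)) * z1 + ((1 : k') ⊗ₜ (tO ^ M1)) * z2, ?_⟩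
    rw [map_add, map_mul, map_mul, phiO_tmul, phiO_tmul, h1, h2, map_add, map_one, one_mul, one_mul,
      SubmonoidClass.coe_pow, SubmonoidClass.coe_pow, map_pow, map_pow]
    show algebraMap K K' t ^ M2 * _ + algebraMap K K' t ^ M1 * _ = _
    ring

theorem integralClosure_eq_adjoin_of_sep [FiniteDimensional k k']
    (h : Function.Bijective (Algebra.TensorProduct.productMap
      (IsScalarTower.toAlgHom k k' K') (IsScalarTower.toAlgHom k K K')))
    (hK : IsFunctionField k K) (P : Place k K)
    [Algebra.IsSeparable k (IsLocalRing.ResidueField P.O)]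
    [Algebra P.O K'] [IsScalarTower P.O K K'] :
    (integralClosure P.O K').toSubring =
      (Algebra.adjoin P.O (Set.range (algebraMap k' K'))).toSubring := by
  classical
  have hfin : FiniteDimensional K K' := finite_const h
  have hKw : IsWeakFF k K := IsWeakFF.of_isFunctionField hK
  obtain ⟨t, ht⟩ := P.2.2 (WithZero.exp (-1 : ℤ))
  have hIC := (integralClosure_eq_and_finite (K' := K') hKw P).1
  ext w
  show w ∈ integralClosure P.O K' ↔ w ∈ Algebra.adjoin P.O (Set.range (algebraMap k' K'))
  constructor
  · intro hw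
    have key : ∀ M : ℕ, ∀ z : k' ⊗[k] P.O, phiO k' K' P z = algebraMap K K' t ^ M * w →
        ∃ z' : k' ⊗[k] P.O, phiO k' K' P z' = w := by
      intro M
      induction M with
      | zero => intro z hz; exact ⟨z, by rw [hz, pow_zero, one_mul]⟩
      | succ M ih =>
        intro z hz
        obtain ⟨z', hz'⟩ := phiO_descend h hKw P ht hw M z hz
        exact ih z' hz'
    obtain ⟨M, z, hz⟩ := exists_phiO_eq h P ht w
    obtain ⟨z', rfl⟩ := key M z hz
    exact phiO_mem_adjoin P z'
  · intro hz
    refine Algebra.adjoin_le (S := integralClosure P.O K') ?_ hz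
    rintro _ ⟨c, rfl⟩
    refine (hIC _).2 (fun Q' hQ' => ?_)
    refine val_le_one_of_isIntegral' (R := k) Q'.1 (fun c => Q'.2.1 c) ?_
    exact (IsIntegral.of_finite k c).map (IsScalarTower.toAlgHom k k' K')

end Sep18

end Groth.Agent.Helper17.FF
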