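import Mathlib
import Groth.Agent.Lib.Helper17.FFUR2
import Groth.Agent.Lib.Helper17.FF25
import Groth.Agent.Lib.Helper17.FFGeom
namespace Groth.Agent.Helper17.FF

universe u v w


open FunFld Polynomial Module IntermediateField
open scoped TensorProduct

section FinSplit

variable {k k' : Type u} {K K' : Type v} [Field k] [Field k'] [Field K] [Field K']
    [Algebra k k'] [FiniteDimensional k k'] [Algebra k K] [Algebra K K'] [Algebra k' K']
    [Algebra k K'] [IsScalarTower k k' K'] [IsScalarTower k K K']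

/-- a finite field all of whose elements satisfy `x ^ N = x` has at most `N` elements -/
lemma natCard_le_of_forall_pow_eq (F : Type*) [Field F] [Finite F] (N : ℕ) (hN : 2 ≤ N)
    (h : ∀ x : F, x ^ N = x) : Nat.card F ≤ N := by
  classical
  haveI := Fintype.ofFinite F
  have hne : (X ^ N - X : F[X]) ≠ 0 := FiniteField.X_pow_card_sub_X_ne_zero F hN
  have hdeg : (X ^ N - X : F[X]).natDegree = N := FiniteField.X_pow_card_sub_X_natDegree_eq F hN
  have hsub : (Finset.univ : Finset F).val ⊆ (X ^ N - X : F[X]).roots := by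
    intro x _
    rw [mem_roots hne, IsRoot, eval_sub, eval_pow, eval_X, h x, sub_self]
  have := Polynomial.card_le_degree_of_subset_roots hsub
  rw [hdeg, Finset.card_univ, ← Nat.card_eq_fintype_card] at this
  exact this

lemma pow_pow_mul_eq {M : Type*} [Monoid M] (q : ℕ) (a : M) (e j : ℕ) (ha : a ^ q ^ e = a) :
    a ^ q ^ (e * j) = a := by
  induction j with
  | zero => rw [mul_zero, pow_zero, pow_one]
  | succ j ih => rw [Nat.mul_succ, pow_add, pow_mul, ih, ha]

attribute [-instance] IsLocalRing.instModuleResidueFieldOfAlgebra in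
/-- in a constant field extension of a function field over a finite field, a place over `P` has
degree (over `k`) `lcm (deg P) [k':k]` -/
theorem deg_const_ext_finite [Finite k]
    (h : Function.Bijective (Algebra.TensorProduct.productMap
      (IsScalarTower.toAlgHom k k' K') (IsScalarTower.toAlgHom k K K')))
    (hK : IsFunctionField k K) (P : Place k K) (Q : Place k K') (hQ : IsOver Q P) :
    IsOverWith Q P 1 ∧ Q.deg = Nat.lcm P.deg (finrank k k') := by
  classical
  haveI : Finite k' := Module.finite_of_finite k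
  haveI : Algebra.IsSeparable k k' := Algebra.IsAlgebraic.isSeparable_of_perfectField
  haveI : Algebra.IsAlgebraic k k' := Algebra.IsAlgebraic.of_finite k k'
  have hfin : FiniteDimensional K K' := finite_const h
  have hKw : IsWeakFF k K := IsWeakFF.of_isFunctionField hK
  letI algPO : Algebra P.O K' := ((algebraMap K K').comp P.O.subtype).toAlgebra
  have hst : IsScalarTower P.O K K' := IsScalarTower.of_algebraMap_eq (fun _ => rfl)
  obtain ⟨hcl, he⟩ := const_ext_main h hK P Q hQ
  refine ⟨he, ?_⟩
  set q := Nat.card k with hq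
  have hq2 : 2 ≤ q := Finite.one_lt_card
  set d := P.deg with hd
  set n := finrank k k' with hn
  set l := Nat.lcm d n with hl
  have hdpos : 0 < d := deg_pos hK P
  have hnpos : 0 < n := finrank_pos
  have hlpos : 0 < l := Nat.lcm_pos hdpos hnpos
  -- the residue field of `Q` is finite
  have hFQfin : FiniteDimensional k (IsLocalRing.ResidueField Q.O) := wk_residue_finite_ext hKw Q
  haveI : Finite (IsLocalRing.ResidueField Q.O) := Module.finite_of_finite k
  have hcardQ : Nat.card (IsLocalRing.ResidueField Q.O) = q ^ Q.deg :=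
    Module.natCard_eq_pow_finrank (K := k)
  -- divisibility
  have h1 : d ∣ Q.deg := ⟨_, deg_eq_mul_finrank_fieldRange he⟩
  have h2 : n ∣ Q.deg := ⟨_, deg_placeUp (k₁ := k') Q⟩
  have h3 : l ∣ Q.deg := Nat.lcm_dvd h1 h2
  refine le_antisymm ?_ (Nat.le_of_dvd (wk_deg_pos_ext hKw Q) h3)
  -- all elements of the residue field satisfy `x ^ q ^ l = x`
  obtain ⟨p, hpchar⟩ := CharP.exists k
  haveI : Fact p.Prime := ⟨CharP.char_is_prime k p⟩
  haveI : CharP (IsLocalRing.ResidueField Q.O) p :=
    (RingHom.charP_iff (algebraMap k (IsLocalRing.ResidueField Q.O))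
      (algebraMap k (IsLocalRing.ResidueField Q.O)).injective p).1 hpchar
  obtain ⟨m, hm⟩ : ∃ m : ℕ, q = p ^ m := by
    haveI := Fintype.ofFinite k
    obtain ⟨m, -, hm⟩ := FiniteField.card k p
    exact ⟨m, by rw [hq, Nat.card_eq_fintype_card]; exact hm⟩
  -- the subring of fixed points of `y ↦ y ^ q ^ l`
  have hqlm : q ^ l = p ^ (m * l) := by rw [hm, pow_mul]
  have hfixadd : ∀ a b : IsLocalRing.ResidueField Q.O, a ^ q ^ l = a → b ^ q ^ l = b →
      (a + b) ^ q ^ l = a + b := by
    intro a b ha hb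
    rw [hqlm] at ha hb ⊢
    rw [add_pow_char_pow, ha, hb]
  have hfixmul : ∀ a b : IsLocalRing.ResidueField Q.O, a ^ q ^ l = a → b ^ q ^ l = b →
      (a * b) ^ q ^ l = a * b := by
    intro a b ha hb
    rw [mul_pow, ha, hb]
  -- elements of `O_P[k']`
  have hmem : ∀ w ∈ Algebra.adjoin P.O (Set.range (algebraMap k' K')),
      ∃ hw : Q.1 w ≤ 1, (IsLocalRing.residue Q.O ⟨w, hw⟩) ^ q ^ l = IsLocalRing.residue Q.O ⟨w, hw⟩ := by
    intro w hw
    induction hw using Algebra.adjoin_induction with
    | mem x hx =>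
      obtain ⟨c, rfl⟩ := hx
      have hc1 : Q.1 (algebraMap k' K' c) ≤ 1 :=
        val_le_one_of_isIntegral' (R := k) Q.1 (fun c => Q.2.1 c)
          ((IsIntegral.of_finite k c).map (IsScalarTower.toAlgHom k k' K'))
      refine ⟨hc1, ?_⟩
      have hcn : c ^ q ^ n = c := by
        have := pow_natCard_eq k' c
        rwa [Module.natCard_eq_pow_finrank (K := k) (V := k')] at this
      obtain ⟨j, hj⟩ : n ∣ l := Nat.dvd_lcm_right d n
      have hcl' : c ^ q ^ l = c := by rw [hj]; exact pow_pow_mul_eq q c n j hcn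
      rw [← map_pow]
      congr 1
      apply Subtype.ext
      show (algebraMap k' K' c) ^ q ^ l = algebraMap k' K' c
      rw [← map_pow, hcl']
    | algebraMap r =>
      have hr1 : Q.1 (algebraMap P.O K' r) ≤ 1 := (isOverWith_le_one_iff he _).2 r.2
      refine ⟨hr1, ?_⟩
      have h5 : (⟨algebraMap P.O K' r, hr1⟩ : Q.O) = ringIncl he r := rfl
      rw [h5, ← resMap_residue he, ← map_pow]
      congr 1
      haveI := (natCard_residue hK P).1
      have h6 := pow_natCard_eq (IsLocalRing.ResidueField P.O) (IsLocalRing.residue P.O r)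
      rw [(natCard_residue hK P).2] at h6
      obtain ⟨j, hj⟩ : d ∣ l := Nat.dvd_lcm_left d n
      rw [hj]
      exact pow_pow_mul_eq q _ d j h6
    | add x y hx hy hx' hy' =>
      obtain ⟨hx1, hx2⟩ := hx'
      obtain ⟨hy1, hy2⟩ := hy'
      have hxy1 : Q.1 (x + y) ≤ 1 := (Q.1.map_add x y).trans (max_le hx1 hy1)
      refine ⟨hxy1, ?_⟩
      have : (⟨x + y, hxy1⟩ : Q.O) = ⟨x, hx1⟩ + ⟨y, hy1⟩ := rfl
      rw [this, map_add]
      exact hfixadd _ _ hx2 hy2
    | mul x y hx hy hx' hy' =>
      obtain ⟨hx1, hx2⟩ := hx'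
      obtain ⟨hy1, hy2⟩ := hy'
      have hxy1 : Q.1 (x * y) ≤ 1 := by rw [map_mul]; exact mul_le_one' hx1 hy1
      refine ⟨hxy1, ?_⟩
      have : (⟨x * y, hxy1⟩ : Q.O) = ⟨x, hx1⟩ * ⟨y, hy1⟩ := rfl
      rw [this, map_mul]
      exact hfixmul _ _ hx2 hy2
  -- approximation
  obtain ⟨hSfin, -⟩ := sum_ramIdx_mul_deg (K' := K') hK P
  have hall : ∀ y : IsLocalRing.ResidueField Q.O, y ^ q ^ l = y := by
    intro y
    obtain ⟨z, rfl⟩ := IsLocalRing.residue_surjective y
    haveI : Fintype ↥hSfin.toFinset := inferInstance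
    obtain ⟨w, hw⟩ := weak_approx (fun i : ↥hSfin.toFinset => (i : Place k K'))
      Subtype.val_injective (fun i => if (i : Place k K') = Q then (z : K') else 0) (fun _ => 0)
    have hwQ : Q.1 (w - z) < 1 := by
      have hQmem : Q ∈ hSfin.toFinset := by
        rw [Set.Finite.mem_toFinset]; exact hQ
      have := hw ⟨Q, hQmem⟩
      simpa using this
    have hwint : w ∈ integralClosure P.O K' := by
      rw [(integralClosure_eq_and_finite (K' := K') hKw P).1]
      intro Q' hQ'
      by_cases hQQ : Q' = Q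
      · subst hQQ
        have : w = (w - z) + z := by ring
        rw [this]
        exact (Q'.1.map_add _ _).trans (max_le hwQ.le z.2)
      · have hQ'mem : Q' ∈ hSfin.toFinset := by
          rw [Set.Finite.mem_toFinset]; exact hQ'
        have := hw ⟨Q', hQ'mem⟩
        simp only [if_neg hQQ, sub_zero, neg_zero, WithZero.exp_zero] at this
        exact this.le
    have hwadj : w ∈ Algebra.adjoin P.O (Set.range (algebraMap k' K')) := by
      have h7 : w ∈ (integralClosure P.O K').toSubring := hwint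
      rw [hcl] at h7
      exact h7
    obtain ⟨hw1, hw2⟩ := hmem w hwadj
    have hres : IsLocalRing.residue Q.O z = IsLocalRing.residue Q.O ⟨w, hw1⟩ := by
      rw [residue_eq_iff]
      show Q.1 ((z : K') - w) < 1
      rw [← neg_sub, Valuation.map_neg]
      exact hwQ
    rw [hres]
    exact hw2
  have hql2 : 2 ≤ q ^ l := le_trans hq2 (Nat.le_self_pow hlpos.ne' q)
  have hcard := natCard_le_of_forall_pow_eq (IsLocalRing.ResidueField Q.O) (q ^ l) hql2 hall
  rw [hcardQ] at hcard
  exact (Nat.pow_le_pow_iff_right (lt_of_lt_of_le one_lt_two hq2)).1 hcard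


/-- number of places over `P` in a constant field extension over a finite field -/
theorem card_over_const_ext_finite [Finite k]
    (h : Function.Bijective (Algebra.TensorProduct.productMap
      (IsScalarTower.toAlgHom k k' K') (IsScalarTower.toAlgHom k K K')))
    (hK : IsFunctionField k K) (P : Place k K) :
    ∃ S : Finset (Place k K'), (∀ Q, Q ∈ S ↔ IsOver Q P) ∧
      S.card = Nat.gcd P.deg (finrank k k') := by
  classical
  have hfin : FiniteDimensional K K' := finite_const h
  obtain ⟨hSfin, hsum⟩ := sum_ramIdx_mul_deg (K' := K') hK P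
  have hmemS : ∀ Q, Q ∈ hSfin.toFinset ↔ IsOver Q P := fun Q => by
    rw [Set.Finite.mem_toFinset]; rfl
  refine ⟨hSfin.toFinset, hmemS, ?_⟩
  have h1 := hsum hSfin.toFinset hmemS
  have h2 : ∑ Q ∈ hSfin.toFinset, ramIdx Q P * Q.deg =
      hSfin.toFinset.card * Nat.lcm P.deg (finrank k k') := by
    rw [Finset.sum_const_nat]
    intro Q hQ
    obtain ⟨he, hd⟩ := deg_const_ext_finite h hK P Q ((hmemS Q).1 hQ)
    rw [ramIdx_eq he, hd, one_mul]
  rw [h2, finrank_const h] at h1
  have hdpos : 0 < P.deg := deg_pos hK P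
  have hnpos : 0 < finrank k k' := finrank_pos
  have h3 := Nat.gcd_mul_lcm P.deg (finrank k k')
  have hlpos : 0 < Nat.lcm P.deg (finrank k k') := Nat.lcm_pos hdpos hnpos
  apply Nat.eq_of_mul_eq_mul_right hlpos
  rw [h1, h3, mul_comm]

end FinSplit


open FunFld Polynomial Module IntermediateField
open scoped TensorProduct

section ConstExists

variable {k : Type u} {K : Type v} [Field k] [Field K] [Algebra k K]

/-- irreducible polynomials of every positive degree over a finite field -/
theorem exists_irreducible_natDegree [Finite k] (n : ℕ) (hn : 0 < n) :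
    ∃ f : k[X], Irreducible f ∧ f.Monic ∧ f.natDegree = n := by
  classical
  obtain ⟨p, hpchar⟩ := CharP.exists k
  haveI : Fact p.Prime := ⟨CharP.char_is_prime k p⟩
  haveI : NeZero n := ⟨hn.ne'⟩
  let E := FiniteField.Extension k p n
  haveI : Algebra.IsSeparable k E := Algebra.IsAlgebraic.isSeparable_of_perfectField
  obtain ⟨α, hα⟩ := Field.exists_primitive_element k E
  have hint : IsIntegral k α := IsIntegral.of_finite k α
  refine ⟨minpoly k α, minpoly.irreducible hint, minpoly.monic hint, ?_⟩
  rw [← IntermediateField.adjoin.finrank hint, hα, IntermediateField.finrank_top',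
    FiniteField.finrank_extension]

theorem exists_const_ext_finite [Finite k] (hK : IsFunctionField k K) (n : ℕ) (hn : 0 < n) :
    ∃ (k' : Type u) (K' : Type v) (_ : Field k') (_ : Field K') (_ : Algebra k k')
      (_ : Algebra k K') (_ : Algebra K K') (_ : Algebra k' K') (_ : IsScalarTower k k' K')
      (_ : IsScalarTower k K K') (_ : FiniteDimensional k k'), finrank k k' = n ∧
      Function.Bijective (Algebra.TensorProduct.productMap
        (IsScalarTower.toAlgHom k k' K') (IsScalarTower.toAlgHom k K K')) := by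
  classical
  obtain ⟨f, hfirr, hfm, hfdeg⟩ := exists_irreducible_natDegree (k := k) n hn
  haveI : Fact (Irreducible f) := ⟨hfirr⟩
  have hF := irreducible_map_of_algClosedIn hK.2 hfirr hfm
  haveI : Fact (Irreducible (f.map (algebraMap k K))) := ⟨hF⟩
  let k' := AdjoinRoot f
  let K' := AdjoinRoot (f.map (algebraMap k K))
  have hroot : f.eval₂ (algebraMap k K') (AdjoinRoot.root (f.map (algebraMap k K))) = 0 := by
    have h1 : algebraMap k K' = (AdjoinRoot.of (f.map (algebraMap k K))).comp (algebraMap k K) := by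
      ext c; rfl
    rw [h1, ← Polynomial.eval₂_map, AdjoinRoot.eval₂_root]
  let φ : k' →+* K' := AdjoinRoot.lift (algebraMap k K') (AdjoinRoot.root (f.map (algebraMap k K))) hroot
  letI alg1 : Algebra k' K' := φ.toAlgebra
  have hst1 : IsScalarTower k k' K' := IsScalarTower.of_algebraMap_eq (fun c => by
    show algebraMap k K' c = φ (AdjoinRoot.of f c)
    rw [AdjoinRoot.lift_of])
  have hst2 : IsScalarTower k K K' := inferInstance
  have hfd : FiniteDimensional k k' := (AdjoinRoot.powerBasis hfirr.ne_zero).finite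
  have hrank : finrank k k' = n := by
    rw [(AdjoinRoot.powerBasis hfirr.ne_zero).finrank, AdjoinRoot.powerBasis_dim, hfdeg]
  refine ⟨k', K', inferInstance, inferInstance, inferInstance, inferInstance, inferInstance, alg1,
    hst1, hst2, hfd, hrank, ?_, ?_⟩
  · -- injective
    have hgeo : IsGeometric k K := isGeometric_of_perfect k K hK
    have hfld : IsField (k' ⊗[k] K) := hgeo k' hfd
    intro a b hab
    by_contra hne
    have hne' : a - b ≠ 0 := sub_ne_zero.2 hne
    obtain ⟨c, hc⟩ := hfld.mul_inv_cancel hne'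
    have h1 := congrArg (Algebra.TensorProduct.productMap
        (IsScalarTower.toAlgHom k k' K') (IsScalarTower.toAlgHom k K K')) hc
    rw [map_mul, map_sub, hab, sub_self, zero_mul, map_one] at h1
    exact zero_ne_one h1
  · -- surjective
    intro y
    induction y using AdjoinRoot.induction_on with
    | ih g =>
      induction g using Polynomial.induction_on' with
      | add g₁ g₂ h₁ h₂ =>
        obtain ⟨z₁, hz₁⟩ := h₁
        obtain ⟨z₂, hz₂⟩ := h₂
        exact ⟨z₁ + z₂, by rw [map_add, hz₁, hz₂, map_add]⟩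
      | monomial m a =>
        refine ⟨(AdjoinRoot.root f ^ m) ⊗ₜ a, ?_⟩
        rw [Algebra.TensorProduct.productMap_apply_tmul]
        show φ (AdjoinRoot.root f ^ m) * AdjoinRoot.of _ a = _
        rw [map_pow, AdjoinRoot.lift_root, ← C_mul_X_pow_eq_monomial, map_mul, map_pow,
          AdjoinRoot.mk_C, AdjoinRoot.mk_X, mul_comm]

end ConstExists


open FunFld Polynomial Module IntermediateField
open scoped TensorProduct

section DegGen

variable {k : Type*} {K : Type*} [Field k] [Field K] [Algebra k K]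

theorem exists_deg_generator (hK : IsFunctionField k K) :
    ∃ (r : ℕ) (D₀ : Divisor k K), 0 < r ∧ D₀.deg = r ∧ ∀ D : Divisor k K, (r : ℤ) ∣ D.deg := by
  classical
  obtain ⟨P⟩ := exists_place hK
  have hne : ∃ m : ℕ, 0 < m ∧ ∃ D : Divisor k K, D.deg = m :=
    ⟨P.deg, deg_pos hK P, Finsupp.single P 1, by rw [deg_single, one_mul]⟩
  obtain ⟨hrpos, D₀, hD₀⟩ := Nat.find_spec hne
  refine ⟨Nat.find hne, D₀, hrpos, hD₀, fun D => ?_⟩
  set r := Nat.find hne with hr
  have hrpos' : (0 : ℤ) < r := by exact_mod_cast hrpos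
  apply Int.dvd_of_emod_eq_zero
  by_contra hm
  have h0 : 0 ≤ D.deg % (r : ℤ) := Int.emod_nonneg _ hrpos'.ne'
  have h1 : D.deg % (r : ℤ) < r := Int.emod_lt_of_pos _ hrpos'
  have h2 : (D - (D.deg / (r : ℤ)) • D₀).deg = D.deg % (r : ℤ) := by
    rw [deg_sub, deg_zsmul, hD₀, Int.emod_def]; ring
  have h3 : (D.deg % (r : ℤ)).toNat < r := by
    have : ((D.deg % (r : ℤ)).toNat : ℤ) < r := by rw [Int.toNat_of_nonneg h0]; exact h1
    exact_mod_cast this
  refine Nat.find_min hne h3 ⟨?_, D - (D.deg / (r : ℤ)) • D₀, ?_⟩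
  · have : 0 < D.deg % (r : ℤ) := lt_of_le_of_ne h0 (Ne.symm hm)
    omega
  · rw [h2, Int.toNat_of_nonneg h0]

theorem classNum_pos [Finite k] (hK : IsFunctionField k K) : 0 < classNum k K := by
  haveI := finite_pic0 (k := k) (K := K) hK
  exact Nat.card_pos

theorem effDivCount_ge [Finite k] (hK : IsFunctionField k K) (n : ℕ)
    (hn : 2 * genus k K ≤ n) (hex : ∃ D : Divisor k K, D.deg = n) :
    Nat.card k ^ (n - genus k K) ≤ effDivCount k K n := by
  obtain ⟨D, hD⟩ := hex
  have h1 := count_effective hK n (by omega) D hD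
  have hq2 : 2 ≤ Nat.card k := Finite.one_lt_card
  have hh := classNum_pos (k := k) (K := K) hK
  set q : ℤ := (Nat.card k : ℤ) with hq
  have hq2' : (2 : ℤ) ≤ q := by rw [hq]; exact_mod_cast hq2
  set e := n - genus k K with he
  have he1 : n + 1 - genus k K = e + 1 := by omega
  rw [he1] at h1
  have hqe : (1 : ℤ) ≤ q ^ e := one_le_pow₀ (by linarith)
  have hh' : (1 : ℤ) ≤ (classNum k K : ℤ) := by exact_mod_cast hh
  have h2 : (q - 1) * q ^ e ≤ (q - 1) * (effDivCount k K n : ℤ) := by
    rw [h1]
    have h3 : (0 : ℤ) ≤ q ^ (e + 1) - 1 := by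
      have : (1 : ℤ) ≤ q ^ (e + 1) := one_le_pow₀ (by linarith)
      linarith
    calc (q - 1) * q ^ e ≤ q ^ (e + 1) - 1 := by rw [pow_succ]; nlinarith
      _ = 1 * (q ^ (e + 1) - 1) := (one_mul _).symm
      _ ≤ (classNum k K : ℤ) * (q ^ (e + 1) - 1) := mul_le_mul_of_nonneg_right hh' h3
  have h4 : q ^ e ≤ (effDivCount k K n : ℤ) := le_of_mul_le_mul_left h2 (by linarith)
  rw [hq] at h4
  exact_mod_cast h4

theorem effDivCount_le [Finite k] (hK : IsFunctionField k K) (n : ℕ)
    (hn : 2 * genus k K ≤ n + 1) :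
    effDivCount k K n ≤ classNum k K * Nat.card k ^ (n + 1) := by
  by_cases hex : ∃ D : Divisor k K, D.deg = n
  · obtain ⟨D, hD⟩ := hex
    have h1 := count_effective hK n hn D hD
    have hq2 : 2 ≤ Nat.card k := Finite.one_lt_card
    set q : ℤ := (Nat.card k : ℤ) with hq
    have hq2' : (2 : ℤ) ≤ q := by rw [hq]; exact_mod_cast hq2
    have ha : (0 : ℤ) ≤ (effDivCount k K n : ℤ) := Nat.cast_nonneg _
    have hh : (0 : ℤ) ≤ (classNum k K : ℤ) := Nat.cast_nonneg _
    have h2 : (effDivCount k K n : ℤ) ≤ (q - 1) * (effDivCount k K n : ℤ) := by nlinarith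
    have h3 : q ^ (n + 1 - genus k K) ≤ q ^ (n + 1) :=
      pow_le_pow_right₀ (by linarith) (Nat.sub_le _ _)
    have h4 : (effDivCount k K n : ℤ) ≤ (classNum k K : ℤ) * q ^ (n + 1) := by
      calc (effDivCount k K n : ℤ) ≤ (q - 1) * (effDivCount k K n : ℤ) := h2
        _ = (classNum k K : ℤ) * (q ^ (n + 1 - genus k K) - 1) := h1
        _ ≤ (classNum k K : ℤ) * q ^ (n + 1) := by
          apply mul_le_mul_of_nonneg_left _ hh
          linarith
    rw [hq] at h4
    exact_mod_cast h4
  · have : effDivCount k K n = 0 := by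
      unfold FunFld.effDivCount
      haveI : IsEmpty {D : FunFld.Divisor k K // 0 ≤ D ∧ D.deg = n} :=
        ⟨fun D => hex ⟨D.1, D.2.2⟩⟩
      exact Nat.card_of_isEmpty
    rw [this]; exact Nat.zero_le _

end DegGen

end Groth.Agent.Helper17.FF
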