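import Mathlib
import Groth.Agent.Lib.Helper17.FFZ1
namespace Groth.Agent.Helper17.FF
namespace CU

universe u u' v v'

open FunFld Polynomial Module IntermediateField
open scoped TensorProduct

section

variable {k : Type u} {k' : Type u'} {K : Type v} {K' : Type v'} [Field k] [Field k'] [Field K] [Field K']
    [Algebra k k'] [Algebra k K] [Algebra K K'] [Algebra k' K'] [Algebra k K']
    [IsScalarTower k k' K'] [IsScalarTower k K K']

/-- the `k'`-algebra isomorphism `k' ⊗ K ≃ K'` -/
noncomputable def constEquivL
    (h : Function.Bijective (Algebra.TensorProduct.productMap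
      (IsScalarTower.toAlgHom k k' K') (IsScalarTower.toAlgHom k K K'))) :
    k' ⊗[k] K ≃ₐ[k'] K' :=
  AlgEquiv.ofBijective
    (Algebra.TensorProduct.productLeftAlgHom (Algebra.ofId k' K') (IsScalarTower.toAlgHom k K K')) h

@[simp] lemma constEquivL_tmul
    (h : Function.Bijective (Algebra.TensorProduct.productMap
      (IsScalarTower.toAlgHom k k' K') (IsScalarTower.toAlgHom k K K'))) (a : k') (y : K) :
    constEquivL h (a ⊗ₜ[k] y) = algebraMap k' K' a * algebraMap K K' y := rfl

/-- the `K`-algebra isomorphism `K ⊗ k' ≃ K'` -/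
noncomputable def constEquivR
    (h : Function.Bijective (Algebra.TensorProduct.productMap
      (IsScalarTower.toAlgHom k k' K') (IsScalarTower.toAlgHom k K K'))) :
    K ⊗[k] k' ≃ₐ[K] K' :=
  AlgEquiv.ofBijective
    (Algebra.TensorProduct.productLeftAlgHom (Algebra.ofId K K') (IsScalarTower.toAlgHom k k' K'))
    (by
      have : (⇑(Algebra.TensorProduct.productLeftAlgHom (Algebra.ofId K K')
          (IsScalarTower.toAlgHom k k' K')) : K ⊗[k] k' → K') =
          ⇑(Algebra.TensorProduct.productMap
            (IsScalarTower.toAlgHom k k' K') (IsScalarTower.toAlgHom k K K')) ∘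
            ⇑(Algebra.TensorProduct.comm k K k') := by
        funext z
        induction z using TensorProduct.induction_on with
        | zero => simp
        | tmul a b =>
          simp only [Function.comp_apply, Algebra.TensorProduct.comm_tmul,
            Algebra.TensorProduct.productMap_apply_tmul]
          show algebraMap K K' a * algebraMap k' K' b = algebraMap k' K' b * algebraMap K K' a
          ring
        | add a b ha hb => simp only [map_add, ha, hb, Function.comp_apply]
      rw [this]
      exact h.comp (Algebra.TensorProduct.comm k K k').bijective)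

@[simp] lemma constEquivR_tmul
    (h : Function.Bijective (Algebra.TensorProduct.productMap
      (IsScalarTower.toAlgHom k k' K') (IsScalarTower.toAlgHom k K K'))) (y : K) (a : k') :
    constEquivR h (y ⊗ₜ[k] a) = algebraMap K K' y * algebraMap k' K' a := rfl

lemma finite_const [FiniteDimensional k k']
    (h : Function.Bijective (Algebra.TensorProduct.productMap
      (IsScalarTower.toAlgHom k k' K') (IsScalarTower.toAlgHom k K K'))) :
    Module.Finite K K' :=
  Module.Finite.equiv (constEquivR h).toLinearEquiv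

lemma finrank_const [FiniteDimensional k k']
    (h : Function.Bijective (Algebra.TensorProduct.productMap
      (IsScalarTower.toAlgHom k k' K') (IsScalarTower.toAlgHom k K K'))) :
    Module.finrank K K' = Module.finrank k k' := by
  rw [← (constEquivR h).toLinearEquiv.finrank_eq, Module.finrank_baseChange]
end

section ConstExt

variable {k : Type u} {k' : Type u'} {K : Type v} {K' : Type v'} [Field k] [Field k'] [Field K] [Field K']
    [Algebra k k'] [FiniteDimensional k k'] [Algebra k K] [Algebra K K'] [Algebra k' K']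
    [Algebra k K'] [IsScalarTower k k' K'] [IsScalarTower k K K']

/-- a power basis of `k'/k` gives one of `k' ⊗ K` over `K` -/
theorem exists_powerBasis_const
    (h : Function.Bijective (Algebra.TensorProduct.productMap
      (IsScalarTower.toAlgHom k k' K') (IsScalarTower.toAlgHom k K K')))
    (pb : PowerBasis k k') :
    ∃ pb' : PowerBasis K K', pb'.gen = algebraMap k' K' pb.gen ∧
      minpoly K pb'.gen = (minpoly k pb.gen).map (algebraMap k K) := by
  classical
  have hfin : FiniteDimensional K K' := finite_const h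
  set β := pb.gen with hβ
  set β' : K' := algebraMap k' K' β with hβ'
  set g := minpoly k β with hg
  have hβint : IsIntegral k β := IsIntegral.of_finite k β
  have hgm : g.Monic := minpoly.monic hβint
  have hroot : aeval β' (g.map (algebraMap k K)) = 0 := by
    rw [aeval_map_algebraMap, hβ', aeval_algebraMap_apply, minpoly.aeval, map_zero]
  have hβ'int : IsIntegral K β' := IsIntegral.of_finite K β'
  -- `K(β') = ⊤`
  have htop : K⟮β'⟯ = ⊤ := by
    rw [eq_top_iff]
    intro y hy
    clear hy
    obtain ⟨t, rfl⟩ := h.2 y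
    induction t using TensorProduct.induction_on with
    | zero => rw [map_zero]; exact zero_mem _
    | tmul c x =>
      rw [Algebra.TensorProduct.productMap_apply_tmul]
      refine mul_mem ?_ (IntermediateField.algebraMap_mem _ x)
      obtain ⟨p, hp⟩ := pb.exists_eq_aeval' c
      show algebraMap k' K' c ∈ K⟮β'⟯
      rw [hp, ← aeval_algebraMap_apply, ← aeval_map_algebraMap K]
      exact IntermediateField.algebra_adjoin_le_adjoin K {β'}
        (Polynomial.aeval_mem_adjoin_singleton K β')
    | add a b ha hb => rw [map_add]; exact add_mem ha hb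
  have hdvd : minpoly K β' ∣ g.map (algebraMap k K) := minpoly.dvd K β' hroot
  have hdeg1 : (minpoly K β').natDegree = finrank K K' := by
    rw [← IntermediateField.adjoin.finrank hβ'int, htop, IntermediateField.finrank_top']
  have hdeg2 : (g.map (algebraMap k K)).natDegree = finrank K K' := by
    rw [natDegree_map, finrank_const h, hg, pb.natDegree_minpoly, pb.finrank]
  have hmin : g.map (algebraMap k K) = minpoly K β' :=
    Polynomial.eq_of_monic_of_dvd_of_natDegree_le (minpoly.monic hβ'int) (hgm.map _) hdvd
      (by rw [hdeg1, hdeg2])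
  let e : K⟮β'⟯ ≃ₐ[K] K' := (IntermediateField.equivOfEq htop).trans IntermediateField.topEquiv
  refine ⟨(IntermediateField.adjoin.powerBasis hβ'int).map e, ?_, ?_⟩
  · rw [PowerBasis.map_gen, IntermediateField.adjoin.powerBasis_gen]
    rfl
  · have h1 : ((IntermediateField.adjoin.powerBasis hβ'int).map e).gen = β' := by
      rw [PowerBasis.map_gen, IntermediateField.adjoin.powerBasis_gen]
      rfl
    rw [h1, hmin]

end ConstExt
section ConstExt2

variable {k : Type u} {k' : Type u'} {K : Type v} {K' : Type v'} [Field k] [Field k'] [Field K] [Field K']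
    [Algebra k k'] [FiniteDimensional k k'] [Algebra k K] [Algebra K K'] [Algebra k' K']
    [Algebra k K'] [IsScalarTower k k' K'] [IsScalarTower k K K']

lemma val_const_eq_one (P : Place k K) {c : k} (hc : c ≠ 0) : P.1 (algebraMap k K c) = 1 := by
  refine le_antisymm (P.2.1 c) ?_
  have h1 : P.1 (algebraMap k K c) * P.1 (algebraMap k K c⁻¹) = 1 := by
    rw [← map_mul, ← map_mul, mul_inv_cancel₀ hc, map_one, map_one]
  have h2 := P.2.1 c⁻¹
  by_contra hlt
  push Not at hlt
  have hne : P.1 (algebraMap k K c) ≠ 0 := by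
    intro h0; rw [h0, zero_mul] at h1; exact zero_ne_one h1
  have : P.1 (algebraMap k K c) * P.1 (algebraMap k K c⁻¹) < 1 := by
    calc P.1 (algebraMap k K c) * P.1 (algebraMap k K c⁻¹)
        ≤ P.1 (algebraMap k K c) * 1 := mul_le_mul' le_rfl h2
      _ = P.1 (algebraMap k K c) := mul_one _
      _ < 1 := hlt
  rw [h1] at this
  exact lt_irrefl _ this

theorem const_ext_main
    (h : Function.Bijective (Algebra.TensorProduct.productMap
      (IsScalarTower.toAlgHom k k' K') (IsScalarTower.toAlgHom k K K')))
    (hK : FunFld.IsFunctionField k K) [Algebra.IsSeparable k k']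
    (P : FunFld.Place k K) [Algebra P.O K'] [IsScalarTower P.O K K']
    (Q : FunFld.Place k K') (hQ : FunFld.IsOver Q P) :
    (integralClosure P.O K').toSubring =
      (Algebra.adjoin P.O (Set.range (algebraMap k' K'))).toSubring ∧
    FunFld.IsOverWith Q P 1 := by
  classical
  have hfin : FiniteDimensional K K' := finite_const h
  have hKw : IsWeakFF k K := IsWeakFF.of_isFunctionField hK
  let pb := Field.powerBasisOfFiniteOfSeparable k k'
  obtain ⟨pb', hgen, hmin⟩ := exists_powerBasis_const h pb
  set g := minpoly k pb.gen with hg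
  have hgsep : g.Separable := Algebra.IsSeparable.isSeparable k pb.gen
  have hsep' : (minpoly K pb'.gen).Separable := by rw [hmin]; exact hgsep.map
  -- `K'/K` separable
  have hsepKK' : Algebra.IsSeparable K K' := by
    have h1 : IsSeparable K pb'.gen := hsep'
    have h2 : Algebra.IsSeparable K K⟮pb'.gen⟯ :=
      (IntermediateField.isSeparable_adjoin_simple_iff_isSeparable K K').2 h1
    have htop : K⟮pb'.gen⟯ = ⊤ :=
      IntermediateField.adjoin_eq_top_of_algebra K _ pb'.adjoin_gen_eq_top
    rw [Algebra.isSeparable_def]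
    intro x
    have hx : x ∈ K⟮pb'.gen⟯ := by rw [htop]; trivial
    have := Algebra.IsSeparable.isSeparable K (⟨x, hx⟩ : K⟮pb'.gen⟯)
    unfold IsSeparable at this ⊢
    rwa [← minpoly.algebraMap_eq (algebraMap K⟮pb'.gen⟯ K').injective] at this
  -- Bezout
  obtain ⟨a, b, hab⟩ := hgsep
  have hab' : a.map (algebraMap k K) * minpoly K pb'.gen +
      b.map (algebraMap k K) * derivative (minpoly K pb'.gen) = 1 := by
    rw [hmin, derivative_map, ← Polynomial.map_mul, ← Polynomial.map_mul, ← Polynomial.map_add,
      hab, Polynomial.map_one]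
  have hcoef : ∀ (p : k[X]) (n : ℕ), P.1 ((p.map (algebraMap k K)).coeff n) ≤ 1 := by
    intro p n; rw [coeff_map]; exact P.2.1 _
  -- discriminant
  have hd : P.1 (Algebra.discr K pb'.basis) = 1 := by
    have hint : IsIntegral k (Algebra.discr K pb'.basis) := by
      refine Algebra.discr_isIntegral K (fun i => ?_)
      rw [PowerBasis.coe_basis, hgen]
      refine IsIntegral.pow ?_ _
      exact (IsIntegral.of_finite k pb.gen).map (IsScalarTower.toAlgHom k k' K')
    obtain ⟨c, hc⟩ := hK.2 _ hint.isAlgebraic
    have hd0 : Algebra.discr K pb'.basis ≠ 0 := Algebra.discr_not_zero_of_basis K pb'.basis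
    have hc0 : c ≠ 0 := by
      rintro rfl; rw [map_zero] at hc; exact hd0 hc.symm
    rw [← hc]; exact val_const_eq_one P hc0
  have hgcoef : ∀ n, P.1 ((minpoly K pb'.gen).coeff n) ≤ 1 := by
    intro n; rw [hmin]; exact hcoef _ n
  refine ⟨?_, ?_⟩
  · -- integral closure
    have hIC := (integralClosure_eq_and_finite (K' := K') hKw P).1
    have hmap : ∀ r : P.O, algebraMap P.O K' r = algebraMap K K' (r : K) := fun r =>
      IsScalarTower.algebraMap_apply P.O K K' r
    ext z
    show z ∈ integralClosure P.O K' ↔ z ∈ Algebra.adjoin P.O (Set.range (algebraMap k' K'))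
    constructor
    · intro hz
      obtain ⟨q, hq⟩ := exists_eval₂_of_good hKw pb' P hgcoef hd z ((hIC z).1 hz)
      have hfeq : (algebraMap K K').comp P.O.subtype = algebraMap P.O K' := by
        ext r; exact (hmap r).symm
      rw [hq, hfeq, ← aeval_def]
      refine Algebra.adjoin_mono ?_ (Polynomial.aeval_mem_adjoin_singleton P.O pb'.gen)
      rw [Set.singleton_subset_iff, hgen]
      exact ⟨_, rfl⟩
    · intro hz
      refine Algebra.adjoin_le (S := integralClosure P.O K') ?_ hz
      rintro _ ⟨c, rfl⟩
      refine (hIC _).2 (fun Q' hQ' => ?_)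
      refine val_le_one_of_isIntegral' (R := k) Q'.1 (fun c => Q'.2.1 c) ?_
      exact (IsIntegral.of_finite k c).map (IsScalarTower.toAlgHom k k' K')
  · obtain ⟨e, he⟩ := hQ
    have := ramIdx_eq_one_of_good hKw pb' _ _ hab' P hgcoef (hcoef a) (hcoef b) hd he
    rw [this] at he
    exact he

end ConstExt2
section FinSplit

variable {k : Type u} {k' : Type u'} {K : Type v} {K' : Type v'} [Field k] [Field k'] [Field K] [Field K']
    [Algebra k k'] [FiniteDimensional k k'] [Algebra k K] [Algebra K K'] [Algebra k' K']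
    [Algebra k K'] [IsScalarTower k k' K'] [IsScalarTower k K K']

/-- a finite field all of whose elements satisfy `x ^ N = x` has at most `N` elements -/
lemma natCard_le_of_forall_pow_eq (F : Type*) [Field F] [Finite F] (N : ℕ) (hN : 2 ≤ N)
    (h : ∀ x : F, x ^ N = x) : Nat.card F ≤ N := by
  classical
  haveI := Fintype.ofFinite F
  have hne : (X ^ N - X : F[X]) ≠ 0 := FiniteField.X_pow_card_sub_X_ne_zero F hN
  have hdeg : (X ^ N - X : F[X]).natDegree = N := FiniteField.X_pow_card_sub_X_natDegree_eq F hN
  have hsub : (Finset.univ : Finset F).val ⊆ (X ^ N - X : F[X]).roots := by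
    intro x _
    rw [mem_roots hne, IsRoot, eval_sub, eval_pow, eval_X, h x, sub_self]
  have := Polynomial.card_le_degree_of_subset_roots hsub
  rw [hdeg, Finset.card_univ, ← Nat.card_eq_fintype_card] at this
  exact this

lemma pow_pow_mul_eq {M : Type*} [Monoid M] (q : ℕ) (a : M) (e j : ℕ) (ha : a ^ q ^ e = a) :
    a ^ q ^ (e * j) = a := by
  induction j with
  | zero => rw [mul_zero, pow_zero, pow_one]
  | succ j ih => rw [Nat.mul_succ, pow_add, pow_mul, ih, ha]

attribute [-instance] IsLocalRing.instModuleResidueFieldOfAlgebra in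
/-- in a constant field extension of a function field over a finite field, a place over `P` has
degree (over `k`) `lcm (deg P) [k':k]` -/
theorem deg_const_ext_finite [Finite k]
    (h : Function.Bijective (Algebra.TensorProduct.productMap
      (IsScalarTower.toAlgHom k k' K') (IsScalarTower.toAlgHom k K K')))
    (hK : IsFunctionField k K) (P : Place k K) (Q : Place k K') (hQ : IsOver Q P) :
    IsOverWith Q P 1 ∧ Q.deg = Nat.lcm P.deg (finrank k k') := by
  classical
  haveI : Finite k' := Module.finite_of_finite k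
  haveI : Algebra.IsSeparable k k' := Algebra.IsAlgebraic.isSeparable_of_perfectField
  haveI : Algebra.IsAlgebraic k k' := Algebra.IsAlgebraic.of_finite k k'
  have hfin : FiniteDimensional K K' := finite_const h
  have hKw : IsWeakFF k K := IsWeakFF.of_isFunctionField hK
  letI algPO : Algebra P.O K' := ((algebraMap K K').comp P.O.subtype).toAlgebra
  have hst : IsScalarTower P.O K K' := IsScalarTower.of_algebraMap_eq (fun _ => rfl)
  obtain ⟨hcl, he⟩ := const_ext_main h hK P Q hQ
  refine ⟨he, ?_⟩
  set q := Nat.card k with hq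
  have hq2 : 2 ≤ q := Finite.one_lt_card
  set d := P.deg with hd
  set n := finrank k k' with hn
  set l := Nat.lcm d n with hl
  have hdpos : 0 < d := deg_pos hK P
  have hnpos : 0 < n := finrank_pos
  have hlpos : 0 < l := Nat.lcm_pos hdpos hnpos
  -- the residue field of `Q` is finite
  have hFQfin : FiniteDimensional k (IsLocalRing.ResidueField Q.O) := wk_residue_finite_ext hKw Q
  haveI : Finite (IsLocalRing.ResidueField Q.O) := Module.finite_of_finite k
  have hcardQ : Nat.card (IsLocalRing.ResidueField Q.O) = q ^ Q.deg :=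
    Module.natCard_eq_pow_finrank (K := k)
  -- divisibility
  have h1 : d ∣ Q.deg := ⟨_, deg_eq_mul_finrank_fieldRange he⟩
  have h2 : n ∣ Q.deg := ⟨_, deg_placeUp (k₁ := k') Q⟩
  have h3 : l ∣ Q.deg := Nat.lcm_dvd h1 h2
  refine le_antisymm ?_ (Nat.le_of_dvd (wk_deg_pos_ext hKw Q) h3)
  -- all elements of the residue field satisfy `x ^ q ^ l = x`
  obtain ⟨p, hpchar⟩ := CharP.exists k
  haveI : Fact p.Prime := ⟨CharP.char_is_prime k p⟩
  haveI : CharP (IsLocalRing.ResidueField Q.O) p :=
    (RingHom.charP_iff (algebraMap k (IsLocalRing.ResidueField Q.O))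
      (algebraMap k (IsLocalRing.ResidueField Q.O)).injective p).1 hpchar
  obtain ⟨m, hm⟩ : ∃ m : ℕ, q = p ^ m := by
    haveI := Fintype.ofFinite k
    obtain ⟨m, -, hm⟩ := FiniteField.card k p
    exact ⟨m, by rw [hq, Nat.card_eq_fintype_card]; exact hm⟩
  -- the subring of fixed points of `y ↦ y ^ q ^ l`
  have hqlm : q ^ l = p ^ (m * l) := by rw [hm, pow_mul]
  have hfixadd : ∀ a b : IsLocalRing.ResidueField Q.O, a ^ q ^ l = a → b ^ q ^ l = b →
      (a + b) ^ q ^ l = a + b := by
    intro a b ha hb
    rw [hqlm] at ha hb ⊢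
    rw [add_pow_char_pow, ha, hb]
  have hfixmul : ∀ a b : IsLocalRing.ResidueField Q.O, a ^ q ^ l = a → b ^ q ^ l = b →
      (a * b) ^ q ^ l = a * b := by
    intro a b ha hb
    rw [mul_pow, ha, hb]
  -- elements of `O_P[k']`
  have hmem : ∀ w ∈ Algebra.adjoin P.O (Set.range (algebraMap k' K')),
      ∃ hw : Q.1 w ≤ 1, (IsLocalRing.residue Q.O ⟨w, hw⟩) ^ q ^ l = IsLocalRing.residue Q.O ⟨w, hw⟩ := by
    intro w hw
    induction hw using Algebra.adjoin_induction with
    | mem x hx =>
      obtain ⟨c, rfl⟩ := hx
      have hc1 : Q.1 (algebraMap k' K' c) ≤ 1 :=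
        val_le_one_of_isIntegral' (R := k) Q.1 (fun c => Q.2.1 c)
          ((IsIntegral.of_finite k c).map (IsScalarTower.toAlgHom k k' K'))
      refine ⟨hc1, ?_⟩
      have hcn : c ^ q ^ n = c := by
        have := pow_natCard_eq k' c
        rwa [Module.natCard_eq_pow_finrank (K := k) (V := k')] at this
      obtain ⟨j, hj⟩ : n ∣ l := Nat.dvd_lcm_right d n
      have hcl' : c ^ q ^ l = c := by rw [hj]; exact pow_pow_mul_eq q c n j hcn
      rw [← map_pow]
      congr 1
      apply Subtype.ext
      show (algebraMap k' K' c) ^ q ^ l = algebraMap k' K' c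
      rw [← map_pow, hcl']
    | algebraMap r =>
      have hr1 : Q.1 (algebraMap P.O K' r) ≤ 1 := (isOverWith_le_one_iff he _).2 r.2
      refine ⟨hr1, ?_⟩
      have h5 : (⟨algebraMap P.O K' r, hr1⟩ : Q.O) = ringIncl he r := rfl
      rw [h5, ← resMap_residue he, ← map_pow]
      congr 1
      haveI := (natCard_residue hK P).1
      have h6 := pow_natCard_eq (IsLocalRing.ResidueField P.O) (IsLocalRing.residue P.O r)
      rw [(natCard_residue hK P).2] at h6
      obtain ⟨j, hj⟩ : d ∣ l := Nat.dvd_lcm_left d n
      rw [hj]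
      exact pow_pow_mul_eq q _ d j h6
    | add x y hx hy hx' hy' =>
      obtain ⟨hx1, hx2⟩ := hx'
      obtain ⟨hy1, hy2⟩ := hy'
      have hxy1 : Q.1 (x + y) ≤ 1 := (Q.1.map_add x y).trans (max_le hx1 hy1)
      refine ⟨hxy1, ?_⟩
      have : (⟨x + y, hxy1⟩ : Q.O) = ⟨x, hx1⟩ + ⟨y, hy1⟩ := rfl
      rw [this, map_add]
      exact hfixadd _ _ hx2 hy2
    | mul x y hx hy hx' hy' =>
      obtain ⟨hx1, hx2⟩ := hx'
      obtain ⟨hy1, hy2⟩ := hy'
      have hxy1 : Q.1 (x * y) ≤ 1 := by rw [map_mul]; exact mul_le_one' hx1 hy1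
      refine ⟨hxy1, ?_⟩
      have : (⟨x * y, hxy1⟩ : Q.O) = ⟨x, hx1⟩ * ⟨y, hy1⟩ := rfl
      rw [this, map_mul]
      exact hfixmul _ _ hx2 hy2
  -- approximation
  obtain ⟨hSfin, -⟩ := sum_ramIdx_mul_deg (K' := K') hK P
  have hall : ∀ y : IsLocalRing.ResidueField Q.O, y ^ q ^ l = y := by
    intro y
    obtain ⟨z, rfl⟩ := IsLocalRing.residue_surjective y
    haveI : Fintype ↥hSfin.toFinset := inferInstance
    obtain ⟨w, hw⟩ := weak_approx (fun i : ↥hSfin.toFinset => (i : Place k K'))
      Subtype.val_injective (fun i => if (i : Place k K') = Q then (z : K') else 0) (fun _ => 0)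
    have hwQ : Q.1 (w - z) < 1 := by
      have hQmem : Q ∈ hSfin.toFinset := by
        rw [Set.Finite.mem_toFinset]; exact hQ
      have := hw ⟨Q, hQmem⟩
      simpa using this
    have hwint : w ∈ integralClosure P.O K' := by
      rw [(integralClosure_eq_and_finite (K' := K') hKw P).1]
      intro Q' hQ'
      by_cases hQQ : Q' = Q
      · subst hQQ
        have : w = (w - z) + z := by ring
        rw [this]
        exact (Q'.1.map_add _ _).trans (max_le hwQ.le z.2)
      · have hQ'mem : Q' ∈ hSfin.toFinset := by
          rw [Set.Finite.mem_toFinset]; exact hQ'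
        have := hw ⟨Q', hQ'mem⟩
        simp only [if_neg hQQ, sub_zero, neg_zero, WithZero.exp_zero] at this
        exact this.le
    have hwadj : w ∈ Algebra.adjoin P.O (Set.range (algebraMap k' K')) := by
      have h7 : w ∈ (integralClosure P.O K').toSubring := hwint
      rw [hcl] at h7
      exact h7
    obtain ⟨hw1, hw2⟩ := hmem w hwadj
    have hres : IsLocalRing.residue Q.O z = IsLocalRing.residue Q.O ⟨w, hw1⟩ := by
      rw [residue_eq_iff]
      show Q.1 ((z : K') - w) < 1
      rw [← neg_sub, Valuation.map_neg]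
      exact hwQ
    rw [hres]
    exact hw2
  have hql2 : 2 ≤ q ^ l := le_trans hq2 (Nat.le_self_pow hlpos.ne' q)
  have hcard := natCard_le_of_forall_pow_eq (IsLocalRing.ResidueField Q.O) (q ^ l) hql2 hall
  rw [hcardQ] at hcard
  exact (Nat.pow_le_pow_iff_right (lt_of_lt_of_le one_lt_two hq2)).1 hcard


/-- number of places over `P` in a constant field extension over a finite field -/
theorem card_over_const_ext_finite [Finite k]
    (h : Function.Bijective (Algebra.TensorProduct.productMap
      (IsScalarTower.toAlgHom k k' K') (IsScalarTower.toAlgHom k K K')))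
    (hK : IsFunctionField k K) (P : Place k K) :
    ∃ S : Finset (Place k K'), (∀ Q, Q ∈ S ↔ IsOver Q P) ∧
      S.card = Nat.gcd P.deg (finrank k k') := by
  classical
  have hfin : FiniteDimensional K K' := finite_const h
  obtain ⟨hSfin, hsum⟩ := sum_ramIdx_mul_deg (K' := K') hK P
  have hmemS : ∀ Q, Q ∈ hSfin.toFinset ↔ IsOver Q P := fun Q => by
    rw [Set.Finite.mem_toFinset]; rfl
  refine ⟨hSfin.toFinset, hmemS, ?_⟩
  have h1 := hsum hSfin.toFinset hmemS
  have h2 : ∑ Q ∈ hSfin.toFinset, ramIdx Q P * Q.deg =
      hSfin.toFinset.card * Nat.lcm P.deg (finrank k k') := by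
    rw [Finset.sum_const_nat]
    intro Q hQ
    obtain ⟨he, hd⟩ := deg_const_ext_finite h hK P Q ((hmemS Q).1 hQ)
    rw [ramIdx_eq he, hd, one_mul]
  rw [h2, finrank_const h] at h1
  have hdpos : 0 < P.deg := deg_pos hK P
  have hnpos : 0 < finrank k k' := finrank_pos
  have h3 := Nat.gcd_mul_lcm P.deg (finrank k k')
  have hlpos : 0 < Nat.lcm P.deg (finrank k k') := Nat.lcm_pos hdpos hnpos
  apply Nat.eq_of_mul_eq_mul_right hlpos
  rw [h1, h3, mul_comm]

end FinSplit

end CU
end Groth.Agent.Helper17.FF
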