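import Groth.Agent.Lib.Helper17.FF19

/-! Consequences of Riemann–Roch: special divisors, Clifford for multiples of a point, gaps. -/

namespace Groth.Agent.Helper17.FF

open FunFld Polynomial Module
open scoped Pointwise

variable {k K : Type*} [Field k] [Field K] [Algebra k K]

theorem mul_mem_L_iff (hK : IsFunctionField k K) (D : Divisor k K) (x y : K) (hx : x ≠ 0) :
    x * y ∈ L D ↔ y ∈ L (D + FunFld.div k x) := by
  by_cases hy : y = 0
  · subst hy; rw [mul_zero]; exact ⟨fun _ => Submodule.zero_mem _, fun _ => Submodule.zero_mem _⟩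
  · constructor
    · intro h P
      have := (val_le_exp_iff P (mul_ne_zero hx hy) _).1 (h P)
      rw [ord_mul P hx hy] at this
      rw [val_le_exp_iff P hy, Finsupp.add_apply, div_apply hK]
      linarith
    · intro h P
      have := (val_le_exp_iff P hy _).1 (h P)
      rw [Finsupp.add_apply, div_apply hK] at this
      rw [val_le_exp_iff P (mul_ne_zero hx hy), ord_mul P hx hy]
      linarith

theorem L_ne_bot_iff (hK : IsFunctionField k K) (D : Divisor k K) :
    L D ≠ ⊥ ↔ ∃ x : K, x ≠ 0 ∧ 0 ≤ D + FunFld.div k x := by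
  constructor
  · intro h
    obtain ⟨x, hx, hx0⟩ := Submodule.exists_mem_ne_zero_of_ne_bot h
    refine ⟨x, hx0, fun P => ?_⟩
    rw [Finsupp.zero_apply, Finsupp.add_apply, div_apply hK]
    have := (val_le_exp_iff P hx0 _).1 (hx P)
    linarith
  · rintro ⟨x, hx0, hx⟩ hbot
    have hmem : x ∈ L D := by
      intro P
      rw [val_le_exp_iff P hx0]
      have := hx P
      rw [Finsupp.zero_apply, Finsupp.add_apply, div_apply hK] at this
      linarith
    rw [hbot, Submodule.mem_bot] at hmem
    exact hx0 hmem

lemma one_le_ell_of_nonneg (hK : IsFunctionField k K) {D : Divisor k K} (hD : 0 ≤ D) :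
    1 ≤ ell D := by
  have := L_finite hK D
  have h := Submodule.finrank_mono (L_mono hD)
  rw [(L_zero_finite hK).2] at h
  exact h

theorem exists_weil_of_effective (hK : IsFunctionField k K) (D : Divisor k K) (hD : 0 ≤ D)
    (hdeg : D.deg < genus k K) :
    ∃ ω : Module.Dual k (adele k K), ω ≠ 0 ∧ ω ∈ WD D := by
  obtain ⟨hfd, hfr⟩ := finrank_WD hK D
  unfold delta at hfr
  have h1 := one_le_ell_of_nonneg hK hD
  have h1' : (1 : ℤ) ≤ ell D := by exact_mod_cast h1
  have hpos : 0 < finrank k (WD D) := by
    have : (0 : ℤ) < (finrank k (WD D) : ℤ) := by rw [hfr]; linarith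
    exact_mod_cast this
  have : Nontrivial (WD D) := Module.nontrivial_of_finrank_pos hpos
  obtain ⟨⟨ω, hω⟩, hω0⟩ := exists_ne (0 : WD D)
  exact ⟨ω, fun h => hω0 (Subtype.ext h), hω⟩

lemma deg_eq_one_of_isAlgClosed [IsAlgClosed k] (hK : IsFunctionField k K) (P : Place k K) :
    P.deg = 1 := by
  have h := residue_finite hK P
  have : Algebra.IsIntegral k (IsLocalRing.ResidueField P.O) :=
    @Algebra.IsIntegral.of_finite k _ _ _ _ h
  have hb : Function.Bijective (algebraMap k (IsLocalRing.ResidueField P.O)) :=
    IsAlgClosed.algebraMap_bijective_of_isIntegral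
  let e : k ≃ₗ[k] IsLocalRing.ResidueField P.O :=
    LinearEquiv.ofBijective (Algebra.linearMap k _) hb
  unfold Place.deg
  rw [← e.finrank_eq, Module.finrank_self]

/-- a place of degree one with a two-dimensional `L(P)` forces genus zero -/
lemma genus_eq_zero_of_ell_single (hK : IsFunctionField k K) {P : Place k K} (hP : P.deg = 1)
    (h2 : 2 ≤ ell (Finsupp.single P 1 : Divisor k K)) : genus k K = 0 := by
  obtain ⟨x, hxL, hxk⟩ : ∃ x ∈ L (Finsupp.single P 1 : Divisor k K),
      x ∉ Set.range (algebraMap k K) := by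
    by_contra hcon
    push Not at hcon
    have hle : L (Finsupp.single P 1 : Divisor k K) ≤ L (0 : Divisor k K) := by
      intro x hx
      rw [L_zero hK]
      obtain ⟨c, rfl⟩ := hcon x hx
      exact Submodule.algebraMap_mem c
    have := (L_zero_finite hK).1
    have h3 := Submodule.finrank_mono hle
    rw [(L_zero_finite hK).2] at h3
    unfold ell at h2
    omega
  have hx0 := ne_zero_of_not_mem_range hxk
  have hQ : ∀ Q : Place k K, Q ≠ P → 0 ≤ Q.ord x := by
    intro Q hQ
    have := (val_le_exp_iff Q hx0 _).1 (hxL Q)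
    rw [Finsupp.single_eq_of_ne hQ] at this
    omega
  have hord : P.ord x = -1 := by
    have h3 := (val_le_exp_iff P hx0 _).1 (hxL P)
    rw [Finsupp.single_eq_same] at h3
    obtain ⟨Q, hQpole⟩ := exists_pole hK hxk
    have h4 := (ord_neg_iff Q hx0).2 hQpole
    have hQP : Q = P := by
      by_contra hne
      have := hQ Q hne
      omega
    subst hQP
    omega
  exact genus_eq_zero_of_adjoin_eq_top hK (simple_pole_imp hK hP hord hQ)

lemma ell_single_eq_one (hK : IsFunctionField k K) (hg : 0 < genus k K) {P : Place k K}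
    (hP : P.deg = 1) : ell (Finsupp.single P 1 : Divisor k K) = 1 := by
  classical
  have h1 : 1 ≤ ell (Finsupp.single P 1 : Divisor k K) :=
    one_le_ell_of_nonneg hK (by
      intro Q
      rw [Finsupp.zero_apply, Finsupp.single_apply]
      split_ifs <;> norm_num)
  by_contra hne
  have h2 : 2 ≤ ell (Finsupp.single P 1 : Divisor k K) := by omega
  have := genus_eq_zero_of_ell_single hK hP h2
  omega

theorem ell_sub_single_lt (hK : IsFunctionField k K) (hg : 0 < genus k K) (D : Divisor k K)
    (hD : 2 * (genus k K : ℤ) ≤ D.deg ∨ IsCanonical k K D) {P : Place k K} (hP : P.deg = 1) :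
    ell (D - Finsupp.single P 1) < ell D := by
  rcases hD with hD | hD
  · have h1 := ell_eq_of_deg_ge hK D (by linarith)
    have h2 := ell_eq_of_deg_ge hK (D - Finsupp.single P 1)
      (by rw [deg_sub, deg_single, hP]; push_cast; linarith)
    rw [deg_sub, deg_single, hP] at h2
    push_cast at h2
    have : (ell (D - Finsupp.single P 1) : ℤ) < ell D := by linarith
    exact_mod_cast this
  · have h1 := riemann_roch hK hD (D - Finsupp.single P 1)
    have h2 := (isCanonical_iff hK D).1 hD
    rw [sub_sub_cancel, ell_single_eq_one hK hg hP, deg_sub, deg_single, hP, h2.2] at h1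
    push_cast at h1
    have : (ell (D - Finsupp.single P 1) : ℤ) < ell D := by rw [h2.1]; linarith
    exact_mod_cast this

/-! ### orders at a place of degree one -/

/-- the orders at `P` realised by nonzero elements of `L(D)` -/
def IsOrdOf (P : Place k K) (D : Divisor k K) (o : ℤ) : Prop :=
  ∃ f ∈ L D, f ≠ 0 ∧ P.ord f = o

/-- any finite set of realised orders has at most `ℓ(D)` elements -/
lemma card_le_ell_of_isOrdOf (hK : IsFunctionField k K) (P : Place k K) (D : Divisor k K)
    (s : Finset ℤ) (hs : ∀ o ∈ s, IsOrdOf P D o) : s.card ≤ ell D := by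
  classical
  choose! f hfL hf0 hfo using hs
  have hfd := L_finite hK D
  have hli : LinearIndependent k (fun o : s => (⟨f o, hfL o o.2⟩ : L D)) := by
    apply LinearIndependent.of_comp (L D).subtype
    rw [Fintype.linearIndependent_iff]
    intro c hc
    refine coeff_eq_zero_of_ord_injective P (fun o : s => f o) (fun o => hf0 o o.2) ?_ c hc
    intro o o' hoo'
    apply Subtype.ext
    have h1 := hfo o o.2
    have h2 := hfo o' o'.2
    simp only at hoo'
    rw [h1, h2] at hoo'
    exact hoo'
  have := hli.fintype_card_le_finrank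
  simpa [ell] using this

/-- for a place of degree one, `ℓ(D)` orders are realised -/
lemma exists_orders (hK : IsFunctionField k K) {P : Place k K} (hP : P.deg = 1) :
    ∀ (N : ℕ) (D : Divisor k K), D.deg < N →
      ∃ s : Finset ℤ, s.card = ell D ∧ (∀ o ∈ s, IsOrdOf P D o) ∧ ∀ o ∈ s, -(D P) ≤ o := by
  classical
  intro N
  induction N with
  | zero =>
    intro D hD
    refine ⟨∅, ?_, by simp, by simp⟩
    rw [ell_eq_zero_of_deg_neg hK D (by exact_mod_cast hD)]; rfl
  | succ N ih =>
    intro D hD
    have hdeg' : Divisor.deg (k := k) (K := K) (D - Finsupp.single P 1) < (N : ℤ) := by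
      rw [deg_sub, deg_single, hP]; push_cast at hD ⊢; linarith
    obtain ⟨s, hcard, hord, hlow⟩ := ih (D - Finsupp.single P 1) hdeg'
    have hle : D - Finsupp.single P 1 ≤ D := by
      intro Q
      rw [Finsupp.sub_apply, Finsupp.single_apply]
      split_ifs <;> omega
    have hordD : ∀ o ∈ s, IsOrdOf P D o := by
      intro o ho
      obtain ⟨f, hf, hf0, hfo⟩ := hord o ho
      exact ⟨f, L_mono hle hf, hf0, hfo⟩
    have hlow' : ∀ o ∈ s, -(D P) + 1 ≤ o := by
      intro o ho
      have := hlow o ho
      rw [Finsupp.sub_apply, Finsupp.single_eq_same] at this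
      omega
    have hfd := L_finite hK D
    have hfd' := L_finite hK (D - Finsupp.single P 1)
    by_cases heq : ell (D - Finsupp.single P 1) = ell D
    · exact ⟨s, hcard.trans heq, hordD, fun o ho => by have := hlow' o ho; omega⟩
    · -- a new element of exact order `-D(P)`
      have hstep := (L_step hK (D - Finsupp.single P 1) P hfd').2
      rw [sub_add_cancel, hP] at hstep
      have hmono := Submodule.finrank_mono (L_mono hle)
      have hell : ell D = ell (D - Finsupp.single P 1) + 1 := by
        unfold ell at heq ⊢; omega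
      obtain ⟨f, hfL, hfn⟩ : ∃ f ∈ L D, f ∉ L (D - Finsupp.single P 1) := by
        by_contra hcon
        push Not at hcon
        have h2 := Submodule.finrank_mono (show L D ≤ L (D - Finsupp.single P 1) from hcon)
        unfold ell at hell; omega
      have hf0 : f ≠ 0 := fun h => hfn (by rw [h]; exact Submodule.zero_mem _)
      have hfo : P.ord f = -(D P) := by
        have h1 := (val_le_exp_iff P hf0 _).1 (hfL P)
        by_contra hne
        apply hfn
        intro Q
        rw [val_le_exp_iff Q hf0, Finsupp.sub_apply]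
        by_cases hQ : Q = P
        · subst hQ; rw [Finsupp.single_eq_same]; omega
        · rw [Finsupp.single_eq_of_ne hQ, sub_zero]
          exact (val_le_exp_iff Q hf0 _).1 (hfL Q)
      have hnotin : -(D P) ∉ s := fun h => by have := hlow' _ h; omega
      refine ⟨insert (-(D P)) s, ?_, ?_, ?_⟩
      · rw [Finset.card_insert_of_notMem hnotin, hcard, hell]
      · intro o ho
        rw [Finset.mem_insert] at ho
        rcases ho with rfl | ho
        · exact ⟨f, hfL, hf0, hfo⟩
        · exact hordD o ho
      · intro o ho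
        rw [Finset.mem_insert] at ho
        rcases ho with rfl | ho
        · exact le_rfl
        · have := hlow' o ho; omega

theorem ell_add_ell_le (hK : IsFunctionField k K) {P : Place k K} (hP : P.deg = 1)
    (D E : Divisor k K) (hD : 0 < ell D) (hE : 0 < ell E) :
    ell D + ell E ≤ ell (D + E) + 1 := by
  classical
  obtain ⟨s, hs, hsord, -⟩ := exists_orders hK hP (D.deg.toNat + 1) D
    (by have := Int.self_le_toNat D.deg; push_cast; linarith)
  obtain ⟨t, ht, htord, -⟩ := exists_orders hK hP (E.deg.toNat + 1) E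
    (by have := Int.self_le_toNat E.deg; push_cast; linarith)
  have hsne : s.Nonempty := Finset.card_pos.1 (by rw [hs]; exact hD)
  have htne : t.Nonempty := Finset.card_pos.1 (by rw [ht]; exact hE)
  have hcd := cauchy_davenport_add_of_linearOrder_isCancelAdd hsne htne
  have hst : ∀ o ∈ s + t, IsOrdOf P (D + E) o := by
    intro o ho
    obtain ⟨a, ha, b, hb, rfl⟩ := Finset.mem_add.1 ho
    obtain ⟨f, hfL, hf0, hfo⟩ := hsord a ha
    obtain ⟨g, hgL, hg0, hgo⟩ := htord b hb
    refine ⟨f * g, ?_, mul_ne_zero hf0 hg0, by rw [ord_mul P hf0 hg0, hfo, hgo]⟩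
    intro Q
    rw [map_mul, Finsupp.add_apply, WithZero.exp_add]
    exact mul_le_mul' (hfL Q) (hgL Q)
  have := card_le_ell_of_isOrdOf hK P (D + E) (s + t) hst
  rw [hs, ht] at hcd
  omega

/-- Clifford's inequality for multiples of a place of degree one -/
theorem clifford_single (hK : IsFunctionField k K) {P : Place k K} (hP : P.deg = 1) (n : ℕ)
    (hn : (n : ℤ) ≤ 2 * (genus k K : ℤ) - 2) :
    2 * ell (Finsupp.single P (n : ℤ) : Divisor k K) ≤ n + 2 := by
  classical
  obtain ⟨C, hC⟩ := exists_canonical hK
  have hrr := riemann_roch hK hC (Finsupp.single P (n : ℤ))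
  rw [deg_single, hP] at hrr
  have hCg := ((isCanonical_iff hK C).1 hC).1
  by_cases h0 : ell (C - Finsupp.single P (n : ℤ)) = 0
  · rw [h0] at hrr
    push_cast at hrr
    have : (2 * ell (Finsupp.single P (n : ℤ) : Divisor k K) : ℤ) ≤ n + 2 := by linarith
    exact_mod_cast this
  · have hpos1 : 0 < ell (Finsupp.single P (n : ℤ) : Divisor k K) :=
      one_le_ell_of_nonneg hK (by
        intro Q
        rw [Finsupp.zero_apply, Finsupp.single_apply]
        split_ifs <;> positivity)
    have h1 := ell_add_ell_le hK hP (Finsupp.single P (n : ℤ)) (C - Finsupp.single P (n : ℤ))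
      hpos1 (Nat.pos_of_ne_zero h0)
    rw [add_sub_cancel, hCg] at h1
    have h1' : (ell (Finsupp.single P (n : ℤ) : Divisor k K) : ℤ) +
        ell (C - Finsupp.single P (n : ℤ)) ≤ genus k K + 1 := by exact_mod_cast h1
    push_cast at hrr
    have : (2 * ell (Finsupp.single P (n : ℤ) : Divisor k K) : ℤ) ≤ n + 2 := by linarith
    exact_mod_cast this

end Groth.Agent.Helper17.FF
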