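import Groth.Prelude.Def_W4bk4goldsch45p2
import Mathlib

/-! Triangular changes of column sequences: jumps, order sequences and Wronskian determinants. -/

namespace Groth.Agent.Helper17.Wr

open FunFld

variable {K : Type*} [Field K] {M : Type*} [AddCommGroup M] [Module K M]

/-- a triangular change with unit diagonal does not change the partial spans -/
theorem span_image_Iio_eq (c c' : ℕ → M) (u : ℕ → K) (hu : ∀ j, u j ≠ 0)
    (h : ∀ j, c' j - u j • c j ∈ Submodule.span K (c '' Set.Iio j)) :
    ∀ j, Submodule.span K (c' '' Set.Iio j) = Submodule.span K (c '' Set.Iio j) := by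
  intro j
  induction j with
  | zero => simp
  | succ j ih =>
    have hI : Set.Iio (j + 1) = insert j (Set.Iio j) := by
      ext m; simp only [Set.mem_Iio, Set.mem_insert_iff]; omega
    rw [hI, Set.image_insert_eq, Set.image_insert_eq, Submodule.span_insert, Submodule.span_insert, ih]
    apply le_antisymm
    · refine sup_le ?_ le_sup_right
      rw [Submodule.span_singleton_le_iff_mem]
      have h1 : c' j = u j • c j + (c' j - u j • c j) := by abel
      rw [h1]
      refine Submodule.add_mem _ ?_ (Submodule.mem_sup_right (h j))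
      exact Submodule.mem_sup_left (Submodule.smul_mem _ _ (Submodule.mem_span_singleton_self _))
    · refine sup_le ?_ le_sup_right
      rw [Submodule.span_singleton_le_iff_mem]
      have h1 : c j = (u j)⁻¹ • c' j - (u j)⁻¹ • (c' j - u j • c j) := by
        rw [← smul_sub, sub_sub_cancel, smul_smul, inv_mul_cancel₀ (hu j), one_smul]
      rw [h1]
      refine Submodule.sub_mem _ ?_ (Submodule.mem_sup_right (Submodule.smul_mem _ _ (h j)))
      exact Submodule.mem_sup_left (Submodule.smul_mem _ _ (Submodule.mem_span_singleton_self _))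

theorem isJump_iff (c c' : ℕ → M) (u : ℕ → K) (hu : ∀ j, u j ≠ 0)
    (h : ∀ j, c' j - u j • c j ∈ Submodule.span K (c '' Set.Iio j)) (j : ℕ) :
    IsJump K c' j ↔ IsJump K c j := by
  unfold IsJump
  rw [span_image_Iio_eq c c' u hu h j, not_iff_not]
  constructor
  · intro h1
    have h2 : c j = (u j)⁻¹ • c' j - (u j)⁻¹ • (c' j - u j • c j) := by
      rw [← smul_sub, sub_sub_cancel, smul_smul, inv_mul_cancel₀ (hu j), one_smul]
    rw [h2]
    exact Submodule.sub_mem _ (Submodule.smul_mem _ _ h1) (Submodule.smul_mem _ _ (h j))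
  · intro h1
    have h2 : c' j = u j • c j + (c' j - u j • c j) := by abel
    rw [h2]
    exact Submodule.add_mem _ (Submodule.smul_mem _ _ h1) (h j)

theorem isOrders_iff (c c' : ℕ → M) (u : ℕ → K) (hu : ∀ j, u j ≠ 0)
    (h : ∀ j, c' j - u j • c j ∈ Submodule.span K (c '' Set.Iio j)) {n : ℕ} (J : Fin n → ℕ) :
    IsOrders K c' J ↔ IsOrders K c J := by
  unfold IsOrders
  simp only [isJump_iff c c' u hu h]

/-- the jump columns: column `0` and the columns `J l + 1`. -/
def jcol (c : ℕ → M) {n : ℕ} (J : Fin n → ℕ) : Fin (n + 1) → M :=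
  Fin.cases (c 0) (fun l => c (J l + 1))

@[simp] lemma jcol_zero (c : ℕ → M) {n : ℕ} (J : Fin n → ℕ) : jcol c J 0 = c 0 := rfl
@[simp] lemma jcol_succ (c : ℕ → M) {n : ℕ} (J : Fin n → ℕ) (l : Fin n) :
    jcol c J l.succ = c (J l + 1) := rfl

/-- position of the jump columns -/
def jidx {n : ℕ} (J : Fin n → ℕ) : Fin (n + 1) → ℕ := Fin.cases 0 (fun l => J l + 1)

@[simp] lemma jidx_zero {n : ℕ} (J : Fin n → ℕ) : jidx J 0 = 0 := rfl
@[simp] lemma jidx_succ {n : ℕ} (J : Fin n → ℕ) (l : Fin n) : jidx J l.succ = J l + 1 := rfl

lemma jcol_eq (c : ℕ → M) {n : ℕ} (J : Fin n → ℕ) (m : Fin (n + 1)) : jcol c J m = c (jidx J m) := by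
  refine Fin.cases ?_ (fun l => ?_) m <;> rfl

lemma jidx_strictMono {n : ℕ} {J : Fin n → ℕ} (hJ : StrictMono J) : StrictMono (jidx J) := by
  intro a b hab
  revert hab
  refine Fin.cases ?_ (fun l => ?_) a <;> refine Fin.cases ?_ (fun l' => ?_) b
  · intro h; exact absurd h (lt_irrefl _)
  · intro _; simp
  · intro h; exact absurd h (Fin.not_lt_zero _)
  · intro h
    simp only [jidx_succ]
    have := hJ (Fin.succ_lt_succ_iff.1 h)
    omega

/-- the partial spans of an order sequence are spanned by the jump columns -/
theorem span_le_of_isOrders (c : ℕ → M) {n : ℕ} (J : Fin n → ℕ) (hJ : IsOrders K c J) :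
    ∀ j, Submodule.span K (c '' Set.Iio j) ≤
      Submodule.span K (jcol c J '' {m | jidx J m < j}) := by
  intro j
  induction j with
  | zero => simp
  | succ j ih =>
    have hI : Set.Iio (j + 1) = insert j (Set.Iio j) := by
      ext m; simp only [Set.mem_Iio, Set.mem_insert_iff]; omega
    have hmono : Submodule.span K (jcol c J '' {m | jidx J m < j}) ≤
        Submodule.span K (jcol c J '' {m | jidx J m < j + 1}) := by
      apply Submodule.span_mono
      apply Set.image_mono
      intro m hm
      exact Nat.lt_succ_of_lt hm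
    rw [hI, Set.image_insert_eq, Submodule.span_insert]
    refine sup_le ?_ (ih.trans hmono)
    rw [Submodule.span_singleton_le_iff_mem]
    by_cases hjump : IsJump K c j
    · -- `c j` is one of the jump columns
      cases j with
      | zero =>
        apply Submodule.subset_span
        exact ⟨0, by simp, rfl⟩
      | succ j' =>
        obtain ⟨l, hl⟩ := (hJ.2 j').2 hjump
        apply Submodule.subset_span
        refine ⟨l.succ, ?_, ?_⟩
        · simp only [Set.mem_setOf_eq, jidx_succ, hl]; omega
        · rw [jcol_succ, hl]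
    · unfold IsJump at hjump
      rw [not_not] at hjump
      exact hmono (ih hjump)

/-- triangular change of the columns of a matrix multiplies the determinant by the diagonal. -/
theorem det_triangular {N : ℕ} (E E' : Fin N → (Fin N → K)) (u : Fin N → K)
    (h : ∀ l, E' l - u l • E l ∈ Submodule.span K (E '' {m | m < l})) :
    (Matrix.of fun i l => E' l i).det = (∏ l, u l) * (Matrix.of fun i l => E l i).det := by
  classical
  have hw : ∀ l, ∃ w : Fin N →₀ K, w ∈ Finsupp.supported K K {m | m < l} ∧
      Finsupp.linearCombination K E w = E' l - u l • E l := fun l =>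
    (Finsupp.mem_span_image_iff_linearCombination K).1 (h l)
  choose w hwsupp hwsum using hw
  have hw0 : ∀ l m, ¬ m < l → w l m = 0 := by
    intro l m hml
    by_contra hne
    exact hml ((Finsupp.mem_supported K (w l)).1 (hwsupp l) (Finsupp.mem_support_iff.2 hne))
  set U : Matrix (Fin N) (Fin N) K := Matrix.of fun m l => if m = l then u l else w l m with hU
  have hUtri : U.IsUpperTriangular := by
    intro i j hij
    have hij' : j < i := hij
    show (if i = j then u j else w j i) = 0
    rw [if_neg (ne_of_gt hij')]
    exact hw0 j i (not_lt.2 hij'.le)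
  have hmul : (Matrix.of fun i l => E' l i) = (Matrix.of fun i l => E l i) * U := by
    ext i l
    rw [Matrix.mul_apply]
    have h1 : E' l = u l • E l + Finsupp.linearCombination K E (w l) := by
      rw [hwsum l]; abel
    show E' l i = ∑ m, E m i * (if m = l then u l else w l m)
    rw [h1, Finsupp.linearCombination_apply, Finsupp.sum_fintype _ _ (by simp)]
    simp only [Pi.add_apply, Pi.smul_apply, smul_eq_mul, Finset.sum_apply]
    have h2 : ∀ m, E m i * (if m = l then u l else w l m) =
        (if m = l then E m i * u l else 0) + E m i * w l m := by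
      intro m
      by_cases hml : m = l
      · subst hml
        rw [if_pos rfl, if_pos rfl, hw0 m m (lt_irrefl _), mul_zero, add_zero]
      · rw [if_neg hml, if_neg hml, zero_add]
    simp only [h2, Finset.sum_add_distrib, Finset.sum_ite_eq', Finset.mem_univ, if_true]
    congr 1
    · ring
    · exact Finset.sum_congr rfl fun m _ => mul_comm _ _
  rw [hmul, Matrix.det_mul, Matrix.det_of_isUpperTriangular hUtri, mul_comm]
  congr 1
  exact Finset.prod_congr rfl fun l _ => by simp [hU]

/-- The Wronskian-type determinant of the jump columns under a triangular change. -/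
theorem det_jcol {n : ℕ} (c c' : ℕ → (Fin (n + 1) → K)) (u : ℕ → K)
    (h : ∀ j, c' j - u j • c j ∈ Submodule.span K (c '' Set.Iio j))
    (J : Fin n → ℕ) (hJ : IsOrders K c J) :
    (Matrix.of fun i l => jcol c' J l i).det =
      (u 0 * ∏ l, u (J l + 1)) * (Matrix.of fun i l => jcol c J l i).det := by
  have key := det_triangular (jcol c J) (jcol c' J) (fun m => u (jidx J m)) (by
    intro l
    rw [jcol_eq c' J l, jcol_eq c J l]
    refine Submodule.span_mono ?_ (span_le_of_isOrders c J hJ (jidx J l) (h (jidx J l)))
    apply Set.image_mono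
    intro m hm
    exact (jidx_strictMono hJ.1).lt_iff_lt.1 hm)
  rw [key, Fin.prod_univ_succ]
  rfl

end Groth.Agent.Helper17.Wr
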