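import Mathlib
import Groth.Agent.Lib.Helper17.FFSep
import Groth.Agent.Lib.Helper17.FFGeom
import Groth.Prelude.Def_LocRes

/-! Hasse families: uniqueness and separability. -/

namespace Groth.Agent.Helper17.Hasse

open FunFld Polynomial

universe u v

section unique

variable {k : Type*} {K : Type*} {B : Type*} [Field k] [Field K] [Algebra k K] [CommRing B]
  [Algebra k B]

/-- Two homomorphisms `K → B⟦T⟧` with the same constant-coefficient maps that agree on a separating
element are equal. -/
theorem hasse_unique {x : K}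
    (hsep : Algebra.IsSeparable (IntermediateField.adjoin k ({x} : Set K)) K)
    (G₁ G₂ : K →ₐ[k] PowerSeries B) (hx : G₁ x = G₂ x)
    (hc : ∀ y, PowerSeries.constantCoeff (G₁ y) = PowerSeries.constantCoeff (G₂ y)) :
    G₁ = G₂ := by
  classical
  set F : IntermediateField k K := IntermediateField.adjoin k ({x} : Set K) with hF
  -- agreement on `F`
  have hFeq : ∀ z ∈ F, G₁ z = G₂ z := by
    intro z hz
    induction hz using IntermediateField.adjoin_induction with
    | mem z hz =>
      rw [Set.mem_singleton_iff] at hz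
      rw [hz]; exact hx
    | algebraMap c => rw [AlgHom.commutes, AlgHom.commutes]
    | add a b _ _ ha hb => rw [map_add, map_add, ha, hb]
    | inv a _ ha =>
      rcases eq_or_ne a 0 with rfl | h0
      · simp
      · have h1 : G₁ a⁻¹ * G₁ a = 1 := by rw [← map_mul, inv_mul_cancel₀ h0, map_one]
        have h2 : G₂ a⁻¹ * G₁ a = 1 := by rw [ha, ← map_mul, inv_mul_cancel₀ h0, map_one]
        calc G₁ a⁻¹ = G₁ a⁻¹ * (G₂ a⁻¹ * G₁ a) := by rw [h2, mul_one]
          _ = (G₁ a⁻¹ * G₁ a) * G₂ a⁻¹ := by ring
          _ = G₂ a⁻¹ := by rw [h1, one_mul]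
    | mul a b _ _ ha hb => rw [map_mul, map_mul, ha, hb]
  apply AlgHom.ext
  intro y
  set f : F[X] := minpoly F y with hf
  have hfsep : f.Separable := Algebra.IsSeparable.isSeparable F y
  let ι₁ : F →+* PowerSeries B := (G₁ : K →+* PowerSeries B).comp (algebraMap F K)
  let ι₂ : F →+* PowerSeries B := (G₂ : K →+* PowerSeries B).comp (algebraMap F K)
  have hι : ι₁ = ι₂ := by
    ext z : 1
    exact hFeq z z.2
  set g : (PowerSeries B)[X] := f.map ι₁ with hg
  have hg1 : g.eval (G₁ y) = 0 := by
    rw [hg, Polynomial.eval_map]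
    have := Polynomial.hom_eval₂ f (algebraMap F K) (G₁ : K →+* PowerSeries B) y
    rw [← Polynomial.aeval_def, minpoly.aeval, map_zero] at this
    exact this.symm
  have hg2 : g.eval (G₂ y) = 0 := by
    rw [hg, hι, Polynomial.eval_map]
    have := Polynomial.hom_eval₂ f (algebraMap F K) (G₂ : K →+* PowerSeries B) y
    rw [← Polynomial.aeval_def, minpoly.aeval, map_zero] at this
    exact this.symm
  have hderiv : g.derivative.eval (G₁ y) = G₁ (Polynomial.aeval y f.derivative) := by
    rw [hg, Polynomial.derivative_map, Polynomial.eval_map]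
    have := Polynomial.hom_eval₂ f.derivative (algebraMap F K) (G₁ : K →+* PowerSeries B) y
    rw [← Polynomial.aeval_def] at this
    exact this.symm
  have hne : Polynomial.aeval y f.derivative ≠ 0 :=
    hfsep.aeval_derivative_ne_zero (minpoly.aeval F y)
  have hunit : IsUnit (g.derivative.eval (G₁ y)) := by
    rw [hderiv]
    exact (isUnit_iff_ne_zero.2 hne).map G₁
  set δ := G₂ y - G₁ y with hδ
  have hδ0 : PowerSeries.constantCoeff δ = 0 := by
    rw [hδ, map_sub, hc y, sub_self]
  obtain ⟨c, hcexp⟩ := Polynomial.binomExpansion g (G₁ y) δ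
  have hsum : G₁ y + δ = G₂ y := by rw [hδ]; ring
  rw [hsum, hg2, hg1, zero_add] at hcexp
  have hfac : δ * (g.derivative.eval (G₁ y) + c * δ) = 0 := by
    rw [hcexp]; ring
  have hunit2 : IsUnit (g.derivative.eval (G₁ y) + c * δ) := by
    rw [PowerSeries.isUnit_iff_constantCoeff, map_add, map_mul, hδ0, mul_zero, add_zero]
    exact PowerSeries.isUnit_iff_constantCoeff.1 hunit
  have hδz : δ = 0 := by
    have := congrArg (· * (hunit2.unit⁻¹ : (PowerSeries B)ˣ).1) hfac
    simp only [zero_mul] at this
    rw [mul_assoc] at this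
    have h3 : (g.derivative.eval (G₁ y) + c * δ) * (hunit2.unit⁻¹ : (PowerSeries B)ˣ).1 = 1 :=
      hunit2.mul_val_inv
    rwa [h3, mul_one] at this
  rw [hδ, sub_eq_zero] at hδz
  exact hδz.symm

end unique

section sep

variable {k : Type u} {K : Type v} [Field k] [Field K] [Algebra k K]

/-- the first Hasse derivative as a derivation -/
noncomputable def derivOne (s : K) (H : K →ₐ[k] PowerSeries K) (hH : LocRes.IsHasseFamily s H) :
    Derivation k K K :=
  Derivation.mk'
    (((PowerSeries.coeff (R := K) 1).restrictScalars k) ∘ₗ H.toLinearMap)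
    (by
      intro a b
      show PowerSeries.coeff 1 (H (a * b)) = a • PowerSeries.coeff 1 (H b) + b • PowerSeries.coeff 1 (H a)
      have ha : PowerSeries.coeff 0 (H a) = a := by
        rw [PowerSeries.coeff_zero_eq_constantCoeff_apply, hH.2]
      have hb : PowerSeries.coeff 0 (H b) = b := by
        rw [PowerSeries.coeff_zero_eq_constantCoeff_apply, hH.2]
      rw [map_mul, PowerSeries.coeff_mul, Finset.Nat.antidiagonal_succ]
      simp only [Finset.Nat.antidiagonal_zero, Finset.map_singleton, Function.Embedding.coe_prodMap,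
        Function.Embedding.coeFn_mk, Prod.map_apply, Function.Embedding.refl_apply,
        Finset.sum_cons, Finset.sum_singleton]
      rw [ha, hb, smul_eq_mul, smul_eq_mul]
      show a * PowerSeries.coeff (Nat.succ 0) (H b) + PowerSeries.coeff (Nat.succ 0) (H a) * b = _
      ring)

lemma derivOne_apply (s : K) (H : K →ₐ[k] PowerSeries K) (hH : LocRes.IsHasseFamily s H) (y : K) :
    derivOne s H hH y = PowerSeries.coeff 1 (H y) := rfl

lemma derivOne_self (s : K) (H : K →ₐ[k] PowerSeries K) (hH : LocRes.IsHasseFamily s H) :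
    derivOne s H hH s = 1 := by
  rw [derivOne_apply, hH.1, map_add, PowerSeries.coeff_C, PowerSeries.coeff_one_X]
  simp

theorem D_ne_zero_of_isHasseFamily {s : K} {H : K →ₐ[k] PowerSeries K}
    (hH : LocRes.IsHasseFamily s H) : KaehlerDifferential.D k K s ≠ 0 := by
  intro h0
  have h1 := Derivation.liftKaehlerDifferential_comp_D (derivOne s H hH) s
  rw [h0, map_zero, derivOne_self] at h1
  exact zero_ne_one h1

theorem isSeparable_of_isHasseFamily (hK : IsFunctionField k K) (hg : IsGeometric k K) {s : K}
    {H : K →ₐ[k] PowerSeries K} (hH : LocRes.IsHasseFamily s H) :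
    Algebra.IsSeparable (IntermediateField.adjoin k ({s} : Set K)) K :=
  (Groth.Agent.Helper17.FF.isSeparable_iff_D_ne_zero hK hg s).2 (D_ne_zero_of_isHasseFamily hH)

end sep

section pow

variable {R : Type*} [CommRing R]

lemma coeff_pow_eq_zero_of_lt {b : PowerSeries R} (hb : PowerSeries.constantCoeff b = 0) {j d : ℕ}
    (h : j < d) : PowerSeries.coeff j (b ^ d) = 0 := by
  apply PowerSeries.coeff_of_lt_order
  refine lt_of_lt_of_le ?_ (PowerSeries.le_order_pow_of_constantCoeff_eq_zero d hb)
  exact_mod_cast h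

lemma coeff_pow_self {b : PowerSeries R} (hb : PowerSeries.constantCoeff b = 0) (j : ℕ) :
    PowerSeries.coeff j (b ^ j) = (PowerSeries.coeff 1 b) ^ j := by
  obtain ⟨b', rfl⟩ := PowerSeries.X_dvd_iff.2 hb
  rw [mul_pow, PowerSeries.coeff_X_pow_mul', if_pos le_rfl, Nat.sub_self,
    PowerSeries.coeff_zero_eq_constantCoeff_apply, map_pow]
  congr 1
  have := PowerSeries.coeff_succ_X_mul 0 b'
  rw [zero_add] at this
  rw [this, PowerSeries.coeff_zero_eq_constantCoeff_apply]

lemma constantCoeff_subst_of_constantCoeff_eq_zero {b : PowerSeries R}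
    (hb : PowerSeries.constantCoeff b = 0) (f : PowerSeries R) :
    PowerSeries.constantCoeff (PowerSeries.subst b f) = PowerSeries.constantCoeff f := by
  have hs : PowerSeries.HasSubst b := PowerSeries.HasSubst.of_constantCoeff_zero' hb
  have h1 : f = PowerSeries.C (PowerSeries.constantCoeff f) +
      (f - PowerSeries.C (PowerSeries.constantCoeff f)) := by ring
  have h2 : PowerSeries.constantCoeff (f - PowerSeries.C (PowerSeries.constantCoeff f)) = 0 := by
    rw [map_sub, PowerSeries.constantCoeff_C, sub_self]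
  conv_lhs => rw [h1]
  rw [PowerSeries.subst_add hs, map_add]
  have h3 := PowerSeries.constantCoeff_subst_eq_zero (R := R) (S := R) (τ := Unit) (a := b) hb
    (f - PowerSeries.C (PowerSeries.constantCoeff f)) h2
  have h4 : PowerSeries.constantCoeff
      (PowerSeries.subst b (f - PowerSeries.C (PowerSeries.constantCoeff f))) = 0 := h3
  rw [h4, add_zero, PowerSeries.subst_C]
  exact PowerSeries.constantCoeff_C _

lemma coeff_subst_eq_sum {b : PowerSeries R} (hb : PowerSeries.constantCoeff b = 0)
    (f : PowerSeries R) (j : ℕ) :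
    PowerSeries.coeff j (PowerSeries.subst b f) =
      ∑ d ∈ Finset.range (j + 1), PowerSeries.coeff d f * PowerSeries.coeff j (b ^ d) := by
  have hs : PowerSeries.HasSubst b := PowerSeries.HasSubst.of_constantCoeff_zero' hb
  rw [PowerSeries.coeff_subst' hs f j]
  rw [finsum_eq_sum_of_support_subset (s := Finset.range (j + 1))]
  · simp only [smul_eq_mul]
  · intro d hd
    rw [Function.mem_support] at hd
    simp only [Finset.coe_range, Set.mem_Iio]
    by_contra hcon
    apply hd
    rw [coeff_pow_eq_zero_of_lt hb (by omega), smul_zero]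

end pow

section change

variable {k : Type u} {K : Type v} [Field k] [Field K] [Algebra k K]

theorem hasse_change (hK : IsFunctionField k K) (hg : IsGeometric k K) {s t : K}
    {Hs Ht : K →ₐ[k] PowerSeries K} (hHs : LocRes.IsHasseFamily s Hs)
    (hHt : LocRes.IsHasseFamily t Ht) (y : K) :
    Ht y = PowerSeries.subst (Ht s - PowerSeries.C s) (Hs y) := by
  set b : PowerSeries K := Ht s - PowerSeries.C s with hb
  have hb0 : PowerSeries.constantCoeff b = 0 := by
    rw [hb, map_sub, hHt.2, PowerSeries.constantCoeff_C, sub_self]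
  have hs : PowerSeries.HasSubst b := PowerSeries.HasSubst.of_constantCoeff_zero' hb0
  let G : K →ₐ[k] PowerSeries K :=
    ((PowerSeries.substAlgHom hs : PowerSeries K →ₐ[K] PowerSeries K).restrictScalars k).comp Hs
  have hG : ∀ z, G z = PowerSeries.subst b (Hs z) := by
    intro z
    show (PowerSeries.substAlgHom hs) (Hs z) = _
    rw [PowerSeries.coe_substAlgHom]
  have hsep := isSeparable_of_isHasseFamily hK hg hHs
  have key : G = Ht := by
    apply hasse_unique hsep
    · rw [hG, hHs.1, PowerSeries.subst_add hs, PowerSeries.subst_C, PowerSeries.subst_X hs, hb]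
      show PowerSeries.C s + (Ht s - PowerSeries.C s) = Ht s
      ring
    · intro z
      rw [hG, constantCoeff_subst_of_constantCoeff_eq_zero hb0, hHs.2, hHt.2]
  rw [← key, hG]

theorem coeff_hasse_change (hK : IsFunctionField k K) (hg : IsGeometric k K) {s t : K}
    {Hs Ht : K →ₐ[k] PowerSeries K} (hHs : LocRes.IsHasseFamily s Hs)
    (hHt : LocRes.IsHasseFamily t Ht) (y : K) (j : ℕ) :
    PowerSeries.coeff j (Ht y) = ∑ d ∈ Finset.range (j + 1),
      PowerSeries.coeff d (Hs y) * PowerSeries.coeff j ((Ht s - PowerSeries.C s) ^ d) := by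
  have hb0 : PowerSeries.constantCoeff (Ht s - PowerSeries.C s) = 0 := by
    rw [map_sub, hHt.2, PowerSeries.constantCoeff_C, sub_self]
  rw [hasse_change hK hg hHs hHt y, coeff_subst_eq_sum hb0]

/-- chain rule `D_s t · D_t s = 1` -/
theorem hasseD_one_mul (hK : IsFunctionField k K) (hg : IsGeometric k K) {s t : K}
    {Hs Ht : K →ₐ[k] PowerSeries K} (hHs : LocRes.IsHasseFamily s Hs)
    (hHt : LocRes.IsHasseFamily t Ht) :
    LocRes.hasseD Hs 1 t * LocRes.hasseD Ht 1 s = 1 := by
  have h := coeff_hasse_change hK hg hHs hHt t 1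
  rw [hHt.1, map_add, PowerSeries.coeff_C, PowerSeries.coeff_one_X] at h
  simp only [one_ne_zero, if_false, zero_add] at h
  rw [Finset.sum_range_succ, Finset.sum_range_one, pow_zero, pow_one] at h
  rw [PowerSeries.coeff_one, if_neg one_ne_zero, mul_zero, zero_add, map_sub, PowerSeries.coeff_C,
    if_neg one_ne_zero, sub_zero] at h
  exact h.symm

end change

end Groth.Agent.Helper17.Hasse
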