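import Groth.Agent.Lib.Helper17.FF18

/-! Weierstrass form of a genus-one function field. -/

namespace Groth.Agent.Helper17.FF

open FunFld Polynomial Module

variable {k K : Type*} [Field k] [Field K] [Algebra k K]

lemma coeff_eq_zero_of_ord_injective (P : Place k K) {ι : Type*} [Fintype ι] (z : ι → K)
    (hz : ∀ i, z i ≠ 0) (hinj : Function.Injective (fun i => P.ord (z i))) (c : ι → k)
    (hsum : ∑ i, c i • z i = 0) : ∀ i, c i = 0 := by
  classical
  by_contra hcon
  push Not at hcon
  have hS : (Finset.univ.filter (fun i => c i ≠ 0)).Nonempty := by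
    obtain ⟨i, hi⟩ := hcon; exact ⟨i, by simp [hi]⟩
  obtain ⟨j, hjS, hjmin⟩ := Finset.exists_min_image _ (fun i => P.ord (z i)) hS
  rw [Finset.mem_filter] at hjS
  have hlt : ∀ i ∈ Finset.univ.erase j, P.1 (c i • z i) < P.1 (z j) := by
    intro i hi
    rw [Finset.mem_erase] at hi
    by_cases hci : c i = 0
    · rw [hci, zero_smul, map_zero]; exact val_pos P.1 (hz j)
    · have h1 := hjmin i (by simp [hci])
      have h2 : P.ord (z j) ≠ P.ord (z i) := fun h => hi.1 (hinj h).symm
      have h3 : P.ord (z j) < P.ord (z i) := lt_of_le_of_ne h1 h2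
      rw [Algebra.smul_def, map_mul, val_const P hci, one_mul, val_eq_exp_neg_ord P (hz i),
        val_eq_exp_neg_ord P (hz j)]
      exact WithZero.exp_lt_exp.2 (by omega)
  have h1 : P.1 (∑ i ∈ Finset.univ.erase j, c i • z i) < P.1 (z j) :=
    Valuation.map_sum_lt P.1 (val_ne_zero_of_ne_zero P (hz j)) hlt
  have h2 : ∑ i, c i • z i = c j • z j + ∑ i ∈ Finset.univ.erase j, c i • z i :=
    (Finset.add_sum_erase _ _ (Finset.mem_univ j)).symm
  have h3 : P.1 (c j • z j) = P.1 (z j) := by
    rw [Algebra.smul_def, map_mul, val_const P hjS.2, one_mul]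
  have h4 : P.1 (∑ i, c i • z i) = P.1 (z j) := by
    rw [h2, Valuation.map_add_eq_of_lt_left _ (by rw [h3]; exact h1), h3]
  rw [hsum, map_zero] at h4
  exact val_ne_zero_of_ne_zero P (hz j) h4.symm

section

variable (hK : IsFunctionField k K) (hg : genus k K = 1) (P₀ : Place k K) (hP : P₀.deg = 1)
include hK hg hP

lemma g1_ell_single (n : ℕ) (hn : 1 ≤ n) :
    ell (Finsupp.single P₀ (n : ℤ) : Divisor k K) = n := by
  have h1 := ell_eq_of_deg_ge hK (Finsupp.single P₀ (n : ℤ))
    (by rw [hg, deg_single, hP]; push_cast; omega)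
  rw [hg, deg_single, hP] at h1
  have : (ell (Finsupp.single P₀ (n : ℤ) : Divisor k K) : ℤ) = n := by rw [h1]; push_cast; ring
  exact_mod_cast this

lemma g1_exists_ord_eq (n : ℕ) (hn : 1 ≤ n) :
    ∃ z ∈ L (Finsupp.single P₀ ((n + 1 : ℕ) : ℤ) : Divisor k K), P₀.ord z = -((n : ℤ) + 1) := by
  classical
  by_contra hcon
  push Not at hcon
  have hle : L (Finsupp.single P₀ ((n + 1 : ℕ) : ℤ) : Divisor k K) ≤
      L (Finsupp.single P₀ (n : ℤ) : Divisor k K) := by
    intro z hz
    by_cases hz0 : z = 0
    · rw [hz0]; exact Submodule.zero_mem _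
    intro Q
    by_cases hQ : Q = P₀
    · subst hQ
      rw [Finsupp.single_eq_same, val_le_exp_iff Q hz0]
      have h1 := (val_le_exp_iff Q hz0 _).1 (hz Q)
      rw [Finsupp.single_eq_same] at h1
      have h2 := hcon z hz
      push_cast at h1
      omega
    · have h1 := hz Q
      rwa [Finsupp.single_eq_of_ne hQ] at h1 ⊢
  have := L_finite hK (Finsupp.single P₀ (n : ℤ) : Divisor k K)
  have h3 := Submodule.finrank_mono hle
  have h4 := g1_ell_single hK hg P₀ hP n hn
  have h5 := g1_ell_single hK hg P₀ hP (n + 1) (by omega)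
  unfold ell at h4 h5
  omega

end

theorem weierstrass (hK : IsFunctionField k K) (hg : genus k K = 1) (P₀ : Place k K)
    (hP : P₀.deg = 1) :
    ∃ x y : K, x ∈ L (Finsupp.single P₀ 2 : Divisor k K) ∧
      y ∈ L (Finsupp.single P₀ 3 : Divisor k K) ∧
      P₀.ord x = -2 ∧ P₀.ord y = -3 ∧
      IntermediateField.adjoin k ({x, y} : Set K) = ⊤ ∧
      ∃ f g : Polynomial k, f.natDegree ≤ 1 ∧ g.natDegree = 3 ∧
        y ^ 2 + Polynomial.aeval x f * y + Polynomial.aeval x g = 0 := by
  classical
  obtain ⟨x, hxL, hxo⟩ := g1_exists_ord_eq hK hg P₀ hP 1 le_rfl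
  obtain ⟨y, hyL, hyo⟩ := g1_exists_ord_eq hK hg P₀ hP 2 (by norm_num)
  norm_num at hxL hxo hyL hyo
  have hx0 : x ≠ 0 := by rintro rfl; rw [ord_zero] at hxo; omega
  have hy0 : y ≠ 0 := by rintro rfl; rw [ord_zero] at hyo; omega
  have hxQ : ∀ Q : Place k K, Q ≠ P₀ → 0 ≤ Q.ord x := by
    intro Q hQ
    have := (val_le_exp_iff Q hx0 _).1 (hxL Q)
    rw [Finsupp.single_eq_of_ne hQ] at this
    omega
  have hyQ : ∀ Q : Place k K, Q ≠ P₀ → 0 ≤ Q.ord y := by
    intro Q hQ
    have := (val_le_exp_iff Q hy0 _).1 (hyL Q)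
    rw [Finsupp.single_eq_of_ne hQ] at this
    omega
  refine ⟨x, y, hxL, hyL, hxo, hyo, ?_, ?_⟩
  · -- generation
    have hxk : x ∉ Set.range (algebraMap k K) := by
      rintro ⟨c, rfl⟩; rw [ord_const] at hxo; omega
    have hyk : y ∉ Set.range (algebraMap k K) := by
      rintro ⟨c, rfl⟩; rw [ord_const] at hyo; omega
    have hxt := transcendental_of_not_mem hK hxk
    have hyt := transcendental_of_not_mem hK hyk
    have hpx : ((-FunFld.div k x) ⊔ 0 : Divisor k K) = Finsupp.single P₀ 2 := by
      ext Q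
      rw [Finsupp.sup_apply, Finsupp.neg_apply, div_apply hK, Finsupp.zero_apply]
      by_cases h : Q = P₀
      · subst h; rw [hxo, Finsupp.single_eq_same]; rfl
      · rw [Finsupp.single_eq_of_ne h]
        have := hxQ Q h
        exact max_eq_right (by omega)
    have hpy : ((-FunFld.div k y) ⊔ 0 : Divisor k K) = Finsupp.single P₀ 3 := by
      ext Q
      rw [Finsupp.sup_apply, Finsupp.neg_apply, div_apply hK, Finsupp.zero_apply]
      by_cases h : Q = P₀
      · subst h; rw [hyo, Finsupp.single_eq_same]; rfl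
      · rw [Finsupp.single_eq_of_ne h]
        have := hyQ Q h
        exact max_eq_right (by omega)
    have h1 := deg_poles hK hxt
    have h2 := deg_poles hK hyt
    rw [hpx, deg_single, hP] at h1
    rw [hpy, deg_single, hP] at h2
    have h1' : finrank (IntermediateField.adjoin k ({x} : Set K)) K = 2 := by
      have : (finrank (IntermediateField.adjoin k ({x} : Set K)) K : ℤ) = 2 := by
        rw [← h1]; norm_num
      exact_mod_cast this
    have h2' : finrank (IntermediateField.adjoin k ({y} : Set K)) K = 3 := by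
      have : (finrank (IntermediateField.adjoin k ({y} : Set K)) K : ℤ) = 3 := by
        rw [← h2]; norm_num
      exact_mod_cast this
    have hle1 : IntermediateField.adjoin k ({x} : Set K) ≤
        IntermediateField.adjoin k ({x, y} : Set K) :=
      IntermediateField.adjoin.mono _ _ _ (by intro z hz; rw [Set.mem_singleton_iff] at hz; simp [hz])
    have hle2 : IntermediateField.adjoin k ({y} : Set K) ≤
        IntermediateField.adjoin k ({x, y} : Set K) :=
      IntermediateField.adjoin.mono _ _ _ (by intro z hz; rw [Set.mem_singleton_iff] at hz; simp [hz])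
    have hd1 := IntermediateField.finrank_dvd_of_le_left hle1
    have hd2 := IntermediateField.finrank_dvd_of_le_left hle2
    rw [h1'] at hd1
    rw [h2'] at hd2
    rw [← IntermediateField.finrank_eq_one_iff_eq_top]
    have h3 := Nat.dvd_gcd hd1 hd2
    norm_num at h3
    exact h3
  · -- the relation
    let v : Fin 7 → K := ![1, x, y, x ^ 2, x * y, x ^ 3, y ^ 2]
    have hvmem : ∀ i, v i ∈ L (Finsupp.single P₀ ((6 : ℕ) : ℤ) : Divisor k K) := by
      have key : ∀ (z : K) (hz : z ≠ 0), -6 ≤ P₀.ord z → (∀ Q : Place k K, Q ≠ P₀ → 0 ≤ Q.ord z) →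
          z ∈ L (Finsupp.single P₀ ((6 : ℕ) : ℤ) : Divisor k K) := by
        intro z hz h1 h2 Q
        rw [val_le_exp_iff Q hz]
        by_cases h : Q = P₀
        · subst h; rw [Finsupp.single_eq_same]; push_cast; omega
        · rw [Finsupp.single_eq_of_ne h]; have := h2 Q h; omega
      intro i
      fin_cases i
      · exact key 1 one_ne_zero (by rw [← map_one (algebraMap k K), ord_const]; norm_num)
          (fun Q _ => by rw [← map_one (algebraMap k K), ord_const])
      · exact key x hx0 (by omega) hxQ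
      · exact key y hy0 (by omega) hyQ
      · exact key (x ^ 2) (pow_ne_zero _ hx0) (by rw [ord_pow, hxo]; norm_num)
          (fun Q hQ => by rw [ord_pow]; have := hxQ Q hQ; positivity)
      · exact key (x * y) (mul_ne_zero hx0 hy0) (by rw [ord_mul _ hx0 hy0, hxo, hyo]; norm_num)
          (fun Q hQ => by rw [ord_mul _ hx0 hy0]; have := hxQ Q hQ; have := hyQ Q hQ; omega)
      · exact key (x ^ 3) (pow_ne_zero _ hx0) (by rw [ord_pow, hxo]; norm_num)
          (fun Q hQ => by rw [ord_pow]; have := hxQ Q hQ; positivity)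
      · exact key (y ^ 2) (pow_ne_zero _ hy0) (by rw [ord_pow, hyo]; norm_num)
          (fun Q hQ => by rw [ord_pow]; have := hyQ Q hQ; positivity)
    have hfd := L_finite hK (Finsupp.single P₀ ((6 : ℕ) : ℤ) : Divisor k K)
    have h6 := g1_ell_single hK hg P₀ hP 6 (by norm_num)
    have hnli : ¬ LinearIndependent k v := by
      intro hli
      have hli' : LinearIndependent k (fun i : Fin 7 =>
          (⟨v i, hvmem i⟩ : L (Finsupp.single P₀ ((6 : ℕ) : ℤ) : Divisor k K))) := by
        apply LinearIndependent.of_comp (L (Finsupp.single P₀ ((6 : ℕ) : ℤ) : Divisor k K)).subtype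
        exact hli
      have := hli'.fintype_card_le_finrank
      rw [Fintype.card_fin] at this
      unfold ell at h6
      omega
    rw [Fintype.not_linearIndependent_iff] at hnli
    obtain ⟨a, ha, hane⟩ := hnli
    rw [Fin.sum_univ_seven] at ha
    simp only [v, Matrix.cons_val_zero, Matrix.cons_val_one, Matrix.cons_val] at ha
    have ho1 : P₀.ord (1 : K) = 0 := by rw [← map_one (algebraMap k K), ord_const]
    have ho2 : P₀.ord (x ^ 2) = -4 := by rw [ord_pow, hxo]; norm_num
    have ho3 : P₀.ord (x * y) = -5 := by rw [ord_mul _ hx0 hy0, hxo, hyo]; norm_num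
    have ho4 : P₀.ord (x ^ 3) = -6 := by rw [ord_pow, hxo]; norm_num
    have ho5 : P₀.ord (y ^ 2) = -6 := by rw [ord_pow, hyo]; norm_num
    have ha6 : a 6 ≠ 0 := by
      intro h6z
      rw [h6z, zero_smul, add_zero] at ha
      have hinj : Function.Injective
          (fun i : Fin 6 => P₀.ord ((![1, x, y, x ^ 2, x * y, x ^ 3] : Fin 6 → K) i)) := by
        have hval : ∀ i : Fin 6, P₀.ord ((![1, x, y, x ^ 2, x * y, x ^ 3] : Fin 6 → K) i) =
            (![0, -2, -3, -4, -5, -6] : Fin 6 → ℤ) i := by
          intro i; fin_cases i <;> simp [ho1, hxo, hyo, ho2, ho3, ho4]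
        intro i j hij
        simp only [hval] at hij
        revert i j
        decide
      have hz : ∀ i : Fin 6, (![1, x, y, x ^ 2, x * y, x ^ 3] : Fin 6 → K) i ≠ 0 := by
        intro i; fin_cases i <;> simp [hx0, hy0]
      have hc := coeff_eq_zero_of_ord_injective P₀ _ hz hinj ![a 0, a 1, a 2, a 3, a 4, a 5]
        (by rw [Fin.sum_univ_six]; simpa using ha)
      obtain ⟨i, hi⟩ := hane
      apply hi
      have h0 := hc 0; have h1 := hc 1; have h2 := hc 2; have h3 := hc 3
      have h4 := hc 4; have h5 := hc 5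
      simp at h0 h1 h2 h3 h4 h5
      fin_cases i <;> assumption
    have ha5 : a 5 ≠ 0 := by
      intro h5z
      rw [h5z, zero_smul, add_zero] at ha
      have hinj : Function.Injective
          (fun i : Fin 6 => P₀.ord ((![1, x, y, x ^ 2, x * y, y ^ 2] : Fin 6 → K) i)) := by
        have hval : ∀ i : Fin 6, P₀.ord ((![1, x, y, x ^ 2, x * y, y ^ 2] : Fin 6 → K) i) =
            (![0, -2, -3, -4, -5, -6] : Fin 6 → ℤ) i := by
          intro i; fin_cases i <;> simp [ho1, hxo, hyo, ho2, ho3, ho5]
        intro i j hij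
        simp only [hval] at hij
        revert i j
        decide
      have hz : ∀ i : Fin 6, (![1, x, y, x ^ 2, x * y, y ^ 2] : Fin 6 → K) i ≠ 0 := by
        intro i; fin_cases i <;> simp [hx0, hy0]
      have hc := coeff_eq_zero_of_ord_injective P₀ _ hz hinj ![a 0, a 1, a 2, a 3, a 4, a 6]
        (by rw [Fin.sum_univ_six]; simpa using ha)
      obtain ⟨i, hi⟩ := hane
      apply hi
      have h0 := hc 0; have h1 := hc 1; have h2 := hc 2; have h3 := hc 3
      have h4 := hc 4; have h6 := hc 5
      simp at h0 h1 h2 h3 h4 h6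
      fin_cases i <;> assumption
    have h6ne : algebraMap k K (a 6) ≠ 0 := (_root_.map_ne_zero _).2 ha6
    refine ⟨C (a 4 / a 6) * X + C (a 2 / a 6),
      C (a 5 / a 6) * X ^ 3 + C (a 3 / a 6) * X ^ 2 + C (a 1 / a 6) * X + C (a 0 / a 6),
      natDegree_linear_le, natDegree_cubic (div_ne_zero ha5 ha6), ?_⟩
    simp only [map_add, map_mul, aeval_C, aeval_X, map_pow, map_div₀]
    simp only [Algebra.smul_def] at ha
    field_simp
    linear_combination ha

end Groth.Agent.Helper17.FF
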