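import Groth.Agent.Lib.Helper17.FF10

/-! Riemann's theorem: the genus. -/

namespace Groth.Agent.Helper17.FF

open FunFld Polynomial Module

variable {k K : Type*} [Field k] [Field K] [Algebra k K]

/-- `δ(D) = deg D + 1 - ℓ(D)` -/
noncomputable def delta (D : Divisor k K) : ℤ := D.deg + 1 - (ell D : ℤ)

lemma delta_mono (hK : IsFunctionField k K) {D₁ D₂ : Divisor k K} (h : D₁ ≤ D₂) :
    delta D₁ ≤ delta D₂ := by
  have := ell_le hK h
  unfold delta
  linarith

/-- multiplication by `z` maps `L(D + (z))` isomorphically onto `L(D)`. -/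
theorem ell_add_div (hK : IsFunctionField k K) (D : Divisor k K) {z : K} (hz : z ≠ 0) :
    ell (D + FunFld.div k z) = ell D := by
  have h1 : ∀ y ∈ L (D + FunFld.div k z), LinearMap.mulLeft k z y ∈ L D := by
    intro y hy P
    show P.1 (z * y) ≤ _
    rw [map_mul, val_eq_exp_neg_ord P hz]
    have h2 := hy P
    rw [Finsupp.add_apply, div_apply hK] at h2
    calc WithZero.exp (-(P.ord z)) * P.1 y ≤
          WithZero.exp (-(P.ord z)) * WithZero.exp (D P + P.ord z) := mul_le_mul' le_rfl h2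
      _ = WithZero.exp (D P) := by rw [← WithZero.exp_add]; congr 1; ring
  have h2 : ∀ y ∈ L D, LinearMap.mulLeft k z⁻¹ y ∈ L (D + FunFld.div k z) := by
    intro y hy P
    show P.1 (z⁻¹ * y) ≤ _
    rw [map_mul, map_inv₀, val_eq_exp_neg_ord P hz, Finsupp.add_apply, div_apply hK,
      ← WithZero.exp_neg, neg_neg]
    calc WithZero.exp (P.ord z) * P.1 y ≤ WithZero.exp (P.ord z) * WithZero.exp (D P) :=
          mul_le_mul' le_rfl (hy P)
      _ = WithZero.exp (D P + P.ord z) := by rw [← WithZero.exp_add]; congr 1; ring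
  let f := (LinearMap.mulLeft k z).restrict h1
  let g := (LinearMap.mulLeft k z⁻¹).restrict h2
  have e : L (D + FunFld.div k z) ≃ₗ[k] L D := LinearEquiv.ofLinear f g
    (by
      ext y
      show z * (z⁻¹ * (y : K)) = y
      rw [← mul_assoc, mul_inv_cancel₀ hz, one_mul])
    (by
      ext y
      show z⁻¹ * (z * (y : K)) = y
      rw [← mul_assoc, inv_mul_cancel₀ hz, one_mul])
  unfold ell
  exact e.finrank_eq

lemma delta_add_div (hK : IsFunctionField k K) (D : Divisor k K) {z : K} (hz : z ≠ 0) :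
    delta (D + FunFld.div k z) = delta D := by
  unfold delta
  rw [ell_add_div hK D hz, deg_add, deg_div hK, add_zero]

lemma exists_ne_zero_of_ell_pos {D : Divisor k K} (h : 0 < ell D) : ∃ z ∈ L D, z ≠ 0 := by
  unfold ell at h
  have : Nontrivial (L D) := Module.nontrivial_of_finrank_pos h
  obtain ⟨⟨z, hz⟩, hz0⟩ := exists_ne (0 : L D)
  exact ⟨z, hz, fun h0 => hz0 (Subtype.ext h0)⟩

theorem exists_C (hK : IsFunctionField k K) {x : K} (hxt : Transcendental k x)
    (Z : Divisor k K) (hZ : ∀ P, Z P = max (P.ord x) 0) :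
    ∃ C : Divisor k K, 0 ≤ C ∧ ∀ l : ℕ,
      ((l : ℤ) + 1) * finrank (IntermediateField.adjoin k ({x} : Set K)) K ≤
        (ell ((l : ℤ) • Z + C) : ℤ) := by
  classical
  have hx := not_mem_range_of_transcendental hxt
  have hx0 := ne_zero_of_not_mem_range hx
  have := finite_of_transcendental hK hxt
  set n := finrank (IntermediateField.adjoin k ({x} : Set K)) K with hn
  let u : Basis (Fin n) (IntermediateField.adjoin k ({x} : Set K)) K := Module.finBasis _ K
  have hu0 : ∀ j, u j ≠ 0 := fun j => u.ne_zero j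
  let C : Divisor k K := ∑ j, ((-(FunFld.div k (u j))) ⊔ 0)
  have hC0 : 0 ≤ C := Finset.sum_nonneg fun j _ => le_sup_right
  have hCu : ∀ j P, -(C P) ≤ P.ord (u j) := by
    intro j P
    have h1 : ((-(FunFld.div k (u j))) ⊔ 0 : Divisor k K) ≤ C :=
      Finset.single_le_sum (f := fun j => ((-(FunFld.div k (u j))) ⊔ 0 : Divisor k K))
        (fun j _ => le_sup_right) (Finset.mem_univ j)
    have h2 := h1 P
    rw [Finsupp.sup_apply, Finsupp.neg_apply, div_apply hK] at h2
    have h3 : -(P.ord (u j)) ≤ C P := (le_sup_left).trans h2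
    linarith
  have hy : x⁻¹ ∈ IntermediateField.adjoin k ({x} : Set K) :=
    inv_mem (IntermediateField.mem_adjoin_simple_self k x)
  have hyt : Transcendental k x⁻¹ := transcendental_of_not_mem hK (inv_not_mem_range hx)
  refine ⟨C, hC0, fun l => ?_⟩
  have hmem : ∀ p : Fin (l + 1) × Fin n, x⁻¹ ^ (p.1 : ℕ) * u p.2 ∈ L ((l : ℤ) • Z + C) := by
    rintro ⟨i, j⟩ P
    have hne : x⁻¹ ^ (i : ℕ) * u j ≠ 0 := mul_ne_zero (pow_ne_zero _ (inv_ne_zero hx0)) (hu0 j)
    show P.1 (x⁻¹ ^ (i : ℕ) * u j) ≤ _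
    rw [val_le_exp_iff P hne, ord_mul P (pow_ne_zero _ (inv_ne_zero hx0)) (hu0 j), ord_pow,
      ord_inv, Finsupp.add_apply, Finsupp.smul_apply, hZ P, smul_eq_mul]
    have h1 := hCu j P
    have hi : (i : ℤ) ≤ l := by have := i.2; omega
    have h2 : (i : ℤ) * P.ord x ≤ l * max (P.ord x) 0 := by
      rcases le_total (P.ord x) 0 with h | h
      · rw [max_eq_right h, mul_zero]
        exact mul_nonpos_of_nonneg_of_nonpos (by positivity) h
      · rw [max_eq_left h]
        exact mul_le_mul_of_nonneg_right hi h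
    linarith
  have hfd := L_finite hK ((l : ℤ) • Z + C)
  have hli : LinearIndependent k (fun p : Fin (l + 1) × Fin n =>
      (⟨x⁻¹ ^ (p.1 : ℕ) * u p.2, hmem p⟩ : L ((l : ℤ) • Z + C))) := by
    apply LinearIndependent.of_comp (L ((l : ℤ) • Z + C)).subtype
    exact linInd_pow_mul_basis u l x⁻¹ hy hyt
  have h1 := hli.fintype_card_le_finrank
  rw [Fintype.card_prod, Fintype.card_fin, Fintype.card_fin] at h1
  have h3 : (((l + 1) * n : ℕ) : ℤ) ≤ finrank k (L ((l : ℤ) • Z + C)) := by exact_mod_cast h1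
  push_cast at h3
  unfold ell
  linarith

theorem delta_bdd (hK : IsFunctionField k K) : ∃ γ : ℤ, ∀ A : Divisor k K, delta A ≤ γ := by
  classical
  obtain ⟨⟨x, hxt, _⟩, -⟩ := id hK
  have := finite_of_transcendental hK hxt
  set n := finrank (IntermediateField.adjoin k ({x} : Set K)) K with hn
  have hnpos : 0 < n := Module.finrank_pos
  set Z : Divisor k K := (FunFld.div k x) ⊔ 0 with hZdef
  have hZ : ∀ P, Z P = max (P.ord x) 0 := posPart_apply hK x
  have hZ0 : 0 ≤ Z := le_sup_right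
  have hZdeg : Z.deg = n := deg_posPart hK hxt
  obtain ⟨C, hC0, hC⟩ := exists_C hK hxt Z hZ
  -- δ(lZ) ≤ deg C - deg Z + 1
  have hlZ : ∀ l : ℕ, delta ((l : ℤ) • Z) ≤ C.deg - Z.deg + 1 := by
    intro l
    have h1 := ell_le hK (show (l : ℤ) • Z ≤ (l : ℤ) • Z + C from le_add_of_nonneg_right hC0)
    have h2 := hC l
    rw [deg_add] at h1
    unfold delta
    rw [deg_zsmul, hZdeg] at *
    linarith
  refine ⟨C.deg - Z.deg + 1, fun A => ?_⟩
  -- choose `l` large
  have hA1 : A ≤ A ⊔ 0 := le_sup_left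
  have hA10 : (0 : Divisor k K) ≤ A ⊔ 0 := le_sup_right
  set A₁ : Divisor k K := A ⊔ 0 with hA₁
  let l : ℕ := (C.deg + A₁.deg + 1).toNat
  have hl : ((l : ℕ) : ℤ) = C.deg + A₁.deg + 1 :=
    Int.toNat_of_nonneg (by have := deg_nonneg hC0; have := deg_nonneg hA10; linarith)
  have h1 := ell_le hK (show (l : ℤ) • Z - A₁ ≤ (l : ℤ) • Z from sub_le_self _ hA10)
  rw [deg_sub] at h1
  have h2 := hlZ l
  unfold delta at h2
  rw [deg_zsmul, hZdeg] at h1 h2
  have hn1 : (1 : ℤ) ≤ n := by exact_mod_cast hnpos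
  have hpos : 0 < ell ((l : ℤ) • Z - A₁) := by
    have h3 : (0 : ℤ) < ell ((l : ℤ) • Z - A₁) := by
      have h4 : (l : ℤ) * n ≥ l := by nlinarith
      linarith
    exact_mod_cast h3
  obtain ⟨z, hzL, hz0⟩ := exists_ne_zero_of_ell_pos hpos
  have hle : A₁ + FunFld.div k z⁻¹ ≤ (l : ℤ) • Z := by
    intro P
    rw [Finsupp.add_apply, div_inv hK, Finsupp.neg_apply, div_apply hK]
    have h5 := (val_le_exp_iff P hz0 _).1 (hzL P)
    rw [Finsupp.sub_apply] at h5
    linarith
  calc delta A ≤ delta A₁ := delta_mono hK hA1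
    _ = delta (A₁ + FunFld.div k z⁻¹) := (delta_add_div hK A₁ (inv_ne_zero hz0)).symm
    _ ≤ delta ((l : ℤ) • Z) := delta_mono hK hle
    _ ≤ _ := hlZ l

lemma bddAbove_delta (hK : IsFunctionField k K) :
    BddAbove (Set.range fun D : Divisor k K => (D.deg + 1 - (ell D : ℤ)).toNat) := by
  obtain ⟨γ, hγ⟩ := delta_bdd hK
  refine ⟨γ.toNat, ?_⟩
  rintro _ ⟨D, rfl⟩
  exact Int.toNat_le_toNat (hγ D)

lemma delta_le_genus (hK : IsFunctionField k K) (D : Divisor k K) :
    delta D ≤ genus k K := by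
  have h1 : (D.deg + 1 - (ell D : ℤ)).toNat ≤ genus k K :=
    le_csSup (bddAbove_delta hK) ⟨D, rfl⟩
  have h2 : delta D ≤ ((D.deg + 1 - (ell D : ℤ)).toNat : ℤ) := Int.self_le_toNat _
  exact h2.trans (by exact_mod_cast h1)

lemma exists_delta_eq_genus (hK : IsFunctionField k K) :
    ∃ D₀ : Divisor k K, delta D₀ = genus k K := by
  have hne : (Set.range fun D : Divisor k K => (D.deg + 1 - (ell D : ℤ)).toNat).Nonempty :=
    ⟨_, ⟨0, rfl⟩⟩
  obtain ⟨D₀, hD₀⟩ := Nat.sSup_mem hne (bddAbove_delta hK)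
  change (D₀.deg + 1 - (ell D₀ : ℤ)).toNat = genus k K at hD₀
  by_cases hg : genus k K = 0
  · refine ⟨0, ?_⟩
    unfold delta
    rw [deg_zero, hg]
    have := (L_zero_finite hK).2
    unfold ell
    rw [this]; simp
  · refine ⟨D₀, ?_⟩
    unfold delta
    have hpos : 0 < (D₀.deg + 1 - (ell D₀ : ℤ)).toNat := by omega
    have h1 : 0 < D₀.deg + 1 - (ell D₀ : ℤ) := by
      by_contra h; push Not at h
      rw [Int.toNat_of_nonpos h] at hpos; exact lt_irrefl _ hpos
    rw [← hD₀, Int.toNat_of_nonneg h1.le]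

theorem riemann (hK : IsFunctionField k K) :
    (∀ D : Divisor k K, D.deg + 1 - (ell D : ℤ) ≤ genus k K) ∧
    ∃ N : ℤ, ∀ D : Divisor k K, N ≤ D.deg → D.deg + 1 - (ell D : ℤ) = genus k K := by
  refine ⟨fun D => delta_le_genus hK D, ?_⟩
  obtain ⟨D₀, hD₀⟩ := exists_delta_eq_genus hK
  refine ⟨D₀.deg + genus k K, fun D hD => ?_⟩
  have h1 := delta_le_genus hK (D - D₀)
  unfold delta at h1
  rw [deg_sub] at h1
  have hpos : 0 < ell (D - D₀) := by
    have : (0 : ℤ) < ell (D - D₀) := by linarith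
    exact_mod_cast this
  obtain ⟨z, hzL, hz0⟩ := exists_ne_zero_of_ell_pos hpos
  have hle : D₀ ≤ D + FunFld.div k z := by
    intro P
    rw [Finsupp.add_apply, div_apply hK]
    have h5 := (val_le_exp_iff P hz0 _).1 (hzL P)
    rw [Finsupp.sub_apply] at h5
    linarith
  have h2 := delta_mono hK hle
  rw [delta_add_div hK D hz0, hD₀] at h2
  exact le_antisymm (delta_le_genus hK D) h2

end Groth.Agent.Helper17.FF
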