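import Groth.Agent.Lib.Helper17.FF21

/-! Automorphisms of function fields and fixed places. -/

namespace Groth.Agent.Helper17.FF

open FunFld Polynomial Module

variable {k K : Type*} [Field k] [Field K] [Algebra k K]

/-- an inclusion of valuation rings of places is an equality -/
theorem place_eq_of_le {P Q : Place k K} (h : ∀ x, Q.1 x ≤ 1 → P.1 x ≤ 1) : P = Q := by
  apply place_ext
  intro x
  refine ⟨fun hx => ?_, h x⟩
  by_contra hQx
  push Not at hQx
  have hx0 : x ≠ 0 := fun h0 => by rw [h0, map_zero] at hQx; exact not_lt.2 zero_le' hQx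
  -- a nonzero element `y` in `O_Q ∩ m_P`
  obtain ⟨t, ht⟩ := exists_uniformizer P
  have ht0 : t ≠ 0 := fun h0 => by
    rw [h0, map_zero] at ht; exact WithZero.exp_ne_zero ht.symm
  have hPt : P.1 t < 1 := by rw [ht]; exact exp_neg_one_lt_one
  have hQt : Q.1 t < 1 := by
    by_contra hcon
    push Not at hcon
    have h1 : Q.1 t⁻¹ ≤ 1 := by rw [map_inv₀]; exact inv_le_one_of_one_le₀ hcon
    have h2 := h _ h1
    rw [map_inv₀, inv_le_one₀ (val_pos P.1 ht0)] at h2
    exact not_lt.2 h2 hPt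
  -- `x⁻¹ ∈ m_Q`, so some power of `x⁻¹` is divisible by `t` in `O_Q`
  have hQxi : Q.1 x⁻¹ < 1 := by rw [map_inv₀]; exact inv_lt_one_of_one_lt₀ hQx
  have hxi0 : x⁻¹ ≠ 0 := inv_ne_zero hx0
  have h3 : 0 < Q.ord x⁻¹ := (ord_pos_iff Q hxi0).2 hQxi
  have h4 : 0 < Q.ord t := (ord_pos_iff Q ht0).2 hQt
  have h5 : Q.1 (x⁻¹ ^ (Q.ord t).toNat / t) ≤ 1 := by
    have hne : x⁻¹ ^ (Q.ord t).toNat / t ≠ 0 := div_ne_zero (pow_ne_zero _ hxi0) ht0
    rw [← ord_nonneg_iff Q hne, ord_div Q (pow_ne_zero _ hxi0) ht0, ord_pow,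
      Int.toNat_of_nonneg h4.le]
    nlinarith
  have h6 := h _ h5
  have hne : x⁻¹ ^ (Q.ord t).toNat / t ≠ 0 := div_ne_zero (pow_ne_zero _ hxi0) ht0
  rw [← ord_nonneg_iff P hne, ord_div P (pow_ne_zero _ hxi0) ht0, ord_pow, ord_inv,
    ord_uniformizer P ht] at h6
  have h7 : 0 ≤ P.ord x := (ord_nonneg_iff P hx0).2 hx
  have h8 : (0 : ℤ) ≤ ((Q.ord t).toNat : ℤ) * P.ord x := by positivity
  linarith

/-- pullback of a place along an automorphism -/
noncomputable def comapPlace (σ : K ≃ₐ[k] K) (P : Place k K) : Place k K :=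
  ⟨P.1.comap (σ : K →+* K), fun c => by
      rw [Valuation.comap_apply]
      have : (σ : K →+* K) (algebraMap k K c) = algebraMap k K c := σ.commutes c
      rw [this]; exact P.2.1 c,
    fun γ => by
      obtain ⟨x, hx⟩ := P.2.2 γ
      exact ⟨σ.symm x, by rw [Valuation.comap_apply]; simpa using hx⟩⟩

@[simp] lemma comapPlace_apply (σ : K ≃ₐ[k] K) (P : Place k K) (x : K) :
    (comapPlace σ P).1 x = P.1 (σ x) := rfl

lemma comapPlace_ord (σ : K ≃ₐ[k] K) (P : Place k K) (x : K) :
    (comapPlace σ P).ord x = P.ord (σ x) := rfl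

lemma comapPlace_symm (σ : K ≃ₐ[k] K) (P : Place k K) :
    comapPlace σ (comapPlace σ.symm P) = P := by
  apply Subtype.ext
  apply Valuation.ext
  intro x
  simp

lemma comapPlace_eq_of_fixed (σ : K ≃ₐ[k] K) (P : Place k K)
    (h : ∀ x : K, P.1 x < 1 → P.1 (σ x) < 1) : comapPlace σ P = P := by
  symm
  apply place_eq_of_le
  intro x hx
  rw [comapPlace_apply] at hx
  by_contra hcon
  push Not at hcon
  have hx0 : x ≠ 0 := fun h0 => by rw [h0, map_zero] at hcon; exact not_lt.2 zero_le' hcon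
  have h1 : P.1 x⁻¹ < 1 := by rw [map_inv₀]; exact inv_lt_one_of_one_lt₀ hcon
  have h2 := h _ h1
  rw [map_inv₀, map_inv₀, inv_lt_one₀ (val_pos P.1 ((map_ne_zero σ).2 hx0))] at h2
  exact not_lt.2 hx h2

/-- if every place is fixed, the automorphism is trivial -/
theorem eq_one_of_forall_comapPlace (hK : IsFunctionField k K) (σ : K ≃ₐ[k] K)
    (h : ∀ P : Place k K, comapPlace σ P = P) : σ = 1 := by
  have hval : ∀ (P : Place k K) (z : K), P.1 (σ z) = P.1 z := by
    intro P z
    have := congrArg (fun Q : Place k K => Q.1 z) (h P)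
    simpa using this
  have hconst : ∀ z : K, z ≠ 0 → ∃ c : k, σ z = algebraMap k K c * z := by
    intro z hz
    have hσz : σ z ≠ 0 := (map_ne_zero σ).2 hz
    have : σ z / z ∈ Set.range (algebraMap k K) := by
      apply mem_range_of_forall_val_le_one hK
      intro P
      rw [map_div₀, hval P z, div_self (val_ne_zero_of_ne_zero P hz)]
    obtain ⟨c, hc⟩ := this
    exact ⟨c, by rw [hc]; field_simp⟩
  obtain ⟨⟨x, hxt, _⟩, _⟩ := hK
  have hxk := not_mem_range_of_transcendental hxt
  have hx0 := ne_zero_of_not_mem_range hxk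
  -- `σ z = z` for nonconstant `z`
  have hfix : ∀ z : K, z ∉ Set.range (algebraMap k K) → σ z = z := by
    intro z hz
    have hz0 := ne_zero_of_not_mem_range hz
    have hz1 : z + 1 ≠ 0 := fun h0 => hz ⟨-1, by rw [map_neg, map_one]; linear_combination -h0⟩
    obtain ⟨c, hc⟩ := hconst z hz0
    obtain ⟨c', hc'⟩ := hconst (z + 1) hz1
    rw [map_add, map_one, hc] at hc'
    have h1 : algebraMap k K (c - c') * z = algebraMap k K (c' - 1) := by
      rw [map_sub, map_sub, map_one]; linear_combination hc'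
    by_cases hcc : c - c' = 0
    · rw [hcc, map_zero, zero_mul] at h1
      have h2 : c' - 1 = 0 := (map_eq_zero (algebraMap k K)).1 h1.symm
      have h3 : c = 1 := by
        have : c = c' := sub_eq_zero.1 hcc
        rw [this]; exact sub_eq_zero.1 h2
      rw [hc, h3, map_one, one_mul]
    · exfalso
      apply hz
      refine ⟨(c' - 1) / (c - c'), ?_⟩
      rw [map_div₀, ← h1]
      exact mul_div_cancel_left₀ z ((_root_.map_ne_zero (algebraMap k K)).2 hcc)
  ext z
  by_cases hz : z ∈ Set.range (algebraMap k K)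
  · obtain ⟨c, rfl⟩ := hz
    simp
  · simpa using hfix z hz

lemma comapPlace_symm' (σ : K ≃ₐ[k] K) (P : Place k K) :
    comapPlace σ.symm (comapPlace σ P) = P := by
  apply Subtype.ext
  apply Valuation.ext
  intro x
  simp

theorem card_zeros_le (hK : IsFunctionField k K) {y : K}
    (hy : y ∉ Set.range (algebraMap k K)) (s : Finset (Place k K))
    (hs : ∀ P ∈ s, P.1 y < 1) :
    s.card ≤ finrank (IntermediateField.adjoin k ({y} : Set K)) K := by
  have hy0 := ne_zero_of_not_mem_range hy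
  have h1 := zeros_bound hK hy s hs
  have h2 : s.card ≤ ∑ P ∈ s, (P.ord y).toNat * P.deg := by
    rw [Finset.card_eq_sum_ones]
    apply Finset.sum_le_sum
    intro P hP
    have h3 : 0 < P.ord y := (ord_pos_iff P hy0).2 (hs P hP)
    have h4 : 0 < (P.ord y).toNat := by omega
    exact Nat.mul_pos h4 (deg_pos hK P)
  omega

theorem finrank_le_deg_of_mem_L (hK : IsFunctionField k K) {y : K}
    (hyt : Transcendental k y) {D : Divisor k K} (hD0 : 0 ≤ D) (hyL : y ∈ L D) :
    (finrank (IntermediateField.adjoin k ({y} : Set K)) K : ℤ) ≤ D.deg := by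
  have hy0 := ne_zero_of_not_mem_range (not_mem_range_of_transcendental hyt)
  rw [← deg_poles hK hyt]
  apply deg_mono
  intro P
  rw [Finsupp.sup_apply, Finsupp.neg_apply, div_apply hK, Finsupp.zero_apply]
  have := (val_le_exp_iff P hy0 _).1 (hyL P)
  exact max_le (by omega) (hD0 P)

lemma exists_const_sub_lt [IsAlgClosed k] (hK : IsFunctionField k K) (Q : Place k K) {x : K}
    (hx : Q.1 x ≤ 1) : ∃ c : k, Q.1 (x - algebraMap k K c) < 1 := by
  have h := residue_finite hK Q
  have : Algebra.IsIntegral k (IsLocalRing.ResidueField Q.O) :=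
    @Algebra.IsIntegral.of_finite k _ _ _ _ h
  have hb : Function.Bijective (algebraMap k (IsLocalRing.ResidueField Q.O)) :=
    IsAlgClosed.algebraMap_bijective_of_isIntegral
  obtain ⟨c, hc⟩ := hb.2 (IsLocalRing.residue Q.O ⟨x, hx⟩)
  refine ⟨c, ?_⟩
  have h1 : IsLocalRing.residue Q.O (⟨x, hx⟩ - algebraMap k Q.O c) = 0 := by
    rw [map_sub, ← hc]
    exact sub_eq_zero.2 rfl
  rw [IsLocalRing.residue_eq_zero_iff, mem_maximalIdeal_iff] at h1
  exact h1

theorem eq_one_of_many_fixed [IsAlgClosed k] (hK : IsFunctionField k K) (σ : K ≃ₐ[k] K)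
    (h : ((2 * genus k K + 2 : ℕ) : ℕ∞) <
      Set.encard {P : Place k K | ∀ x : K, P.1 x < 1 → P.1 (σ x) < 1}) : σ = 1 := by
  classical
  by_contra hσ
  obtain ⟨P, hP⟩ : ∃ P : Place k K, comapPlace σ P ≠ P := by
    by_contra hcon
    push Not at hcon
    exact hσ (eq_one_of_forall_comapPlace hK σ hcon)
  have hdeg : ∀ Q : Place k K, Q.deg = 1 := deg_eq_one_of_isAlgClosed hK
  -- a nonconstant `x` with poles only at `P`, of order at most `g + 1`
  have hell : 2 ≤ ell (Finsupp.single P ((genus k K + 1 : ℕ) : ℤ) : Divisor k K) := by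
    have h1 := delta_le_genus hK (Finsupp.single P ((genus k K + 1 : ℕ) : ℤ))
    unfold delta at h1
    rw [deg_single, hdeg P] at h1
    push_cast at h1
    have : (2 : ℤ) ≤ ell (Finsupp.single P ((genus k K + 1 : ℕ) : ℤ) : Divisor k K) := by
      push_cast; linarith
    exact_mod_cast this
  obtain ⟨x, hxL, hxk⟩ : ∃ x ∈ L (Finsupp.single P ((genus k K + 1 : ℕ) : ℤ) : Divisor k K),
      x ∉ Set.range (algebraMap k K) := by
    by_contra hcon
    push Not at hcon
    have hle : L (Finsupp.single P ((genus k K + 1 : ℕ) : ℤ) : Divisor k K) ≤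
        L (0 : Divisor k K) := by
      intro x hx
      rw [L_zero hK]
      obtain ⟨c, rfl⟩ := hcon x hx
      exact Submodule.algebraMap_mem c
    have := (L_zero_finite hK).1
    have h3 := Submodule.finrank_mono hle
    rw [(L_zero_finite hK).2] at h3
    unfold ell at hell
    omega
  have hx0 := ne_zero_of_not_mem_range hxk
  have hxQ : ∀ Q : Place k K, Q ≠ P → Q.1 x ≤ 1 := by
    intro Q hQ
    have := hxL Q
    rwa [Finsupp.single_eq_of_ne hQ, WithZero.exp_zero] at this
  have hxP : 1 < P.1 x := by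
    obtain ⟨Q, hQ⟩ := exists_pole hK hxk
    by_cases hQP : Q = P
    · rw [← hQP]; exact hQ
    · exact absurd (hxQ Q hQP) (not_le.2 hQ)
  have hxPle : P.1 x ≤ WithZero.exp ((genus k K + 1 : ℕ) : ℤ) := by
    have := hxL P
    rwa [Finsupp.single_eq_same] at this
  set P2 := comapPlace σ.symm P with hP2def
  have hσP2 : comapPlace σ P2 = P := comapPlace_symm σ P
  have hP2 : P2 ≠ P := by
    intro h2
    apply hP
    rw [← h2] at hσP2 ⊢
    rw [h2] at hσP2 ⊢
    exact hσP2
  -- values of `σ x`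
  have hσxQ : ∀ Q : Place k K, Q ≠ P2 → Q.1 (σ x) ≤ 1 := by
    intro Q hQ
    have h1 : comapPlace σ Q ≠ P := by
      intro h2
      apply hQ
      rw [hP2def, ← h2, comapPlace_symm']
    have := hxQ (comapPlace σ Q) h1
    simpa using this
  have hσxP2 : P2.1 (σ x) = P.1 x := by
    have : (comapPlace σ P2).1 x = P.1 x := by rw [hσP2]
    simpa using this
  -- `y = σ x - x`
  have hyP : P.1 (σ x - x) = P.1 x := by
    apply Valuation.map_sub_eq_of_lt_right
    exact lt_of_le_of_lt (hσxQ P (Ne.symm hP2)) hxP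
  have hyk : σ x - x ∉ Set.range (algebraMap k K) := by
    rintro ⟨c, hc⟩
    have h1 := P.2.1 c
    rw [hc, hyP] at h1
    exact not_lt.2 h1 hxP
  have hyt := transcendental_of_not_mem hK hyk
  have hyL : σ x - x ∈ L (Finsupp.single P ((genus k K + 1 : ℕ) : ℤ) +
      Finsupp.single P2 ((genus k K + 1 : ℕ) : ℤ) : Divisor k K) := by
    intro Q
    rw [Finsupp.add_apply]
    by_cases hQP : Q = P
    · subst hQP
      rw [hyP, Finsupp.single_eq_same, Finsupp.single_eq_of_ne (Ne.symm hP2), add_zero]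
      exact hxPle
    · by_cases hQP2 : Q = P2
      · rw [hQP2, Finsupp.single_eq_of_ne hP2, Finsupp.single_eq_same, zero_add]
        apply Valuation.map_sub_le _
        · rw [hσxP2]; exact hxPle
        · refine (hxQ P2 hP2).trans ?_
          rw [← WithZero.exp_zero, WithZero.exp_le_exp]; positivity
      · rw [Finsupp.single_eq_of_ne hQP, Finsupp.single_eq_of_ne hQP2, add_zero,
          WithZero.exp_zero]
        exact Valuation.map_sub_le _ (hσxQ Q hQP2) (hxQ Q hQP)
  have hD0 : (0 : Divisor k K) ≤ Finsupp.single P ((genus k K + 1 : ℕ) : ℤ) +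
      Finsupp.single P2 ((genus k K + 1 : ℕ) : ℤ) := by
    intro Q
    rw [Finsupp.zero_apply, Finsupp.add_apply, Finsupp.single_apply, Finsupp.single_apply]
    split_ifs <;> positivity
  have hfr := finrank_le_deg_of_mem_L hK hyt hD0 hyL
  rw [deg_add, deg_single, deg_single, hdeg P, hdeg P2] at hfr
  -- fixed places are zeros of `y`
  have hzero : ∀ Q : Place k K, (∀ z : K, Q.1 z < 1 → Q.1 (σ z) < 1) → Q.1 (σ x - x) < 1 := by
    intro Q hQfix
    have hQσ := comapPlace_eq_of_fixed σ Q hQfix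
    have hQP : Q ≠ P := fun h => hP (h ▸ hQσ)
    have hQP2 : Q ≠ P2 := by
      intro h2
      rw [h2, hσP2] at hQσ
      exact hP2 hQσ.symm
    obtain ⟨c, hc⟩ := exists_const_sub_lt hK Q (hxQ Q hQP)
    have h1 := hQfix _ hc
    have h2 : σ x - x = σ (x - algebraMap k K c) - (x - algebraMap k K c) := by
      rw [map_sub, σ.commutes]; ring
    rw [h2]
    exact Valuation.map_sub_lt _ h1 hc
  have hle : ((2 * genus k K + 2 + 1 : ℕ) : ℕ∞) ≤
      Set.encard {P : Place k K | ∀ x : K, P.1 x < 1 → P.1 (σ x) < 1} := by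
    have : ((2 * genus k K + 2 + 1 : ℕ) : ℕ∞) = ((2 * genus k K + 2 : ℕ) : ℕ∞) + 1 := by
      push_cast; rfl
    rw [this]
    exact Order.add_one_le_of_lt h
  obtain ⟨t, htsub, htcard⟩ := Set.exists_subset_encard_eq hle
  have htfin : t.Finite := Set.finite_of_encard_eq_coe htcard
  have hcard : htfin.toFinset.card = 2 * genus k K + 2 + 1 := by
    have := htfin.encard_eq_coe_toFinset_card
    rw [htcard] at this
    exact_mod_cast this.symm
  have h1 := card_zeros_le hK hyk htfin.toFinset (fun Q hQ => by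
    rw [Set.Finite.mem_toFinset] at hQ
    exact hzero Q (htsub hQ))
  rw [hcard] at h1
  have : ((2 * genus k K + 2 + 1 : ℕ) : ℤ) ≤ (genus k K + 1 : ℕ) * (1 : ℕ) + (genus k K + 1 : ℕ) * (1 : ℕ) := by
    refine le_trans ?_ hfr
    exact_mod_cast h1
  push_cast at this
  omega

end Groth.Agent.Helper17.FF
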