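import Groth.Agent.Lib.Helper17.FF5

/-! Places as real absolute values; weak approximation. -/

namespace Groth.Agent.Helper17.FF

open FunFld Polynomial Module

variable {k K : Type*} [Field k] [Field K] [Algebra k K]

open scoped Classical

lemma ord_uniformizer (P : Place k K) {t : K} (ht : P.1 t = WithZero.exp (-1 : ℤ)) :
    P.ord t = 1 := by
  have ht0 : t ≠ 0 := fun h => by
    rw [h, map_zero] at ht; exact WithZero.exp_ne_zero ht.symm
  have := (val_eq_exp_iff P ht0 (-1)).1 ht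
  omega

lemma val_eq_one_iff_le (P : Place k K) {x : K} (hx : x ≠ 0) :
    P.1 x = 1 ↔ P.1 x ≤ 1 ∧ P.1 x⁻¹ ≤ 1 := by
  have hpos := val_pos P.1 hx
  rw [map_inv₀, inv_le_one₀ hpos]
  exact ⟨fun h => ⟨h.le, h.ge⟩, fun h => le_antisymm h.1 h.2⟩

/-- two places with the same valuation ring coincide -/
theorem place_ext {P Q : Place k K} (h : ∀ x, P.1 x ≤ 1 ↔ Q.1 x ≤ 1) : P = Q := by
  have hunit : ∀ x : K, x ≠ 0 → (P.1 x = 1 ↔ Q.1 x = 1) := fun x hx => by
    rw [val_eq_one_iff_le P hx, val_eq_one_iff_le Q hx, h x, h x⁻¹]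
  obtain ⟨t, ht⟩ := exists_uniformizer P
  have ht0 : t ≠ 0 := fun h => by
    rw [h, map_zero] at ht; exact WithZero.exp_ne_zero ht.symm
  have hPt := ord_uniformizer P ht
  have key : ∀ x : K, x ≠ 0 → Q.ord x = P.ord x * Q.ord t := by
    intro x hx
    have hu0 : x * t ^ (-(P.ord x)) ≠ 0 := mul_ne_zero hx (zpow_ne_zero _ ht0)
    have h1 : P.ord (x * t ^ (-(P.ord x))) = 0 := by
      rw [ord_mul P hx (zpow_ne_zero _ ht0), ord_zpow, hPt]; ring
    have h2 := (hunit _ hu0).1 ((ord_eq_zero_iff P hu0).1 h1)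
    have h3 := (ord_eq_zero_iff Q hu0).2 h2
    rw [ord_mul Q hx (zpow_ne_zero _ ht0), ord_zpow] at h3
    linarith
  obtain ⟨y, hy⟩ := exists_uniformizer Q
  have hy0 : y ≠ 0 := fun h => by
    rw [h, map_zero] at hy; exact WithZero.exp_ne_zero hy.symm
  have hQy := ord_uniformizer Q hy
  have h4 := key y hy0
  rw [hQy] at h4
  have hQt_pos : 0 < Q.ord t := by
    rw [ord_pos_iff Q ht0]
    have h5 : ¬ P.1 t⁻¹ ≤ 1 := by
      rw [map_inv₀, inv_le_one₀ (val_pos P.1 ht0), ht]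
      exact not_le.2 exp_neg_one_lt_one
    rw [h t⁻¹, map_inv₀, inv_le_one₀ (val_pos Q.1 ht0)] at h5
    exact not_le.1 h5
  have hQt : Q.ord t = 1 := by
    have h6 : Q.ord t ∣ 1 := ⟨P.ord y, by rw [h4]; ring⟩
    exact Int.eq_one_of_dvd_one hQt_pos.le h6
  apply Subtype.ext
  apply Valuation.ext
  intro x
  rcases eq_or_ne x 0 with rfl | hx
  · simp
  · rw [val_eq_exp_neg_ord P hx, val_eq_exp_neg_ord Q hx, key x hx, hQt, mul_one]

lemma ord_add_ge (P : Place k K) {x y : K} (hx : x ≠ 0) (hy : y ≠ 0) (hxy : x + y ≠ 0) :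
    min (P.ord x) (P.ord y) ≤ P.ord (x + y) := by
  have h := P.1.map_add x y
  rcases le_total (P.1 x) (P.1 y) with h1 | h1
  · rw [max_eq_right h1, val_eq_exp_neg_ord P hy, val_le_exp_iff P hxy, neg_neg] at h
    exact (min_le_right _ _).trans h
  · rw [max_eq_left h1, val_eq_exp_neg_ord P hx, val_le_exp_iff P hxy, neg_neg] at h
    exact (min_le_left _ _).trans h

/-- the real absolute value attached to a place -/
noncomputable def absP (P : Place k K) : AbsoluteValue K ℝ where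
  toFun x := if x = 0 then 0 else (2 : ℝ)⁻¹ ^ (P.ord x)
  map_mul' x y := by
    by_cases hx : x = 0
    · simp [hx]
    by_cases hy : y = 0
    · simp [hy]
    simp only [hx, hy, mul_eq_zero, or_self, if_false]
    rw [ord_mul P hx hy, zpow_add₀ (by norm_num)]
  nonneg' x := by
    show 0 ≤ (if x = 0 then (0 : ℝ) else (2 : ℝ)⁻¹ ^ (P.ord x))
    split_ifs
    · exact le_rfl
    · positivity
  eq_zero' x := by
    show (if x = 0 then (0 : ℝ) else (2 : ℝ)⁻¹ ^ (P.ord x)) = 0 ↔ x = 0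
    constructor
    · intro h
      by_contra hx
      simp only [hx, if_false] at h
      have : (0 : ℝ) < (2 : ℝ)⁻¹ ^ (P.ord x) := by positivity
      linarith
    · intro h; simp [h]
  add_le' x y := by
    show (if x + y = 0 then (0 : ℝ) else (2 : ℝ)⁻¹ ^ (P.ord (x + y))) ≤
      (if x = 0 then (0 : ℝ) else (2 : ℝ)⁻¹ ^ (P.ord x)) +
      (if y = 0 then (0 : ℝ) else (2 : ℝ)⁻¹ ^ (P.ord y))
    by_cases hx : x = 0
    · simp [hx]
    by_cases hy : y = 0
    · simp [hy]
    by_cases hxy : x + y = 0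
    · simp only [hxy, hx, hy, if_true, if_false]; positivity
    simp only [hxy, hx, hy, if_false]
    have h1 := ord_add_ge P hx hy hxy
    have hpx : (0 : ℝ) < (2 : ℝ)⁻¹ ^ (P.ord x) := by positivity
    have hpy : (0 : ℝ) < (2 : ℝ)⁻¹ ^ (P.ord y) := by positivity
    rcases min_le_iff.1 h1 with h2 | h2
    · have := zpow_le_zpow_right_of_le_one₀ (a := (2 : ℝ)⁻¹) (by norm_num) (by norm_num) h2
      linarith
    · have := zpow_le_zpow_right_of_le_one₀ (a := (2 : ℝ)⁻¹) (by norm_num) (by norm_num) h2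
      linarith

lemma absP_apply (P : Place k K) {x : K} (hx : x ≠ 0) : absP P x = (2 : ℝ)⁻¹ ^ (P.ord x) := by
  show (if x = 0 then (0 : ℝ) else (2 : ℝ)⁻¹ ^ (P.ord x)) = _
  simp [hx]

lemma absP_lt_iff (P : Place k K) {x : K} (hx : x ≠ 0) (r : ℤ) :
    absP P x < (2 : ℝ)⁻¹ ^ r ↔ r < P.ord x := by
  rw [absP_apply P hx]
  exact zpow_lt_zpow_iff_right_of_lt_one₀ (by norm_num) (by norm_num)

lemma absP_le_one_iff (P : Place k K) (x : K) : absP P x ≤ 1 ↔ P.1 x ≤ 1 := by
  rcases eq_or_ne x 0 with rfl | hx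
  · simp
  · rw [absP_apply P hx, ← ord_nonneg_iff P hx]
    have := zpow_le_zpow_iff_right_of_lt_one₀ (a := (2 : ℝ)⁻¹) (by norm_num) (by norm_num)
      (m := P.ord x) (n := 0)
    rwa [zpow_zero] at this

lemma absP_nontrivial (P : Place k K) : (absP P).IsNontrivial := by
  obtain ⟨t, ht⟩ := exists_uniformizer P
  have ht0 : t ≠ 0 := fun h => by
    rw [h, map_zero] at ht; exact WithZero.exp_ne_zero ht.symm
  refine ⟨t, ht0, ?_⟩
  rw [absP_apply P ht0, ord_uniformizer P ht]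
  norm_num

lemma absP_not_isEquiv {P Q : Place k K} (h : P ≠ Q) : ¬ (absP P).IsEquiv (absP Q) := by
  intro he
  apply h
  apply place_ext
  intro x
  rw [← absP_le_one_iff, ← absP_le_one_iff]
  exact he.le_one_iff

theorem weak_approx {ι : Type*} [Fintype ι] (P : ι → Place k K) (hP : Function.Injective P)
    (x : ι → K) (r : ι → ℤ) :
    ∃ y : K, ∀ i, (P i).1 (y - x i) < WithZero.exp (-(r i)) := by
  classical
  have hd := AbsoluteValue.denseRange_algebraMap_pi (v := fun i => absP (P i))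
    (fun i => absP_nontrivial _) (fun i j hij => absP_not_isEquiv (fun h => hij (hP h)))
  have hε : (0 : ℝ) < (2 : ℝ)⁻¹ ^ (∑ i, |r i|) := by positivity
  obtain ⟨y, hy⟩ := Metric.denseRange_iff.1 hd (fun i => WithAbs.toAbs _ (x i)) _ hε
  refine ⟨y, fun i => ?_⟩
  have h1 := (dist_pi_lt_iff hε).1 hy i
  by_cases hz : y - x i = 0
  · rw [hz, map_zero]; exact WithZero.exp_pos
  · rw [val_lt_exp_iff (P i) hz, neg_neg]
    have h2 : absP (P i) (x i - y) < (2 : ℝ)⁻¹ ^ (∑ i, |r i|) := by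
      have h3 : dist (WithAbs.toAbs (absP (P i)) (x i)) (WithAbs.toAbs (absP (P i)) y) =
          absP (P i) (x i - y) := by
        rw [dist_eq_norm, ← WithAbs.toAbs_sub, WithAbs.norm_toAbs_eq]
      rw [← h3]
      exact h1
    rw [← neg_sub, AbsoluteValue.map_neg, absP_lt_iff (P i) hz] at h2
    have h4 : r i ≤ ∑ i, |r i| :=
      (le_abs_self _).trans (Finset.single_le_sum (fun j _ => abs_nonneg (r j)) (Finset.mem_univ i))
    exact lt_of_le_of_lt h4 h2

theorem weak_approx_exact {ι : Type*} [Fintype ι] (P : ι → Place k K)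
    (hP : Function.Injective P) (x : ι → K) (r : ι → ℤ) :
    ∃ y : K, ∀ i, (P i).1 (y - x i) = WithZero.exp (-(r i)) := by
  have hz : ∀ i, ∃ z : K, (P i).1 z = WithZero.exp (-(r i)) := fun i => (P i).2.2 _
  choose z hz using hz
  obtain ⟨y₁, hy₁⟩ := weak_approx P hP x r
  obtain ⟨y₂, hy₂⟩ := weak_approx P hP z r
  refine ⟨y₁ + y₂, fun i => ?_⟩
  have h1 : (P i).1 y₂ = WithZero.exp (-(r i)) := by
    have : y₂ = z i + (y₂ - z i) := by ring
    rw [this, Valuation.map_add_eq_of_lt_left _ (by rw [hz i]; exact hy₂ i), hz i]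
  have h2 : y₁ + y₂ - x i = y₂ + (y₁ - x i) := by ring
  rw [h2, Valuation.map_add_eq_of_lt_left _ (by rw [h1]; exact hy₁ i), h1]

end Groth.Agent.Helper17.FF
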