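import Mathlib
import Groth.Agent.Lib.Helper17.FFZ1
namespace Groth.Agent.Helper17.FF

universe u v w

open FunFld Polynomial Module IntermediateField

section Frob

variable {k K kb Kb : Type*} [Field k] [Field K] [Algebra k K] [Field kb] [Algebra k kb]
  [Field Kb] [Algebra K Kb] [Algebra kb Kb]

/-- at a rational place every integral element is congruent to a constant -/
lemma exists_const_of_deg_one {P : Place k K} (hP : P.deg = 1) {a : K} (ha : P.1 a ≤ 1) :
    ∃ α : k, P.1 (a - algebraMap k K α) < 1 := by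
  have hbt : (⊥ : Subalgebra k (IsLocalRing.ResidueField P.O)) = ⊤ :=
    Subalgebra.bot_eq_top_of_finrank_eq_one hP
  have hmem : IsLocalRing.residue P.O ⟨a, ha⟩ ∈
      (⊥ : Subalgebra k (IsLocalRing.ResidueField P.O)) := by
    rw [hbt]; trivial
  obtain ⟨α, hα⟩ := Algebra.mem_bot.1 hmem
  refine ⟨α, ?_⟩
  have h1 : IsLocalRing.residue P.O (⟨a, ha⟩ - algebraMap k P.O α) = 0 := by
    rw [map_sub, ← hα]
    exact sub_eq_zero.2 rfl
  rw [IsLocalRing.residue_eq_zero_iff, mem_maximalIdeal_iff] at h1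
  exact h1

lemma lt_one_iff_of_le_one_iff' {Γ₁ Γ₂ : Type*} [LinearOrderedCommGroupWithZero Γ₁]
    [LinearOrderedCommGroupWithZero Γ₂] {A B : Type*} [Field A] [Field B] (f : A →+* B)
    (v : Valuation A Γ₁) (w : Valuation B Γ₂)
    (h : ∀ x : A, w (f x) ≤ 1 ↔ v x ≤ 1) (x : A) : w (f x) < 1 ↔ v x < 1 := by
  rcases eq_or_ne x 0 with rfl | hx
  · simp
  · have h1 := h x⁻¹
    rw [map_inv₀, map_inv₀, map_inv₀] at h1
    have hv : 0 < v x := zero_lt_iff.2 ((Valuation.ne_zero_iff v).2 hx)
    have hw : 0 < w (f x) :=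
      zero_lt_iff.2 ((Valuation.ne_zero_iff w).2 ((_root_.map_ne_zero f).2 hx))
    rw [inv_le_one₀ hw, inv_le_one₀ hv] at h1
    rw [← not_le, ← not_le, h1]

lemma val_const_eq_one' (Q : Place kb Kb) {c : kb} (hc : c ≠ 0) :
    Q.1 (algebraMap kb Kb c) = 1 := by
  apply le_antisymm (Q.2.1 c)
  have h1 := Q.2.1 c⁻¹
  rw [map_inv₀, map_inv₀] at h1
  have hpos : 0 < Q.1 (algebraMap kb Kb c) :=
    zero_lt_iff.2 ((Valuation.ne_zero_iff _).2 ((_root_.map_ne_zero _).2 hc))
  exact (inv_le_one₀ hpos).1 h1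

/-- a sum of integral elements times independent constants, one of them a unit, is a unit -/
lemma frob_unit_sum
    (hc : ∀ c : k, algebraMap K Kb (algebraMap k K c) = algebraMap kb Kb (algebraMap k kb c))
    {P : Place k K} (hP : P.deg = 1) (Q : Place kb Kb)
    (hQP : ∀ x : K, Q.1 (algebraMap K Kb x) ≤ 1 ↔ P.1 x ≤ 1)
    {J : Type*} (b : J → kb) (hb : LinearIndependent k b) (s : Finset J) (a : J → K)
    (ha : ∀ j ∈ s, P.1 (a j) ≤ 1) {j₀ : J} (hj₀ : j₀ ∈ s) (ha₀ : P.1 (a j₀) = 1) :
    Q.1 (∑ j ∈ s, algebraMap K Kb (a j) * algebraMap kb Kb (b j)) = 1 := by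
  classical
  have hlt := lt_one_iff_of_le_one_iff' (algebraMap K Kb) P.1 Q.1 hQP
  have hex : ∀ j, ∃ α : k, j ∈ s → P.1 (a j - algebraMap k K α) < 1 := by
    intro j
    by_cases hj : j ∈ s
    · obtain ⟨α, hα⟩ := exists_const_of_deg_one hP (ha j hj)
      exact ⟨α, fun _ => hα⟩
    · exact ⟨0, fun h => absurd h hj⟩
  choose α hα using hex
  set γ : kb := ∑ j ∈ s, α j • b j with hγ
  have hγ0 : γ ≠ 0 := by
    intro h0
    have h1 := linearIndependent_iff'.1 hb s α h0 j₀ hj₀
    have h2 := hα j₀ hj₀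
    rw [h1, map_zero, sub_zero, ha₀] at h2
    exact lt_irrefl _ h2
  have hsplit : ∑ j ∈ s, algebraMap K Kb (a j) * algebraMap kb Kb (b j) =
      algebraMap kb Kb γ +
        ∑ j ∈ s, algebraMap K Kb (a j - algebraMap k K (α j)) * algebraMap kb Kb (b j) := by
    rw [hγ, map_sum, ← Finset.sum_add_distrib]
    refine Finset.sum_congr rfl fun j _ => ?_
    rw [Algebra.smul_def, map_mul, ← hc, map_sub]
    ring
  rw [hsplit]
  have h1 : Q.1 (algebraMap kb Kb γ) = 1 := val_const_eq_one' Q hγ0
  have h2 : Q.1 (∑ j ∈ s, algebraMap K Kb (a j - algebraMap k K (α j)) *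
      algebraMap kb Kb (b j)) < 1 := by
    apply Valuation.map_sum_lt _ one_ne_zero
    intro j hj
    rw [map_mul]
    have h3 : Q.1 (algebraMap K Kb (a j - algebraMap k K (α j))) < 1 := (hlt _).2 (hα j hj)
    exact lt_of_le_of_lt (mul_le_of_le_one_right' (Q.2.1 (b j))) h3
  rw [Valuation.map_add_eq_of_lt_left _ (by rw [h1]; exact h2), h1]

/-- every element of `Kb = K[kb]` is a `K`-combination of a `k`-basis of `kb` -/
lemma exists_finsupp_of_adjoin_eq_top
    (hc : ∀ c : k, algebraMap K Kb (algebraMap k K c) = algebraMap kb Kb (algebraMap k kb c))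
    (hgen : Algebra.adjoin K (Set.range (algebraMap kb Kb)) = ⊤)
    {J : Type*} (b : Module.Basis J k kb) (z : Kb) :
    ∃ c : J →₀ K, z = ∑ j ∈ c.support, algebraMap K Kb (c j) * algebraMap kb Kb (b j) := by
  classical
  have hz : z ∈ Subalgebra.toSubmodule (Algebra.adjoin K (Set.range (algebraMap kb Kb))) := by
    rw [hgen]; trivial
  rw [Algebra.adjoin_eq_span] at hz
  have hcl : (Submonoid.closure (Set.range (algebraMap kb Kb)) : Set Kb) =
      Set.range (algebraMap kb Kb) := by
    have : Set.range (algebraMap kb Kb) = ((algebraMap kb Kb).rangeS.toSubmonoid : Set Kb) := by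
      ext x; rfl
    rw [this, Submonoid.closure_eq]
  rw [hcl] at hz
  have hle : Submodule.span K (Set.range (algebraMap kb Kb)) ≤
      Submodule.span K (Set.range fun j => algebraMap kb Kb (b j)) := by
    rw [Submodule.span_le]
    rintro _ ⟨c, rfl⟩
    have h1 : c = ∑ j ∈ (b.repr c).support, (b.repr c) j • b j := by
      conv_lhs => rw [← b.linearCombination_repr c]
      rw [Finsupp.linearCombination_apply, Finsupp.sum]
    rw [h1, map_sum]
    refine Submodule.sum_mem _ fun j _ => ?_
    rw [Algebra.smul_def, map_mul, ← hc, ← Algebra.smul_def]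
    exact Submodule.smul_mem _ _ (Submodule.subset_span ⟨j, rfl⟩)
  have hz' := hle hz
  rw [Finsupp.mem_span_range_iff_exists_finsupp] at hz'
  obtain ⟨c, hc'⟩ := hz'
  refine ⟨c, ?_⟩
  rw [← hc', Finsupp.sum]
  refine Finset.sum_congr rfl fun j _ => ?_
  rw [Algebra.smul_def]

/-- a polynomial over an algebraically closed constant field taking a small value at `A` has a
root close to `A` -/
lemma exists_root_close [IsAlgClosed kb] (Q : Place kb Kb) (h : kb[X]) (hm : h.Monic) (A : Kb)
    (hA : Q.1 (aeval A h) < 1) : ∃ c : kb, Q.1 (A - algebraMap kb Kb c) < 1 := by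
  classical
  by_contra hcon
  push Not at hcon
  have hs : h.Splits := IsAlgClosed.splits h
  have h1 : h = (h.roots.map fun c => X - C c).prod := by
    have := hs.eq_prod_roots
    rwa [hm.leadingCoeff, C_1, one_mul] at this
  have h2 : aeval A h = (h.roots.map fun c => A - algebraMap kb Kb c).prod := by
    conv_lhs => rw [h1]
    rw [map_multiset_prod, Multiset.map_map]
    congr 1
    refine Multiset.map_congr rfl fun c _ => ?_
    simp
  rw [h2, map_multiset_prod, Multiset.map_map] at hA
  have h3 : (1 : WithZero (Multiplicative ℤ)) ≤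
      (Multiset.map (Q.1 ∘ fun c => A - algebraMap kb Kb c) h.roots).prod := by
    apply Multiset.one_le_prod_of_one_le
    intro x hx
    rw [Multiset.mem_map] at hx
    obtain ⟨c, -, rfl⟩ := hx
    exact hcon c
  exact absurd hA (not_lt.2 h3)

theorem frob_fix_iff [Finite k] [IsAlgClosure k kb]
    (hK : FunFld.IsFunctionField k K)
    (hc : ∀ c : k, algebraMap K Kb (algebraMap k K c) = algebraMap kb Kb (algebraMap k kb c))
    (hgen : Algebra.adjoin K (Set.range (algebraMap kb Kb)) = ⊤)
    (F : Kb →+* Kb) (hF1 : ∀ c : kb, F (algebraMap kb Kb c) = algebraMap kb Kb c)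
    (hF2 : ∀ x : K, F (algebraMap K Kb x) = algebraMap K Kb x ^ Nat.card k)
    (Q : FunFld.Place kb Kb) :
    (∀ z : Kb, Q.1 (F z) < 1 ↔ Q.1 z < 1) ↔
      ∃ P : FunFld.Place k K, (∀ x : K, Q.1 (algebraMap K Kb x) ≤ 1 ↔ P.1 x ≤ 1) ∧ P.deg = 1 := by
  classical
  set q := Nat.card k with hq
  have hq2 : 2 ≤ q := by
    haveI := Fintype.ofFinite k
    rw [hq, Nat.card_eq_fintype_card]
    exact Fintype.one_lt_card
  haveI : IsAlgClosed kb := IsAlgClosure.isAlgClosed k
  haveI : Algebra.IsAlgebraic k kb := IsAlgClosure.isAlgebraic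
  constructor
  · intro hfix
    letI algkKb : Algebra k Kb := ((algebraMap kb Kb).comp (algebraMap k kb)).toAlgebra
    haveI : IsScalarTower k kb Kb := IsScalarTower.of_algebraMap_eq (fun _ => rfl)
    haveI : IsScalarTower k K Kb := IsScalarTower.of_algebraMap_eq (fun c => (hc c).symm)
    let Q' : Place k Kb := ⟨Q.1, fun c => Q.2.1 (algebraMap k kb c), Q.2.2⟩
    haveI : Algebra.IsAlgebraic K Kb := by
      have hint : Algebra.IsIntegral K (Algebra.adjoin K (Set.range (algebraMap kb Kb))) := by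
        apply Algebra.IsIntegral.adjoin
        rintro _ ⟨c, rfl⟩
        have h1 : IsIntegral k c := Algebra.IsIntegral.isIntegral c
        have h2 : IsIntegral k (algebraMap kb Kb c) := h1.map (IsScalarTower.toAlgHom k kb Kb)
        exact h2.tower_top
      constructor
      intro z
      have hz : z ∈ Algebra.adjoin K (Set.range (algebraMap kb Kb)) := by rw [hgen]; trivial
      have h3 : IsIntegral K z :=
        (hint.isIntegral ⟨z, hz⟩).map (Subalgebra.val (Algebra.adjoin K (Set.range (algebraMap kb Kb))))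
      exact h3.isAlgebraic
    obtain ⟨P, e, he⟩ := exists_isOverWith (k := k) (K := K) (K' := Kb) hK Q'
    have he' : ∀ y : K, Q.1 (algebraMap K Kb y) = P.1 y ^ e := he
    have hepos := isOverWith_pos he
    refine ⟨P, fun x => isOverWith_le_one_iff he x, ?_⟩
    obtain ⟨hfin, hcard⟩ := natCard_residue hK P
    haveI := hfin
    have hall : ∀ y : IsLocalRing.ResidueField P.O, y ^ q = y := by
      intro y
      obtain ⟨⟨a, ha⟩, rfl⟩ := IsLocalRing.residue_surjective y
      set N := Nat.card (IsLocalRing.ResidueField P.O) with hN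
      have hN2 : 2 ≤ N := by
        haveI := Fintype.ofFinite (IsLocalRing.ResidueField P.O)
        rw [hN, Nat.card_eq_fintype_card]
        exact Fintype.one_lt_card
      have h1 : P.1 (a ^ N - a) < 1 := by
        have h2 := pow_natCard_eq (IsLocalRing.ResidueField P.O) (IsLocalRing.residue P.O ⟨a, ha⟩)
        rw [← map_pow, residue_eq_iff] at h2
        exact h2
      set A := algebraMap K Kb a with hA
      have h3 : Q.1 (A ^ N - A) < 1 := by
        rw [hA, ← map_pow, ← map_sub, he']
        exact pow_lt_one' h1 hepos.ne'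
      have hmonic : (X ^ N - X : kb[X]).Monic :=
        monic_X_pow_sub (by rw [degree_X]; exact_mod_cast hN2)
      obtain ⟨c, hcA⟩ := exists_root_close Q (X ^ N - X : kb[X]) hmonic A (by simpa using h3)
      have h4 : Q.1 (F (A - algebraMap kb Kb c)) < 1 := (hfix _).2 hcA
      rw [map_sub, hF1, hA, hF2, ← hA] at h4
      have h5 : Q.1 (A ^ q - A) < 1 := by
        have : A ^ q - A = (A ^ q - algebraMap kb Kb c) - (A - algebraMap kb Kb c) := by ring
        rw [this]
        exact Valuation.map_sub_lt _ h4 hcA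
      rw [hA, ← map_pow, ← map_sub, he'] at h5
      have h6 : P.1 (a ^ q - a) < 1 := (pow_lt_one_iff hepos.ne').1 h5
      rw [← map_pow, residue_eq_iff]
      exact h6
    have hle := natCard_le_of_forall_pow_eq (IsLocalRing.ResidueField P.O) q hq2 hall
    rw [hcard] at hle
    have h7 : P.deg ≤ 1 := by
      have : q ^ P.deg ≤ q ^ 1 := by rwa [pow_one]
      exact (Nat.pow_le_pow_iff_right (lt_of_lt_of_le one_lt_two hq2)).1 this
    have h8 := deg_pos hK P
    omega
  · rintro ⟨P, hQP, hP⟩ z
    set b := Module.Basis.ofVectorSpace k kb with hb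
    obtain ⟨c, hcz⟩ := exists_finsupp_of_adjoin_eq_top hc hgen b z
    by_cases hc0 : c = 0
    · have hz0 : z = 0 := by rw [hcz, hc0]; simp
      rw [hz0, map_zero]
    have hne : c.support.Nonempty := Finsupp.support_nonempty_iff.2 hc0
    obtain ⟨j₀, hj₀, hmax⟩ := Finset.exists_max_image c.support (fun j => P.1 (c j)) hne
    set x₀ := c j₀ with hx₀
    have hx₀0 : x₀ ≠ 0 := Finsupp.mem_support_iff.1 hj₀
    have hpos : 0 < P.1 x₀ := zero_lt_iff.2 ((Valuation.ne_zero_iff _).2 hx₀0)
    set a : _ → K := fun j => c j / x₀ with ha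
    have ha1 : ∀ j ∈ c.support, P.1 (a j) ≤ 1 := by
      intro j hj
      rw [ha]
      simp only [map_div₀]
      exact (div_le_one₀ hpos).2 (hmax j hj)
    have ha0 : P.1 (a j₀) = 1 := by
      rw [ha]
      simp only
      rw [← hx₀, div_self hx₀0, map_one]
    have hz1 : z = algebraMap K Kb x₀ *
        ∑ j ∈ c.support, algebraMap K Kb (a j) * algebraMap kb Kb (b j) := by
      rw [hcz, Finset.mul_sum]
      refine Finset.sum_congr rfl fun j _ => ?_
      rw [← mul_assoc, ← map_mul, ha]
      simp only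
      rw [mul_div_cancel₀ _ hx₀0]
    have hz2 : F z = algebraMap K Kb x₀ ^ q *
        ∑ j ∈ c.support, algebraMap K Kb (a j ^ q) * algebraMap kb Kb (b j) := by
      rw [hz1, map_mul, hF2, map_sum]
      congr 1
      refine Finset.sum_congr rfl fun j _ => ?_
      rw [map_mul, hF1, hF2, map_pow]
    have hu1 := frob_unit_sum hc hP Q hQP b b.linearIndependent c.support a ha1 hj₀ ha0
    have hu2 := frob_unit_sum hc hP Q hQP b b.linearIndependent c.support (fun j => a j ^ q)
      (fun j hj => by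
        simp only [map_pow]
        exact pow_le_one' (ha1 j hj) q) hj₀ (by simp only [map_pow]; rw [ha0, one_pow])
    rw [hz2, map_mul, hu2, mul_one, map_pow]
    conv_rhs => rw [hz1, map_mul, hu1, mul_one]
    exact pow_lt_one_iff (by omega)

end Frob

end Groth.Agent.Helper17.FF
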