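import Groth.Agent.Lib.Helper17.FF16

/-! Rational function fields; genus-one facts. -/

namespace Groth.Agent.Helper17.FF

open FunFld Polynomial Module

variable {k K : Type*} [Field k] [Field K] [Algebra k K]

lemma linInd_pow {x : K} (hxt : Transcendental k x) (n : ℕ) :
    LinearIndependent k (fun i : Fin (n + 1) => x ^ (i : ℕ)) := by
  classical
  rw [Fintype.linearIndependent_iff]
  intro a ha i
  have h4 : aeval x (∑ i : Fin (n + 1), C (a i) * X ^ (i : ℕ)) = 0 := by
    rw [map_sum, ← ha]
    refine Finset.sum_congr rfl fun i _ => ?_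
    rw [map_mul, aeval_C, map_pow, aeval_X, Algebra.smul_def]
  have h5 := transcendental_iff.1 hxt _ h4
  have h6 := congrArg (fun p : k[X] => p.coeff (i : ℕ)) h5
  simp only [Polynomial.finset_sum_coeff, coeff_C_mul, coeff_X_pow, coeff_zero] at h6
  rw [Finset.sum_eq_single i] at h6
  · simpa using h6
  · intro i' _ hi'
    have : (i : ℕ) ≠ (i' : ℕ) := fun h => hi' (Fin.ext h.symm)
    simp [this]
  · intro h; exact absurd (Finset.mem_univ i) h

lemma div_mul (hK : IsFunctionField k K) {x y : K} (hx : x ≠ 0) (hy : y ≠ 0) :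
    FunFld.div k (x * y) = FunFld.div k x + FunFld.div k y := by
  ext P
  rw [Finsupp.add_apply, div_apply hK, div_apply hK, div_apply hK, ord_mul P hx hy]

lemma eq_single_of_nonneg_of_deg_eq_one (hK : IsFunctionField k K) {E : Divisor k K}
    (h : 0 ≤ E) (hd : E.deg = 1) : ∃ P : Place k K, P.deg = 1 ∧ E = Finsupp.single P 1 := by
  classical
  have hne : E ≠ 0 := by
    rintro rfl
    rw [deg_zero] at hd
    exact zero_ne_one hd
  obtain ⟨P, hP⟩ : ∃ P, E P ≠ 0 := by
    by_contra hcon
    push Not at hcon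
    exact hne (Finsupp.ext hcon)
  have h1 : 0 ≤ E P := h P
  have h2 : Finsupp.single P 1 ≤ E := by
    intro Q
    by_cases hQ : Q = P
    · subst hQ; rw [Finsupp.single_eq_same]; omega
    · rw [Finsupp.single_eq_of_ne hQ]; exact h Q
  have h3 : 0 ≤ E - Finsupp.single P 1 := sub_nonneg.2 h2
  have h4 := deg_nonneg h3
  rw [deg_sub, deg_single, hd, one_mul] at h4
  have h5 := deg_pos hK P
  have h6 : P.deg = 1 := by omega
  refine ⟨P, h6, ?_⟩
  have h7 : (E - Finsupp.single P 1).deg = 0 := by
    rw [deg_sub, deg_single, hd, h6]; simp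
  exact sub_eq_zero.1 (eq_zero_of_nonneg_of_deg_eq_zero hK h3 h7)

/-- degree of the pole divisor -/
theorem deg_poles (hK : IsFunctionField k K) {x : K} (hxt : Transcendental k x) :
    ((-FunFld.div k x) ⊔ 0 : Divisor k K).deg =
      finrank (IntermediateField.adjoin k ({x} : Set K)) K := by
  have hx := not_mem_range_of_transcendental hxt
  have hxt' : Transcendental k x⁻¹ := transcendental_of_not_mem hK (inv_not_mem_range hx)
  rw [← div_inv hK, deg_posPart hK hxt', adjoin_inv]

theorem simple_pole_imp (hK : IsFunctionField k K) {x : K} {P : Place k K} (hP : P.deg = 1)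
    (hx : P.ord x = -1) (hQ : ∀ Q : Place k K, Q ≠ P → 0 ≤ Q.ord x) :
    IntermediateField.adjoin k ({x} : Set K) = ⊤ := by
  classical
  have hxk : x ∉ Set.range (algebraMap k K) := by
    rintro ⟨c, rfl⟩
    rw [ord_const] at hx
    omega
  have hxt := transcendental_of_not_mem hK hxk
  have := finite_of_transcendental hK hxt
  rw [← IntermediateField.finrank_eq_one_iff_eq_top]
  have h1 := deg_poles hK hxt
  have h2 : ((-FunFld.div k x) ⊔ 0 : Divisor k K) = Finsupp.single P 1 := by
    ext Q
    rw [Finsupp.sup_apply, Finsupp.neg_apply, div_apply hK, Finsupp.zero_apply]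
    by_cases h : Q = P
    · subst h; rw [hx, Finsupp.single_eq_same]; rfl
    · rw [Finsupp.single_eq_of_ne h]
      have := hQ Q h
      exact max_eq_right (by omega)
  rw [h2, deg_single, hP] at h1
  have : (finrank (IntermediateField.adjoin k ({x} : Set K)) K : ℤ) = 1 := by rw [← h1]; simp
  exact_mod_cast this

lemma transcendental_of_adjoin_eq_top (hK : IsFunctionField k K) {x : K}
    (hx : IntermediateField.adjoin k ({x} : Set K) = ⊤) : Transcendental k x := by
  apply transcendental_of_not_mem hK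
  rintro ⟨c, rfl⟩
  obtain ⟨⟨y, hy, _⟩, _⟩ := hK
  have h1 : y ∈ IntermediateField.adjoin k ({algebraMap k K c} : Set K) := by rw [hx]; trivial
  have h2 : IntermediateField.adjoin k ({algebraMap k K c} : Set K) = ⊥ := by
    rw [IntermediateField.adjoin_simple_eq_bot_iff]
    exact IntermediateField.algebraMap_mem _ c
  rw [h2, IntermediateField.mem_bot] at h1
  exact not_mem_range_of_transcendental hy h1

theorem simple_pole_of_adjoin_eq_top (hK : IsFunctionField k K) {x : K}
    (hx : IntermediateField.adjoin k ({x} : Set K) = ⊤) :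
    ∃ P : Place k K, P.deg = 1 ∧ P.ord x = -1 ∧ ∀ Q : Place k K, Q ≠ P → 0 ≤ Q.ord x := by
  classical
  have hxt := transcendental_of_adjoin_eq_top hK hx
  have h1 := deg_poles hK hxt
  rw [IntermediateField.finrank_eq_one_iff_eq_top.2 hx] at h1
  obtain ⟨P, hP, hE⟩ := eq_single_of_nonneg_of_deg_eq_one hK le_sup_right h1
  have hval : ∀ Q : Place k K, max (-(Q.ord x)) 0 = (Finsupp.single P 1 : Divisor k K) Q := by
    intro Q
    rw [← hE, Finsupp.sup_apply, Finsupp.neg_apply, div_apply hK, Finsupp.zero_apply]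
  refine ⟨P, hP, ?_, fun Q hQ => ?_⟩
  · have := hval P
    rw [Finsupp.single_eq_same] at this
    rcases le_total (-(P.ord x)) 0 with h | h
    · rw [max_eq_right h] at this; omega
    · rw [max_eq_left h] at this; omega
  · have := hval Q
    rw [Finsupp.single_eq_of_ne hQ] at this
    have h2 : -(Q.ord x) ≤ max (-(Q.ord x)) 0 := le_max_left _ _
    omega

theorem genus_eq_zero_of_adjoin_eq_top (hK : IsFunctionField k K) {x : K}
    (hx : IntermediateField.adjoin k ({x} : Set K) = ⊤) : genus k K = 0 := by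
  have hxt := transcendental_of_adjoin_eq_top hK hx
  have hx0 := ne_zero_of_not_mem_range (not_mem_range_of_transcendental hxt)
  obtain ⟨P, hP, hord, hQ⟩ := simple_pole_of_adjoin_eq_top hK hx
  obtain ⟨N, hN⟩ := (riemann hK).2
  have hdeg : Divisor.deg (k := k) (K := K) (Finsupp.single P (N.toNat : ℤ)) = N.toNat := by
    rw [deg_single, hP]; simp
  have h1 := hN (Finsupp.single P (N.toNat : ℤ)) (by rw [hdeg]; exact Int.self_le_toNat N)
  rw [hdeg] at h1
  have hmem : ∀ i : Fin (N.toNat + 1), x ^ (i : ℕ) ∈ L (Finsupp.single P (N.toNat : ℤ)) := by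
    intro i Q
    rw [val_le_exp_iff Q (pow_ne_zero _ hx0), ord_pow]
    by_cases h : Q = P
    · subst h
      rw [Finsupp.single_eq_same, hord]
      have := i.2
      omega
    · rw [Finsupp.single_eq_of_ne h]
      have := hQ Q h
      have h2 : (0 : ℤ) ≤ (i : ℕ) * Q.ord x := by positivity
      omega
  have hfd := L_finite hK (Finsupp.single P (N.toNat : ℤ))
  have hli : LinearIndependent k (fun i : Fin (N.toNat + 1) =>
      (⟨x ^ (i : ℕ), hmem i⟩ : L (Finsupp.single P (N.toNat : ℤ)))) := by
    apply LinearIndependent.of_comp (L (Finsupp.single P (N.toNat : ℤ))).subtype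
    exact linInd_pow hxt _
  have h2 := hli.fintype_card_le_finrank
  rw [Fintype.card_fin] at h2
  have h3 : ((N.toNat + 1 : ℕ) : ℤ) ≤ ell (Finsupp.single P (N.toNat : ℤ)) := by
    unfold ell; exact_mod_cast h2
  push_cast at h3
  have h4 : (genus k K : ℤ) ≤ 0 := by linarith
  have h5 : (0 : ℤ) ≤ genus k K := by positivity
  exact_mod_cast le_antisymm h4 h5

theorem exists_simple_pole_of_genus_zero (hK : IsFunctionField k K) (hg : genus k K = 0)
    {P : Place k K} (hP : P.deg = 1) :
    ∃ x : K, P.ord x = -1 ∧ ∀ Q : Place k K, Q ≠ P → 0 ≤ Q.ord x := by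
  have h1 := ell_eq_of_deg_ge hK (Finsupp.single P 1) (by rw [hg, deg_single, hP]; simp)
  rw [hg, deg_single, hP] at h1
  have h2 : ell (Finsupp.single P 1 : Divisor k K) = 2 := by
    have : (ell (Finsupp.single P 1 : Divisor k K) : ℤ) = 2 := by rw [h1]; simp
    exact_mod_cast this
  obtain ⟨x, hxL, hxk⟩ : ∃ x ∈ L (Finsupp.single P 1 : Divisor k K),
      x ∉ Set.range (algebraMap k K) := by
    by_contra hcon
    push Not at hcon
    have hle : L (Finsupp.single P 1 : Divisor k K) ≤ L (0 : Divisor k K) := by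
      intro x hx
      rw [L_zero hK]
      obtain ⟨c, rfl⟩ := hcon x hx
      exact Submodule.algebraMap_mem c
    have := (L_zero_finite hK).1
    have h3 := Submodule.finrank_mono hle
    rw [(L_zero_finite hK).2] at h3
    unfold ell at h2
    omega
  have hx0 := ne_zero_of_not_mem_range hxk
  have hQ : ∀ Q : Place k K, Q ≠ P → 0 ≤ Q.ord x := by
    intro Q hQ
    have := (val_le_exp_iff Q hx0 _).1 (hxL Q)
    rw [Finsupp.single_eq_of_ne hQ] at this
    omega
  refine ⟨x, ?_, hQ⟩
  have h3 := (val_le_exp_iff P hx0 _).1 (hxL P)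
  rw [Finsupp.single_eq_same] at h3
  obtain ⟨Q, hQpole⟩ := exists_pole hK hxk
  have h4 := (ord_neg_iff Q hx0).2 hQpole
  have hQP : Q = P := by
    by_contra hne
    have := hQ Q hne
    omega
  subst hQP
  omega

end Groth.Agent.Helper17.FF
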