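import Mathlib
import Groth.Agent.Lib.Helper17.FFWk
namespace Groth.Agent.Helper17.FF

open FunFld Polynomial Module IntermediateField

section Conorm2

variable {k K K' : Type*} [Field k] [Field K] [Field K'] [Algebra k K] [Algebra K K']
  [Algebra k K']

theorem conorm_apply_of (hfin : ∀ P : Place k K, {Q : Place k K' | IsOver Q P}.Finite)
    (D : Divisor k K) {Q : Place k K'} {P₀ : Place k K} (hP₀ : IsOver Q P₀) :
    conorm K' D Q = (ramIdx Q P₀ : ℤ) * D P₀ := by
  classical
  unfold conorm
  rw [Finsupp.sum_apply]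
  have hterm : ∀ (P : Place k K) (n : ℤ),
      (n • if h : {Q : Place k K' | IsOver Q P}.Finite then
        h.toFinset.sum (fun Q => (ramIdx Q P : ℤ) • Finsupp.single Q 1) else 0 : Divisor k K') Q =
      n * (if IsOver Q P then (ramIdx Q P : ℤ) else 0) := by
    intro P n
    have hf := hfin P
    rw [dif_pos hf, Finsupp.smul_apply, Finsupp.finsetSum_apply, smul_eq_mul]
    congr 1
    simp only [Finsupp.smul_apply, Finsupp.single_apply, smul_eq_mul, mul_ite, mul_one, mul_zero]
    rw [Finset.sum_ite_eq']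
    simp [Set.Finite.mem_toFinset]
  simp only [hterm]
  rw [Finsupp.sum_eq_single P₀]
  · rw [if_pos hP₀]; ring
  · intro P _ hP
    rw [if_neg (fun h => hP (isOver_unique h hP₀)), mul_zero]
  · simp

theorem wk_conorm_apply [IsScalarTower k K K'] [FiniteDimensional K K'] (hK : IsWeakFF k K)
    (D : Divisor k K) {Q : Place k K'} {P₀ : Place k K} {e : ℕ} (hP₀ : IsOverWith Q P₀ e) :
    conorm K' D Q = (e : ℤ) * D P₀ := by
  rw [conorm_apply_of (fun P => (wk_sum_ramIdx_mul_deg (L := K') hK P).1) D ⟨e, hP₀⟩,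
    ramIdx_eq hP₀]

lemma isOverWith_trans {K'' : Type*} [Field K''] [Algebra k K''] [Algebra K' K''] [Algebra K K'']
    [IsScalarTower K K' K''] {R : Place k K''} {Q : Place k K'} {P : Place k K} {e₁ e₂ : ℕ}
    (h₂ : IsOverWith R Q e₂) (h₁ : IsOverWith Q P e₁) : IsOverWith R P (e₁ * e₂) := by
  intro x
  rw [IsScalarTower.algebraMap_apply K K' K'', h₂, h₁, pow_mul]

theorem conorm_conorm {K'' : Type*} [Field K''] [Algebra k K''] [Algebra K' K''] [Algebra K K'']
    [IsScalarTower k K K'] [IsScalarTower k K' K''] [IsScalarTower k K K'']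
    [IsScalarTower K K' K''] [FiniteDimensional K K'] [FiniteDimensional K' K'']
    (hK : IsFunctionField k K) (D : Divisor k K) :
    conorm K'' (conorm K' D) = conorm K'' D := by
  have hK' : IsWeakFF k K' := isWeakFF_of_finite (K := K) hK
  have hfin : FiniteDimensional K K'' := FiniteDimensional.trans K K' K''
  have : Algebra.IsAlgebraic K K' := Algebra.IsAlgebraic.of_finite K K'
  have : Algebra.IsAlgebraic K' K'' := Algebra.IsAlgebraic.of_finite K' K''
  ext R
  obtain ⟨Q, e₂, h₂⟩ := wk_exists_isOverWith (M := K') (L := K'') hK' R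
  obtain ⟨P, e₁, h₁⟩ := exists_isOverWith hK Q
  rw [wk_conorm_apply hK' _ h₂, wk_conorm_apply (IsWeakFF.of_isFunctionField hK) _ h₁,
    wk_conorm_apply (IsWeakFF.of_isFunctionField hK) _ (isOverWith_trans h₂ h₁)]
  push_cast
  ring

end Conorm2

end Groth.Agent.Helper17.FF
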