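import Groth.Agent.Lib.Helper17.FF2

/-! Existence of places: valuation subrings of `K/k` are discrete. -/

namespace Groth.Agent.Helper17.FF

open FunFld Polynomial

variable {k K : Type*} [Field k] [Field K] [Algebra k K]

section General

variable {Γ₀ : Type*} [LinearOrderedCommGroupWithZero Γ₀] (v : Valuation K Γ₀)

lemma val_const' (hv : ∀ c : k, v (algebraMap k K c) ≤ 1) {c : k} (hc : c ≠ 0) :
    v (algebraMap k K c) = 1 := by
  apply le_antisymm (hv c)
  have h1 : v (algebraMap k K c) * v (algebraMap k K c⁻¹) = 1 := by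
    rw [← map_mul, ← map_mul, mul_inv_cancel₀ hc, map_one, map_one]
  have h2 := hv c⁻¹
  by_contra hlt
  push Not at hlt
  have h3 : v (algebraMap k K c) * v (algebraMap k K c⁻¹) < 1 := by
    calc _ ≤ v (algebraMap k K c) * 1 := mul_le_mul' le_rfl h2
      _ = v (algebraMap k K c) := mul_one _
      _ < 1 := hlt
  rw [h1] at h3
  exact lt_irrefl _ h3

lemma val_pos {x : K} (hx : x ≠ 0) : 0 < v x := zero_lt_iff.2 ((Valuation.ne_zero_iff v).2 hx)

lemma lt_one_iff_of_le_one_iff (B : ValuationSubring K) (h : ∀ y, v y ≤ 1 ↔ y ∈ B) (y : K) :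
    v y < 1 ↔ y = 0 ∨ y⁻¹ ∉ B := by
  rcases eq_or_ne y 0 with rfl | hy
  · simp
  · have hpos := val_pos v hy
    rw [← h, map_inv₀]
    constructor
    · intro hlt
      right
      intro hle
      exact absurd hlt (not_lt.2 ((inv_le_one₀ hpos).1 hle))
    · rintro (h0 | h1)
      · exact absurd h0 hy
      · by_contra hge
        push Not at hge
        exact h1 ((inv_le_one₀ hpos).2 hge)

lemma not_mem_range_of_val_lt_one (hv : ∀ c : k, v (algebraMap k K c) ≤ 1) {x : K} (hx0 : x ≠ 0)
    (hx : v x < 1) : x ∉ Set.range (algebraMap k K) := by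
  rintro ⟨c, rfl⟩
  have hc : c ≠ 0 := fun h => hx0 (by rw [h, map_zero])
  exact hx.ne (val_const' v hv hc)

theorem values_card_le (hv : ∀ c : k, v (algebraMap k K c) ≤ 1) {x : K} (hx0 : x ≠ 0)
    (hx : v x < 1) [FiniteDimensional (IntermediateField.adjoin k ({x} : Set K)) K]
    (T : Finset Γ₀) (hT : ∀ γ ∈ T, (∃ y, v y = γ) ∧ v x ≤ γ ∧ γ < 1) :
    T.card ≤ Module.finrank (IntermediateField.adjoin k ({x} : Set K)) K := by
  classical
  have hpos : 0 < v x := val_pos v hx0
  choose! y hy using fun γ (hγ : γ ∈ T) => (hT γ hγ).1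
  have h1 := KL_card v hv hx0 hx.le (fun γ : T => y γ.1) ?_
  · simpa using h1
  intro a ha i
  have hne : (Finset.univ.filter fun γ : T => a γ ≠ 0).Nonempty := by
    by_contra hemp
    rw [Finset.not_nonempty_iff_eq_empty] at hemp
    apply ha
    funext γ
    show a γ = 0
    by_contra hγ
    have h2 : γ ∈ Finset.univ.filter fun γ : T => a γ ≠ 0 := by simp [hγ]
    rw [hemp] at h2
    simp at h2
  obtain ⟨j, hj, hjmax⟩ := Finset.exists_max_image _ (fun γ : T => (γ : Γ₀)) hne
  have haj : a j ≠ 0 := (Finset.mem_filter.1 hj).2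
  have hvj : v (a j • y j.1) = j.1 := by
    rw [Algebra.smul_def, map_mul, val_const' v hv haj, one_mul, hy _ j.2]
  have hjpos : 0 < (j : Γ₀) := lt_of_lt_of_le hpos (hT _ j.2).2.1
  have hsum : v (∑ γ : T, a γ • y γ.1) = j.1 := by
    rw [Valuation.map_sum_eq_of_lt v (Finset.mem_univ j), hvj]
    intro γ hγ
    rw [hvj]
    have hγj : γ ≠ j := by simpa using hγ
    by_cases haγ : a γ = 0
    · rw [haγ, zero_smul, map_zero]; exact hjpos
    · rw [Algebra.smul_def, map_mul, val_const' v hv haγ, one_mul, hy _ γ.2]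
      have hle := hjmax γ (by simp [haγ])
      exact lt_of_le_of_ne hle (fun h => hγj (Subtype.ext h))
  rw [hsum, hy _ i.2]
  calc v x * (i : Γ₀) < v x * 1 := mul_lt_mul_of_pos_left (hT _ i.2).2.2 hpos
    _ = v x := mul_one _
    _ ≤ j.1 := (hT _ j.2).2.1

theorem exists_max_value (hK : IsFunctionField k K) (hv : ∀ c : k, v (algebraMap k K c) ≤ 1)
    {x : K} (hx0 : x ≠ 0) (hx : v x < 1) :
    ∃ t : K, t ≠ 0 ∧ v t < 1 ∧ ∀ y, v y < 1 → v y ≤ v t := by
  classical
  have hxr := not_mem_range_of_val_lt_one v hv hx0 hx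
  have := finite_of_transcendental hK (transcendental_of_not_mem hK hxr)
  have hpos : 0 < v x := val_pos v hx0
  have hWfin : {γ : Γ₀ | (∃ y, v y = γ) ∧ v x ≤ γ ∧ γ < 1}.Finite := by
    by_contra hinf
    obtain ⟨T, hTW, hTc⟩ := Set.Infinite.exists_subset_card_eq hinf
      (Module.finrank (IntermediateField.adjoin k ({x} : Set K)) K + 1)
    have h1 := values_card_le v hv hx0 hx T (fun γ hγ => hTW hγ)
    omega
  have hxW : v x ∈ {γ : Γ₀ | (∃ y, v y = γ) ∧ v x ≤ γ ∧ γ < 1} := ⟨⟨x, rfl⟩, le_rfl, hx⟩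
  obtain ⟨γ₀, hγ₀, hmax⟩ := hWfin.toFinset.exists_max_image id ⟨v x, hWfin.mem_toFinset.2 hxW⟩
  rw [Set.Finite.mem_toFinset] at hγ₀
  obtain ⟨⟨t, ht⟩, hxt, ht1⟩ := hγ₀
  refine ⟨t, ?_, by rw [ht]; exact ht1, ?_⟩
  · intro h0
    rw [h0, map_zero] at ht
    rw [← ht] at hxt
    exact absurd hpos (not_lt.2 hxt)
  · intro y hy
    rw [ht]
    rcases lt_or_ge (v y) (v x) with h | h
    · exact h.le.trans hxt
    · exact hmax (v y) (hWfin.mem_toFinset.2 ⟨⟨y, rfl⟩, h, hy⟩)

theorem exists_pow_of_le_one (hK : IsFunctionField k K) (hv : ∀ c : k, v (algebraMap k K c) ≤ 1)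
    {t : K} (ht0 : t ≠ 0) (ht1 : v t < 1) (hmax : ∀ y, v y < 1 → v y ≤ v t)
    {z : K} (hz0 : z ≠ 0) (hz : v z ≤ 1) : ∃ n : ℕ, v z = v t ^ n := by
  classical
  rcases eq_or_lt_of_le hz with h1 | h1
  · exact ⟨0, by rw [h1, pow_zero]⟩
  have hzr := not_mem_range_of_val_lt_one v hv hz0 h1
  have := finite_of_transcendental hK (transcendental_of_not_mem hK hzr)
  have htpos : 0 < v t := val_pos v ht0
  have hzpos : 0 < v z := val_pos v hz0
  have hanti : StrictAnti (fun i : ℕ => v t ^ i) := pow_right_strictAnti₀ htpos ht1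
  have hbound : ∀ n : ℕ, v z ≤ v t ^ n →
      n ≤ Module.finrank (IntermediateField.adjoin k ({z} : Set K)) K := by
    intro n hn
    have h2 := values_card_le v hv hz0 h1 ((Finset.range n).image fun i => v t ^ (i + 1)) ?_
    · rwa [Finset.card_image_of_injective _ (fun i j hij => by
        have := hanti.injective hij; omega), Finset.card_range] at h2
    · intro γ hγ
      obtain ⟨i, hi, rfl⟩ := Finset.mem_image.1 hγ
      rw [Finset.mem_range] at hi
      refine ⟨⟨t ^ (i + 1), by rw [map_pow]⟩, ?_, ?_⟩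
      · exact hn.trans (hanti.antitone (by omega))
      · exact pow_lt_one₀ htpos.le ht1 (by omega)
  have hex : ∃ n : ℕ, ¬ v z ≤ v t ^ n :=
    ⟨Module.finrank (IntermediateField.adjoin k ({z} : Set K)) K + 1, fun h => by
      have := hbound _ h; omega⟩
  have hm := Nat.find_spec hex
  have hmin := fun n => Nat.find_min hex (m := n)
  have hm0 : Nat.find hex ≠ 0 := by
    intro h0
    rw [h0, pow_zero] at hm
    exact hm hz
  obtain ⟨n, hn⟩ := Nat.exists_eq_succ_of_ne_zero hm0
  have hle : v z ≤ v t ^ n := not_not.1 (hmin n (by omega))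
  refine ⟨n, le_antisymm hle ?_⟩
  by_contra hlt
  push Not at hlt
  have hu : v (z / t ^ n) < 1 := by
    rw [map_div₀, map_pow]; exact (div_lt_one₀ (pow_pos htpos n)).2 hlt
  have h3 := hmax _ hu
  rw [map_div₀, map_pow, div_le_iff₀ (pow_pos htpos n), ← pow_succ'] at h3
  exact hm (by rw [hn]; exact h3)

end General

theorem isDVR_of_valuationSubring (hK : IsFunctionField k K) (B : ValuationSubring K)
    (hkB : ∀ c : k, algebraMap k K c ∈ B) {x : K} (hx0 : x ≠ 0) (hx : B.valuation x < 1) :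
    IsDiscreteValuationRing B := by
  have hv : ∀ c : k, B.valuation (algebraMap k K c) ≤ 1 :=
    fun c => (B.valuation_le_one_iff _).2 (hkB c)
  obtain ⟨t, ht0, ht1, hmax⟩ := exists_max_value B.valuation hK hv hx0 hx
  have htB : t ∈ B := (B.valuation_le_one_iff _).1 ht1.le
  have htpos : 0 < B.valuation t := val_pos _ ht0
  apply IsDiscreteValuationRing.ofHasUnitMulPowIrreducibleFactorization
  refine ⟨⟨t, htB⟩, ?_, ?_⟩
  · rw [irreducible_iff]
    refine ⟨fun hu => ?_, fun a b hab => ?_⟩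
    · exact ht1.ne ((B.valuation_eq_one_iff _).1 hu)
    · by_contra hcon
      push Not at hcon
      have ha : B.valuation (a : K) < 1 := lt_of_le_of_ne (B.valuation_le_one a)
        (fun h => hcon.1 ((B.valuation_eq_one_iff a).2 h))
      have hb : B.valuation (b : K) < 1 := lt_of_le_of_ne (B.valuation_le_one b)
        (fun h => hcon.2 ((B.valuation_eq_one_iff b).2 h))
      have h1 : B.valuation t = B.valuation (a : K) * B.valuation (b : K) := by
        have h2 := congrArg (fun z : B => B.valuation (z : K)) hab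
        simpa using h2
      have h2 : B.valuation (a : K) * B.valuation (b : K) < B.valuation t := by
        calc _ ≤ B.valuation t * B.valuation (b : K) := mul_le_mul' (hmax _ ha) le_rfl
          _ < B.valuation t * 1 := mul_lt_mul_of_pos_left hb htpos
          _ = _ := mul_one _
      rw [← h1] at h2
      exact lt_irrefl _ h2
  · intro z hz
    have hz0 : (z : K) ≠ 0 := fun h => hz (Subtype.ext h)
    obtain ⟨n, hn⟩ := exists_pow_of_le_one B.valuation hK hv ht0 ht1 hmax hz0
      (B.valuation_le_one z)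
    refine ⟨n, ?_⟩
    have hu1 : B.valuation ((z : K) / t ^ n) = 1 := by
      rw [map_div₀, map_pow, hn, div_self (pow_ne_zero _ htpos.ne')]
    have huB : (z : K) / t ^ n ∈ B := (B.valuation_le_one_iff _).1 hu1.le
    have hunit : IsUnit (⟨(z : K) / t ^ n, huB⟩ : B) := (B.valuation_eq_one_iff _).2 hu1
    obtain ⟨u, hu⟩ := hunit
    refine ⟨u, ?_⟩
    rw [hu]
    apply Subtype.ext
    push_cast
    field_simp

theorem exists_place_of_valuationSubring (hK : IsFunctionField k K) (B : ValuationSubring K)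
    (hkB : ∀ c : k, algebraMap k K c ∈ B) {x : K} (hx0 : x ≠ 0) (hx : B.valuation x < 1) :
    ∃ P : Place k K, ∀ y : K, P.1 y ≤ 1 ↔ y ∈ B := by
  have := isDVR_of_valuationSubring hK B hkB hx0 hx
  have hle : ∀ y : K, (IsDiscreteValuationRing.maximalIdeal B).valuation K y ≤ 1 ↔ y ∈ B := by
    intro y
    constructor
    · intro h
      obtain ⟨a, rfl⟩ := IsDiscreteValuationRing.exists_lift_of_le_one h
      exact a.2
    · intro h
      exact IsDedekindDomain.HeightOneSpectrum.valuation_le_one _ (⟨y, h⟩ : B)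
  have hsurj : Function.Surjective ((IsDiscreteValuationRing.maximalIdeal B).valuation K) := by
    obtain ⟨π, hπ⟩ := IsDedekindDomain.HeightOneSpectrum.valuation_exists_uniformizer K
      (IsDiscreteValuationRing.maximalIdeal B)
    intro γ
    rcases eq_or_ne γ 0 with rfl | hγ
    · exact ⟨0, map_zero _⟩
    · refine ⟨π ^ (-(WithZero.log γ)), ?_⟩
      rw [map_zpow₀, hπ, ← WithZero.exp_zsmul, smul_eq_mul]
      simp [WithZero.exp_log hγ]
  exact ⟨⟨(IsDiscreteValuationRing.maximalIdeal B).valuation K,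
    fun c => (hle _).2 (hkB c), hsurj⟩, hle⟩

theorem exists_zero (hK : IsFunctionField k K) {x : K}
    (hx : x ∉ Set.range (algebraMap k K)) : ∃ P : Place k K, P.1 x < 1 := by
  have htr := transcendental_of_not_mem hK hx
  have hx0 : x ≠ 0 := fun h => hx ⟨0, by rw [map_zero, h]⟩
  have hxA : x ∈ (Algebra.adjoin k ({x} : Set K)).toSubring :=
    Algebra.self_mem_adjoin_singleton k x
  have hI : Ideal.span ({⟨x, hxA⟩} : Set (Algebra.adjoin k ({x} : Set K)).toSubring) ≠ ⊤ := by
    rw [Ne, Ideal.span_singleton_eq_top]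
    intro hu
    obtain ⟨g, hg⟩ := hu.exists_right_inv
    have hgmem : (g : K) ∈ (aeval x : k[X] →ₐ[k] K).range := by
      rw [← Algebra.adjoin_singleton_eq_range_aeval]; exact g.2
    obtain ⟨p, hp⟩ := hgmem
    have h1 : x * (g : K) = 1 := by
      have h2 := congrArg Subtype.val hg
      simpa using h2
    have h2 : aeval x (X * p - 1 : k[X]) = 0 := by
      rw [map_sub, map_mul, aeval_X, map_one]
      have : (aeval x) p = (g : K) := hp
      rw [this, h1, sub_self]
    have h3 := transcendental_iff.1 htr _ h2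
    have h4 := congrArg (fun q : k[X] => q.coeff 0) h3
    simp at h4
  obtain ⟨B, hAB, hIB⟩ := Ideal.image_subset_nonunits_valuationSubring _ hI
  have hkB : ∀ c : k, algebraMap k K c ∈ B :=
    fun c => hAB ((Algebra.adjoin k ({x} : Set K)).algebraMap_mem c)
  have hxB : B.valuation x < 1 :=
    B.mem_nonunits_iff.1 (hIB ⟨⟨x, hxA⟩, Ideal.subset_span rfl, rfl⟩)
  obtain ⟨P, hP⟩ := exists_place_of_valuationSubring hK B hkB hx0 hxB
  refine ⟨P, ?_⟩
  rw [lt_one_iff_of_le_one_iff P.1 B hP]
  exact (lt_one_iff_of_le_one_iff B.valuation B (fun y => B.valuation_le_one_iff y) x).1 hxB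

end Groth.Agent.Helper17.FF
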