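import Groth.Agent.Lib.Helper17.FF22

/-! Finite constant fields: finiteness of places of bounded degree, of effective divisors of given
degree, of the class group; counting effective divisors. -/

namespace Groth.Agent.Helper17.FF

open FunFld Polynomial Module

variable {k K : Type*} [Field k] [Field K] [Algebra k K]

lemma pow_natCard_eq (F : Type*) [Field F] [Finite F] (a : F) : a ^ Nat.card F = a := by
  classical
  haveI : Fintype F := Fintype.ofFinite F
  rw [Nat.card_eq_fintype_card]
  exact FiniteField.pow_card a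

lemma natCard_residue [Finite k] (hK : IsFunctionField k K) (P : Place k K) :
    Finite (IsLocalRing.ResidueField P.O) ∧
      Nat.card (IsLocalRing.ResidueField P.O) = Nat.card k ^ P.deg := by
  have h := residue_finite hK P
  have h1 : Nat.card (IsLocalRing.ResidueField P.O) =
      Nat.card k ^ finrank k (IsLocalRing.ResidueField P.O) :=
    @Module.natCard_eq_pow_finrank k (IsLocalRing.ResidueField P.O) _ _ _ h
  refine ⟨?_, h1⟩
  exact @Module.finite_of_finite k (IsLocalRing.ResidueField P.O) _ _ _ _ h

theorem finite_places_deg_eq [Finite k] (hK : IsFunctionField k K) (m : ℕ) :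
    {P : Place k K | P.deg = m}.Finite := by
  classical
  rcases Nat.eq_zero_or_pos m with rfl | hm
  · convert Set.finite_empty
    ext P
    simp only [Set.mem_setOf_eq, Set.mem_empty_iff_false, iff_false]
    exact (deg_pos hK P).ne'
  obtain ⟨⟨x, hxt, _⟩, _⟩ := id hK
  have hxk := not_mem_range_of_transcendental hxt
  have hx0 := ne_zero_of_not_mem_range hxk
  have hq : 2 ≤ Nat.card k := by
    have : Nontrivial k := inferInstance
    exact Finite.one_lt_card
  have hN : 2 ≤ Nat.card k ^ m := by
    calc 2 ≤ Nat.card k := hq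
      _ = Nat.card k ^ 1 := (pow_one _).symm
      _ ≤ Nat.card k ^ m := Nat.pow_le_pow_right (by omega) hm
  have hyk : x ^ (Nat.card k ^ m) - x ∉ Set.range (algebraMap k K) := by
    rintro ⟨c, hc⟩
    have h1 : aeval x (X ^ (Nat.card k ^ m) - X - C c : k[X]) = 0 := by
      rw [map_sub, map_sub, map_pow, aeval_X, aeval_C, ← hc, sub_self]
    have h2 := transcendental_iff.1 hxt _ h1
    have h3 := congrArg (fun p : k[X] => p.coeff (Nat.card k ^ m)) h2
    simp only [coeff_sub, coeff_X_pow, if_true, coeff_zero] at h3
    rw [coeff_X, coeff_C, if_neg (by omega), if_neg (by omega)] at h3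
    simp at h3
  apply ((zeros_finite hK (inv_not_mem_range hxk)).union (zeros_finite hK hyk)).subset
  intro P hP
  rw [Set.mem_setOf_eq] at hP
  by_cases hPx : P.1 x ≤ 1
  · right
    show P.1 (x ^ (Nat.card k ^ m) - x) < 1
    obtain ⟨hfin, hcard⟩ := natCard_residue hK P
    have h1 := pow_natCard_eq (IsLocalRing.ResidueField P.O) (IsLocalRing.residue P.O ⟨x, hPx⟩)
    rw [hcard, hP] at h1
    have h2 : IsLocalRing.residue P.O (⟨x, hPx⟩ ^ (Nat.card k ^ m) - ⟨x, hPx⟩) = 0 := by
      rw [map_sub, map_pow, h1, sub_self]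
    rw [IsLocalRing.residue_eq_zero_iff, mem_maximalIdeal_iff] at h2
    exact h2
  · left
    show P.1 x⁻¹ < 1
    rw [map_inv₀]
    exact inv_lt_one_of_one_lt₀ (not_le.1 hPx)

theorem finite_places_deg_le [Finite k] (hK : IsFunctionField k K) (d : ℕ) :
    {P : Place k K | P.deg ≤ d}.Finite := by
  have : {P : Place k K | P.deg ≤ d} = ⋃ m ∈ Finset.range (d + 1), {P : Place k K | P.deg = m} := by
    ext P
    simp only [Set.mem_setOf_eq, Finset.mem_range, Set.mem_iUnion, exists_prop]
    constructor
    · intro h; exact ⟨P.deg, by omega, rfl⟩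
    · rintro ⟨m, hm, rfl⟩; omega
  rw [this]
  exact Set.Finite.biUnion (Finset.finite_toSet _) fun m _ => finite_places_deg_eq hK m

end Groth.Agent.Helper17.FF
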