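import Mathlib
import Groth.Agent.Lib.Helper17.FFZ1
namespace Groth.Agent.Helper17.FF

universe u v w


open FunFld Polynomial Module IntermediateField
open scoped TensorProduct

section PairEmb

variable {k k' : Type u} {K K' : Type v} [Field k] [Field k'] [Field K] [Field K']
    [Algebra k k'] [FiniteDimensional k k'] [Algebra k K] [Algebra K K'] [Algebra k' K']
    [Algebra k K'] [IsScalarTower k k' K'] [IsScalarTower k K K']

lemma mapDomain_nonneg {α β : Type*} (f : α → β) {D : α →₀ ℤ} (hD : 0 ≤ D) :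
    0 ≤ Finsupp.mapDomain f D := by
  classical
  intro b
  rw [Finsupp.mapDomain, Finsupp.sum, Finsupp.finsetSum_apply]
  refine Finset.sum_nonneg (fun a _ => ?_)
  rw [Finsupp.single_apply]
  split_ifs
  · exact hD a
  · exact le_rfl

theorem exists_pair_embedding [Finite k]
    (h : Function.Bijective (Algebra.TensorProduct.productMap
      (IsScalarTower.toAlgHom k k' K') (IsScalarTower.toAlgHom k K K')))
    (hK : IsFunctionField k K) (hr2 : 2 ≤ finrank k k')
    (hdvd : ∀ P : Place k K, finrank k k' ∣ P.deg) :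
    ∃ Φ : Divisor k K → Divisor k K → Divisor k' K',
      (∀ D₁ D₂, 0 ≤ D₁ → 0 ≤ D₂ → 0 ≤ Φ D₁ D₂) ∧
      (∀ D₁ D₂, (finrank k k' : ℤ) * (Φ D₁ D₂).deg = D₁.deg + D₂.deg) ∧
      (∀ D₁ D₂ D₁' D₂', Φ D₁ D₂ = Φ D₁' D₂' → D₁ = D₁' ∧ D₂ = D₂') := by
  classical
  haveI : Algebra.IsAlgebraic k k' := Algebra.IsAlgebraic.of_finite k k'
  set r := finrank k k' with hr
  have key : ∀ P : Place k K, ∃ Q₁ Q₂ : Place k K', IsOver Q₁ P ∧ IsOver Q₂ P ∧ Q₁ ≠ Q₂ := by
    intro P
    obtain ⟨S, hS, hcard⟩ := card_over_const_ext_finite h hK P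
    rw [Nat.gcd_eq_right (hdvd P)] at hcard
    have h1 : 1 < S.card := by rw [hcard]; exact hr2
    obtain ⟨a, ha, b, hb, hab⟩ := Finset.one_lt_card.1 h1
    exact ⟨a, b, (hS a).1 ha, (hS b).1 hb, hab⟩
  choose Q₁ Q₂ h₁ h₂ hne using key
  let Ψ₁ : Place k K → Place k' K' := fun P => placeUp k' (Q₁ P)
  let Ψ₂ : Place k K → Place k' K' := fun P => placeUp k' (Q₂ P)
  have hdegQ : ∀ (P : Place k K) (Q : Place k K'), IsOver Q P →
      (r : ℤ) * ((placeUp k' Q).deg : ℤ) = P.deg := by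
    intro P Q hQ
    obtain ⟨-, hd⟩ := deg_const_ext_finite h hK P Q hQ
    rw [Nat.lcm_eq_left (hdvd P)] at hd
    have := deg_placeUp (k₁ := k') Q
    rw [hd] at this
    rw [this]; push_cast; rfl
  have hinj₁ : Function.Injective Ψ₁ := by
    intro P P' hPP
    have h3 : Q₁ P = Q₁ P' := placeUp_injective hPP
    have h4 := h₁ P'
    rw [← h3] at h4
    exact isOver_unique (h₁ P) h4
  have hinj₂ : Function.Injective Ψ₂ := by
    intro P P' hPP
    have h3 : Q₂ P = Q₂ P' := placeUp_injective hPP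
    have h4 := h₂ P'
    rw [← h3] at h4
    exact isOver_unique (h₂ P) h4
  have hdisj₁ : ∀ P, Ψ₁ P ∉ Set.range Ψ₂ := by
    rintro P ⟨P', hP'⟩
    have h3 : Q₂ P' = Q₁ P := placeUp_injective hP'
    have h4 := h₂ P'
    rw [h3] at h4
    have h5 : P = P' := isOver_unique (h₁ P) h4
    subst h5
    exact hne P h3.symm
  have hdisj₂ : ∀ P, Ψ₂ P ∉ Set.range Ψ₁ := by
    rintro P ⟨P', hP'⟩
    have h3 : Q₁ P' = Q₂ P := placeUp_injective hP'
    have h4 := h₁ P'
    rw [h3] at h4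
    have h5 : P = P' := isOver_unique (h₂ P) h4
    subst h5
    exact hne P h3
  have hdegmap : ∀ (Ψ : Place k K → Place k' K') (hΨ : ∀ P, (r : ℤ) * ((Ψ P).deg : ℤ) = P.deg)
      (D : Divisor k K), (r : ℤ) * Divisor.deg (k := k') (K := K') (Finsupp.mapDomain Ψ D) = D.deg := by
    intro Ψ hΨ D
    unfold Divisor.deg
    rw [Finsupp.sum_mapDomain_index (fun _ => by simp) (fun _ _ _ => by ring), Finsupp.mul_sum]
    refine Finsupp.sum_congr (fun P _ => ?_)
    rw [← hΨ P]; ring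
  refine ⟨fun D₁ D₂ => Finsupp.mapDomain Ψ₁ D₁ + Finsupp.mapDomain Ψ₂ D₂, ?_, ?_, ?_⟩
  · intro D₁ D₂ hD₁ hD₂
    exact add_nonneg (mapDomain_nonneg Ψ₁ hD₁) (mapDomain_nonneg Ψ₂ hD₂)
  · intro D₁ D₂
    rw [deg_add, mul_add, hdegmap Ψ₁ (fun P => hdegQ P _ (h₁ P)),
      hdegmap Ψ₂ (fun P => hdegQ P _ (h₂ P))]
  · intro D₁ D₂ D₁' D₂' hΦ
    constructor
    · ext P
      have := DFunLike.congr_fun hΦ (Ψ₁ P)
      simp only [Finsupp.add_apply, Finsupp.mapDomain_apply hinj₁,
        Finsupp.mapDomain_of_notMem_range _ _ (hdisj₁ P), add_zero] at this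
      exact this
    · ext P
      have := DFunLike.congr_fun hΦ (Ψ₂ P)
      simp only [Finsupp.add_apply, Finsupp.mapDomain_apply hinj₂,
        Finsupp.mapDomain_of_notMem_range _ _ (hdisj₂ P), zero_add] at this
      exact this


theorem effDivCount_ext_ge [Finite k]
    (h : Function.Bijective (Algebra.TensorProduct.productMap
      (IsScalarTower.toAlgHom k k' K') (IsScalarTower.toAlgHom k K K')))
    (hK : IsFunctionField k K) (hK' : IsFunctionField k' K') (hr2 : 2 ≤ finrank k k')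
    (hdvd : ∀ P : Place k K, finrank k k' ∣ P.deg)
    (D₀ : Divisor k K) (hD₀ : D₀.deg = finrank k k') (M : ℕ) (hM : 1 ≤ M) :
    M * Nat.card k ^ ((4 * genus k K + M - 1) * finrank k k' - 2 * genus k K) ≤
      effDivCount k' K' (4 * genus k K + M - 1) := by
  classical
  haveI : Finite k' := Module.finite_of_finite k
  obtain ⟨Φ, hΦ0, hΦdeg, hΦinj⟩ := exists_pair_embedding h hK hr2 hdvd
  set r := finrank k k' with hr
  set g := genus k K with hg
  set q := Nat.card k with hq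
  have hrpos : 0 < r := lt_of_lt_of_le (by norm_num) hr2
  set n := 4 * g + M - 1 with hn
  let n₁ : Fin M → ℕ := fun i => 2 * g + i
  let n₂ : Fin M → ℕ := fun i => 2 * g + (M - 1 - i)
  have hn12 : ∀ i : Fin M, n₁ i + n₂ i = n := by
    intro i
    have := i.2
    show 2 * g + (i : ℕ) + (2 * g + (M - 1 - i)) = 4 * g + M - 1
    omega
  let T := Σ i : Fin M, {D : Divisor k K // 0 ≤ D ∧ D.deg = ((n₁ i * r : ℕ) : ℤ)} ×
    {D : Divisor k K // 0 ≤ D ∧ D.deg = ((n₂ i * r : ℕ) : ℤ)}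
  have hdegT : ∀ t : T, (Φ t.2.1.1 t.2.2.1).deg = (n : ℤ) := by
    intro t
    have h1 := hΦdeg t.2.1.1 t.2.2.1
    rw [t.2.1.2.2, t.2.2.2.2] at h1
    have h2 : ((n₁ t.1 * r : ℕ) : ℤ) + ((n₂ t.1 * r : ℕ) : ℤ) = (r : ℤ) * (n : ℤ) := by
      rw [← hn12 t.1]; push_cast; ring
    rw [h2] at h1
    exact mul_left_cancel₀ (by exact_mod_cast hrpos.ne') h1
  let F : T → {D' : Divisor k' K' // 0 ≤ D' ∧ D'.deg = (n : ℤ)} := fun t =>
    ⟨Φ t.2.1.1 t.2.2.1, hΦ0 _ _ t.2.1.2.1 t.2.2.2.1, hdegT t⟩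
  have hFinj : Function.Injective F := by
    rintro ⟨i, D₁, D₂⟩ ⟨i', D₁', D₂'⟩ hab
    have h1 : Φ D₁.1 D₂.1 = Φ D₁'.1 D₂'.1 := congrArg Subtype.val hab
    obtain ⟨h2, h3⟩ := hΦinj _ _ _ _ h1
    have h4 : i = i' := by
      have h5 := D₁.2.2
      rw [h2, D₁'.2.2] at h5
      have h6 : n₁ i' * r = n₁ i * r := by exact_mod_cast h5
      have h7 : n₁ i' = n₁ i := Nat.eq_of_mul_eq_mul_right hrpos h6
      apply Fin.ext
      show (i : ℕ) = i'
      have h8 : 2 * g + (i' : ℕ) = 2 * g + (i : ℕ) := h7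
      omega
    subst h4
    have h5 : D₁ = D₁' := Subtype.ext h2
    have h6 : D₂ = D₂' := Subtype.ext h3
    rw [h5, h6]
  haveI hfinE : ∀ m : ℕ, Finite {D : Divisor k K // 0 ≤ D ∧ D.deg = (m : ℤ)} :=
    fun m => finite_effective hK m
  haveI hfinE' : Finite {D' : Divisor k' K' // 0 ≤ D' ∧ D'.deg = (n : ℤ)} := finite_effective hK' n
  have hcard := Nat.card_le_card_of_injective F hFinj
  have hcardT : Nat.card T = ∑ i : Fin M, effDivCount k K (n₁ i * r) * effDivCount k K (n₂ i * r) := by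
    rw [Nat.card_sigma]
    refine Finset.sum_congr rfl (fun i _ => ?_)
    rw [Nat.card_prod]
    rfl
  have hterm : ∀ i : Fin M, q ^ (n * r - 2 * g) ≤
      effDivCount k K (n₁ i * r) * effDivCount k K (n₂ i * r) := by
    intro i
    have hex : ∀ m : ℕ, ∃ D : Divisor k K, D.deg = ((m * r : ℕ) : ℤ) := fun m =>
      ⟨(m : ℤ) • D₀, by rw [deg_zsmul, hD₀]; push_cast; ring⟩
    have hge₁ : 2 * g ≤ n₁ i * r := by
      have : 2 * g ≤ n₁ i := Nat.le_add_right _ _
      calc 2 * g ≤ n₁ i := this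
        _ = n₁ i * 1 := (mul_one _).symm
        _ ≤ n₁ i * r := Nat.mul_le_mul_left _ hrpos
    have hge₂ : 2 * g ≤ n₂ i * r := by
      have : 2 * g ≤ n₂ i := Nat.le_add_right _ _
      calc 2 * g ≤ n₂ i := this
        _ = n₂ i * 1 := (mul_one _).symm
        _ ≤ n₂ i * r := Nat.mul_le_mul_left _ hrpos
    have hb₁ := effDivCount_ge hK (n₁ i * r) hge₁ (hex _)
    have hb₂ := effDivCount_ge hK (n₂ i * r) hge₂ (hex _)
    have hexp : n * r - 2 * g = (n₁ i * r - g) + (n₂ i * r - g) := by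
      rw [← hn12 i, add_mul]
      omega
    rw [hexp, pow_add]
    exact Nat.mul_le_mul hb₁ hb₂
  calc M * q ^ (n * r - 2 * g) = ∑ _i : Fin M, q ^ (n * r - 2 * g) := by
        rw [Finset.sum_const, Finset.card_univ, Fintype.card_fin, smul_eq_mul]
    _ ≤ ∑ i : Fin M, effDivCount k K (n₁ i * r) * effDivCount k K (n₂ i * r) :=
        Finset.sum_le_sum (fun i _ => hterm i)
    _ = Nat.card T := hcardT.symm
    _ ≤ effDivCount k' K' n := hcard

end PairEmb

section DegSurj

variable {k : Type u} {K : Type v} [Field k] [Field K] [Algebra k K]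

/-- F. K. Schmidt: over a finite constant field there is a divisor of degree one. -/
theorem deg_generator_eq_one [Finite k] (hK : IsFunctionField k K) (r : ℕ) (hrpos : 0 < r)
    (D₀ : Divisor k K) (hD₀ : D₀.deg = r) (hdiv : ∀ D : Divisor k K, (r : ℤ) ∣ D.deg) : r = 1 := by
  classical
  by_contra hr1
  have hr2 : 2 ≤ r := by omega
  obtain ⟨k', K', _, _, _, _, _, _, _, _, _, hrank, h⟩ := exists_const_ext_finite hK r hrpos
  haveI : Finite k' := Module.finite_of_finite k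
  have hgeo : IsGeometric k K := isGeometric_of_perfect k K hK
  have hK' : IsFunctionField k' K' := isFunctionField_const h hK hgeo
  have hdvd : ∀ P : Place k K, finrank k k' ∣ P.deg := by
    intro P
    have := hdiv (Finsupp.single P 1)
    rw [deg_single, one_mul] at this
    rw [hrank]
    exact_mod_cast this
  set g := genus k K with hg
  set g' := genus k' K' with hg'
  set h' := classNum k' K' with hh'
  set q := Nat.card k with hq
  have hq2 : 2 ≤ q := Finite.one_lt_card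
  have hqpos : 0 < q := by omega
  have hcard' : Nat.card k' = q ^ r := by
    rw [Module.natCard_eq_pow_finrank (K := k) (V := k'), hrank]
  set M := h' * q ^ (r + 2 * g) + 2 * g' + 1 with hM
  have hM1 : 1 ≤ M := by omega
  have hlow := effDivCount_ext_ge h hK hK' (by rw [hrank]; exact hr2) hdvd D₀
    (by rw [hD₀, hrank]) M hM1
  rw [hrank] at hlow
  set n := 4 * g + M - 1 with hn
  have hup := effDivCount_le hK' n (by omega)
  rw [hcard'] at hup
  have h1 := hlow.trans hup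
  have hnr : 2 * g ≤ n * r := by
    have : 2 * g ≤ n := by omega
    calc 2 * g ≤ n := this
      _ = n * 1 := (mul_one _).symm
      _ ≤ n * r := Nat.mul_le_mul_left _ hrpos
  have h2 : (q ^ r) ^ (n + 1) = q ^ (n * r - 2 * g) * q ^ (r + 2 * g) := by
    rw [← pow_mul, ← pow_add]
    congr 1
    have : r * (n + 1) = n * r + r := by ring
    omega
  rw [h2] at h1
  have h3 : M * q ^ (n * r - 2 * g) ≤ (h' * q ^ (r + 2 * g)) * q ^ (n * r - 2 * g) := by
    calc M * q ^ (n * r - 2 * g) ≤ h' * (q ^ (n * r - 2 * g) * q ^ (r + 2 * g)) := h1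
      _ = (h' * q ^ (r + 2 * g)) * q ^ (n * r - 2 * g) := by ring
  have h4 : M ≤ h' * q ^ (r + 2 * g) :=
    Nat.le_of_mul_le_mul_right h3 (Nat.pow_pos hqpos)
  omega

theorem deg_surjective_finite [Finite k] (hK : IsFunctionField k K) :
    Function.Surjective (Divisor.deg : Divisor k K → ℤ) := by
  obtain ⟨r, D₀, hrpos, hD₀, hdiv⟩ := exists_deg_generator hK
  have hr1 := deg_generator_eq_one hK r hrpos D₀ hD₀ hdiv
  subst hr1
  intro m
  exact ⟨m • D₀, by rw [deg_zsmul, hD₀]; simp⟩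

end DegSurj

end Groth.Agent.Helper17.FF
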