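import Mathlib
import Groth.Agent.Lib.Helper17.FFZ2
namespace Groth.Agent.Helper17.FF

universe u v w


open FunFld Polynomial Module

section ZetaGen

variable {k K : Type*} [Field k] [Field K] [Algebra k K]

theorem count_effective_gen [Finite k] (hK : IsFunctionField k K) (n : ℕ)
    (Dn : Divisor k K) (hDn : Dn.deg = n) [Fintype (Pic0 k K)]
    (rep : Pic0 k K → (degHom k K).ker)
    (hrep : ∀ c : Pic0 k K, (QuotientAddGroup.mk (rep c) : Pic0 k K) = c) :
    ((Nat.card k : ℤ) - 1) * (effDivCount k K n : ℤ) =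
      ∑ c : Pic0 k K, ((Nat.card k : ℤ) ^ ell (Dn + (rep c : Divisor k K)) - 1) := by
  classical
  haveI := finite_effective hK n
  let Dc : Pic0 k K → Divisor k K := fun c => Dn + (rep c : Divisor k K)
  have hDcdeg : ∀ c, (Dc c).deg = n := by
    intro c
    show (Dn + (rep c : Divisor k K)).deg = n
    rw [deg_add, hDn, (mem_ker_degHom _).1 (rep c).2, add_zero]
  -- the class of an effective divisor
  have hmemY : ∀ E : {D : Divisor k K // 0 ≤ D ∧ D.deg = n}, E.1 - Dn ∈ (degHom k K).ker := by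
    intro E
    rw [mem_ker_degHom, deg_sub, E.2.2, hDn, sub_self]
  let cE : {D : Divisor k K // 0 ≤ D ∧ D.deg = n} → Pic0 k K :=
    fun E => QuotientAddGroup.mk ⟨E.1 - Dn, hmemY E⟩
  have hfE : ∀ E : {D : Divisor k K // 0 ≤ D ∧ D.deg = n},
      ∃ f : K, f ≠ 0 ∧ E.1 - Dc (cE E) = FunFld.div k f := by
    intro E
    have h1 := hrep (cE E)
    have h2 : (QuotientAddGroup.mk (rep (cE E)) : Pic0 k K) =
        QuotientAddGroup.mk ⟨E.1 - Dn, hmemY E⟩ := h1
    rw [pic0_mk_eq_iff] at h2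
    obtain ⟨f, hf0, hf⟩ := (mem_prinDivs_iff hK _).1 h2
    refine ⟨f, hf0, ?_⟩
    rw [← hf]
    show E.1 - (Dn + (rep (cE E) : Divisor k K)) = E.1 - Dn - (rep (cE E) : Divisor k K)
    abel
  choose fE hfE0 hfEdiv using hfE
  -- the map
  have hΨmem : ∀ (E : {D : Divisor k K // 0 ≤ D ∧ D.deg = n}) (u : kˣ),
      algebraMap k K u * fE E ∈ L (Dc (cE E)) ∧ algebraMap k K u * fE E ≠ 0 := by
    intro E u
    have hu0 : algebraMap k K (u : k) ≠ 0 := (_root_.map_ne_zero _).2 u.ne_zero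
    refine ⟨?_, mul_ne_zero hu0 (hfE0 E)⟩
    intro Q
    rw [val_le_exp_iff Q (mul_ne_zero hu0 (hfE0 E)), ord_mul Q hu0 (hfE0 E), ord_const, zero_add,
      ← div_apply hK, ← hfEdiv E, Finsupp.sub_apply]
    have := E.2.1 Q
    rw [Finsupp.zero_apply] at this
    linarith
  let Ψ : {D : Divisor k K // 0 ≤ D ∧ D.deg = n} × kˣ →
      {p : Pic0 k K × K // p.2 ∈ L (Dc p.1) ∧ p.2 ≠ 0} :=
    fun Eu => ⟨(cE Eu.1, algebraMap k K Eu.2 * fE Eu.1), hΨmem Eu.1 Eu.2⟩
  have hdivΨ : ∀ (E : {D : Divisor k K // 0 ≤ D ∧ D.deg = n}) (u : kˣ),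
      FunFld.div k (algebraMap k K u * fE E) = E.1 - Dc (cE E) := by
    intro E u
    have hu0 : algebraMap k K (u : k) ≠ 0 := (_root_.map_ne_zero _).2 u.ne_zero
    rw [div_mul hK hu0 (hfE0 E), div_of_mem_range hK, zero_add, hfEdiv E]
  have hΨinj : Function.Injective Ψ := by
    rintro ⟨E, u⟩ ⟨E', u'⟩ h
    have h1 : cE E = cE E' := congrArg (fun p => p.1.1) h
    have h2 : algebraMap k K u * fE E = algebraMap k K u' * fE E' := congrArg (fun p => p.1.2) h
    have h3 : E.1 = E'.1 := by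
      have h4 := hdivΨ E u
      have h5 := hdivΨ E' u'
      rw [h2, h5, h1] at h4
      exact (sub_left_inj.1 h4).symm
    have hEE' : E = E' := Subtype.ext h3
    subst hEE'
    have h6 := mul_right_cancel₀ (hfE0 E) h2
    have h7 : (u : k) = u' := (algebraMap k K).injective h6
    rw [Units.ext h7]
  have hΨsurj : Function.Surjective Ψ := by
    rintro ⟨⟨c, f⟩, hfL, hf0⟩
    simp only at hfL hf0
    have hE0 : 0 ≤ Dc c + FunFld.div k f := by
      intro Q
      rw [Finsupp.zero_apply, Finsupp.add_apply, div_apply hK]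
      have := (val_le_exp_iff Q hf0 _).1 (hfL Q)
      linarith
    have hEd : (Dc c + FunFld.div k f).deg = n := by rw [deg_add, deg_div hK, hDcdeg, add_zero]
    set E : {D : Divisor k K // 0 ≤ D ∧ D.deg = n} := ⟨Dc c + FunFld.div k f, hE0, hEd⟩ with hEdef
    have hcE : cE E = c := by
      rw [← hrep c]
      show (QuotientAddGroup.mk _ : Pic0 k K) = QuotientAddGroup.mk _
      rw [pic0_mk_eq_iff]
      show (rep c : Divisor k K) - (Dn + (rep c : Divisor k K) + FunFld.div k f - Dn) ∈ _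
      have : (rep c : Divisor k K) - (Dn + (rep c : Divisor k K) + FunFld.div k f - Dn) =
          FunFld.div k f⁻¹ := by rw [div_inv hK]; abel
      rw [this]
      exact div_mem_prinDivs _
    -- `f / fE E` is a nonzero constant
    have hdiv : FunFld.div k (f / fE E) = 0 := by
      rw [div_eq_mul_inv, div_mul hK hf0 (inv_ne_zero (hfE0 E)), div_inv hK, ← hfEdiv E, hcE]
      show FunFld.div k f + -(Dc c + FunFld.div k f - Dc c) = 0
      abel
    have hconst : f / fE E ∈ Set.range (algebraMap k K) := by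
      apply mem_range_of_forall_val_le_one hK
      intro Q
      have hne : f / fE E ≠ 0 := div_ne_zero hf0 (hfE0 E)
      rw [← ord_nonneg_iff Q hne, ← div_apply hK, hdiv]
      rfl
    obtain ⟨u, hu⟩ := hconst
    have hu0 : u ≠ 0 := by
      rintro rfl
      rw [map_zero] at hu
      exact div_ne_zero hf0 (hfE0 E) hu.symm
    refine ⟨(E, Units.mk0 u hu0), ?_⟩
    apply Subtype.ext
    show (cE E, algebraMap k K u * fE E) = (c, f)
    rw [hcE, hu, div_mul_cancel₀ _ (hfE0 E)]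
  have hcardΨ := Nat.card_congr (Equiv.ofBijective Ψ ⟨hΨinj, hΨsurj⟩)
  rw [Nat.card_prod, Nat.card_units] at hcardΨ
  -- count the target
  have hcardX : Nat.card {p : Pic0 k K × K // p.2 ∈ L (Dc p.1) ∧ p.2 ≠ 0} =
      ∑ c : Pic0 k K, (Nat.card k ^ ell (Dc c) - 1) := by
    rw [Nat.card_congr (Equiv.subtypeProdEquivSigmaSubtype
      (fun (c : Pic0 k K) (f : K) => f ∈ L (Dc c) ∧ f ≠ 0))]
    haveI : ∀ c : Pic0 k K, Finite {f : K // f ∈ L (Dc c) ∧ f ≠ 0} := by
      intro c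
      have hfd := L_finite hK (Dc c)
      haveI : Finite (L (Dc c)) := Module.finite_of_finite k
      exact Finite.of_injective (fun f : {f : K // f ∈ L (Dc c) ∧ f ≠ 0} =>
        (⟨f.1, f.2.1⟩ : L (Dc c))) (fun a b h => Subtype.ext (congrArg (fun v : L (Dc c) => (v : K)) h))
    rw [Nat.card_sigma]
    simp only [natCard_L_ne_zero hK]
  rw [hcardX] at hcardΨ
  have hq : 1 ≤ Nat.card k := Nat.card_pos
  have : ((Nat.card {D : Divisor k K // 0 ≤ D ∧ D.deg = n} * (Nat.card k - 1) : ℕ) : ℤ) =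
      ((∑ c : Pic0 k K, (Nat.card k ^ ell (Dc c) - 1) : ℕ) : ℤ) := by
    exact_mod_cast hcardΨ
  rw [Nat.cast_mul, Nat.cast_sub hq, Nat.cast_sum] at this
  have hterm : ∀ c : Pic0 k K, ((Nat.card k ^ ell (Dc c) - 1 : ℕ) : ℤ) =
      (Nat.card k : ℤ) ^ ell (Dc c) - 1 := by
    intro c
    rw [Nat.cast_sub (Nat.one_le_pow _ _ hq)]
    push_cast; rfl
  simp only [hterm] at this
  unfold effDivCount
  push_cast at this
  linarith



section SSum

variable [Finite k] [Fintype (Pic0 k K)]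

/-- `s_n = Σ_c q^{ℓ(n D₁ + rep c)}` -/
noncomputable def sSum (D₁ : Divisor k K) (rep : Pic0 k K → (degHom k K).ker) (n : ℤ) : ℚ :=
  ∑ c : Pic0 k K, (Nat.card k : ℚ) ^ ell (n • D₁ + (rep c : Divisor k K))

omit [Finite k] [Fintype (Pic0 k K)] in
lemma deg_nsmul_add_rep {D₁ : Divisor k K} (hD₁ : D₁.deg = 1) (rep : Pic0 k K → (degHom k K).ker)
    (n : ℤ) (c : Pic0 k K) : (n • D₁ + (rep c : Divisor k K)).deg = n := by
  rw [deg_add, deg_zsmul, hD₁, (mem_ker_degHom _).1 (rep c).2, mul_one, add_zero]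

omit [Finite k] in
lemma classNum_eq_card : (classNum k K : ℚ) = Fintype.card (Pic0 k K) := by
  unfold classNum
  rw [Nat.card_eq_fintype_card]

omit [Finite k] in
lemma sSum_of_neg (hK : IsFunctionField k K) {D₁ : Divisor k K} (hD₁ : D₁.deg = 1)
    (rep : Pic0 k K → (degHom k K).ker) {n : ℤ} (hn : n < 0) :
    sSum D₁ rep n = classNum k K := by
  unfold sSum
  rw [classNum_eq_card]
  have : ∀ c : Pic0 k K, (Nat.card k : ℚ) ^ ell (n • D₁ + (rep c : Divisor k K)) = 1 := by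
    intro c
    rw [ell_eq_zero_of_deg_neg hK _ (by rw [deg_nsmul_add_rep hD₁]; exact hn), pow_zero]
  simp only [this]
  rw [Finset.sum_const, Finset.card_univ, nsmul_eq_mul, mul_one]

omit [Finite k] in
lemma sSum_of_large (hK : IsFunctionField k K) {D₁ : Divisor k K} (hD₁ : D₁.deg = 1)
    (rep : Pic0 k K → (degHom k K).ker) {n : ℤ} (hn : 2 * (genus k K : ℤ) - 1 ≤ n) :
    sSum D₁ rep n = classNum k K * (Nat.card k : ℚ) ^ (n + 1 - genus k K) := by
  unfold sSum
  rw [classNum_eq_card]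
  have : ∀ c : Pic0 k K, (Nat.card k : ℚ) ^ ell (n • D₁ + (rep c : Divisor k K)) =
      (Nat.card k : ℚ) ^ (n + 1 - genus k K) := by
    intro c
    have h1 := ell_eq_of_deg_ge hK (n • D₁ + (rep c : Divisor k K))
      (by rw [deg_nsmul_add_rep hD₁]; exact hn)
    rw [deg_nsmul_add_rep hD₁] at h1
    rw [← h1, zpow_natCast]
  simp only [this]
  rw [Finset.sum_const, Finset.card_univ, nsmul_eq_mul]

lemma sSum_funeq (hK : IsFunctionField k K) {D₁ : Divisor k K} (hD₁ : D₁.deg = 1)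
    (rep : Pic0 k K → (degHom k K).ker)
    (hrep : ∀ c : Pic0 k K, (QuotientAddGroup.mk (rep c) : Pic0 k K) = c) (n : ℤ) :
    sSum D₁ rep n = (Nat.card k : ℚ) ^ (n + 1 - genus k K) *
      sSum D₁ rep (2 * (genus k K : ℤ) - 2 - n) := by
  classical
  obtain ⟨W, hW⟩ := exists_canonical hK
  have hWdeg := ((isCanonical_iff hK W).1 hW).2
  have hq0 : (Nat.card k : ℚ) ≠ 0 := by
    have : 0 < Nat.card k := Nat.card_pos
    exact_mod_cast this.ne'
  set g := genus k K with hg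
  -- the class of `W - (2g-2) D₁`
  let W₀ : (degHom k K).ker := ⟨W - (2 * (g : ℤ) - 2) • D₁, by
    rw [mem_ker_degHom, deg_sub, deg_zsmul, hD₁, hWdeg]; ring⟩
  let w₀ : Pic0 k K := QuotientAddGroup.mk W₀
  unfold sSum
  rw [Finset.mul_sum]
  rw [← Equiv.sum_comp (Equiv.subLeft w₀)
    (fun c => (Nat.card k : ℚ) ^ (n + 1 - (g : ℤ)) *
      (Nat.card k : ℚ) ^ ell ((2 * (g : ℤ) - 2 - n) • D₁ + (rep c : Divisor k K)))]
  refine Finset.sum_congr rfl (fun c _ => ?_)
  have hrr := riemann_roch hK hW (n • D₁ + (rep c : Divisor k K))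
  rw [deg_nsmul_add_rep hD₁] at hrr
  -- linear equivalence
  have hlin : ∃ z : K, z ≠ 0 ∧ W - (n • D₁ + (rep c : Divisor k K)) =
      (2 * (g : ℤ) - 2 - n) • D₁ + (rep (w₀ - c) : Divisor k K) + FunFld.div k z := by
    have h1 : (QuotientAddGroup.mk (rep (w₀ - c)) : Pic0 k K) =
        QuotientAddGroup.mk (W₀ - rep c) := by
      rw [hrep, QuotientAddGroup.mk_sub, hrep]
    rw [pic0_mk_eq_iff] at h1
    obtain ⟨z, hz0, hz⟩ := (mem_prinDivs_iff hK _).1 h1
    refine ⟨z, hz0, ?_⟩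
    rw [← hz]
    show W - (n • D₁ + (rep c : Divisor k K)) = (2 * (g : ℤ) - 2 - n) • D₁ +
      (rep (w₀ - c) : Divisor k K) +
        (((W - (2 * (g : ℤ) - 2) • D₁) - (rep c : Divisor k K)) - (rep (w₀ - c) : Divisor k K))
    rw [sub_smul, sub_smul]
    abel
  obtain ⟨z, hz0, hz⟩ := hlin
  have hell : ell (W - (n • D₁ + (rep c : Divisor k K))) =
      ell ((2 * (g : ℤ) - 2 - n) • D₁ + (rep (w₀ - c) : Divisor k K)) := by
    rw [hz, ell_add_div hK _ hz0]
  show (Nat.card k : ℚ) ^ ell (n • D₁ + (rep c : Divisor k K)) =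
    (Nat.card k : ℚ) ^ (n + 1 - (g : ℤ)) *
      (Nat.card k : ℚ) ^ ell ((2 * (g : ℤ) - 2 - n) • D₁ + (rep (w₀ - c) : Divisor k K))
  rw [← hell, ← zpow_natCast, ← zpow_natCast, ← zpow_add₀ hq0, hrr]

lemma count_eq_sSum (hK : IsFunctionField k K) {D₁ : Divisor k K} (hD₁ : D₁.deg = 1)
    (rep : Pic0 k K → (degHom k K).ker)
    (hrep : ∀ c : Pic0 k K, (QuotientAddGroup.mk (rep c) : Pic0 k K) = c) (n : ℕ) :
    ((Nat.card k : ℚ) - 1) * (effDivCount k K n : ℚ) = sSum D₁ rep n - classNum k K := by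
  have h1 := count_effective_gen hK n ((n : ℤ) • D₁) (by rw [deg_zsmul, hD₁, mul_one]) rep hrep
  have h2 : (((Nat.card k : ℤ) - 1) * (effDivCount k K n : ℤ) : ℚ) =
      ((∑ c : Pic0 k K, ((Nat.card k : ℤ) ^ ell ((n : ℤ) • D₁ + (rep c : Divisor k K)) - 1) : ℤ) : ℚ) := by
    exact_mod_cast h1
  push_cast at h2
  rw [h2, Finset.sum_sub_distrib, classNum_eq_card]
  unfold sSum
  simp

end SSum


section Coeff

/-- the number of effective divisors of degree `n`, extended by zero to negative `n` -/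
noncomputable def aZ (k K : Type*) [Field k] [Field K] [Algebra k K] (n : ℤ) : ℚ :=
  if 0 ≤ n then (effDivCount k K n.toNat : ℚ) else 0

lemma aZ_natCast (n : ℕ) : aZ k K (n : ℤ) = effDivCount k K n := by
  unfold aZ
  rw [if_pos (Int.natCast_nonneg n), Int.toNat_natCast]

lemma aZ_of_neg {n : ℤ} (hn : n < 0) : aZ k K n = 0 := by
  unfold aZ
  rw [if_neg (not_le.2 hn)]

lemma coeff_numerZ (m : ℕ) :
    ((PowerSeries.coeff m (numerZ k K) : ℤ) : ℚ) =
      aZ k K m - ((Nat.card k : ℚ) + 1) * aZ k K ((m : ℤ) - 1) +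
        (Nat.card k : ℚ) * aZ k K ((m : ℤ) - 2) := by
  have h1 : numerZ k K = zetaZ k K -
      PowerSeries.C ((Nat.card k : ℤ) + 1) * (PowerSeries.X ^ 1 * zetaZ k K) +
      PowerSeries.C (Nat.card k : ℤ) * (PowerSeries.X ^ 2 * zetaZ k K) := by
    unfold numerZ
    rw [map_add, map_one]
    ring
  rw [h1, map_add, map_sub, PowerSeries.coeff_C_mul, PowerSeries.coeff_C_mul,
    PowerSeries.coeff_X_pow_mul', PowerSeries.coeff_X_pow_mul']
  unfold zetaZ
  simp only [PowerSeries.coeff_mk]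
  push_cast
  have e1 : ((if 1 ≤ m then (effDivCount k K (m - 1) : ℤ) else 0 : ℤ) : ℚ) =
      aZ k K ((m : ℤ) - 1) := by
    split_ifs with h
    · have : ((m : ℤ) - 1) = ((m - 1 : ℕ) : ℤ) := by omega
      rw [this, aZ_natCast]; push_cast; rfl
    · rw [aZ_of_neg (by omega)]; rfl
  have e2 : ((if 2 ≤ m then (effDivCount k K (m - 2) : ℤ) else 0 : ℤ) : ℚ) =
      aZ k K ((m : ℤ) - 2) := by
    split_ifs with h
    · have : ((m : ℤ) - 2) = ((m - 2 : ℕ) : ℤ) := by omega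
      rw [this, aZ_natCast]; push_cast; rfl
    · rw [aZ_of_neg (by omega)]; rfl
  rw [aZ_natCast, ← e1, ← e2]
  push_cast
  ring

end Coeff


section Main

variable [Finite k] [Fintype (Pic0 k K)]

/-- the coefficients of the numerator, as rationals -/
noncomputable def cZ (k K : Type*) [Field k] [Field K] [Algebra k K] (m : ℤ) : ℚ :=
  aZ k K m - ((Nat.card k : ℚ) + 1) * aZ k K (m - 1) + (Nat.card k : ℚ) * aZ k K (m - 2)

lemma aZ_eq (hK : IsFunctionField k K) {D₁ : Divisor k K} (hD₁ : D₁.deg = 1)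
    (rep : Pic0 k K → (degHom k K).ker)
    (hrep : ∀ c : Pic0 k K, (QuotientAddGroup.mk (rep c) : Pic0 k K) = c) (n : ℤ) :
    ((Nat.card k : ℚ) - 1) * aZ k K n = sSum D₁ rep n - classNum k K := by
  rcases lt_or_ge n 0 with hn | hn
  · rw [aZ_of_neg hn, sSum_of_neg hK hD₁ rep hn, mul_zero, sub_self]
  · obtain ⟨m, rfl⟩ := Int.eq_ofNat_of_zero_le hn
    rw [aZ_natCast]
    exact count_eq_sSum hK hD₁ rep hrep m

lemma cZ_eq (hK : IsFunctionField k K) {D₁ : Divisor k K} (hD₁ : D₁.deg = 1)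
    (rep : Pic0 k K → (degHom k K).ker)
    (hrep : ∀ c : Pic0 k K, (QuotientAddGroup.mk (rep c) : Pic0 k K) = c) (m : ℤ) :
    ((Nat.card k : ℚ) - 1) * cZ k K m =
      sSum D₁ rep m - ((Nat.card k : ℚ) + 1) * sSum D₁ rep (m - 1) +
        (Nat.card k : ℚ) * sSum D₁ rep (m - 2) := by
  unfold cZ
  have h0 := aZ_eq hK hD₁ rep hrep m
  have h1 := aZ_eq hK hD₁ rep hrep (m - 1)
  have h2 := aZ_eq hK hD₁ rep hrep (m - 2)
  linear_combination h0 - ((Nat.card k : ℚ) + 1) * h1 + (Nat.card k : ℚ) * h2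

lemma card_sub_one_ne_zero : (Nat.card k : ℚ) - 1 ≠ 0 := by
  have : 2 ≤ Nat.card k := Finite.one_lt_card
  have h : (2 : ℚ) ≤ (Nat.card k : ℚ) := by exact_mod_cast this
  intro h0
  linarith

lemma card_ne_zero' : (Nat.card k : ℚ) ≠ 0 := by
  have : 0 < Nat.card k := Nat.card_pos
  exact_mod_cast this.ne'

/-- vanishing of high coefficients -/
lemma cZ_eq_zero (hK : IsFunctionField k K) {D₁ : Divisor k K} (hD₁ : D₁.deg = 1)
    (rep : Pic0 k K → (degHom k K).ker)
    (hrep : ∀ c : Pic0 k K, (QuotientAddGroup.mk (rep c) : Pic0 k K) = c) {m : ℤ}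
    (hm : 2 * (genus k K : ℤ) + 1 ≤ m) : cZ k K m = 0 := by
  have h1 := cZ_eq hK hD₁ rep hrep m
  rw [sSum_of_large hK hD₁ rep (n := m) (by omega),
    sSum_of_large hK hD₁ rep (n := m - 1) (by omega),
    sSum_of_large hK hD₁ rep (n := m - 2) (by omega)] at h1
  have hq0 := card_ne_zero' (k := k)
  have e1 : (Nat.card k : ℚ) ^ (m + 1 - (genus k K : ℤ)) =
      (Nat.card k : ℚ) ^ (m - 2 + 1 - (genus k K : ℤ)) * (Nat.card k : ℚ) ^ 2 := by
    rw [← zpow_natCast, ← zpow_add₀ hq0]; congr 1; push_cast; ring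
  have e2 : (Nat.card k : ℚ) ^ (m - 1 + 1 - (genus k K : ℤ)) =
      (Nat.card k : ℚ) ^ (m - 2 + 1 - (genus k K : ℤ)) * (Nat.card k : ℚ) := by
    rw [← zpow_add_one₀ hq0]; congr 1; ring
  rw [e1, e2] at h1
  have h2 : ((Nat.card k : ℚ) - 1) * cZ k K m = 0 := by rw [h1]; ring
  exact (mul_eq_zero.1 h2).resolve_left card_sub_one_ne_zero

/-- the functional equation -/
lemma cZ_funeq (hK : IsFunctionField k K) {D₁ : Divisor k K} (hD₁ : D₁.deg = 1)
    (rep : Pic0 k K → (degHom k K).ker)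
    (hrep : ∀ c : Pic0 k K, (QuotientAddGroup.mk (rep c) : Pic0 k K) = c) (i : ℤ) :
    cZ k K (2 * (genus k K : ℤ) - i) =
      (Nat.card k : ℚ) ^ ((genus k K : ℤ) - i) * cZ k K i := by
  set g : ℤ := (genus k K : ℤ) with hg
  set q : ℚ := (Nat.card k : ℚ) with hq
  have hq0 : q ≠ 0 := card_ne_zero' (k := k)
  have h1 := cZ_eq hK hD₁ rep hrep (2 * g - i)
  have h2 := cZ_eq hK hD₁ rep hrep i
  have f0 := sSum_funeq hK hD₁ rep hrep (2 * g - i)
  have f1 := sSum_funeq hK hD₁ rep hrep (2 * g - i - 1)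
  have f2 := sSum_funeq hK hD₁ rep hrep (2 * g - i - 2)
  have i0 : 2 * g - 2 - (2 * g - i) = i - 2 := by ring
  have i1 : 2 * g - 2 - (2 * g - i - 1) = i - 1 := by ring
  have i2 : 2 * g - 2 - (2 * g - i - 2) = i := by ring
  rw [← hg, ← hq, i0] at f0
  rw [← hg, ← hq, i1] at f1
  rw [← hg, ← hq, i2] at f2
  have e0 : q ^ (2 * g - i + 1 - g) = q ^ (g - i) * q := by
    rw [← zpow_add_one₀ hq0]; congr 1; ring
  have e1 : q ^ (2 * g - i - 1 + 1 - g) = q ^ (g - i) := by congr 1; ring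
  have e2 : q ^ (2 * g - i - 2 + 1 - g) * q = q ^ (g - i) := by
    rw [← zpow_add_one₀ hq0]; congr 1; ring
  rw [e0] at f0
  rw [e1] at f1
  have h3 : (q - 1) * cZ k K (2 * g - i) = (q - 1) * (q ^ (g - i) * cZ k K i) := by
    rw [h1, f0, f1]
    have : q * sSum D₁ rep (2 * g - i - 2) = q ^ (g - i) * sSum D₁ rep i := by
      rw [f2, ← e2]; ring
    rw [this]
    have h2' : q ^ (g - i) * ((q - 1) * cZ k K i) = q ^ (g - i) *
        (sSum D₁ rep i - (q + 1) * sSum D₁ rep (i - 1) + q * sSum D₁ rep (i - 2)) := by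
      rw [h2]
    linear_combination (-1 : ℚ) * h2'
  exact mul_left_cancel₀ card_sub_one_ne_zero h3

omit [Finite k] [Fintype (Pic0 k K)] in
/-- partial sums of the coefficients -/
lemma sum_cZ (M : ℕ) :
    ∑ m ∈ Finset.range (M + 1), cZ k K (m : ℤ) =
      aZ k K M - (Nat.card k : ℚ) * aZ k K ((M : ℤ) - 1) := by
  induction M with
  | zero =>
    rw [Finset.sum_range_one]
    unfold cZ
    rw [aZ_of_neg (n := ((0 : ℕ) : ℤ) - 1) (by norm_num),
      aZ_of_neg (n := ((0 : ℕ) : ℤ) - 2) (by norm_num)]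
    ring
  | succ M ih =>
    rw [Finset.sum_range_succ, ih]
    unfold cZ
    have e1 : ((M + 1 : ℕ) : ℤ) - 1 = (M : ℤ) := by push_cast; ring
    have e2 : ((M + 1 : ℕ) : ℤ) - 2 = (M : ℤ) - 1 := by push_cast; ring
    rw [e1, e2]
    ring

lemma sum_cZ_eq_classNum (hK : IsFunctionField k K) {D₁ : Divisor k K} (hD₁ : D₁.deg = 1)
    (rep : Pic0 k K → (degHom k K).ker)
    (hrep : ∀ c : Pic0 k K, (QuotientAddGroup.mk (rep c) : Pic0 k K) = c) :
    ∑ m ∈ Finset.range (2 * genus k K + 1 + 1), cZ k K (m : ℤ) = classNum k K := by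
  rw [sum_cZ]
  set g : ℤ := (genus k K : ℤ) with hg
  set q : ℚ := (Nat.card k : ℚ) with hq
  have hq0 : q ≠ 0 := card_ne_zero' (k := k)
  have h1 := aZ_eq hK hD₁ rep hrep ((2 * genus k K + 1 : ℕ) : ℤ)
  have h2 := aZ_eq hK hD₁ rep hrep (((2 * genus k K + 1 : ℕ) : ℤ) - 1)
  rw [sSum_of_large hK hD₁ rep (by push_cast; omega)] at h1 h2
  have e1 : q ^ (((2 * genus k K + 1 : ℕ) : ℤ) + 1 - g) =
      q ^ (((2 * genus k K + 1 : ℕ) : ℤ) - 1 + 1 - g) * q := by
    rw [← zpow_add_one₀ hq0]; congr 1; ring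
  rw [← hq, ← hg, e1] at h1
  rw [← hq, ← hg] at h2
  have h3 : (q - 1) * (aZ k K ((2 * genus k K + 1 : ℕ) : ℤ) -
      q * aZ k K (((2 * genus k K + 1 : ℕ) : ℤ) - 1)) = (q - 1) * classNum k K := by
    linear_combination h1 - q * h2
  exact mul_left_cancel₀ card_sub_one_ne_zero h3

end Main


section Final

variable [Finite k]

omit [Finite k] in
lemma coeff_numerZ_cast (m : ℕ) :
    ((PowerSeries.coeff m (numerZ k K) : ℤ) : ℚ) = cZ k K (m : ℤ) := coeff_numerZ m

omit [Finite k] in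
lemma effDivCount_zero (hK : IsFunctionField k K) : effDivCount k K 0 = 1 := by
  unfold effDivCount
  have : Unique {D : Divisor k K // 0 ≤ D ∧ D.deg = ((0 : ℕ) : ℤ)} :=
    { default := ⟨0, le_rfl, by rw [deg_zero]; rfl⟩
      uniq := fun D => Subtype.ext (eq_zero_of_nonneg_of_deg_eq_zero hK D.2.1
        (by rw [D.2.2]; rfl)) }
  exact Nat.card_unique

omit [Finite k] in
lemma cZ_zero (hK : IsFunctionField k K) : cZ k K 0 = 1 := by
  unfold cZ
  rw [aZ_of_neg (n := (0 : ℤ) - 1) (by norm_num), aZ_of_neg (n := (0 : ℤ) - 2) (by norm_num)]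
  have : aZ k K 0 = effDivCount k K 0 := aZ_natCast 0
  rw [this, effDivCount_zero hK]
  norm_num

theorem coeff_numerZ_eq_zero (hK : IsFunctionField k K) {m : ℕ} (hm : 2 * genus k K < m) :
    PowerSeries.coeff m (numerZ k K) = 0 := by
  classical
  haveI := finite_pic0 (k := k) (K := K) hK
  letI : Fintype (Pic0 k K) := Fintype.ofFinite _
  obtain ⟨D₁, hD₁⟩ := deg_surjective_finite hK 1
  have h1 := cZ_eq_zero hK hD₁ (fun c => Quotient.out c) (fun c => Quotient.out_eq c)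
    (m := (m : ℤ)) (by omega)
  rw [← coeff_numerZ_cast] at h1
  exact_mod_cast h1

theorem coeff_numerZ_funeq (hK : IsFunctionField k K) (i : ℕ) (hi : i ≤ 2 * genus k K) :
    ((PowerSeries.coeff (2 * genus k K - i) (numerZ k K) : ℤ) : ℚ) =
      (Nat.card k : ℚ) ^ ((genus k K : ℤ) - i) *
        ((PowerSeries.coeff i (numerZ k K) : ℤ) : ℚ) := by
  classical
  haveI := finite_pic0 (k := k) (K := K) hK
  letI : Fintype (Pic0 k K) := Fintype.ofFinite _
  obtain ⟨D₁, hD₁⟩ := deg_surjective_finite hK 1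
  have h1 := cZ_funeq hK hD₁ (fun c => Quotient.out c) (fun c => Quotient.out_eq c) (i : ℤ)
  rw [coeff_numerZ_cast, coeff_numerZ_cast]
  have : ((2 * genus k K - i : ℕ) : ℤ) = 2 * (genus k K : ℤ) - i := by omega
  rw [this]
  exact h1

theorem coeff_numerZ_top (hK : IsFunctionField k K) :
    ((PowerSeries.coeff (2 * genus k K) (numerZ k K) : ℤ) : ℚ) =
      (Nat.card k : ℚ) ^ genus k K := by
  have h1 := coeff_numerZ_funeq hK 0 (Nat.zero_le _)
  rw [Nat.sub_zero, coeff_numerZ_cast 0] at h1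
  rw [h1]
  have : cZ k K ((0 : ℕ) : ℤ) = 1 := cZ_zero hK
  rw [this, mul_one, Nat.cast_zero, sub_zero, zpow_natCast]

theorem exists_polynomial_numerZ (hK : IsFunctionField k K) :
    ∃ p : Polynomial ℤ, (p : PowerSeries ℤ) = numerZ k K ∧ p.natDegree ≤ 2 * genus k K := by
  refine ⟨PowerSeries.trunc (2 * genus k K + 1) (numerZ k K), ?_, ?_⟩
  · ext m
    rw [Polynomial.coeff_coe, PowerSeries.coeff_trunc]
    split_ifs with h
    · rfl
    · exact (coeff_numerZ_eq_zero hK (by omega)).symm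
  · rw [Polynomial.natDegree_le_iff_coeff_eq_zero]
    intro m hm
    rw [PowerSeries.coeff_trunc, if_neg (by omega)]

theorem numerZ_eval_one (hK : IsFunctionField k K) (p : Polynomial ℤ)
    (hp : (p : PowerSeries ℤ) = numerZ k K) : p.eval 1 = (classNum k K : ℤ) := by
  classical
  haveI := finite_pic0 (k := k) (K := K) hK
  letI : Fintype (Pic0 k K) := Fintype.ofFinite _
  obtain ⟨D₁, hD₁⟩ := deg_surjective_finite hK 1
  have hcoef : ∀ m : ℕ, p.coeff m = PowerSeries.coeff m (numerZ k K) := by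
    intro m; rw [← hp, Polynomial.coeff_coe]
  have hdeg : p.natDegree < 2 * genus k K + 1 + 1 := by
    have : p.natDegree ≤ 2 * genus k K := by
      rw [Polynomial.natDegree_le_iff_coeff_eq_zero]
      intro m hm
      rw [hcoef]; exact coeff_numerZ_eq_zero hK hm
    omega
  rw [Polynomial.eval_eq_sum_range' hdeg]
  have h1 := sum_cZ_eq_classNum hK hD₁ (fun c => Quotient.out c) (fun c => Quotient.out_eq c)
  have h2 : ((∑ i ∈ Finset.range (2 * genus k K + 1 + 1), p.coeff i * 1 ^ i : ℤ) : ℚ) =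
      (classNum k K : ℚ) := by
    rw [← h1]
    push_cast
    refine Finset.sum_congr rfl (fun m _ => ?_)
    rw [one_pow, mul_one, hcoef, coeff_numerZ_cast]
  exact_mod_cast h2

end Final

end ZetaGen

end Groth.Agent.Helper17.FF
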