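import Mathlib
import Groth.Agent.Lib.Helper17.FFZ3
namespace Groth.Agent.Helper17.FF

universe u v w


open FunFld Polynomial Module

section Recip

variable {F : Type*} [Field F]

/-- `t^N P(q/t)` as a polynomial -/
noncomputable def recipOp (q : F) (N : ℕ) (P : F[X]) : F[X] := reflect N (P.comp (C q * X))

lemma natDegree_comp_C_mul_X_le (q : F) (P : F[X]) : (P.comp (C q * X)).natDegree ≤ P.natDegree := by
  refine natDegree_comp_le.trans ?_
  calc P.natDegree * (C q * X).natDegree ≤ P.natDegree * 1 :=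
        Nat.mul_le_mul_left _ ((natDegree_C_mul_le q X).trans natDegree_X_le)
    _ = P.natDegree := mul_one _

lemma recipOp_mul (q : F) {N M : ℕ} {P Q : F[X]} (hP : P.natDegree ≤ N) (hQ : Q.natDegree ≤ M) :
    recipOp q (N + M) (P * Q) = recipOp q N P * recipOp q M Q := by
  unfold recipOp
  rw [mul_comp, reflect_mul _ _ ((natDegree_comp_C_mul_X_le q P).trans hP)
    ((natDegree_comp_C_mul_X_le q Q).trans hQ)]

lemma recipOp_coeff (q : F) (N : ℕ) (P : F[X]) {j : ℕ} (hj : j ≤ N) :
    (recipOp q N P).coeff j = P.coeff (N - j) * q ^ (N - j) := by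
  unfold recipOp
  rw [coeff_reflect, revAt_le hj, comp_C_mul_X_coeff]

lemma recipOp_coeff_of_lt (q : F) (N : ℕ) (P : F[X]) {j : ℕ} (hj : N < j) :
    (recipOp q N P).coeff j = P.coeff j * q ^ j := by
  unfold recipOp
  rw [coeff_reflect, revAt_eq_self_of_lt hj, comp_C_mul_X_coeff]

lemma recipOp_eval (q : F) (N : ℕ) (P : F[X]) (hP : P.natDegree ≤ N) {t : F} (ht : t ≠ 0) :
    (recipOp q N P).eval t = t ^ N * P.eval (q / t) := by
  unfold recipOp
  have ht' : t⁻¹ ≠ 0 := inv_ne_zero ht
  letI : Invertible (t⁻¹) := invertibleOfNonzero ht'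
  have h1 := eval₂_reflect_mul_pow (RingHom.id F) (t⁻¹) N (P.comp (C q * X))
    ((natDegree_comp_C_mul_X_le q P).trans hP)
  rw [invOf_eq_inv, inv_inv] at h1
  have h2 : eval t (reflect N (P.comp (C q * X))) * (t⁻¹) ^ N = eval t⁻¹ (P.comp (C q * X)) := h1
  have h3 : eval t⁻¹ (P.comp (C q * X)) = eval (q / t) P := by
    rw [eval_comp, eval_mul, eval_C, eval_X, div_eq_mul_inv]
  rw [h3] at h2
  rw [← h2, mul_comm (eval t _) _, ← mul_assoc, ← mul_pow, mul_inv_cancel₀ ht, one_pow, one_mul]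

lemma recipOp_X_sub_C (q a : F) : recipOp q 1 (X - C a) = C q - C a * X := by
  unfold recipOp
  rw [sub_comp, X_comp, C_comp, reflect_sub, reflect_C, pow_one]
  congr 1
  have := reflect_C_mul_X_pow (R := F) 1 1 (c := q)
  rw [pow_one] at this
  rw [this, revAt_le le_rfl]
  simp

lemma recipOp_C_mul (q : F) (N : ℕ) (c : F) (P : F[X]) :
    recipOp q N (C c * P) = C c * recipOp q N P := by
  unfold recipOp
  rw [mul_comp, C_comp, reflect_C_mul]


lemma eval_eq_zero_of_fixed [CharZero F] {q s : F} (hs : s * s = q) (hs0 : s ≠ 0) {n : ℕ}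
    {P₀ : F[X]} (hdeg : P₀.natDegree ≤ 2 * n + 1)
    (h : recipOp q (1 + (2 * n + 1)) ((X - C s) * P₀) = C (q ^ (n + 1)) * ((X - C s) * P₀)) :
    P₀.eval s = 0 := by
  rw [recipOp_mul q (natDegree_X_sub_C_le s) hdeg, recipOp_X_sub_C] at h
  have h1 : C q - C s * X = -C s * (X - C s) := by
    rw [← hs, C_mul]; ring
  rw [h1] at h
  have h2 : (X - C s) * (-C s * recipOp q (2 * n + 1) P₀ - C (q ^ (n + 1)) * P₀) = 0 := by
    linear_combination h
  have h3 : -C s * recipOp q (2 * n + 1) P₀ - C (q ^ (n + 1)) * P₀ = 0 :=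
    (mul_eq_zero.1 h2).resolve_left (X_sub_C_ne_zero s)
  have h4 := congrArg (eval s) h3
  rw [eval_sub, eval_mul, eval_neg, eval_C, eval_mul, eval_C, eval_zero,
    recipOp_eval q _ _ hdeg hs0] at h4
  have h5 : q / s = s := by rw [← hs]; field_simp
  rw [h5, ← hs] at h4
  have h6 : (2 : F) * (s ^ (2 * n + 2)) * eval s P₀ = 0 := by
    have : (s * s) ^ (n + 1) = s ^ (2 * n + 2) := by
      rw [← pow_two, ← pow_mul, show 2 * (n + 1) = 2 * n + 2 from by ring]
    rw [this] at h4
    have e : s * s ^ (2 * n + 1) = s ^ (2 * n + 2) := (pow_succ' s (2 * n + 1)).symm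
    linear_combination (-1 : F) * h4 - eval s P₀ * e
  rcases mul_eq_zero.1 h6 with h7 | h7
  · rcases mul_eq_zero.1 h7 with h8 | h8
    · exact absurd h8 two_ne_zero
    · exact absurd h8 (pow_ne_zero _ hs0)
  · exact h7

theorem exists_pairs [IsAlgClosed F] [CharZero F] (q : F) (hq : q ≠ 0) :
    ∀ (n : ℕ) (P : F[X]), P.Monic → P.natDegree = 2 * n → recipOp q (2 * n) P = C (q ^ n) * P →
      ∃ A : Multiset F, A.card = n ∧ (∀ a ∈ A, a ≠ 0) ∧
        P = (A.map fun a => (X - C a) * (X - C (q / a))).prod := by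
  intro n
  induction n with
  | zero =>
    intro P hPm hdeg _
    refine ⟨0, rfl, fun a ha => absurd ha (Multiset.notMem_zero a), ?_⟩
    rw [Multiset.map_zero, Multiset.prod_zero]
    exact eq_one_of_monic_natDegree_zero hPm hdeg
  | succ n ih =>
    intro P hPm hdeg hrec
    have hdeg' : P.natDegree = 2 * n + 2 := by rw [hdeg]; ring
    have hP0 : P ≠ 0 := hPm.ne_zero
    -- a root
    obtain ⟨a, ha⟩ := IsAlgClosed.exists_root P (by
      rw [degree_eq_natDegree hP0, hdeg']
      intro h0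
      have : ((2 * n + 2 : ℕ) : WithBot ℕ) = ((0 : ℕ) : WithBot ℕ) := h0
      rw [Nat.cast_inj] at this
      omega)
    -- the constant coefficient is nonzero
    have hc0 : P.coeff 0 ≠ 0 := by
      have h1 := congrArg (fun p => p.coeff (2 * (n + 1))) hrec
      simp only [recipOp_coeff q _ P le_rfl, Nat.sub_self, pow_zero, mul_one, coeff_C_mul] at h1
      rw [h1, ← hdeg, hPm.coeff_natDegree, mul_one]
      exact pow_ne_zero _ hq
    have ha0 : a ≠ 0 := by
      rintro rfl
      rw [IsRoot, ← coeff_zero_eq_eval_zero] at ha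
      exact hc0 ha
    set b := q / a with hb
    have hab : a * b = q := by rw [hb]; field_simp
    have hb0 : b ≠ 0 := div_ne_zero hq ha0
    -- `b` is a root
    have hbroot : P.eval b = 0 := by
      have h1 := congrArg (eval a) hrec
      rw [recipOp_eval q _ P hdeg.le ha0, eval_mul, eval_C, ha, mul_zero] at h1
      exact (mul_eq_zero.1 h1).resolve_left (pow_ne_zero _ ha0)
    obtain ⟨P₀, hP₀⟩ := dvd_iff_isRoot.2 ha
    have hP₀0 : P₀ ≠ 0 := by rintro rfl; rw [mul_zero] at hP₀; exact hP0 hP₀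
    have hdeg₀ : P₀.natDegree = 2 * n + 1 := by
      have := natDegree_mul (X_sub_C_ne_zero a) hP₀0
      rw [← hP₀, hdeg', natDegree_X_sub_C] at this
      omega
    have hb₀ : P₀.eval b = 0 := by
      by_cases hba : b = a
      · rw [hba]
        have hs : a * a = q := by rw [← hab, hba]
        refine eval_eq_zero_of_fixed hs ha0 hdeg₀.le ?_
        rw [← hP₀]
        have : 1 + (2 * n + 1) = 2 * (n + 1) := by ring
        rw [this]
        exact hrec
      · have h1 : P.eval b = (b - a) * P₀.eval b := by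
          rw [hP₀, eval_mul, eval_sub, eval_X, eval_C]
        rw [h1] at hbroot
        exact (mul_eq_zero.1 hbroot).resolve_left (sub_ne_zero.2 hba)
    obtain ⟨P₁, hP₁⟩ := dvd_iff_isRoot.2 hb₀
    have hP₁0 : P₁ ≠ 0 := by rintro rfl; rw [mul_zero] at hP₁; exact hP₀0 hP₁
    have hdeg₁ : P₁.natDegree = 2 * n := by
      have := natDegree_mul (X_sub_C_ne_zero b) hP₁0
      rw [← hP₁, hdeg₀, natDegree_X_sub_C] at this
      omega
    set Q := (X - C a) * (X - C b) with hQ
    have hPQ : P = Q * P₁ := by rw [hP₀, hP₁, hQ, mul_assoc]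
    have hQm : Q.Monic := (monic_X_sub_C a).mul (monic_X_sub_C b)
    have hP₁m : P₁.Monic := hQm.of_mul_monic_left (hPQ ▸ hPm)
    have hQdeg : Q.natDegree ≤ 2 := by
      rw [hQ]
      refine natDegree_mul_le.trans ?_
      rw [natDegree_X_sub_C, natDegree_X_sub_C]
    have hQrec : recipOp q (1 + 1) Q = C q * Q := by
      rw [hQ, recipOp_mul q (natDegree_X_sub_C_le a) (natDegree_X_sub_C_le b), recipOp_X_sub_C,
        recipOp_X_sub_C, ← hab, C_mul]
      ring
    have hrec₁ : recipOp q (2 * n) P₁ = C (q ^ n) * P₁ := by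
      have h1 : recipOp q (2 + 2 * n) (Q * P₁) = recipOp q 2 Q * recipOp q (2 * n) P₁ :=
        recipOp_mul q hQdeg hdeg₁.le
      have e : 2 + 2 * n = 2 * (n + 1) := by ring
      rw [e, ← hPQ, hrec, hPQ] at h1
      have hQrec' : recipOp q 2 Q = C q * Q := hQrec
      rw [hQrec', pow_succ, C_mul] at h1
      have h2 : (C q * Q) * (recipOp q (2 * n) P₁ - C (q ^ n) * P₁) = 0 := by
        linear_combination -h1
      have hCQ : C q * Q ≠ 0 := mul_ne_zero (C_ne_zero.2 hq) hQm.ne_zero
      exact sub_eq_zero.1 ((mul_eq_zero.1 h2).resolve_left hCQ)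
    obtain ⟨A₁, hcard, hne, hprod⟩ := ih P₁ hP₁m hdeg₁ hrec₁
    refine ⟨a ::ₘ A₁, by rw [Multiset.card_cons, hcard], ?_, ?_⟩
    · intro x hx
      rcases Multiset.mem_cons.1 hx with rfl | hx
      · exact ha0
      · exact hne x hx
    · rw [Multiset.map_cons, Multiset.prod_cons, ← hprod, hPQ]

end Recip

section Alpha

variable {F : Type*} [Field F]

lemma natDegree_prod_X_sub_C_le (m : ℕ) (α : Fin m → F) :
    (∏ i, (X - C (α i))).natDegree ≤ m := by
  refine (natDegree_prod_le _ _).trans (le_of_eq ?_)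
  rw [Finset.sum_congr rfl (fun i _ => natDegree_X_sub_C (α i))]
  simp

lemma reflect_prod_X_sub_C (m : ℕ) (α : Fin m → F) :
    reflect m (∏ i, (X - C (α i))) = ∏ i, (1 - C (α i) * X) := by
  induction m with
  | zero => simp
  | succ m ih =>
    rw [Fin.prod_univ_succ, Fin.prod_univ_succ]
    have h1 := reflect_mul (X - C (α 0)) (∏ i : Fin m, (X - C (α i.succ)))
      (natDegree_X_sub_C_le _) (natDegree_prod_X_sub_C_le m _)
    rw [add_comm 1 m] at h1
    rw [h1, ih]
    congr 1
    rw [reflect_sub, reflect_one_X, reflect_C, pow_one]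

end Alpha

section AlphaC

variable {k K : Type*} [Field k] [Field K] [Algebra k K] [Finite k]

/-- the integral form of the functional equation -/
lemma coeff_numerZ_funeq_int (hK : IsFunctionField k K) (j : ℕ) (hj : j ≤ 2 * genus k K) :
    (Nat.card k : ℤ) ^ j * PowerSeries.coeff (2 * genus k K - j) (numerZ k K) =
      (Nat.card k : ℤ) ^ genus k K * PowerSeries.coeff j (numerZ k K) := by
  have h1 := coeff_numerZ_funeq hK j hj
  have hq0 : (Nat.card k : ℚ) ≠ 0 := card_ne_zero' (k := k)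
  have h2 : ((Nat.card k : ℤ) ^ j * PowerSeries.coeff (2 * genus k K - j) (numerZ k K) : ℚ) =
      ((Nat.card k : ℤ) ^ genus k K * PowerSeries.coeff j (numerZ k K) : ℚ) := by
    rw [h1]
    push_cast
    rw [← mul_assoc, ← zpow_natCast, ← zpow_add₀ hq0, ← zpow_natCast]
    congr 2
    ring
  exact_mod_cast h2

theorem exists_alpha (hK : IsFunctionField k K) :
    ∃ α : Fin (2 * genus k K) → ℂ, (∀ i, IsIntegral ℤ (α i)) ∧
      PowerSeries.map (Int.castRingHom ℂ) (numerZ k K) =
        ((∏ i, (1 - Polynomial.C (α i) * Polynomial.X) : Polynomial ℂ) : PowerSeries ℂ) ∧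
      ∀ i, α i * α (Fin.rev i) = (Nat.card k : ℂ) := by
  classical
  set g := genus k K with hg
  set q : ℂ := (Nat.card k : ℂ) with hq
  have hq0 : q ≠ 0 := by
    have : 0 < Nat.card k := Nat.card_pos
    rw [hq]; exact_mod_cast this.ne'
  obtain ⟨p, hp, hpdeg⟩ := exists_polynomial_numerZ hK
  have hcoef : ∀ m : ℕ, p.coeff m = PowerSeries.coeff m (numerZ k K) := by
    intro m; rw [← hp, Polynomial.coeff_coe]
  have hc0 : p.coeff 0 = 1 := by
    have h1 := coeff_numerZ_cast (k := k) (K := K) 0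
    have h2 : cZ k K ((0 : ℕ) : ℤ) = 1 := cZ_zero hK
    rw [h2] at h1
    rw [hcoef]
    exact_mod_cast h1
  -- the reciprocal polynomial
  set R : ℤ[X] := reflect (2 * g) p with hR
  have hRcoef : ∀ j ≤ 2 * g, R.coeff j = p.coeff (2 * g - j) := by
    intro j hj; rw [hR, coeff_reflect, revAt_le hj]
  have hRdeg : R.natDegree ≤ 2 * g := by
    rw [hR]
    refine natDegree_reflect_le.trans ?_
    rw [max_eq_left hpdeg]
  have hRm : R.Monic := monic_of_natDegree_le_of_coeff_eq_one (2 * g) hRdeg (by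
    rw [hRcoef _ le_rfl, Nat.sub_self, hc0])
  have hRdeg' : R.natDegree = 2 * g := by
    refine le_antisymm hRdeg (le_natDegree_of_ne_zero ?_)
    rw [hRcoef _ le_rfl, Nat.sub_self, hc0]; exact one_ne_zero
  set P : ℂ[X] := R.map (Int.castRingHom ℂ) with hP
  have hPm : P.Monic := hRm.map _
  have hPdeg : P.natDegree = 2 * g := by rw [hP, hRm.natDegree_map, hRdeg']
  have hPcoef : ∀ j ≤ 2 * g, P.coeff j = ((p.coeff (2 * g - j) : ℤ) : ℂ) := by
    intro j hj
    rw [hP, coeff_map, hRcoef j hj]; rfl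
  have hrec : recipOp q (2 * g) P = C (q ^ g) * P := by
    ext j
    rw [coeff_C_mul]
    by_cases hj : j ≤ 2 * g
    · rw [recipOp_coeff q _ P hj, hPcoef _ (Nat.sub_le _ _), hPcoef j hj,
        Nat.sub_sub_self hj]
      have h1 := coeff_numerZ_funeq_int hK (2 * g - j) (Nat.sub_le _ _)
      rw [Nat.sub_sub_self hj, ← hcoef, ← hcoef] at h1
      have h2 : (((Nat.card k : ℤ) ^ (2 * g - j) * p.coeff j : ℤ) : ℂ) =
          (((Nat.card k : ℤ) ^ g * p.coeff (2 * g - j) : ℤ) : ℂ) := by rw [h1]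
      push_cast at h2
      rw [hq, mul_comm, h2]
    · push Not at hj
      rw [recipOp_coeff_of_lt q _ P hj, coeff_eq_zero_of_natDegree_lt (by rw [hPdeg]; exact hj),
        zero_mul, mul_zero]
  obtain ⟨A, hAcard, hAne, hAprod⟩ := exists_pairs q hq0 g P hPm hPdeg hrec
  -- ordering
  set l := A.toList with hl
  have hlen : l.length = g := by rw [hl, Multiset.length_toList, hAcard]
  have hlprod : P = (l.map fun a => (X - C a) * (X - C (q / a))).prod := by
    rw [hAprod]
    conv_lhs => rw [← Multiset.coe_toList A]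
    rw [Multiset.map_coe, Multiset.prod_coe]
  have hlne : ∀ a ∈ l, a ≠ 0 := fun a ha => hAne a (Multiset.mem_toList.1 ha)
  let u : Fin g → ℂ := fun i => l.get (i.cast hlen.symm)
  have hune : ∀ i, u i ≠ 0 := fun i => hlne _ (List.get_mem _ _)
  have hPu : P = ∏ i : Fin g, ((X - C (u i)) * (X - C (q / u i))) := by
    rw [hlprod]
    conv_lhs => rw [← List.ofFn_get l]
    rw [List.map_ofFn, List.prod_ofFn]
    refine (Fintype.prod_equiv (finCongr hlen.symm) _ _ (fun i => ?_)).symm
    rfl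
  -- the function on `Fin (2g)`
  let β : ℕ → ℂ := fun i => if h : i < g then u ⟨i, h⟩ else
    if h2 : 2 * g - 1 - i < g then q / u ⟨2 * g - 1 - i, h2⟩ else 0
  let α : Fin (2 * g) → ℂ := fun i => β i
  have hβ1 : ∀ i (h : i < g), β i = u ⟨i, h⟩ := fun i h => by
    show (if h : i < g then u ⟨i, h⟩ else _) = _
    rw [dif_pos h]
  have hβ2 : ∀ i (h : i < g), β (g + i) = q / u ⟨g - 1 - i, by omega⟩ := fun i h => by
    show (if h : g + i < g then u ⟨g + i, h⟩ else _) = _
    rw [dif_neg (by omega)]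
    have h2 : 2 * g - 1 - (g + i) < g := by omega
    rw [dif_pos h2]
    congr 2
    apply Fin.ext
    show 2 * g - 1 - (g + i) = g - 1 - i
    omega
  have hprodα : ∏ i : Fin (2 * g), (X - C (α i)) = P := by
    rw [hPu]
    have h1 : ∏ i : Fin (2 * g), (X - C (α i)) = ∏ i ∈ Finset.range (2 * g), (X - C (β i)) :=
      Fin.prod_univ_eq_prod_range (fun i => X - C (β i)) (2 * g)
    rw [h1, two_mul, Finset.prod_range_add, Finset.prod_mul_distrib]
    congr 1
    · rw [← Fin.prod_univ_eq_prod_range (fun i => X - C (β i)) g]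
      refine Finset.prod_congr rfl (fun i _ => ?_)
      rw [hβ1 i i.2]
    · rw [← Finset.prod_range_reflect, ← Fin.prod_univ_eq_prod_range
        (fun i => X - C (β (g + (g - 1 - i)))) g]
      refine Finset.prod_congr rfl (fun i _ => ?_)
      rw [hβ2 (g - 1 - i) (by have := i.2; omega)]
      congr 4
      apply Fin.ext
      show g - 1 - (g - 1 - (i : ℕ)) = i
      have := i.2
      omega
  refine ⟨α, ?_, ?_, ?_⟩
  · intro i
    refine ⟨R, hRm, ?_⟩
    have h1 : P.eval (α i) = 0 := by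
      rw [← hprodα, eval_prod]
      exact Finset.prod_eq_zero (Finset.mem_univ i) (by rw [eval_sub, eval_X, eval_C, sub_self])
    rw [hP, eval_map] at h1
    exact h1
  · have h1 : p.map (Int.castRingHom ℂ) = reflect (2 * g) P := by
      rw [hP, ← reflect_map, reflect_reflect]
    rw [← hp, ← Polynomial.polynomial_map_coe, h1, ← hprodα, reflect_prod_X_sub_C]
  · intro i
    have hi := i.2
    show β i * β (Fin.rev i) = q
    have hrev : ((Fin.rev i : Fin (2 * g)) : ℕ) = 2 * g - 1 - i := by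
      rw [Fin.val_rev]; omega
    rw [hrev]
    by_cases h : (i : ℕ) < g
    · rw [hβ1 _ h]
      have h3 : 2 * g - 1 - (i : ℕ) = g + (g - 1 - i) := by omega
      rw [h3, hβ2 _ (by omega)]
      have h4 : (⟨g - 1 - (g - 1 - (i : ℕ)), by omega⟩ : Fin g) = ⟨i, h⟩ := by
        apply Fin.ext
        show g - 1 - (g - 1 - (i : ℕ)) = i
        omega
      rw [h4]
      field_simp [hune ⟨i, h⟩]
    · push Not at h
      have h6 : 2 * g - 1 - (i : ℕ) < g := by omega
      rw [hβ1 _ h6]
      have e : g + ((i : ℕ) - g) = i := by omega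
      have hβi := hβ2 ((i : ℕ) - g) (by omega)
      rw [e] at hβi
      rw [hβi]
      have h4 : (⟨g - 1 - ((i : ℕ) - g), by omega⟩ : Fin g) = ⟨2 * g - 1 - i, h6⟩ := by
        apply Fin.ext
        show g - 1 - ((i : ℕ) - g) = 2 * g - 1 - i
        omega
      rw [h4]
      field_simp [hune ⟨2 * g - 1 - i, h6⟩]

end AlphaC

end Groth.Agent.Helper17.FF
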