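import Mathlib
import Groth.Agent.Lib.Helper17.FFCU
import Groth.Agent.Lib.Helper17.FFZ4
namespace Groth.Agent.Helper17.FF
namespace ZLog


open PowerSeries

variable {F : Type*} [Field F]

/-- `θ F = X F'` -/
noncomputable def theta (f : F⟦X⟧) : F⟦X⟧ := PowerSeries.mk fun n => (n : F) * coeff n f

@[simp] lemma coeff_theta (f : F⟦X⟧) (n : ℕ) : coeff n (theta f) = (n : F) * coeff n f := by
  simp [theta]

lemma theta_mul (f g : F⟦X⟧) : theta (f * g) = theta f * g + f * theta g := by
  ext n
  rw [coeff_theta, map_add, coeff_mul, coeff_mul, coeff_mul, Finset.mul_sum, ← Finset.sum_add_distrib]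
  refine Finset.sum_congr rfl fun p hp => ?_
  rw [Finset.HasAntidiagonal.mem_antidiagonal] at hp
  rw [coeff_theta, coeff_theta, ← hp]
  push_cast
  ring

lemma theta_one : theta (1 : F⟦X⟧) = 0 := by
  ext n
  rw [coeff_theta, coeff_one]
  split_ifs with h
  · subst h; simp
  · simp

/-- `U_β = ∑_{m ≥ 1} β^m X^m` -/
noncomputable def geomU (β : F) : F⟦X⟧ := PowerSeries.mk fun m => if m = 0 then 0 else β ^ m

@[simp] lemma coeff_geomU (β : F) (m : ℕ) : coeff m (geomU β) = if m = 0 then 0 else β ^ m := by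
  simp [geomU]

@[simp] lemma constantCoeff_geomU (β : F) : constantCoeff (geomU β) = 0 := by
  rw [← coeff_zero_eq_constantCoeff_apply, coeff_geomU, if_pos rfl]

lemma one_sub_mul_geomU (β : F) : (1 - C β * X) * geomU β = C β * X := by
  ext n
  rw [sub_mul, one_mul, map_sub]
  rcases n with _ | n
  · simp
  · rw [mul_assoc, coeff_C_mul, coeff_succ_X_mul, coeff_geomU, coeff_geomU, coeff_C_mul,
      if_neg (Nat.succ_ne_zero n)]
    rcases n with _ | n
    · simp
    · rw [if_neg (Nat.succ_ne_zero n)]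
      have : coeff (n + 1 + 1) (X : F⟦X⟧) = 0 := by
        rw [coeff_X, if_neg]; omega
      rw [this, mul_zero, pow_succ β (n + 1)]
      ring

/-- logarithmic derivative relation -/
def LD (f u : F⟦X⟧) : Prop := theta f = f * u

lemma LD_one : LD (1 : F⟦X⟧) 0 := by
  unfold LD; rw [theta_one, mul_zero]

lemma LD_mul {f g u v : F⟦X⟧} (hf : LD f u) (hg : LD g v) : LD (f * g) (u + v) := by
  unfold LD at *
  rw [theta_mul, hf, hg]; ring

lemma theta_linear (β : F) : theta (1 - C β * X) = -(C β * X) := by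
  ext n
  rw [coeff_theta, map_sub, map_neg, coeff_one]
  rcases n with _ | n
  · simp
  · rw [if_neg (Nat.succ_ne_zero n), mul_comm (C β) X, coeff_succ_X_mul, coeff_C]
    rcases n with _ | n
    · simp
    · simp

lemma LD_linear (β : F) : LD (1 - C β * X) (-geomU β) := by
  unfold LD
  rw [theta_linear, mul_neg, one_sub_mul_geomU]

lemma LD_prod {ι : Type*} (s : Finset ι) (β : ι → F) :
    LD (∏ i ∈ s, (1 - C (β i) * X)) (-∑ i ∈ s, geomU (β i)) := by
  classical
  induction s using Finset.induction_on with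
  | empty => simpa using LD_one
  | insert a s ha ih =>
    rw [Finset.prod_insert ha, Finset.sum_insert ha, neg_add]
    exact LD_mul (LD_linear _) ih

lemma LD_cancel {f d l v w : F⟦X⟧} (hfd : f * d = l) (hd : LD d v) (hl : LD l w) (hd0 : d ≠ 0) :
    LD f (w - v) := by
  unfold LD at *
  have h1 : theta (f * d) = l * w := by rw [hfd]; exact hl
  rw [theta_mul, hd, hfd.symm] at h1
  apply mul_right_cancel₀ hd0
  linear_combination h1

/-- the key consequence -/
theorem newton_of_zeta {r : ℕ} (a : ℕ → F) (q : F) (β : Fin r → F)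
    (h : (1 - X) * (1 - C q * X) * PowerSeries.mk a = ∏ i, (1 - C (β i) * X)) (n : ℕ) :
    (n : F) * a n = ∑ m ∈ Finset.Icc 1 n, (1 + q ^ m - ∑ i, β i ^ m) * a (n - m) := by
  have hd : LD ((1 - C (1 : F) * X) * (1 - C q * X)) (-geomU 1 + -geomU q) :=
    LD_mul (LD_linear 1) (LD_linear q)
  have hl := LD_prod (Finset.univ : Finset (Fin r)) β
  have hd0 : (1 - C (1 : F) * X) * (1 - C q * X) ≠ 0 := by
    intro h0
    have := congrArg (coeff 0) h0
    simp at this
  have hfd : PowerSeries.mk a * ((1 - C (1 : F) * X) * (1 - C q * X)) =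
      ∏ i, (1 - C (β i) * X) := by
    rw [← h, map_one, one_mul]; ring
  have hZ := LD_cancel hfd hd hl hd0
  unfold LD at hZ
  have hc := congrArg (coeff n) hZ
  rw [coeff_theta, coeff_mk, coeff_mul,
    Finset.Nat.sum_antidiagonal_eq_sum_range_succ_mk] at hc
  rw [hc]
  have hsplit : Finset.range (n + 1) = insert 0 (Finset.Icc 1 n) := by
    ext m; simp only [Finset.mem_range, Finset.mem_insert, Finset.mem_Icc]; omega
  have h0 : ∑ m ∈ Finset.range (n + 1), coeff m (PowerSeries.mk a) *
      coeff (n - m) (-∑ i, geomU (β i) - (-geomU 1 + -geomU q)) =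
      ∑ m ∈ Finset.range (n + 1), a (n - m) *
        coeff m (-∑ i, geomU (β i) - (-geomU 1 + -geomU q)) := by
    rw [← Finset.sum_range_reflect]
    refine Finset.sum_congr rfl fun m hm => ?_
    rw [Finset.mem_range] at hm
    rw [coeff_mk]
    have e1 : n + 1 - 1 - m = n - m := by omega
    have e2 : n - (n - m) = m := by omega
    rw [e1, e2]
  rw [h0, hsplit, Finset.sum_insert (by simp)]
  have hz : coeff 0 (-∑ i, geomU (β i) - (-geomU 1 + -geomU q)) = 0 := by
    simp [map_sum]
  rw [hz, mul_zero, zero_add]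
  refine Finset.sum_congr rfl fun m hm => ?_
  rw [Finset.mem_Icc] at hm
  have hm0 : m ≠ 0 := by omega
  simp only [map_sub, map_neg, map_add, map_sum, coeff_geomU, if_neg hm0, one_pow]
  ring




open FunFld

variable {k K : Type*} [Field k] [Field K] [Algebra k K]

lemma card_effective_ge [Finite k] (hK : IsFunctionField k K) (n : ℕ) (P : Place k K) (j : ℕ) :
    Nat.card {D : Divisor k K // (0 ≤ D ∧ D.deg = n) ∧ (j : ℤ) ≤ D P} =
      if j * P.deg ≤ n then effDivCount k K (n - j * P.deg) else 0 := by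
  classical
  split_ifs with h
  · unfold effDivCount
    refine Nat.card_congr
      { toFun := fun D => ⟨D.1 - Finsupp.single P (j : ℤ), ?_, ?_⟩
        invFun := fun D' => ⟨D'.1 + Finsupp.single P (j : ℤ), ⟨?_, ?_⟩, ?_⟩
        left_inv := fun D => Subtype.ext (sub_add_cancel _ _)
        right_inv := fun D' => Subtype.ext (add_sub_cancel_right _ _) }
    · intro Q
      rw [Finsupp.zero_apply, Finsupp.sub_apply]
      by_cases hQ : Q = P
      · subst hQ; rw [Finsupp.single_eq_same]; have := D.2.2; linarith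
      · rw [Finsupp.single_eq_of_ne hQ, sub_zero]; exact D.2.1.1 Q
    · rw [deg_sub, deg_single, D.2.1.2, Nat.cast_sub h]; push_cast; ring
    · intro Q
      rw [Finsupp.zero_apply, Finsupp.add_apply]
      have h1 : 0 ≤ D'.1 Q := D'.2.1 Q
      have h2 : (0 : ℤ) ≤ (Finsupp.single P (j : ℤ) : Divisor k K) Q := by
        by_cases hQ : Q = P
        · subst hQ; rw [Finsupp.single_eq_same]; positivity
        · rw [Finsupp.single_eq_of_ne hQ]
      linarith
    · rw [deg_add, deg_single, D'.2.2, Nat.cast_sub h]; push_cast; ring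
    · rw [Finsupp.add_apply, Finsupp.single_eq_same]
      have h1 : 0 ≤ D'.1 P := D'.2.1 P
      linarith
  · haveI : IsEmpty {D : Divisor k K // (0 ≤ D ∧ D.deg = n) ∧ (j : ℤ) ≤ D P} := by
      constructor
      rintro ⟨D, ⟨h0, hd⟩, hj⟩
      apply h
      have h1 := coeff_mul_deg_le h0 P
      rw [hd] at h1
      have h2 : (j : ℤ) * P.deg ≤ D P * P.deg := mul_le_mul_of_nonneg_right hj (by positivity)
      have h3 : ((j * P.deg : ℕ) : ℤ) ≤ n := by push_cast; linarith
      exact_mod_cast h3
    exact Nat.card_of_isEmpty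

theorem mul_effDivCount [Finite k] (hK : IsFunctionField k K) (n : ℕ) (I : Finset (Place k K))
    (hI : ∀ P, P ∈ I ↔ P.deg ≤ n) :
    n * effDivCount k K n = ∑ m ∈ Finset.Icc 1 n,
      (∑ P ∈ I with P.deg ∣ m, P.deg) * effDivCount k K (n - m) := by
  classical
  haveI := finite_effective hK n
  haveI : Fintype {D : Divisor k K // 0 ≤ D ∧ D.deg = n} := Fintype.ofFinite _
  -- step 1
  have hsum : ∀ D : {D : Divisor k K // 0 ≤ D ∧ D.deg = n},
      ∑ P ∈ I, (D.1 P).toNat * P.deg = n := by
    intro D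
    have h1 : D.1.deg = ∑ P ∈ D.1.support, D.1 P * (P.deg : ℤ) := rfl
    have hsub : D.1.support ⊆ I := by
      intro P hP
      rw [hI]
      have h2 := coeff_mul_deg_le D.2.1 P
      rw [D.2.2] at h2
      have h3 : 1 ≤ D.1 P := by
        have h0 := D.2.1 P
        have hne := Finsupp.mem_support_iff.1 hP
        rw [Finsupp.zero_apply] at h0
        omega
      have h4 : (P.deg : ℤ) ≤ n := by
        have : (0 : ℤ) ≤ P.deg := by positivity
        nlinarith
      exact_mod_cast h4
    have h4 : ∑ P ∈ I, D.1 P * (P.deg : ℤ) = n := by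
      refine Eq.trans ?_ D.2.2
      rw [h1]
      symm
      apply Finset.sum_subset hsub
      intro P _ hP
      rw [Finsupp.notMem_support_iff.1 hP, zero_mul]
    have h5 : ((∑ P ∈ I, (D.1 P).toNat * P.deg : ℕ) : ℤ) = n := by
      refine Eq.trans ?_ h4
      push_cast
      refine Finset.sum_congr rfl fun P _ => ?_
      rw [Int.toNat_of_nonneg (D.2.1 P)]
    exact_mod_cast h5
  have hc : ∀ (D : {D : Divisor k K // 0 ≤ D ∧ D.deg = n}) (P : Place k K),
      (D.1 P).toNat ≤ n := by
    intro D P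
    have h2 := coeff_mul_deg_le D.2.1 P
    rw [D.2.2] at h2
    have h0 : (0 : ℤ) ≤ D.1 P := D.2.1 P
    have h3 : (1 : ℤ) ≤ P.deg := by exact_mod_cast deg_pos hK P
    have h4 : D.1 P ≤ n := by nlinarith
    omega
  have hcount : ∀ (D : {D : Divisor k K // 0 ≤ D ∧ D.deg = n}) (P : Place k K),
      ((Finset.Icc 1 n).filter (fun j : ℕ => (j : ℤ) ≤ D.1 P)).card = (D.1 P).toNat := by
    intro D P
    have h0 : (0 : ℤ) ≤ D.1 P := D.2.1 P
    have hcn := hc D P
    have : (Finset.Icc 1 n).filter (fun j : ℕ => (j : ℤ) ≤ D.1 P) =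
        Finset.Icc 1 (D.1 P).toNat := by
      ext j
      simp only [Finset.mem_filter, Finset.mem_Icc]
      omega
    rw [this, Nat.card_Icc]; omega
  have hcard : ∀ (P : Place k K) (j : ℕ),
      ((Finset.univ : Finset {D : Divisor k K // 0 ≤ D ∧ D.deg = n}).filter
        (fun D => (j : ℤ) ≤ D.1 P)).card =
      if j * P.deg ≤ n then effDivCount k K (n - j * P.deg) else 0 := by
    intro P j
    rw [← card_effective_ge hK n P j, ← Fintype.card_subtype, ← Nat.card_eq_fintype_card]
    exact Nat.card_congr (Equiv.subtypeSubtypeEquivSubtypeInter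
      (fun D : Divisor k K => 0 ≤ D ∧ D.deg = n) (fun D => (j : ℤ) ≤ D P))
  have hre : ∀ P : Place k K, ∑ j ∈ Finset.Icc 1 n,
      P.deg * (if j * P.deg ≤ n then effDivCount k K (n - j * P.deg) else 0) =
      ∑ m ∈ Finset.Icc 1 n, if P.deg ∣ m then P.deg * effDivCount k K (n - m) else 0 := by
    intro P
    have hd : 0 < P.deg := deg_pos hK P
    simp only [mul_ite, mul_zero]
    rw [← Finset.sum_filter, ← Finset.sum_filter]
    refine Finset.sum_nbij' (fun j => j * P.deg) (fun m => m / P.deg) ?_ ?_ ?_ ?_ ?_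
    · intro j hj
      simp only [Finset.mem_filter, Finset.mem_Icc] at hj ⊢
      refine ⟨⟨?_, hj.2⟩, Dvd.intro_left j rfl⟩
      exact Nat.mul_pos (by omega) hd
    · intro m hm
      simp only [Finset.mem_filter, Finset.mem_Icc] at hm ⊢
      obtain ⟨⟨hm1, hm2⟩, c, rfl⟩ := hm
      rw [Nat.mul_div_cancel_left c hd]
      have hc1 : 1 ≤ c := by
        rcases Nat.eq_zero_or_pos c with rfl | h
        · omega
        · exact h
      refine ⟨⟨hc1, ?_⟩, ?_⟩
      · calc c ≤ P.deg * c := Nat.le_mul_of_pos_left c hd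
          _ ≤ n := hm2
      · rw [mul_comm]; exact hm2
    · intro j _
      exact Nat.mul_div_cancel j hd
    · intro m hm
      simp only [Finset.mem_filter] at hm
      exact Nat.div_mul_cancel hm.2
    · intro j _
      rfl
  calc n * effDivCount k K n
      = ∑ _D : {D : Divisor k K // 0 ≤ D ∧ D.deg = n}, n := by
        rw [Finset.sum_const, Finset.card_univ, smul_eq_mul, mul_comm]
        congr 1
        unfold effDivCount
        rw [Nat.card_eq_fintype_card]
    _ = ∑ D : {D : Divisor k K // 0 ≤ D ∧ D.deg = n}, ∑ P ∈ I, (D.1 P).toNat * P.deg := by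
        refine Finset.sum_congr rfl fun D _ => (hsum D).symm
    _ = ∑ D : {D : Divisor k K // 0 ≤ D ∧ D.deg = n}, ∑ P ∈ I, ∑ j ∈ Finset.Icc 1 n,
          if (j : ℤ) ≤ D.1 P then P.deg else 0 := by
        refine Finset.sum_congr rfl fun D _ => Finset.sum_congr rfl fun P _ => ?_
        rw [← Finset.sum_filter, Finset.sum_const, hcount D P, smul_eq_mul]
    _ = ∑ P ∈ I, ∑ j ∈ Finset.Icc 1 n, ∑ D : {D : Divisor k K // 0 ≤ D ∧ D.deg = n},
          if (j : ℤ) ≤ D.1 P then P.deg else 0 := by
        rw [Finset.sum_comm]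
        refine Finset.sum_congr rfl fun P _ => Finset.sum_comm
    _ = ∑ P ∈ I, ∑ j ∈ Finset.Icc 1 n,
          P.deg * (if j * P.deg ≤ n then effDivCount k K (n - j * P.deg) else 0) := by
        refine Finset.sum_congr rfl fun P _ => Finset.sum_congr rfl fun j _ => ?_
        rw [← Finset.sum_filter, Finset.sum_const, hcard P j, smul_eq_mul, mul_comm]
    _ = ∑ P ∈ I, ∑ m ∈ Finset.Icc 1 n,
          if P.deg ∣ m then P.deg * effDivCount k K (n - m) else 0 := by
        refine Finset.sum_congr rfl fun P _ => hre P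
    _ = ∑ m ∈ Finset.Icc 1 n,
          (∑ P ∈ I with P.deg ∣ m, P.deg) * effDivCount k K (n - m) := by
        rw [Finset.sum_comm]
        refine Finset.sum_congr rfl fun m _ => ?_
        rw [Finset.sum_mul, Finset.sum_filter]




universe u u' v v'

open FunFld Module
open scoped TensorProduct

section ZC

variable {k : Type u} {K : Type v} {k' : Type u'} {K' : Type v'} [Field k] [Field K]
  [Algebra k K] [Field k'] [Field K'] [Algebra k k'] [Algebra K K'] [Algebra k' K']
  [Algebra k K'] [IsScalarTower k K K'] [IsScalarTower k k' K']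

theorem bijective_of_isConstExt [FiniteDimensional k k']
    (h2 : Algebra.adjoin K (Set.range (algebraMap k' K')) = ⊤)
    (h3 : Module.finrank K K' = Module.finrank k k') :
    Function.Bijective (Algebra.TensorProduct.productMap
      (IsScalarTower.toAlgHom k k' K') (IsScalarTower.toAlgHom k K K')) := by
  classical
  have hpos : 0 < finrank K K' := by rw [h3]; exact finrank_pos
  haveI : FiniteDimensional K K' := Module.finite_of_finrank_pos hpos
  let Ψ : K ⊗[k] k' →ₐ[K] K' :=
    Algebra.TensorProduct.productLeftAlgHom (Algebra.ofId K K') (IsScalarTower.toAlgHom k k' K')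
  have hΨsurj : Function.Surjective Ψ := by
    intro y
    have hy : y ∈ Algebra.adjoin K (Set.range (algebraMap k' K')) := by rw [h2]; trivial
    induction hy using Algebra.adjoin_induction with
    | mem x hx =>
      obtain ⟨c, rfl⟩ := hx
      exact ⟨1 ⊗ₜ c, by simp [Ψ]⟩
    | algebraMap r => exact ⟨r ⊗ₜ 1, by simp [Ψ, Algebra.ofId_apply]⟩
    | add x y _ _ hx hy =>
      obtain ⟨a, rfl⟩ := hx
      obtain ⟨b, rfl⟩ := hy
      exact ⟨a + b, map_add _ _ _⟩
    | mul x y _ _ hx hy =>
      obtain ⟨a, rfl⟩ := hx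
      obtain ⟨b, rfl⟩ := hy
      exact ⟨a * b, map_mul _ _ _⟩
  have hfr : finrank K (K ⊗[k] k') = finrank K K' := by
    rw [Module.finrank_baseChange, h3]
  have hΨinj : Function.Injective Ψ :=
    (LinearMap.injective_iff_surjective_of_finrank_eq_finrank (f := Ψ.toLinearMap) hfr).2 hΨsurj
  have hcomp : (⇑(Algebra.TensorProduct.productMap
      (IsScalarTower.toAlgHom k k' K') (IsScalarTower.toAlgHom k K K')) : k' ⊗[k] K → K') =
      ⇑Ψ ∘ ⇑(Algebra.TensorProduct.comm k k' K) := by
    funext z
    induction z using TensorProduct.induction_on with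
    | zero => simp
    | tmul a b =>
      simp only [Function.comp_apply, Algebra.TensorProduct.comm_tmul,
        Algebra.TensorProduct.productMap_apply_tmul]
      show algebraMap k' K' a * algebraMap K K' b = algebraMap K K' b * algebraMap k' K' a
      ring
    | add a b ha hb => simp only [map_add, ha, hb, Function.comp_apply]
  rw [hcomp]
  have hΨbij : Function.Bijective Ψ := ⟨hΨinj, hΨsurj⟩
  exact Function.Bijective.comp hΨbij (Algebra.TensorProduct.comm k k' K).bijective

theorem card_deg_one_of_bijective [Finite k] [FiniteDimensional k k']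
    (hbij : Function.Bijective (Algebra.TensorProduct.productMap
      (IsScalarTower.toAlgHom k k' K') (IsScalarTower.toAlgHom k K K')))
    (hK : IsFunctionField k K) (I : Finset (Place k K))
    (hI : ∀ P, P ∈ I ↔ P.deg ≤ finrank k k') :
    Nat.card {Q : Place k' K' // Q.deg = 1} = ∑ P ∈ I with P.deg ∣ finrank k k', P.deg := by
  classical
  set n := finrank k k' with hn
  have hnpos : 0 < n := finrank_pos
  haveI : FiniteDimensional K K' := CU.finite_const hbij
  haveI : Algebra.IsAlgebraic K K' := Algebra.IsAlgebraic.of_finite K K'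
  haveI : Algebra.IsAlgebraic k k' := Algebra.IsAlgebraic.of_finite k k'
  let e : {Q : Place k' K' // Q.deg = 1} ≃ {Q : Place k K' // Q.deg = n} :=
    { toFun := fun Q => ⟨placeDown k Q.1, by
        rw [deg_placeUp (k₁ := k') (placeDown k Q.1), placeUp_placeDown, Q.2, mul_one]⟩
      invFun := fun Q => ⟨placeUp k' Q.1, by
        have h1 := deg_placeUp (k₁ := k') Q.1
        rw [Q.2] at h1
        have h2 : n * 1 = n * (placeUp k' Q.1).deg := by rw [mul_one]; exact h1
        exact (Nat.eq_of_mul_eq_mul_left hnpos h2).symm⟩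
      left_inv := fun Q => Subtype.ext (placeUp_placeDown Q.1)
      right_inv := fun Q => Subtype.ext (placeDown_placeUp Q.1) }
  rw [Nat.card_congr e]
  choose S hS hScard using fun P => CU.card_over_const_ext_finite hbij hK P
  have hT : ∀ Q : Place k K', Q ∈ (I.filter (fun P => P.deg ∣ n)).biUnion S ↔ Q.deg = n := by
    intro Q
    rw [Finset.mem_biUnion]
    constructor
    · rintro ⟨P, hP, hQ⟩
      rw [Finset.mem_filter] at hP
      rw [hS] at hQ
      rw [(CU.deg_const_ext_finite hbij hK P Q hQ).2]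
      exact Nat.lcm_eq_right hP.2
    · intro hQ
      obtain ⟨P, e', he'⟩ := exists_isOverWith hK Q
      have h1 := (CU.deg_const_ext_finite hbij hK P Q ⟨e', he'⟩).2
      rw [hQ] at h1
      have h2 : P.deg ∣ n := by rw [h1]; exact Nat.dvd_lcm_left _ _
      refine ⟨P, ?_, (hS P Q).2 ⟨e', he'⟩⟩
      rw [Finset.mem_filter, hI]
      exact ⟨Nat.le_of_dvd hnpos h2, h2⟩
  rw [Nat.subtype_card _ hT, Finset.card_biUnion]
  · refine Finset.sum_congr rfl fun P hP => ?_
    rw [Finset.mem_filter] at hP
    rw [hScard, Nat.gcd_eq_left hP.2]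
  · intro P _ P' _ hne
    rw [Function.onFun, Finset.disjoint_left]
    intro Q hQ hQ'
    exact hne (isOver_unique ((hS P Q).1 hQ) ((hS P' Q).1 hQ'))

end ZC



section ZD

open FunFld Module PowerSeries

variable {k : Type*} {K : Type*} [Field k] [Field K] [Algebra k K]

/-- the sum of the degrees of the places of degree dividing `m` -/
noncomputable def Sdeg (k K : Type*) [Field k] [Field K] [Algebra k K] (m : ℕ) : ℕ :=
  ∑ᶠ P : {P : Place k K // P.deg ∣ m}, P.1.deg

lemma Sdeg_eq [Finite k] (hK : IsFunctionField k K) {m n : ℕ} (hm : 1 ≤ m) (hmn : m ≤ n)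
    (I : Finset (Place k K)) (hI : ∀ P, P ∈ I ↔ P.deg ≤ n) :
    Sdeg k K m = ∑ P ∈ I with P.deg ∣ m, P.deg := by
  classical
  unfold Sdeg
  have hmem : ∀ P : Place k K, P ∈ I.filter (fun P => P.deg ∣ m) ↔ P.deg ∣ m := by
    intro P
    rw [Finset.mem_filter, hI]
    constructor
    · exact fun h => h.2
    · exact fun h => ⟨(Nat.le_of_dvd (by omega) h).trans hmn, h⟩
  rw [finsum_eq_sum_of_support_subset (s := (I.filter (fun P => P.deg ∣ m)).subtype _)]
  · rw [Finset.sum_subtype_of_mem]
    · intro P hP; exact (hmem P).1 hP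
  · intro P _
    rw [Finset.mem_coe, Finset.mem_subtype]
    exact (hmem P.1).2 P.2

theorem zeta_coeff_eq {r : ℕ} (α : Fin r → ℂ)
    (hα : PowerSeries.map (Int.castRingHom ℂ) (numerZ k K) =
      ((∏ i, (1 - Polynomial.C (α i) * Polynomial.X) : Polynomial ℂ) : PowerSeries ℂ)) :
    (1 - X) * (1 - C ((Nat.card k : ℂ)) * X) *
      PowerSeries.mk (fun n => (effDivCount k K n : ℂ)) = ∏ i, (1 - C (α i) * X) := by
  have h1 : PowerSeries.map (Int.castRingHom ℂ) (numerZ k K) =
      (1 - X) * (1 - C ((Nat.card k : ℂ)) * X) *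
        PowerSeries.mk (fun n => (effDivCount k K n : ℂ)) := by
    unfold numerZ
    rw [map_mul, map_mul, map_sub, map_sub, map_one, map_mul, PowerSeries.map_X, PowerSeries.map_C]
    congr 1
  rw [← h1, hα, ← Polynomial.coeToPowerSeries.ringHom_apply, map_prod]
  refine Finset.prod_congr rfl fun i _ => ?_
  rw [Polynomial.coeToPowerSeries.ringHom_apply, Polynomial.coe_sub, Polynomial.coe_one,
    Polynomial.coe_mul, Polynomial.coe_C, Polynomial.coe_X]

/-- the number of points of the constant field extensions -/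
theorem Sdeg_eq_of_zeta [Finite k] (hK : IsFunctionField k K) {r : ℕ} (α : Fin r → ℂ)
    (hα : PowerSeries.map (Int.castRingHom ℂ) (numerZ k K) =
      ((∏ i, (1 - Polynomial.C (α i) * Polynomial.X) : Polynomial ℂ) : PowerSeries ℂ))
    (m : ℕ) (hm : 1 ≤ m) :
    (Sdeg k K m : ℂ) = 1 + (Nat.card k : ℂ) ^ m - ∑ i, α i ^ m := by
  classical
  have hB := newton_of_zeta (fun n => (effDivCount k K n : ℂ)) (Nat.card k : ℂ) α
    (zeta_coeff_eq α hα)
  have hA : ∀ n : ℕ, (n : ℂ) * (effDivCount k K n : ℂ) =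
      ∑ j ∈ Finset.Icc 1 n, (Sdeg k K j : ℂ) * (effDivCount k K (n - j) : ℂ) := by
    intro n
    have h1 := mul_effDivCount hK n (finite_places_deg_le hK n).toFinset
      (fun P => by rw [Set.Finite.mem_toFinset]; rfl)
    have h2 : ((n * effDivCount k K n : ℕ) : ℂ) = ((∑ j ∈ Finset.Icc 1 n,
      (∑ P ∈ (finite_places_deg_le hK n).toFinset with P.deg ∣ j, P.deg) *
        effDivCount k K (n - j) : ℕ) : ℂ) := by rw [h1]
    rw [Nat.cast_mul, Nat.cast_sum] at h2
    rw [h2]
    refine Finset.sum_congr rfl fun j hj => ?_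
    rw [Finset.mem_Icc] at hj
    rw [Nat.cast_mul, Sdeg_eq hK hj.1 hj.2 _ (fun P => by rw [Set.Finite.mem_toFinset]; rfl)]
  have h0 : (effDivCount k K 0 : ℂ) = 1 := by
    rw [effDivCount_zero hK]; simp
  induction m using Nat.strong_induction_on with
  | _ m ih =>
    have e1 := hA m
    rw [hB m] at e1
    have hsplit : Finset.Icc 1 m = insert m (Finset.Icc 1 (m - 1)) := by
      ext j; simp only [Finset.mem_Icc, Finset.mem_insert]; omega
    have hnot : m ∉ Finset.Icc 1 (m - 1) := by
      simp only [Finset.mem_Icc]; omega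
    rw [hsplit, Finset.sum_insert hnot, Finset.sum_insert hnot, Nat.sub_self, h0, mul_one,
      mul_one] at e1
    have e2 : ∑ j ∈ Finset.Icc 1 (m - 1),
        (1 + (Nat.card k : ℂ) ^ j - ∑ i, α i ^ j) * (effDivCount k K (m - j) : ℂ) =
        ∑ j ∈ Finset.Icc 1 (m - 1), (Sdeg k K j : ℂ) * (effDivCount k K (m - j) : ℂ) := by
      refine Finset.sum_congr rfl fun j hj => ?_
      rw [Finset.mem_Icc] at hj
      rw [ih j (by omega) hj.1]
    rw [e2] at e1
    exact (add_right_cancel e1).symm

end ZD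

section ZE

open FunFld Module

theorem card_deg_one_isConstExt (k K k' K' : Type*) [Field k] [Finite k] [Field K] [Algebra k K]
    [Field k'] [Finite k'] [Field K'] [Algebra k k'] [Algebra K K'] [Algebra k' K']
    (hK : FunFld.IsFunctionField k K) (hce : FunFld.IsConstExt k K k' K') {r : ℕ}
    (α : Fin r → ℂ)
    (hα : PowerSeries.map (Int.castRingHom ℂ) (FunFld.numerZ k K) =
      ((∏ i, (1 - Polynomial.C (α i) * Polynomial.X) : Polynomial ℂ) : PowerSeries ℂ)) :
    (Nat.card {P : FunFld.Place k' K' // P.deg = 1} : ℂ) =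
      1 + (Nat.card k : ℂ) ^ Module.finrank k k' - ∑ i, α i ^ Module.finrank k k' := by
  classical
  letI : Algebra k K' := ((algebraMap K K').comp (algebraMap k K)).toAlgebra
  haveI : IsScalarTower k K K' := IsScalarTower.of_algebraMap_eq (fun _ => rfl)
  haveI : IsScalarTower k k' K' := IsScalarTower.of_algebraMap_eq (fun c => hce.1 c)
  haveI : FiniteDimensional k k' := Module.Finite.of_finite
  have hbij := bijective_of_isConstExt (k := k) (K := K) (k' := k') (K' := K') hce.2.1 hce.2.2
  have hn : 1 ≤ finrank k k' := finrank_pos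
  rw [card_deg_one_of_bijective hbij hK (finite_places_deg_le hK _).toFinset
    (fun P => by rw [Set.Finite.mem_toFinset]; rfl),
    ← Sdeg_eq hK hn le_rfl _ (fun P => by rw [Set.Finite.mem_toFinset]; rfl)]
  exact Sdeg_eq_of_zeta hK α hα _ hn

end ZE

end ZLog
end Groth.Agent.Helper17.FF
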