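import Mathlib
import Groth.Agent.Lib.Helper17.FFZL
namespace Groth.Agent.Helper17.FF
namespace ZLog

open PowerSeries

section ZF

variable {F : Type*} [Field F]

theorem zeta_of_newton [CharZero F] {r : ℕ} (a : ℕ → F) (q : F) (β : Fin r → F)
    (h0 : a 0 = 1)
    (h : ∀ n : ℕ, (n : F) * a n =
      ∑ m ∈ Finset.Icc 1 n, (1 + q ^ m - ∑ i, β i ^ m) * a (n - m)) :
    (1 - X) * (1 - C q * X) * PowerSeries.mk a = ∏ i, (1 - C (β i) * X) := by
  set D : F⟦X⟧ := (1 - X) * (1 - C q * X) with hD
  have hDc : constantCoeff D = 1 := by simp [hD]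
  have hD0 : constantCoeff D ≠ 0 := by rw [hDc]; exact one_ne_zero
  set Zt : F⟦X⟧ := (∏ i, (1 - C (β i) * X)) * D⁻¹ with hZt
  set b : ℕ → F := fun n => coeff n Zt with hb
  have hmkb : PowerSeries.mk b = Zt := by ext n; simp [hb]
  have hDb : D * PowerSeries.mk b = ∏ i, (1 - C (β i) * X) := by
    rw [hmkb, hZt, mul_comm, mul_assoc, PowerSeries.inv_mul_cancel _ hD0, mul_one]
  have hbN := newton_of_zeta b q β hDb
  have hb0 : b 0 = 1 := by
    show coeff 0 Zt = 1
    rw [coeff_zero_eq_constantCoeff_apply, hZt, map_mul, map_prod, PowerSeries.constantCoeff_inv,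
      hDc, inv_one, mul_one]
    apply Finset.prod_eq_one
    intro i _
    simp
  have hab : ∀ n, a n = b n := by
    intro n
    induction n using Nat.strong_induction_on with
    | _ n ih =>
      rcases Nat.eq_zero_or_pos n with rfl | hn
      · rw [h0, hb0]
      · have h1 := h n
        have h2 := hbN n
        have h3 : ∑ m ∈ Finset.Icc 1 n, (1 + q ^ m - ∑ i, β i ^ m) * a (n - m) =
            ∑ m ∈ Finset.Icc 1 n, (1 + q ^ m - ∑ i, β i ^ m) * b (n - m) := by
          refine Finset.sum_congr rfl fun m hm => ?_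
          rw [Finset.mem_Icc] at hm
          rw [ih (n - m) (by omega)]
        rw [h3, ← h2] at h1
        have hn0 : (n : F) ≠ 0 := by exact_mod_cast hn.ne'
        exact mul_left_cancel₀ hn0 h1
  have : PowerSeries.mk a = PowerSeries.mk b := by
    ext n; simp [hab n]
  rw [this]
  exact hDb

end ZF

section ZG

open FunFld Module
open scoped TensorProduct

theorem isConstExt_trans (k K k' K' k'' K'' : Type*) [Field k] [Field K] [Field k'] [Field K']
    [Field k''] [Field K''] [Algebra k K] [Algebra k k'] [Algebra K K'] [Algebra k' K']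
    [Algebra k' k''] [Algebra K' K''] [Algebra k'' K''] [Algebra k k''] [Algebra K K'']
    [IsScalarTower k k' k''] [IsScalarTower K K' K'']
    (h1 : IsConstExt k K k' K') (h2 : IsConstExt k' K' k'' K'') : IsConstExt k K k'' K'' := by
  refine ⟨fun c => ?_, ?_, ?_⟩
  · rw [IsScalarTower.algebraMap_apply K K' K'', h1.1, h2.1,
      ← IsScalarTower.algebraMap_apply k k' k'']
  · rw [eq_top_iff]
    have hK' : ∀ y : K', algebraMap K' K'' y ∈
        Algebra.adjoin K (Set.range (algebraMap k'' K'')) := by
      intro y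
      have hy : y ∈ Algebra.adjoin K (Set.range (algebraMap k' K')) := by rw [h1.2.1]; trivial
      induction hy using Algebra.adjoin_induction with
      | mem x hx =>
        obtain ⟨c, rfl⟩ := hx
        rw [h2.1]
        exact Algebra.subset_adjoin ⟨_, rfl⟩
      | algebraMap r =>
        rw [← IsScalarTower.algebraMap_apply K K' K'']
        exact Subalgebra.algebraMap_mem _ r
      | add x y _ _ hx hy => rw [map_add]; exact add_mem hx hy
      | mul x y _ _ hx hy => rw [map_mul]; exact mul_mem hx hy
    intro z hz'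
    clear hz'
    have hz : z ∈ Algebra.adjoin K' (Set.range (algebraMap k'' K'')) := by rw [h2.2.1]; trivial
    induction hz using Algebra.adjoin_induction with
    | mem x hx => exact Algebra.subset_adjoin hx
    | algebraMap r => exact hK' r
    | add x y _ _ hx hy => exact add_mem hx hy
    | mul x y _ _ hx hy => exact mul_mem hx hy
  · rw [← Module.finrank_mul_finrank K K' K'', h1.2.2, h2.2.2,
      Module.finrank_mul_finrank k k' k'']

theorem isConstExt_of_bijective {k K k' K' : Type*} [Field k] [Field K] [Field k'] [Field K']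
    [Algebra k K] [Algebra k k'] [Algebra K K'] [Algebra k' K'] [Algebra k K']
    [IsScalarTower k K K'] [IsScalarTower k k' K'] [FiniteDimensional k k']
    (hbij : Function.Bijective (Algebra.TensorProduct.productMap
      (IsScalarTower.toAlgHom k k' K') (IsScalarTower.toAlgHom k K K'))) :
    IsConstExt k K k' K' := by
  refine ⟨fun c => ?_, ?_, CU.finrank_const hbij⟩
  · rw [← IsScalarTower.algebraMap_apply k K K', ← IsScalarTower.algebraMap_apply k k' K']
  · rw [eq_top_iff]
    intro z hz'
    clear hz'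
    obtain ⟨t, rfl⟩ := hbij.2 z
    induction t using TensorProduct.induction_on with
    | zero => rw [map_zero]; exact zero_mem _
    | tmul c x =>
      rw [Algebra.TensorProduct.productMap_apply_tmul]
      exact mul_mem (Algebra.subset_adjoin ⟨c, rfl⟩) (Subalgebra.algebraMap_mem _ x)
    | add a b ha hb => rw [map_add]; exact add_mem ha hb

end ZG

section ZH

open FunFld Module PowerSeries
open scoped TensorProduct

lemma map_numerZ_eq (k K : Type*) [Field k] [Field K] [Algebra k K] :
    PowerSeries.map (Int.castRingHom ℂ) (numerZ k K) =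
      (1 - X) * (1 - C ((Nat.card k : ℂ)) * X) *
        PowerSeries.mk (fun n => (effDivCount k K n : ℂ)) := by
  unfold numerZ
  rw [map_mul, map_mul, map_sub, map_sub, map_one, map_mul, PowerSeries.map_X, PowerSeries.map_C]
  congr 1

lemma coe_prod_linear {r : ℕ} (β : Fin r → ℂ) :
    ((∏ i, (1 - Polynomial.C (β i) * Polynomial.X) : Polynomial ℂ) : PowerSeries ℂ) =
      ∏ i, (1 - C (β i) * X) := by
  rw [← Polynomial.coeToPowerSeries.ringHom_apply, map_prod]
  refine Finset.prod_congr rfl fun i _ => ?_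
  rw [Polynomial.coeToPowerSeries.ringHom_apply, Polynomial.coe_sub, Polynomial.coe_one,
    Polynomial.coe_mul, Polynomial.coe_C, Polynomial.coe_X]

lemma newton_Sdeg {k K : Type*} [Field k] [Field K] [Algebra k K] [Finite k]
    (hK : IsFunctionField k K) (n : ℕ) :
    (n : ℂ) * (effDivCount k K n : ℂ) =
      ∑ j ∈ Finset.Icc 1 n, (Sdeg k K j : ℂ) * (effDivCount k K (n - j) : ℂ) := by
  classical
  have h1 := mul_effDivCount hK n (finite_places_deg_le hK n).toFinset
    (fun P => by rw [Set.Finite.mem_toFinset]; rfl)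
  have h2 : ((n * effDivCount k K n : ℕ) : ℂ) = ((∑ j ∈ Finset.Icc 1 n,
    (∑ P ∈ (finite_places_deg_le hK n).toFinset with P.deg ∣ j, P.deg) *
      effDivCount k K (n - j) : ℕ) : ℂ) := by rw [h1]
  rw [Nat.cast_mul, Nat.cast_sum] at h2
  rw [h2]
  refine Finset.sum_congr rfl fun j hj => ?_
  rw [Finset.mem_Icc] at hj
  rw [Nat.cast_mul, Sdeg_eq hK hj.1 hj.2 _ (fun P => by rw [Set.Finite.mem_toFinset]; rfl)]

theorem numerZ_isConstExt (k K k' K' : Type*) [Field k] [Finite k] [Field K] [Algebra k K]
    [Field k'] [Finite k'] [Field K'] [Algebra k k'] [Algebra K K'] [Algebra k' K']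
    (hK : FunFld.IsFunctionField k K) (hK' : FunFld.IsFunctionField k' K')
    (hce : FunFld.IsConstExt k K k' K') {r : ℕ} (α : Fin r → ℂ)
    (hα : PowerSeries.map (Int.castRingHom ℂ) (FunFld.numerZ k K) =
      ((∏ i, (1 - Polynomial.C (α i) * Polynomial.X) : Polynomial ℂ) : PowerSeries ℂ)) :
    PowerSeries.map (Int.castRingHom ℂ) (FunFld.numerZ k' K') =
      ((∏ i, (1 - Polynomial.C (α i ^ Module.finrank k k') * Polynomial.X) : Polynomial ℂ) :
        PowerSeries ℂ) := by
  classical
  haveI : FiniteDimensional k k' := Module.Finite.of_finite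
  set n := finrank k k' with hn
  have hq' : (Nat.card k' : ℂ) = (Nat.card k : ℂ) ^ n := by
    rw [Module.natCard_eq_pow_finrank (K := k) (V := k')]; push_cast; rfl
  have hS' : ∀ j : ℕ, 1 ≤ j → (Sdeg k' K' j : ℂ) =
      1 + ((Nat.card k : ℂ) ^ n) ^ j - ∑ i, (α i ^ n) ^ j := by
    intro j hj
    obtain ⟨k'', K'', _, _, _, _, _, _, _, _, _, hfr, hbij''⟩ :=
      exists_const_ext_finite hK' j hj
    letI : Algebra k k'' := ((algebraMap k' k'').comp (algebraMap k k')).toAlgebra
    letI : Algebra K K'' := ((algebraMap K' K'').comp (algebraMap K K')).toAlgebra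
    haveI : IsScalarTower k k' k'' := IsScalarTower.of_algebraMap_eq (fun _ => rfl)
    haveI : IsScalarTower K K' K'' := IsScalarTower.of_algebraMap_eq (fun _ => rfl)
    haveI : Finite k'' := Module.finite_of_finite k'
    have hce'' : IsConstExt k' K' k'' K'' := isConstExt_of_bijective hbij''
    have hce2 : IsConstExt k K k'' K'' := isConstExt_trans k K k' K' k'' K'' hce hce''
    have e1 := card_deg_one_isConstExt k K k'' K'' hK hce2 α hα
    have hfr2 : finrank k k'' = n * j := by
      rw [← Module.finrank_mul_finrank k k' k'', hfr]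
    have e2 := card_deg_one_of_bijective hbij'' hK' (finite_places_deg_le hK' _).toFinset
      (fun P => by rw [Set.Finite.mem_toFinset]; rfl)
    rw [← Sdeg_eq hK' (by rw [hfr]; exact hj) le_rfl _
      (fun P => by rw [Set.Finite.mem_toFinset]; rfl), hfr] at e2
    rw [e2, hfr2] at e1
    rw [e1, pow_mul]
    congr 1
    refine Finset.sum_congr rfl fun i _ => ?_
    rw [pow_mul]
  have hnewton : ∀ m : ℕ, (m : ℂ) * (effDivCount k' K' m : ℂ) =
      ∑ j ∈ Finset.Icc 1 m, (1 + ((Nat.card k : ℂ) ^ n) ^ j - ∑ i, (α i ^ n) ^ j) *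
        (effDivCount k' K' (m - j) : ℂ) := by
    intro m
    rw [newton_Sdeg hK' m]
    refine Finset.sum_congr rfl fun j hj => ?_
    rw [Finset.mem_Icc] at hj
    rw [hS' j hj.1]
  have h0 : (effDivCount k' K' 0 : ℂ) = 1 := by
    rw [effDivCount_zero hK']; simp
  have hfin := zeta_of_newton (fun m => (effDivCount k' K' m : ℂ)) ((Nat.card k : ℂ) ^ n)
    (fun i => α i ^ n) h0 hnewton
  rw [map_numerZ_eq, coe_prod_linear, hq']
  exact hfin

end ZH

end ZLog
end Groth.Agent.Helper17.FF
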