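import Groth.Agent.Lib.Helper17.FF17

/-! Genus-one classes; strong approximation. -/

namespace Groth.Agent.Helper17.FF

open FunFld Polynomial Module

variable {k K : Type*} [Field k] [Field K] [Algebra k K]

theorem eq_of_single_sub_single_eq_div (hK : IsFunctionField k K) (hg : 0 < genus k K)
    {P P' : Place k K} (hP' : P'.deg = 1) {x : K}
    (h : Finsupp.single P 1 - Finsupp.single P' 1 = FunFld.div k x) : P = P' := by
  classical
  by_contra hne
  have h1 : P'.ord x = -1 := by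
    rw [← div_apply hK, ← h, Finsupp.sub_apply, Finsupp.single_eq_same,
      Finsupp.single_eq_of_ne (Ne.symm hne)]
    norm_num
  have h2 : ∀ Q : Place k K, Q ≠ P' → 0 ≤ Q.ord x := by
    intro Q hQ
    rw [← div_apply hK, ← h, Finsupp.sub_apply, Finsupp.single_eq_of_ne hQ, sub_zero]
    by_cases hQP : Q = P
    · subst hQP; rw [Finsupp.single_eq_same]; norm_num
    · rw [Finsupp.single_eq_of_ne hQP]
  have h3 := simple_pole_imp hK hP' h1 h2
  have h4 := genus_eq_zero_of_adjoin_eq_top hK h3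
  omega

theorem genus_one_class (hK : IsFunctionField k K) (hg : genus k K = 1) (P₀ : Place k K)
    (hP : P₀.deg = 1) (D : Divisor k K) (hD : D.deg = 0) :
    ∃! P : Place k K, P.deg = 1 ∧
      ∃ x : K, x ≠ 0 ∧ D = Finsupp.single P 1 - Finsupp.single P₀ 1 + FunFld.div k x := by
  have h1 := ell_eq_of_deg_ge hK (D + Finsupp.single P₀ 1)
    (by rw [hg, deg_add, deg_single, hD, hP]; norm_num)
  rw [deg_add, deg_single, hD, hP, hg] at h1
  have hpos : 0 < ell (D + Finsupp.single P₀ 1) := by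
    have : (0 : ℤ) < ell (D + Finsupp.single P₀ 1) := by rw [h1]; norm_num
    exact_mod_cast this
  obtain ⟨z, hzL, hz0⟩ := exists_ne_zero_of_ell_pos hpos
  have hE : 0 ≤ D + Finsupp.single P₀ 1 + FunFld.div k z := by
    intro Q
    rw [Finsupp.zero_apply, Finsupp.add_apply, div_apply hK]
    have := (val_le_exp_iff Q hz0 _).1 (hzL Q)
    linarith
  have hEd : (D + Finsupp.single P₀ 1 + FunFld.div k z).deg = 1 := by
    rw [deg_add, deg_add, deg_single, deg_div hK, hD, hP]; norm_num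
  obtain ⟨P, hPd, hPe⟩ := eq_single_of_nonneg_of_deg_eq_one hK hE hEd
  refine ⟨P, ⟨hPd, z⁻¹, inv_ne_zero hz0, ?_⟩, ?_⟩
  · rw [div_inv hK, ← hPe]; abel
  · rintro P' ⟨hP'd, x', hx'0, hx'e⟩
    have h2 : Finsupp.single P' 1 - Finsupp.single P 1 = FunFld.div k (z⁻¹ * x'⁻¹) := by
      rw [div_mul hK (inv_ne_zero hz0) (inv_ne_zero hx'0), div_inv hK, div_inv hK, ← hPe]
      have : FunFld.div k x' = D - (Finsupp.single P' 1 - Finsupp.single P₀ 1) := by
        rw [hx'e]; abel
      rw [this]; abel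
    exact eq_of_single_sub_single_eq_div hK (by omega) hPd h2

theorem strong_approx (hK : IsFunctionField k K) (Pinf : Place k K) (n : ℕ)
    (P : Fin n → Place k K) (hP : Function.Injective P) (hinf : Pinf ∉ Set.range P)
    (x : Fin n → K) (m : Fin n → ℤ) :
    ∃ y : K, (∀ i, (P i).1 (y - x i) = WithZero.exp (-(m i))) ∧
      ∀ Q : Place k K, Q ≠ Pinf → Q ∉ Set.range P → Q.1 y ≤ 1 := by
  classical
  obtain ⟨N, hN⟩ := (riemann hK).2
  have hy : ∀ i, ∃ yi : K, (P i).1 yi = WithZero.exp (-(m i)) := fun i => (P i).2.2 _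
  choose yv hyv using hy
  let D₀ : Divisor k K := - ∑ i, Finsupp.single (P i) (m i + 1)
  let M : ℕ := (N - D₀.deg).toNat
  let D : Divisor k K := Finsupp.single Pinf (M : ℤ) + D₀
  have hDdeg : N ≤ D.deg := by
    show N ≤ Divisor.deg (k := k) (K := K) (Finsupp.single Pinf (M : ℤ) + D₀)
    rw [deg_add, deg_single]
    have h1 := deg_pos hK Pinf
    have h2 : (1 : ℤ) ≤ (Pinf.deg : ℤ) := by exact_mod_cast h1
    have h3 : N - D₀.deg ≤ (M : ℤ) := Int.self_le_toNat _
    have h4 : (0 : ℤ) ≤ (M : ℤ) := by positivity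
    nlinarith
  have hδ : delta D = genus k K := hN D hDdeg
  have hA := AD_sup_eq_adele hK hδ
  have hD₀i : ∀ i, D₀ (P i) = -(m i + 1) := by
    intro i
    show (- ∑ j, Finsupp.single (P j) (m j + 1) : Divisor k K) (P i) = _
    rw [Finsupp.neg_apply, Finsupp.finset_sum_apply, Finset.sum_eq_single i]
    · rw [Finsupp.single_eq_same]
    · intro j _ hj
      exact Finsupp.single_eq_of_ne (fun h => hj (hP h).symm)
    · intro h; exact absurd (Finset.mem_univ i) h
  have hD₀Q : ∀ Q, Q ∉ Set.range P → D₀ Q = 0 := by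
    intro Q hQ
    show (- ∑ j, Finsupp.single (P j) (m j + 1) : Divisor k K) Q = _
    rw [Finsupp.neg_apply, Finsupp.finset_sum_apply, Finset.sum_eq_zero, neg_zero]
    intro j _
    exact Finsupp.single_eq_of_ne (fun h => hQ ⟨j, h.symm⟩)
  have hDi : ∀ i, D (P i) = -(m i + 1) := by
    intro i
    show (Finsupp.single Pinf (M : ℤ) + D₀ : Divisor k K) (P i) = _
    rw [Finsupp.add_apply, hD₀i, Finsupp.single_eq_of_ne (fun h => hinf ⟨i, h⟩), zero_add]
  have hDQ : ∀ Q, Q ≠ Pinf → Q ∉ Set.range P → D Q = 0 := by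
    intro Q hQ1 hQ2
    show (Finsupp.single Pinf (M : ℤ) + D₀ : Divisor k K) Q = _
    rw [Finsupp.add_apply, hD₀Q Q hQ2, Finsupp.single_eq_of_ne hQ1, zero_add]
  let a : Place k K → K := fun Q => if h : ∃ i, P i = Q then x h.choose + yv h.choose else 0
  have ha_i : ∀ i, a (P i) = x i + yv i := by
    intro i
    have h : ∃ j, P j = P i := ⟨i, rfl⟩
    have hc : h.choose = i := hP h.choose_spec
    show (if h : ∃ j, P j = P i then x h.choose + yv h.choose else 0) = _
    rw [dif_pos h, hc]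
  have ha_Q : ∀ Q, Q ∉ Set.range P → a Q = 0 := fun Q hQ =>
    dif_neg (fun ⟨i, hi⟩ => hQ ⟨i, hi⟩)
  have ha : a ∈ adele k K := by
    rw [mem_adele]
    show {Q : Place k K | ¬ Q.1 (a Q) ≤ 1}.Finite
    apply (Set.finite_range P).subset
    intro Q hQ
    by_contra hn
    exact hQ (by rw [ha_Q Q hn, map_zero]; exact zero_le')
  rw [← hA] at ha
  obtain ⟨u, hu, w, ⟨z, rfl⟩, hsum⟩ := Submodule.mem_sup.1 ha
  have hz : ∀ Q, Q.1 (z - a Q) ≤ WithZero.exp (D Q) := by
    intro Q
    have h1 : a Q = u Q + z := by rw [← hsum]; rfl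
    have h2 : z - a Q = -(u Q) := by rw [h1]; ring
    rw [h2, Valuation.map_neg]
    exact hu Q
  refine ⟨z, fun i => ?_, fun Q hQ1 hQ2 => ?_⟩
  · have h1 := hz (P i)
    rw [ha_i, hDi] at h1
    have h2 : (P i).1 (z - (x i + yv i)) < (P i).1 (yv i) := by
      rw [hyv]
      exact h1.trans_lt (WithZero.exp_lt_exp.2 (by omega))
    have h3 : z - x i = (z - (x i + yv i)) + yv i := by ring
    rw [h3, Valuation.map_add_eq_of_lt_right _ h2, hyv]
  · have h1 := hz Q
    rwa [ha_Q Q hQ2, hDQ Q hQ1 hQ2, sub_zero, WithZero.exp_zero] at h1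

end Groth.Agent.Helper17.FF
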