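import Groth.Agent.Lib.Helper17.FF7

/-! Finiteness of zeros and poles; the principal divisor. -/

namespace Groth.Agent.Helper17.FF

open FunFld Polynomial Module

variable {k K : Type*} [Field k] [Field K] [Algebra k K]

lemma deg_pos (hK : IsFunctionField k K) (P : Place k K) : 0 < P.deg := by
  have := residue_finite hK P
  exact Module.finrank_pos (R := k) (M := IsLocalRing.ResidueField P.O)

lemma inv_not_mem_range {x : K} (hx : x ∉ Set.range (algebraMap k K)) :
    x⁻¹ ∉ Set.range (algebraMap k K) := by
  rintro ⟨c, hc⟩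
  exact hx ⟨c⁻¹, by rw [map_inv₀, hc, inv_inv]⟩

lemma ne_zero_of_not_mem_range {x : K} (hx : x ∉ Set.range (algebraMap k K)) : x ≠ 0 :=
  fun h => hx ⟨0, by rw [map_zero, h]⟩

theorem zeros_finite (hK : IsFunctionField k K) {x : K} (hx : x ∉ Set.range (algebraMap k K)) :
    {P : Place k K | P.1 x < 1}.Finite := by
  classical
  have hx0 := ne_zero_of_not_mem_range hx
  by_contra hinf
  obtain ⟨T, hT, hc⟩ := Set.Infinite.exists_subset_card_eq hinf
    (Module.finrank (IntermediateField.adjoin k ({x} : Set K)) K + 1)
  have h1 := zeros_bound hK hx T (fun P hP => hT hP)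
  have h2 : T.card ≤ ∑ P ∈ T, (P.ord x).toNat * P.deg := by
    rw [Finset.card_eq_sum_ones]
    apply Finset.sum_le_sum
    intro P hP
    have h3 : 0 < P.ord x := (ord_pos_iff P hx0).2 (hT hP)
    have h4 : 0 < (P.ord x).toNat := by omega
    exact Nat.mul_pos h4 (deg_pos hK P)
  omega

theorem finite_support_ord (hK : IsFunctionField k K) (x : K) :
    (Function.support fun P : Place k K => P.ord x).Finite := by
  by_cases hx : x ∈ Set.range (algebraMap k K)
  · obtain ⟨c, rfl⟩ := hx
    convert Set.finite_empty
    ext P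
    simp [ord_const]
  · have hx0 := ne_zero_of_not_mem_range hx
    apply Set.Finite.subset ((zeros_finite hK hx).union (zeros_finite hK (inv_not_mem_range hx)))
    intro P hP
    rw [Function.mem_support] at hP
    rcases lt_or_gt_of_ne hP with h | h
    · right
      show P.1 x⁻¹ < 1
      rw [map_inv₀, inv_lt_one₀ (val_pos P.1 hx0)]
      exact (ord_neg_iff P hx0).1 h
    · left
      exact (ord_pos_iff P hx0).1 h

lemma div_apply (hK : IsFunctionField k K) (x : K) (P : Place k K) :
    FunFld.div k x P = P.ord x := by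
  unfold FunFld.div
  rw [dif_pos (finite_support_ord hK x)]
  rfl

end Groth.Agent.Helper17.FF
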