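import Groth.Agent.Lib.Helper17.FF13

/-! `dim A/(A(D)+K) = g - δ(D)`; `dim W(D) = g - δ(D)`. -/

namespace Groth.Agent.Helper17.FF

open FunFld Polynomial Module

section LinAlg

variable {k M : Type*} [Field k] [AddCommGroup M] [Module k M]

lemma le_of_finrank_relQ_eq_zero {N₁ N₂ : Submodule k M} [FiniteDimensional k (RelQ N₁ N₂)]
    (h : finrank k (RelQ N₁ N₂) = 0) : N₂ ≤ N₁ := by
  have h1 : Subsingleton (RelQ N₁ N₂) := Module.finrank_zero_iff.1 h
  have h2 : Submodule.comap N₂.subtype N₁ = ⊤ := Submodule.Quotient.subsingleton_iff.1 h1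
  exact Submodule.comap_subtype_eq_top.1 h2

end LinAlg

variable {k K : Type*} [Field k] [Field K] [Algebra k K]

lemma diag_mem_adele (hK : IsFunctionField k K) (x : K) : diag k K x ∈ adele k K := by
  rw [mem_adele]
  by_cases hx : x = 0
  · subst hx
    exact Filter.Eventually.of_forall fun P => by simp
  · show {P : Place k K | ¬ P.1 (diag k K x P) ≤ 1}.Finite
    apply (finite_support_ord hK x).subset
    intro P hP
    rw [Set.mem_setOf_eq, diag_apply] at hP
    rw [Function.mem_support]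
    intro h0
    exact hP ((ord_nonneg_iff P hx).1 h0.ge)

lemma AD_le_adele (D : Divisor k K) : AD D ≤ adele k K := by
  intro a ha
  rw [mem_adele]
  show {P : Place k K | ¬ P.1 (a P) ≤ 1}.Finite
  apply (D.support.finite_toSet).subset
  intro P hP
  rw [Set.mem_setOf_eq] at hP
  rw [Finset.mem_coe, Finsupp.mem_support_iff]
  intro h0
  apply hP
  have := ha P
  rwa [h0, WithZero.exp_zero] at this

lemma range_diag_le_adele (hK : IsFunctionField k K) :
    LinearMap.range (diag k K) ≤ adele k K := by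
  rintro _ ⟨x, rfl⟩
  exact diag_mem_adele hK x

lemma smul_mem_adele (hK : IsFunctionField k K) (x : K) :
    ∀ a ∈ adele k K, x • a ∈ adele k K := by
  intro a ha
  rw [mem_adele] at ha ⊢
  have hx := diag_mem_adele hK x
  rw [mem_adele] at hx
  refine (ha.and hx).mono fun P h => ?_
  rw [Pi.smul_apply, smul_eq_mul, map_mul]
  exact mul_le_one' h.2 h.1

open scoped Classical in
lemma exists_AD_of_adele (D : Divisor k K) {a : Place k K → K} (ha : a ∈ adele k K) :
    ∃ D₁ : Divisor k K, D ≤ D₁ ∧ a ∈ AD D₁ := by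
  rw [mem_adele] at ha
  have hfin : {P : Place k K | ¬ P.1 (a P) ≤ 1}.Finite := ha
  let f : Place k K → ℤ := fun P => (D P ⊔ 0) + (if P.1 (a P) ≤ 1 then 0 else -(P.ord (a P)))
  have hf : (Function.support f).Finite := by
    apply ((D.support.finite_toSet).union hfin).subset
    intro P hP
    rw [Function.mem_support] at hP
    by_contra hn
    rw [Set.mem_union, not_or, Finset.mem_coe, Finsupp.mem_support_iff, not_not,
      Set.mem_setOf_eq, not_not] at hn
    apply hP
    show (D P ⊔ 0) + (if P.1 (a P) ≤ 1 then 0 else -(P.ord (a P))) = 0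
    rw [hn.1, if_pos hn.2]; simp
  have hnn : ∀ P : Place k K, 0 ≤ (if P.1 (a P) ≤ 1 then 0 else -(P.ord (a P))) := by
    intro P
    split_ifs with h
    · exact le_rfl
    · have ha0 : a P ≠ 0 := fun h0 => h (by rw [h0, map_zero]; exact zero_le')
      have := (ord_neg_iff P ha0).2 (not_le.1 h)
      omega
  refine ⟨Finsupp.ofSupportFinite f hf, fun P => ?_, fun P => ?_⟩
  · show D P ≤ f P
    have := hnn P
    show D P ≤ (D P ⊔ 0) + _
    have h2 : D P ≤ D P ⊔ 0 := le_sup_left
    linarith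
  · show P.1 (a P) ≤ WithZero.exp (f P)
    by_cases h : P.1 (a P) ≤ 1
    · refine h.trans ?_
      rw [← WithZero.exp_zero, WithZero.exp_le_exp]
      show 0 ≤ (D P ⊔ 0) + _
      have := hnn P
      have h2 : (0 : ℤ) ≤ D P ⊔ 0 := le_sup_right
      linarith
    · have ha0 : a P ≠ 0 := fun h0 => h (by rw [h0, map_zero]; exact zero_le')
      rw [val_le_exp_iff P ha0]
      show -(D P ⊔ 0 + (if P.1 (a P) ≤ 1 then 0 else -(P.ord (a P)))) ≤ _
      rw [if_neg h]
      have h2 : (0 : ℤ) ≤ D P ⊔ 0 := le_sup_right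
      linarith

theorem AD_sup_eq_adele (hK : IsFunctionField k K) {D : Divisor k K}
    (hD : delta D = genus k K) : AD D ⊔ LinearMap.range (diag k K) = adele k K := by
  apply le_antisymm (sup_le (AD_le_adele D) (range_diag_le_adele hK))
  intro a ha
  obtain ⟨D₁, hle, haD⟩ := exists_AD_of_adele D ha
  obtain ⟨hfd, hfr⟩ := finrank_AD_sup_K_quotient hK hle
  have h1 := delta_mono hK hle
  have h2 := delta_le_genus hK D₁
  have h3 : finrank k (RelQ (AD D ⊔ LinearMap.range (diag k K))
      (AD D₁ ⊔ LinearMap.range (diag k K))) = 0 := by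
    have : (finrank k (RelQ (AD D ⊔ LinearMap.range (diag k K))
      (AD D₁ ⊔ LinearMap.range (diag k K))) : ℤ) = 0 := by rw [hfr]; omega
    exact_mod_cast this
  exact le_of_finrank_relQ_eq_zero h3 (Submodule.mem_sup_left haD)

/-- every divisor lies below one with `δ = g` -/
lemma exists_ge_delta_eq_genus (hK : IsFunctionField k K) (D : Divisor k K) :
    ∃ D₁ : Divisor k K, D ≤ D₁ ∧ delta D₁ = genus k K := by
  obtain ⟨D₀, hD₀⟩ := exists_delta_eq_genus hK
  refine ⟨D ⊔ D₀, le_sup_left, le_antisymm (delta_le_genus hK _) ?_⟩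
  rw [← hD₀]
  exact delta_mono hK le_sup_right

theorem finrank_adele_quotient (hK : IsFunctionField k K) (D : Divisor k K) :
    FiniteDimensional k (↥(adele k K) ⧸ ADK D) ∧
      (finrank k (↥(adele k K) ⧸ ADK D) : ℤ) = (genus k K : ℤ) - delta D := by
  obtain ⟨D₁, hle, hD₁⟩ := exists_ge_delta_eq_genus hK D
  obtain ⟨hfd, hfr⟩ := finrank_AD_sup_K_quotient hK hle
  have hA := AD_sup_eq_adele hK hD₁
  have e : RelQ (AD D ⊔ LinearMap.range (diag k K)) (AD D₁ ⊔ LinearMap.range (diag k K)) ≃ₗ[k]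
      (↥(adele k K) ⧸ ADK D) := relQCongr rfl hA
  refine ⟨Module.Finite.equiv e, ?_⟩
  rw [← e.finrank_eq, hfr, hD₁]

theorem finrank_WD (hK : IsFunctionField k K) (D : Divisor k K) :
    FiniteDimensional k (WD D) ∧
      (finrank k (WD D) : ℤ) = (genus k K : ℤ) - delta D := by
  obtain ⟨hfd, hfr⟩ := finrank_adele_quotient hK D
  have e : Module.Dual k (↥(adele k K) ⧸ ADK D) ≃ₗ[k] WD D :=
    Submodule.dualQuotEquivDualAnnihilator (ADK D)
  refine ⟨Module.Finite.equiv e, ?_⟩
  rw [← e.finrank_eq, Subspace.dual_finrank_eq, hfr]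

end Groth.Agent.Helper17.FF
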