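import Groth.Agent.Lib.Helper17.FF15

/-! `dim_K W = 1`, Riemann–Roch and consequences. -/

namespace Groth.Agent.Helper17.FF

open FunFld Polynomial Module

variable {k K : Type*} [Field k] [Field K] [Algebra k K]

lemma ell_eq_zero_of_deg_neg (hK : IsFunctionField k K) (D : Divisor k K) (h : D.deg < 0) :
    ell D = 0 := by
  unfold ell
  rw [L_eq_bot_of_deg_neg hK D h, finrank_bot]

lemma mulWLin_mem_WD_of_mem_L (hK : IsFunctionField k K) {ω : Module.Dual k (adele k K)}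
    {A : Divisor k K} (hω : ω ∈ WD A) {E : Divisor k K} {x : K} (hx : x ∈ L (A - E)) :
    mulWLin hK ω x ∈ WD E := by
  by_cases hx0 : x = 0
  · rw [hx0, map_zero]; exact Submodule.zero_mem _
  · apply WD_anti _ (mulWLin_mem_WD hK hω hx0)
    intro P
    rw [Finsupp.add_apply, div_apply hK]
    have := (val_le_exp_iff P hx0 _).1 (hx P)
    rw [Finsupp.sub_apply] at this
    linarith

theorem exists_mulWLin_eq (hK : IsFunctionField k K) {ω₁ ω₂ : Module.Dual k (adele k K)}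
    (h₁ : IsWeil ω₁) (h0 : ω₁ ≠ 0) (h₂ : IsWeil ω₂) : ∃ x : K, mulWLin hK ω₁ x = ω₂ := by
  by_cases h20 : ω₂ = 0
  · exact ⟨0, by rw [map_zero, h20]⟩
  obtain ⟨A₁, hA₁⟩ := h₁
  obtain ⟨A₂, hA₂⟩ := h₂
  obtain ⟨P⟩ := exists_place hK
  obtain ⟨B, hBpos, hBm⟩ : ∃ B : Divisor k K, 0 < B.deg ∧
      3 * (genus k K : ℤ) - 3 - A₁.deg - A₂.deg < B.deg := by
    refine ⟨Finsupp.single P (((3 * (genus k K : ℤ) - 3 - A₁.deg - A₂.deg).toNat + 1 : ℕ) : ℤ),
      ?_, ?_⟩
    · rw [deg_single]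
      have := deg_pos hK P
      positivity
    · rw [deg_single]
      have h1 := deg_pos hK P
      have h2 : (1 : ℤ) ≤ (P.deg : ℤ) := by exact_mod_cast h1
      have h3 := Int.self_le_toNat (3 * (genus k K : ℤ) - 3 - A₁.deg - A₂.deg)
      push_cast
      nlinarith
  have hf1 := L_finite hK (A₁ + B)
  have hf2 := L_finite hK (A₂ + B)
  obtain ⟨hfW, hrW⟩ := finrank_WD hK (-B)
  have hV₁ : (L (A₁ + B)).map (mulWLin hK ω₁) ≤ WD (-B) := by
    rintro _ ⟨x, hx, rfl⟩
    exact mulWLin_mem_WD_of_mem_L hK hA₁ (by rwa [sub_neg_eq_add])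
  have hV₂ : (L (A₂ + B)).map (mulWLin hK ω₂) ≤ WD (-B) := by
    rintro _ ⟨x, hx, rfl⟩
    exact mulWLin_mem_WD_of_mem_L hK hA₂ (by rwa [sub_neg_eq_add])
  have hd₁ : finrank k ↥((L (A₁ + B)).map (mulWLin hK ω₁)) = ell (A₁ + B) :=
    (Submodule.equivMapOfInjective _ (mulWLin_injective hK h0) _).finrank_eq.symm
  have hd₂ : finrank k ↥((L (A₂ + B)).map (mulWLin hK ω₂)) = ell (A₂ + B) :=
    (Submodule.equivMapOfInjective _ (mulWLin_injective hK h20) _).finrank_eq.symm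
  have hne : (L (A₁ + B)).map (mulWLin hK ω₁) ⊓ (L (A₂ + B)).map (mulWLin hK ω₂) ≠ ⊥ := by
    intro hbot
    have h1 := Submodule.finrank_sup_add_finrank_inf_eq ((L (A₁ + B)).map (mulWLin hK ω₁))
      ((L (A₂ + B)).map (mulWLin hK ω₂))
    rw [hbot, finrank_bot, add_zero, hd₁, hd₂] at h1
    have h2 : finrank k ↥((L (A₁ + B)).map (mulWLin hK ω₁) ⊔ (L (A₂ + B)).map (mulWLin hK ω₂)) ≤
        finrank k (WD (-B)) := Submodule.finrank_mono (sup_le hV₁ hV₂)
    rw [h1] at h2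
    have h3 := delta_le_genus hK (A₁ + B)
    have h4 := delta_le_genus hK (A₂ + B)
    unfold delta at h3 h4 hrW
    rw [deg_add] at h3 h4
    rw [ell_eq_zero_of_deg_neg hK (-B) (by rw [deg_neg]; linarith), deg_neg] at hrW
    have h5 : ((ell (A₁ + B) + ell (A₂ + B) : ℕ) : ℤ) ≤ (finrank k (WD (-B)) : ℤ) := by
      exact_mod_cast h2
    push_cast at h5 hrW
    linarith
  obtain ⟨η, hη, hη0⟩ := Submodule.exists_mem_ne_zero_of_ne_bot hne
  obtain ⟨⟨x₁, hx₁, hx₁e⟩, ⟨x₂, hx₂, hx₂e⟩⟩ := hη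
  have hx₂0 : x₂ ≠ 0 := by
    rintro rfl
    rw [map_zero] at hx₂e
    exact hη0 hx₂e.symm
  refine ⟨x₂⁻¹ * x₁, ?_⟩
  rw [← mulWLin_mul, hx₁e, ← hx₂e, mulWLin_inv_cancel hK ω₂ hx₂0]

theorem isCanonical_linearEquiv (hK : IsFunctionField k K) {C₁ C₂ : Divisor k K}
    (h₁ : IsCanonical k K C₁) (h₂ : IsCanonical k K C₂) :
    ∃ x : K, x ≠ 0 ∧ C₂ = C₁ + FunFld.div k x := by
  obtain ⟨ω₁, h10, hd1⟩ := h₁
  obtain ⟨ω₂, h20, hd2⟩ := h₂
  obtain ⟨x, hx⟩ := exists_mulWLin_eq hK ⟨C₁, (IsDivOf.mem hd1)⟩ h10 ⟨C₂, (IsDivOf.mem hd2)⟩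
  have hx0 : x ≠ 0 := by
    rintro rfl
    rw [map_zero] at hx
    exact h20 hx.symm
  refine ⟨x, hx0, ?_⟩
  have := isDivOf_mulWLin hK hd1 hx0
  rw [hx] at this
  exact isDivOf_unique hd2 this

theorem mulWLin_surjOn (hK : IsFunctionField k K) {ω : Module.Dual k (adele k K)}
    {C : Divisor k K} (hω : IsDivOf ω C) (D : Divisor k K) {ω' : Module.Dual k (adele k K)}
    (hω' : ω' ∈ WD D) : ∃ x ∈ L (C - D), mulWLin hK ω x = ω' := by
  by_cases h0 : ω' = 0
  · exact ⟨0, Submodule.zero_mem _, by rw [map_zero, h0]⟩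
  obtain ⟨x, hx⟩ := exists_mulWLin_eq hK ⟨C, (IsDivOf.mem hω)⟩ (IsDivOf.ne_zero hK hω) ⟨D, hω'⟩
  have hx0 : x ≠ 0 := by
    rintro rfl
    rw [map_zero] at hx
    exact h0 hx.symm
  refine ⟨x, ?_, hx⟩
  have h1 := isDivOf_mulWLin hK hω hx0
  rw [hx] at h1
  have h2 := (h1 D).1 hω'
  intro P
  rw [val_le_exp_iff P hx0, Finsupp.sub_apply]
  have h3 := h2 P
  rw [Finsupp.add_apply, div_apply hK] at h3
  linarith

theorem mulWLin_existsUnique (hK : IsFunctionField k K) {ω : Module.Dual k (adele k K)}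
    {C : Divisor k K} (hω : IsDivOf ω C) (D : Divisor k K) {ω' : Module.Dual k (adele k K)}
    (hω' : ω' ∈ WD D) : ∃! x : K, x ∈ L (C - D) ∧ mulWLin hK ω x = ω' := by
  obtain ⟨x, hx, hxe⟩ := mulWLin_surjOn hK hω D hω'
  refine ⟨x, ⟨hx, hxe⟩, fun y hy => ?_⟩
  exact mulWLin_injective hK (IsDivOf.ne_zero hK hω) (hy.2.trans hxe.symm)

/-- `L(C - D) ≃ W(D)` -/
theorem ell_sub_eq_finrank_WD (hK : IsFunctionField k K) {ω : Module.Dual k (adele k K)}
    {C : Divisor k K} (hω : IsDivOf ω C) (D : Divisor k K) :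
    ell (C - D) = finrank k (WD D) := by
  let f : ↥(L (C - D)) →ₗ[k] ↥(WD D) :=
    (mulWLin hK ω).restrict (p := L (C - D)) (q := WD D)
      (fun x hx => mulWLin_mem_WD_of_mem_L hK (IsDivOf.mem hω) hx)
  have hf : Function.Bijective f := by
    constructor
    · intro x y hxy
      have h1 : mulWLin hK ω x = mulWLin hK ω y := congrArg Subtype.val hxy
      exact Subtype.ext (mulWLin_injective hK (IsDivOf.ne_zero hK hω) h1)
    · rintro ⟨ω', hω'⟩
      obtain ⟨x, hx, hxe⟩ := mulWLin_surjOn hK hω D hω'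
      exact ⟨⟨x, hx⟩, Subtype.ext hxe⟩
  exact (LinearEquiv.ofBijective f hf).finrank_eq

theorem riemann_roch (hK : IsFunctionField k K) {C : Divisor k K} (hC : IsCanonical k K C)
    (D : Divisor k K) :
    (ell D : ℤ) = D.deg + 1 - genus k K + ell (C - D) := by
  obtain ⟨ω, h0, hω⟩ := hC
  rw [ell_sub_eq_finrank_WD hK hω D, (finrank_WD hK D).2]
  unfold delta
  ring

lemma eq_zero_of_nonneg_of_deg_eq_zero (hK : IsFunctionField k K) {E : Divisor k K}
    (h : 0 ≤ E) (hd : E.deg = 0) : E = 0 := by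
  classical
  by_contra hne
  obtain ⟨P, hP⟩ : ∃ P, E P ≠ 0 := by
    by_contra hcon
    push Not at hcon
    exact hne (Finsupp.ext hcon)
  have h1 : 0 ≤ E P := h P
  have h2 : Finsupp.single P 1 ≤ E := by
    intro Q
    by_cases hQ : Q = P
    · subst hQ; rw [Finsupp.single_eq_same]; omega
    · rw [Finsupp.single_eq_of_ne hQ]; exact h Q
  have h3 := deg_mono h2
  rw [deg_single, hd, one_mul] at h3
  have := deg_pos hK P
  have h4 : (0 : ℤ) < (P.deg : ℤ) := by exact_mod_cast this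
  linarith

theorem exists_canonical (hK : IsFunctionField k K) : ∃ C : Divisor k K, IsCanonical k K C := by
  obtain ⟨P⟩ := exists_place hK
  obtain ⟨hfd, hfr⟩ := finrank_WD hK (Finsupp.single P (-2))
  have hdeg : Divisor.deg (k := k) (K := K) (Finsupp.single P (-2)) < 0 := by
    rw [deg_single]
    have := deg_pos hK P
    have h4 : (0 : ℤ) < (P.deg : ℤ) := by exact_mod_cast this
    linarith
  unfold delta at hfr
  rw [ell_eq_zero_of_deg_neg hK _ hdeg, deg_single] at hfr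
  have hpos : 0 < finrank k (WD (Finsupp.single P (-2) : Divisor k K)) := by
    have := deg_pos hK P
    have h4 : (1 : ℤ) ≤ (P.deg : ℤ) := by exact_mod_cast this
    have h5 : (0 : ℤ) < (finrank k (WD (Finsupp.single P (-2) : Divisor k K)) : ℤ) := by
      rw [hfr]; push_cast; linarith
    exact_mod_cast h5
  have : Nontrivial (WD (Finsupp.single P (-2) : Divisor k K)) :=
    Module.nontrivial_of_finrank_pos hpos
  obtain ⟨⟨ω, hω⟩, hω0⟩ := exists_ne (0 : WD (Finsupp.single P (-2) : Divisor k K))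
  have hω0' : ω ≠ 0 := fun h => hω0 (Subtype.ext h)
  obtain ⟨C, hC⟩ := exists_isDivOf hK ω ⟨_, hω⟩ hω0'
  exact ⟨C, ω, hω0', hC⟩

lemma ell_zero (hK : IsFunctionField k K) : ell (0 : Divisor k K) = 1 := (L_zero_finite hK).2

theorem isCanonical_iff (hK : IsFunctionField k K) (C : Divisor k K) :
    IsCanonical k K C ↔ (ell C = genus k K ∧ C.deg = 2 * genus k K - 2) := by
  constructor
  · intro hC
    have h1 := riemann_roch hK hC 0
    have h2 := riemann_roch hK hC C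
    rw [sub_zero, ell_zero hK, deg_zero] at h1
    rw [sub_self, ell_zero hK] at h2
    push_cast at h1 h2
    have h3 : (ell C : ℤ) = genus k K := by linarith
    exact ⟨by exact_mod_cast h3, by linarith⟩
  · rintro ⟨h1, h2⟩
    obtain ⟨C₀, hC₀⟩ := exists_canonical hK
    have h3 := riemann_roch hK hC₀ C
    have h4 := riemann_roch hK hC₀ 0
    have h5 := riemann_roch hK hC₀ C₀
    rw [sub_zero, ell_zero hK, deg_zero] at h4
    rw [sub_self, ell_zero hK] at h5
    push_cast at h4 h5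
    have h6 : (ell (C₀ - C) : ℤ) = 1 := by
      have : (ell C : ℤ) = genus k K := by exact_mod_cast h1
      linarith
    have h7 : 0 < ell (C₀ - C) := by
      have : (0 : ℤ) < ell (C₀ - C) := by rw [h6]; exact one_pos
      exact_mod_cast this
    obtain ⟨x, hxL, hx0⟩ := exists_ne_zero_of_ell_pos h7
    have h8 : 0 ≤ C₀ - C + FunFld.div k x := by
      intro P
      rw [Finsupp.zero_apply, Finsupp.add_apply, div_apply hK]
      have := (val_le_exp_iff P hx0 _).1 (hxL P)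
      linarith
    have h9 : (C₀ - C + FunFld.div k x).deg = 0 := by
      rw [deg_add, deg_sub, deg_div hK]
      linarith
    have h10 := eq_zero_of_nonneg_of_deg_eq_zero hK h8 h9
    have h11 : C = C₀ + FunFld.div k x := by
      have : C₀ + FunFld.div k x - C = 0 := by rw [← h10]; abel
      exact (sub_eq_zero.1 this).symm
    obtain ⟨ω₀, hω₀, hd₀⟩ := hC₀
    rw [h11]
    exact ⟨mulWLin hK ω₀ x, fun h => hx0 (mulWLin_injective hK hω₀ (by rw [h, map_zero])),
      isDivOf_mulWLin hK hd₀ hx0⟩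

theorem ell_eq_of_deg_ge (hK : IsFunctionField k K) (D : Divisor k K)
    (h : 2 * (genus k K : ℤ) - 1 ≤ D.deg) : (ell D : ℤ) = D.deg + 1 - genus k K := by
  obtain ⟨C, hC⟩ := exists_canonical hK
  have h1 := riemann_roch hK hC D
  have h2 := ((isCanonical_iff hK C).1 hC).2
  rw [ell_eq_zero_of_deg_neg hK (C - D) (by rw [deg_sub]; linarith)] at h1
  push_cast at h1
  linarith

end Groth.Agent.Helper17.FF
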