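import Mathlib
import Groth.Prelude.Def_LocRes
import Groth.Agent.Lib.Helper17.FFLoc
import Groth.Agent.Lib.Helper17.FFW
namespace Groth.Agent.Helper17.FF

universe u v w v'

open FunFld Module LaurentSeries HahnSeries Polynomial

section DiffExp

open scoped KaehlerDifferential

variable {k : Type u} {K : Type v} {K' : Type v'} [Field k] [Field K] [Field K'] [Algebra k K] [Algebra K K']
  [Algebra k K'] [IsScalarTower k K K']

lemma finrank_kaehler_of_separable (hfr : finrank K (Ω[K⁄k]) = 1) [FiniteDimensional K K']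
    [Algebra.IsSeparable K K'] : finrank K' (Ω[K'⁄k]) = 1 := by
  haveI : Algebra.FormallyEtale K K' := Algebra.FormallyEtale.of_isSeparable K K'
  let e := KaehlerDifferential.tensorKaehlerEquivOfFormallyEtale k K K'
  rw [← e.finrank_eq, Module.finrank_baseChange, hfr]

lemma D_algebraMap_eq {z t c : K}
    (h : KaehlerDifferential.D k K z = c • KaehlerDifferential.D k K t) :
    KaehlerDifferential.D k K' (algebraMap K K' z) =
      algebraMap K K' c • KaehlerDifferential.D k K' (algebraMap K K' t) := by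
  have h1 := congrArg (KaehlerDifferential.map k k K K') h
  rw [map_smul, KaehlerDifferential.map_D, KaehlerDifferential.map_D] at h1
  rw [h1, algebraMap_smul]

variable {F F' : Type w} [Field F] [Algebra k F] [Field F'] [Algebra k F']

lemma val_D_expansion {w : Valuation K (WithZero (Multiplicative ℤ))} {φ : K →ₐ[k] F⸨X⸩}
    (hφ : LocRes.IsExpansionAt w φ) {t : K} (ht : w t = WithZero.exp (-1)) {z c : K}
    (h : KaehlerDifferential.D k K z = c • KaehlerDifferential.D k K t) :
    Valued.v (LocRes.D F (φ z)) = w c := by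
  rw [dExp_eq φ h, map_mul, val_D_unif hφ ht, mul_one, hφ.1]

/-- the different exponent is the order of `dt/ds` -/
theorem diffExp_eq_ord (hfr : finrank K (Ω[K⁄k]) = 1) {P : Place k K} {Q : Place k K'} {e : ℕ}
    (he : IsOverWith Q P e) {φ : K →ₐ[k] F⸨X⸩} (hφ : LocRes.IsExpansionAt P.1 φ)
    {ψ : K' →ₐ[k] F'⸨X⸩} (hψ : LocRes.IsExpansionAt Q.1 ψ) (x : K)
    (hx : LocRes.vDiff φ 1 x ≠ 0) (hx' : LocRes.vDiff ψ 1 (algebraMap K K' x) ≠ 0)
    {t : K} (ht : P.1 t = WithZero.exp (-1)) {s : K'} (hs : Q.1 s = WithZero.exp (-1)) {b : K'}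
    (hb : KaehlerDifferential.D k K' (algebraMap K K' t) = b • KaehlerDifferential.D k K' s) :
    LocRes.diffExp φ ψ e x = Q.ord b := by
  have htD := D_unif_ne_zero hφ ht
  obtain ⟨c, hc⟩ := exists_smul_D_eq hfr htD x
  have h1 : LocRes.vDiff φ 1 x = P.1 c := by
    unfold LocRes.vDiff
    rw [map_one, one_mul, val_D_expansion hφ ht hc]
  have h2 : KaehlerDifferential.D k K' (algebraMap K K' x) =
      (algebraMap K K' c * b) • KaehlerDifferential.D k K' s := by
    rw [D_algebraMap_eq hc, hb, smul_smul]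
  have h3 : LocRes.vDiff ψ 1 (algebraMap K K' x) = P.1 c ^ e * Q.1 b := by
    unfold LocRes.vDiff
    rw [map_one, one_mul, val_D_expansion hψ hs h2, map_mul, he c]
  have hc0 : P.1 c ≠ 0 := by rw [← h1]; exact hx
  have hb0 : Q.1 b ≠ 0 := by
    intro h0
    apply hx'
    rw [h3, h0, mul_zero]
  unfold LocRes.diffExp LocRes.ordDiff Place.ord
  rw [h1, h3, WithZero.log_mul (pow_ne_zero _ hc0) hb0, WithZero.log_pow]
  simp only [nsmul_eq_mul]
  ring

/-- the derivative of a polynomial expression, over the base `k` -/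
lemma D_aeval (p : K[X]) (s : K') :
    KaehlerDifferential.D k K' (aeval s p) =
      aeval s (derivative p) • KaehlerDifferential.D k K' s +
        p.sum (fun i a => s ^ i • KaehlerDifferential.D k K' (algebraMap K K' a)) := by
  induction p using Polynomial.induction_on' with
  | add p q hp hq =>
    rw [map_add, map_add, derivative_add, map_add, add_smul, hp, hq,
      Polynomial.sum_add_index p q _ (fun i => by simp) (fun i a b => by
        simp only [map_add, smul_add])]
    abel
  | monomial n a =>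
    rw [aeval_monomial, derivative_monomial, aeval_monomial, Polynomial.sum_monomial_index _ _
      (by simp), Derivation.leibniz, Derivation.leibniz_pow, map_mul, map_natCast]
    congr 1
    rw [← Nat.cast_smul_eq_nsmul K', smul_smul, smul_smul, mul_assoc]

end DiffExp

section Eisenstein

variable {k : Type u} {K : Type v} {K' : Type v'} [Field k] [Field K] [Field K'] [Algebra k K] [Algebra K K']
  [Algebra k K']

/-- the value of a term `a sⁱ` at a totally ramified place -/
lemma val_term {P : Place k K} {Q : Place k K'} {e : ℕ} (he : IsOverWith Q P e) {s : K'}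
    (hs : Q.1 s = WithZero.exp (-1)) {a : K} (ha : a ≠ 0) (i : ℕ) :
    Q.1 (algebraMap K K' a * s ^ i) = WithZero.exp (-((e : ℤ) * P.ord a + i)) := by
  rw [map_mul, map_pow, he a, hs, val_eq_exp_neg_ord P ha, ← WithZero.exp_nsmul,
    ← WithZero.exp_nsmul, ← WithZero.exp_add]
  congr 1
  simp only [nsmul_eq_mul]
  ring

/-- a monic polynomial of degree at most `e` killing a uniformizer of a place with ramification
index `e` is an Eisenstein polynomial of degree `e` -/
theorem eisenstein_of_ramified {P : Place k K} {Q : Place k K'} {e : ℕ} (he : IsOverWith Q P e)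
    {s : K'} (hs : Q.1 s = WithZero.exp (-1)) (f : K[X]) (hm : f.Monic) (hd : f.natDegree ≤ e)
    (h0 : aeval s f = 0) :
    f.natDegree = e ∧ P.1 (f.coeff 0) = WithZero.exp (-1) ∧ ∀ i < e, P.1 (f.coeff i) < 1 := by
  classical
  have hepos := isOverWith_pos he
  set d := f.natDegree with hdd
  set T : ℕ → K' := fun i => algebraMap K K' (f.coeff i) * s ^ i with hT
  have hsum : ∑ i ∈ Finset.range (d + 1), T i = 0 := by
    rw [← h0, aeval_eq_sum_range]
    refine Finset.sum_congr rfl fun i _ => ?_
    rw [hT, Algebra.smul_def]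
  have hs0 : s ≠ 0 := fun h => by
    rw [h, map_zero] at hs; exact WithZero.exp_ne_zero hs.symm
  have hTd : Q.1 (T d) = WithZero.exp (-(d : ℤ)) := by
    rw [hT]
    simp only
    rw [hdd, hm.coeff_natDegree, map_one, one_mul, map_pow, hs, ← WithZero.exp_nsmul]
    congr 1
    simp
  obtain ⟨j, hj, hmax⟩ := Finset.exists_max_image (Finset.range (d + 1)) (fun i => Q.1 (T i))
    ⟨d, Finset.mem_range.2 (Nat.lt_succ_self d)⟩
  have hjpos : Q.1 (T j) ≠ 0 := by
    intro h
    have := hmax d (Finset.mem_range.2 (Nat.lt_succ_self d))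
    rw [h, hTd] at this
    exact WithZero.exp_ne_zero (le_antisymm this zero_le')
  obtain ⟨i, hi, hij, hieq⟩ : ∃ i ∈ Finset.range (d + 1), i ≠ j ∧ Q.1 (T i) = Q.1 (T j) := by
    by_contra hcon
    push Not at hcon
    have h1 := Valuation.map_sum_eq_of_lt Q.1 hj (fun i hi => by
      rw [Finset.mem_sdiff, Finset.mem_singleton] at hi
      exact lt_of_le_of_ne (hmax i hi.1) (hcon i hi.1 hi.2))
    rw [hsum, map_zero] at h1
    exact hjpos h1.symm
  have hcoeff_ne : ∀ i, Q.1 (T i) ≠ 0 → f.coeff i ≠ 0 := by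
    intro i h hc
    apply h
    rw [hT]
    simp only
    rw [hc, map_zero, zero_mul, map_zero]
  have hai := hcoeff_ne i (by rw [hieq]; exact hjpos)
  have haj := hcoeff_ne j hjpos
  have hvi : Q.1 (T i) = WithZero.exp (-((e : ℤ) * P.ord (f.coeff i) + i)) := val_term he hs hai i
  have hvj : Q.1 (T j) = WithZero.exp (-((e : ℤ) * P.ord (f.coeff j) + j)) := val_term he hs haj j
  have heq1 : (e : ℤ) * P.ord (f.coeff i) + i = (e : ℤ) * P.ord (f.coeff j) + j := by
    have := hieq
    rw [hvi, hvj] at this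
    have := WithZero.exp_injective this
    linarith
  rw [Finset.mem_range] at hi hj
  -- `e ∣ i - j`
  have hdvd : (e : ℤ) ∣ (i : ℤ) - j := ⟨P.ord (f.coeff j) - P.ord (f.coeff i), by linarith⟩
  have hdlee : (d : ℤ) ≤ e := by exact_mod_cast hd
  have hcase : (i = 0 ∧ j = d ∨ i = d ∧ j = 0) ∧ d = e := by
    obtain ⟨q, hq⟩ := hdvd
    have hi' : (i : ℤ) ≤ d := by exact_mod_cast Nat.lt_succ_iff.1 hi
    have hj' : (j : ℤ) ≤ d := by exact_mod_cast Nat.lt_succ_iff.1 hj
    have hi0 : (0 : ℤ) ≤ i := by positivity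
    have hj0 : (0 : ℤ) ≤ j := by positivity
    have hne : (i : ℤ) ≠ j := by exact_mod_cast hij
    have hepos' : (0 : ℤ) < e := by exact_mod_cast hepos
    have hq1 : q = 1 ∨ q = -1 := by
      have h1 : -(e : ℤ) ≤ e * q := by nlinarith
      have h2 : (e : ℤ) * q ≤ e := by nlinarith
      have h3 : q ≠ 0 := by
        rintro rfl
        apply hne
        linarith
      have h4 : -1 ≤ q := by
        by_contra hc
        push Not at hc
        nlinarith
      have h5 : q ≤ 1 := by
        by_contra hc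
        push Not at hc
        nlinarith
      omega
    rcases hq1 with rfl | rfl
    · have h6 : (i : ℤ) = d ∧ (j : ℤ) = 0 ∧ (d : ℤ) = e := by
        refine ⟨?_, ?_, ?_⟩ <;> nlinarith
      refine ⟨Or.inr ⟨by exact_mod_cast h6.1, by exact_mod_cast h6.2.1⟩, by exact_mod_cast h6.2.2⟩
    · have h6 : (j : ℤ) = d ∧ (i : ℤ) = 0 ∧ (d : ℤ) = e := by
        refine ⟨?_, ?_, ?_⟩ <;> nlinarith
      refine ⟨Or.inl ⟨by exact_mod_cast h6.2.1, by exact_mod_cast h6.1⟩, by exact_mod_cast h6.2.2⟩
  obtain ⟨hcase, hde⟩ := hcase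
  -- the maximal value is `exp (-e)`
  have hM : Q.1 (T j) = WithZero.exp (-(e : ℤ)) := by
    rcases hcase with ⟨-, hjd⟩ | ⟨hid, -⟩
    · rw [hjd, hTd, hde]
    · rw [← hieq, hid, hTd, hde]
  have hT0 : Q.1 (T 0) = WithZero.exp (-(e : ℤ)) := by
    rcases hcase with ⟨hi0, -⟩ | ⟨-, hj0⟩
    · rw [← hi0, hieq, hM]
    · rw [← hj0, hM]
  refine ⟨hde, ?_, ?_⟩
  · have ha0 := hcoeff_ne 0 (by rw [hT0]; exact WithZero.exp_ne_zero)
    have h1 := val_term he hs ha0 0
    rw [show Q.1 (algebraMap K K' (f.coeff 0) * s ^ 0) = Q.1 (T 0) from rfl, hT0] at h1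
    have h2 := WithZero.exp_injective h1
    have h3 : P.ord (f.coeff 0) = 1 := by
      have hepos' : (0 : ℤ) < e := by exact_mod_cast hepos
      push_cast at h2
      nlinarith
    rw [val_eq_exp_neg_ord P ha0, h3]
  · intro l hl
    by_cases hal : f.coeff l = 0
    · rw [hal, map_zero]; exact zero_lt_one
    have hl' : l ∈ Finset.range (d + 1) := Finset.mem_range.2 (by omega)
    have h1 := hmax l hl'
    rw [hM, show Q.1 (T l) = Q.1 (algebraMap K K' (f.coeff l) * s ^ l) from rfl,
      val_term he hs hal l, WithZero.exp_le_exp] at h1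
    have hepos' : (0 : ℤ) < e := by exact_mod_cast hepos
    have hl'' : (l : ℤ) < e := by exact_mod_cast hl
    have h2 : 0 < P.ord (f.coeff l) := by
      by_contra hc
      push Not at hc
      nlinarith
    rw [val_eq_exp_neg_ord P hal, ← WithZero.exp_zero, WithZero.exp_lt_exp]
    omega

end Eisenstein

section TotRam

open scoped KaehlerDifferential

variable {k : Type u} {K : Type v} {K' : Type v'} [Field k] [Field K] [Field K'] [Algebra k K] [Algebra K K']
  [Algebra k K'] [IsScalarTower k K K'] {F F' : Type w} [Field F] [Algebra k F] [Field F']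
  [Algebra k F']

theorem ord_derivative_minpoly_totallyRamified (hfr : finrank K (Ω[K⁄k]) = 1)
    [FiniteDimensional K K'] [Algebra.IsSeparable K K']
    {P : Place k K} {Q : Place k K'} {e : ℕ}
    (he : IsOverWith Q P e) {φ : K →ₐ[k] F⸨X⸩} (hφ : LocRes.IsExpansionAt P.1 φ)
    {ψ : K' →ₐ[k] F'⸨X⸩} (hψ : LocRes.IsExpansionAt Q.1 ψ) (x : K)
    (hx : LocRes.vDiff φ 1 x ≠ 0) (hx' : LocRes.vDiff ψ 1 (algebraMap K K' x) ≠ 0)
    (hn : e = Module.finrank K K') (s : K') (hs : Q.1 s = WithZero.exp (-1)) :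
    Q.ord (Polynomial.aeval s (Polynomial.derivative (minpoly K s))) =
      LocRes.diffExp φ ψ e x := by
  classical
  obtain ⟨t, ht⟩ := hφ.2.2
  have hfr' : finrank K' (Ω[K'⁄k]) = 1 := finrank_kaehler_of_separable hfr
  have hsD := D_unif_ne_zero hψ hs
  have htD := D_unif_ne_zero hφ ht
  obtain ⟨b, hb⟩ := exists_smul_D_eq hfr' hsD (algebraMap K K' t)
  rw [diffExp_eq_ord hfr he hφ hψ x hx hx' ht hs hb]
  have hint : IsIntegral K s := Algebra.IsIntegral.isIntegral s
  set f := minpoly K s with hf
  have hm : f.Monic := minpoly.monic hint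
  have hd : f.natDegree ≤ e := by rw [hn]; exact minpoly.natDegree_le s
  have h0 : aeval s f = 0 := minpoly.aeval K s
  obtain ⟨hde, ha0, hai⟩ := eisenstein_of_ramified he hs f hm hd h0
  have hepos := isOverWith_pos he
  -- derivatives of the coefficients with respect to `t`
  choose a' ha' using fun i : ℕ => exists_smul_D_eq hfr htD (f.coeff i)
  have hva' : ∀ i, P.1 (a' i) = Valued.v (LocRes.D F (φ (f.coeff i))) := fun i =>
    (val_D_expansion hφ ht (ha' i)).symm
  have hle : ∀ i, P.1 (f.coeff i) ≤ 1 := by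
    intro i
    rcases lt_trichotomy i e with h | h | h
    · exact (hai i h).le
    · rw [h, ← hde, hm.coeff_natDegree, map_one]
    · rw [coeff_eq_zero_of_natDegree_lt (by omega), map_zero]; exact zero_le_one
  have ha'le : ∀ i, P.1 (a' i) ≤ 1 := fun i => by
    rw [hva']
    exact val_D_le_one (by rw [hφ.1]; exact hle i)
  have ha'0 : P.1 (a' 0) = 1 := by
    rw [hva']
    exact val_D_uniformizer (by rw [hφ.1]; exact ha0)
  -- differentiate the relation `f(s) = 0`
  have h1 := D_aeval (k := k) f s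
  rw [h0, map_zero] at h1
  set S : K' := ∑ i ∈ f.support, s ^ i * algebraMap K K' (a' i) with hS
  have h2 : f.sum (fun i a => s ^ i • KaehlerDifferential.D k K' (algebraMap K K' a)) =
      (S * b) • KaehlerDifferential.D k K' s := by
    rw [Polynomial.sum_def, hS, Finset.sum_mul, Finset.sum_smul]
    refine Finset.sum_congr rfl fun i _ => ?_
    rw [D_algebraMap_eq (ha' i), hb, smul_smul, smul_smul, mul_assoc]
  rw [h2, ← add_smul] at h1
  have h3 : aeval s (derivative f) + S * b = 0 := by
    rcases smul_eq_zero.1 h1.symm with h | h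
    · exact h
    · exact absurd h hsD
  have h4 : aeval s (derivative f) = -(S * b) := eq_neg_of_add_eq_zero_left h3
  have h0mem : 0 ∈ f.support := by
    rw [Polynomial.mem_support_iff]
    intro h
    rw [h, map_zero] at ha0
    exact WithZero.exp_ne_zero ha0.symm
  have hS1 : Q.1 S = 1 := by
    rw [hS, Valuation.map_sum_eq_of_lt Q.1 h0mem]
    · rw [pow_zero, one_mul, he, ha'0, one_pow]
    · intro i hi
      rw [Finset.mem_sdiff, Finset.mem_singleton] at hi
      rw [pow_zero, one_mul, he (a' 0), ha'0, one_pow, map_mul, map_pow, hs, he]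
      have h5 : Q.1 s ^ i < 1 := by
        rw [hs]
        exact pow_lt_one' exp_neg_one_lt_one hi.2
      rw [hs] at h5
      calc WithZero.exp (-1) ^ i * P.1 (a' i) ^ e ≤ WithZero.exp (-1) ^ i * 1 :=
            mul_le_mul_right (pow_le_one' (ha'le i) e) _
        _ = WithZero.exp (-1) ^ i := mul_one _
        _ < 1 := h5
  unfold Place.ord
  rw [h4, Valuation.map_neg, map_mul, hS1, one_mul]

end TotRam

end Groth.Agent.Helper17.FF
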