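import Mathlib
import Groth.Agent.Lib.Helper17.FFWk2
namespace Groth.Agent.Helper17.FF

open FunFld Polynomial Module IntermediateField

section Norm1

variable {k M L : Type*} [Field k] [Field M] [Field L] [Algebra k M] [Algebra M L]
  [Algebra k L] [IsScalarTower k M L]

lemma ord_prod (Q : Place k L) {ι : Type*} (s : Finset ι) (f : ι → L) (hf : ∀ i ∈ s, f i ≠ 0) :
    Q.ord (∏ i ∈ s, f i) = ∑ i ∈ s, Q.ord (f i) := by
  classical
  induction s using Finset.induction_on with
  | empty =>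
    simp only [Finset.prod_empty, Finset.sum_empty]
    rw [Place.ord, map_one, WithZero.log_one, neg_zero]
  | insert a s ha ih =>
    rw [Finset.prod_insert ha, Finset.sum_insert ha, ord_mul Q (hf a (Finset.mem_insert_self a s))
      (Finset.prod_ne_zero_iff.2 fun i hi => hf i (Finset.mem_insert_of_mem hi)),
      ih fun i hi => hf i (Finset.mem_insert_of_mem hi)]

/-- the norm formula for `L/M` -/
def NormFormula (k M L : Type*) [Field k] [Field M] [Field L] [Algebra k M] [Algebra M L]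
    [Algebra k L] : Prop :=
  ∀ (P : Place k M) (x : L) (Qs : Finset (Place k L)), (∀ Q, Q ∈ Qs ↔ IsOver Q P) →
    (P.deg : ℤ) * P.ord (Algebra.norm M x) = ∑ Q ∈ Qs, (Q.deg : ℤ) * Q.ord x

variable [FiniteDimensional M L]

lemma card_fiber_galPlace [IsGalois M L] (Q₀ : Place k L) (τ : L ≃ₐ[M] L) :
    Nat.card {σ : L ≃ₐ[M] L // galPlace σ Q₀ = galPlace τ Q₀} =
      Nat.card (Q₀.O.decompositionSubgroup M) := by
  apply Nat.card_congr
  refine ⟨fun σ => ⟨σ.1 * τ⁻¹, (mem_decomp_iff _ Q₀).2 ?_⟩,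
    fun ρ => ⟨ρ.1 * τ, ?_⟩, fun σ => ?_, fun ρ => ?_⟩
  · rw [← galPlace_mul, σ.2, galPlace_mul, mul_inv_cancel, galPlace_one]
  · rw [← galPlace_mul, (mem_decomp_iff _ Q₀).1 ρ.2]
  · apply Subtype.ext
    show σ.1 * τ⁻¹ * τ = σ.1
    rw [inv_mul_cancel_right]
  · apply Subtype.ext
    show ρ.1 * τ * τ⁻¹ = ρ.1
    rw [mul_inv_cancel_right]

theorem normFormula_galois (hM : IsWeakFF k M) [IsGalois M L] : NormFormula k M L := by
  classical
  intro P x Qs hQs
  rcases eq_or_ne x 0 with rfl | hx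
  · simp [ord_zero]
  obtain ⟨hfin, hsum⟩ := wk_sum_ramIdx_mul_deg (L := L) hM P
  have hne : Qs.Nonempty := by
    by_contra hemp
    rw [Finset.not_nonempty_iff_eq_empty] at hemp
    have h1 := hsum Qs hQs
    rw [hemp, Finset.sum_empty] at h1
    have h2 : 0 < finrank M L * P.deg := Nat.mul_pos Module.finrank_pos (wk_deg_pos hM P)
    omega
  obtain ⟨Q₀, hQ₀⟩ := hne
  obtain ⟨e, he⟩ := (hQs Q₀).1 hQ₀
  have hepos := isOverWith_pos he
  -- the norm as a product
  have hN := Algebra.norm_eq_prod_automorphisms M x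
  have h1 : Q₀.ord (algebraMap M L (Algebra.norm M x)) = e * P.ord (Algebra.norm M x) :=
    isOverWith_ord he _
  have h2 : Q₀.ord (algebraMap M L (Algebra.norm M x)) =
      ∑ σ : L ≃ₐ[M] L, (galPlace σ Q₀).ord x := by
    rw [hN, ord_prod Q₀ _ _ (fun σ _ => by simpa using hx)]
    rfl
  -- fiberwise
  have hmaps : ∀ σ ∈ (Finset.univ : Finset (L ≃ₐ[M] L)), galPlace σ Q₀ ∈ Qs := fun σ _ =>
    (hQs _).2 ⟨e, isOverWith_galPlace he σ⟩
  have h3 : ∑ σ : L ≃ₐ[M] L, (galPlace σ Q₀).ord x =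
      ∑ Q ∈ Qs, (Nat.card (Q₀.O.decompositionSubgroup M) : ℤ) * Q.ord x := by
    rw [← Finset.sum_fiberwise_of_maps_to hmaps]
    refine Finset.sum_congr rfl (fun Q hQ => ?_)
    obtain ⟨τ, rfl⟩ := exists_galPlace_of_isOver ⟨e, he⟩ ((hQs Q).1 hQ)
    rw [Finset.sum_congr rfl (fun σ hσ => by rw [(Finset.mem_filter.1 hσ).2]),
      Finset.sum_const, nsmul_eq_mul]
    congr 2
    rw [← card_fiber_galPlace Q₀ τ, Nat.card_eq_fintype_card, Fintype.card_subtype]
  have h4 := wk_card_decomp_mul_deg hM he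
  have h5 : ∀ Q ∈ Qs, Q.deg = Q₀.deg := fun Q hQ => (galois_conj_over he Q ((hQs Q).1 hQ)).2
  have h6 : (e : ℤ) * ((P.deg : ℤ) * P.ord (Algebra.norm M x)) =
      (e : ℤ) * ∑ Q ∈ Qs, (Q.deg : ℤ) * Q.ord x := by
    have h7 : ∑ Q ∈ Qs, (Q.deg : ℤ) * Q.ord x = (Q₀.deg : ℤ) * ∑ Q ∈ Qs, Q.ord x := by
      rw [Finset.mul_sum]
      exact Finset.sum_congr rfl (fun Q hQ => by rw [h5 Q hQ])
    rw [h7]
    have h8 : (e : ℤ) * P.ord (Algebra.norm M x) =
        (Nat.card (Q₀.O.decompositionSubgroup M) : ℤ) * ∑ Q ∈ Qs, Q.ord x := by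
      rw [← h1, h2, h3, Finset.mul_sum]
    have h4' : (Nat.card (Q₀.O.decompositionSubgroup M) : ℤ) * P.deg = e * Q₀.deg := by
      exact_mod_cast h4
    calc (e : ℤ) * ((P.deg : ℤ) * P.ord (Algebra.norm M x))
        = (P.deg : ℤ) * ((e : ℤ) * P.ord (Algebra.norm M x)) := by ring
      _ = (P.deg : ℤ) * ((Nat.card (Q₀.O.decompositionSubgroup M) : ℤ) * ∑ Q ∈ Qs, Q.ord x) := by
          rw [h8]
      _ = ((Nat.card (Q₀.O.decompositionSubgroup M) : ℤ) * P.deg) * ∑ Q ∈ Qs, Q.ord x := by ring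
      _ = _ := by rw [h4']; ring
  exact mul_left_cancel₀ (by exact_mod_cast hepos.ne') h6

end Norm1

open FunFld Polynomial Module IntermediateField

section Norm2

variable {k M L : Type*} [Field k] [Field M] [Field L] [Algebra k M] [Algebra M L]
  [Algebra k L] [IsScalarTower k M L] [FiniteDimensional M L]

/-- the norm of a purely inseparable extension -/
theorem norm_eq_pow_of_isPurelyInseparable [IsPurelyInseparable M L] (x : L) :
    algebraMap M L (Algebra.norm M x) = x ^ finrank M L := by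
  classical
  obtain ⟨n, hn⟩ := IsPurelyInseparable.minpoly_eq_X_sub_C_pow M (ringExpChar M) x
  have hsplit : ((minpoly M x).map (algebraMap M L)).Splits := by
    rw [hn]
    exact (Polynomial.Splits.X_sub_C x).pow _
  rw [Algebra.norm_eq_prod_roots L hsplit, Polynomial.aroots_def, hn, Polynomial.roots_pow,
    Polynomial.roots_X_sub_C, Multiset.prod_nsmul, Multiset.prod_singleton, ← pow_mul]
  congr 1
  have hint : IsIntegral M x := Algebra.IsIntegral.isIntegral x
  have h1 : finrank M M⟮x⟯ = (ringExpChar M) ^ n := by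
    rw [IntermediateField.adjoin.finrank hint]
    have h2 := congrArg Polynomial.natDegree hn
    rw [Polynomial.natDegree_map, Polynomial.natDegree_pow, Polynomial.natDegree_X_sub_C,
      mul_one] at h2
    exact h2
  rw [← h1, Module.finrank_mul_finrank]

theorem unique_place_over_of_isPurelyInseparable [IsPurelyInseparable M L] {Q Q' : Place k L}
    {P : Place k M} (h : IsOver Q P) (h' : IsOver Q' P) : Q = Q' := by
  obtain ⟨e, he⟩ := h
  obtain ⟨e', he'⟩ := h'
  apply place_ext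
  intro y
  obtain ⟨n, z, hz⟩ := IsPurelyInseparable.pow_mem M (ringExpChar M) y
  have hpos : ringExpChar M ^ n ≠ 0 := by
    have := expChar_pos M (ringExpChar M)
    positivity
  have h1 : Q.1 y ≤ 1 ↔ Q.1 (y ^ ringExpChar M ^ n) ≤ 1 := by
    rw [map_pow, pow_le_one_iff hpos]
  have h2 : Q'.1 y ≤ 1 ↔ Q'.1 (y ^ ringExpChar M ^ n) ≤ 1 := by
    rw [map_pow, pow_le_one_iff hpos]
  rw [h1, h2, ← hz, isOverWith_le_one_iff he, isOverWith_le_one_iff he']

theorem normFormula_pi (hM : IsWeakFF k M) [IsPurelyInseparable M L] : NormFormula k M L := by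
  classical
  intro P x Qs hQs
  rcases eq_or_ne x 0 with rfl | hx
  · simp [ord_zero]
  obtain ⟨hfin, hsum⟩ := wk_sum_ramIdx_mul_deg (L := L) hM P
  have hne : Qs.Nonempty := by
    by_contra hemp
    rw [Finset.not_nonempty_iff_eq_empty] at hemp
    have h1 := hsum Qs hQs
    rw [hemp, Finset.sum_empty] at h1
    have h2 : 0 < finrank M L * P.deg := Nat.mul_pos Module.finrank_pos (wk_deg_pos hM P)
    omega
  obtain ⟨Q₀, hQ₀⟩ := hne
  obtain ⟨e, he⟩ := (hQs Q₀).1 hQ₀
  have hepos := isOverWith_pos he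
  have hQs' : Qs = {Q₀} := by
    ext Q
    rw [Finset.mem_singleton, hQs]
    exact ⟨fun h => unique_place_over_of_isPurelyInseparable h ⟨e, he⟩, fun h => h ▸ ⟨e, he⟩⟩
  have h1 := hsum Qs hQs
  rw [hQs', Finset.sum_singleton, ramIdx_eq he] at h1
  rw [hQs', Finset.sum_singleton]
  have h2 : Q₀.ord (algebraMap M L (Algebra.norm M x)) = e * P.ord (Algebra.norm M x) :=
    isOverWith_ord he _
  rw [norm_eq_pow_of_isPurelyInseparable, ord_pow] at h2
  have h1' : (e : ℤ) * Q₀.deg = finrank M L * P.deg := by exact_mod_cast h1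
  have h3 : (e : ℤ) * ((P.deg : ℤ) * P.ord (Algebra.norm M x)) =
      (e : ℤ) * ((Q₀.deg : ℤ) * Q₀.ord x) := by
    calc (e : ℤ) * ((P.deg : ℤ) * P.ord (Algebra.norm M x))
        = (P.deg : ℤ) * ((e : ℤ) * P.ord (Algebra.norm M x)) := by ring
      _ = (P.deg : ℤ) * ((finrank M L : ℤ) * Q₀.ord x) := by rw [h2]
      _ = ((finrank M L : ℤ) * P.deg) * Q₀.ord x := by ring
      _ = _ := by rw [← h1']; ring
  exact mul_left_cancel₀ (by exact_mod_cast hepos.ne') h3

end Norm2

open FunFld Polynomial Module IntermediateField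

section Norm3

variable {k K M L : Type*} [Field k] [Field K] [Field M] [Field L] [Algebra k K] [Algebra k M]
  [Algebra k L] [Algebra K M] [Algebra M L] [Algebra K L] [IsScalarTower k K M]
  [IsScalarTower k M L] [IsScalarTower k K L] [IsScalarTower K M L]
  [FiniteDimensional K M] [FiniteDimensional M L]

lemma isOver_of_tower (hK : IsWeakFF k K) {R : Place k L} {Q : Place k M} {P : Place k K}
    (hRQ : IsOver R Q) (hRP : IsOver R P) : IsOver Q P := by
  have : Algebra.IsAlgebraic K M := Algebra.IsAlgebraic.of_finite K M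
  obtain ⟨P', e'', he''⟩ := wk_exists_isOverWith (M := K) (L := M) hK Q
  obtain ⟨e₂, h₂⟩ := hRQ
  have h3 : IsOver R P' := ⟨_, isOverWith_trans h₂ he''⟩
  have h4 : P' = P := isOver_unique h3 hRP
  subst h4
  exact ⟨e'', he''⟩

open scoped Classical in
theorem sum_tower (hK : IsWeakFF k K) (hM : IsWeakFF k M) (P : Place k K)
    (Rs : Finset (Place k L)) (hRs : ∀ R, R ∈ Rs ↔ IsOver R P)
    (Qs : Finset (Place k M)) (hQs : ∀ Q, Q ∈ Qs ↔ IsOver Q P) (g : Place k L → ℤ) :
    ∑ R ∈ Rs, g R = ∑ Q ∈ Qs, ∑ R ∈ Rs.filter (fun R => IsOver R Q), g R := by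
  have : Algebra.IsAlgebraic M L := Algebra.IsAlgebraic.of_finite M L
  choose below e he using fun R : Place k L => wk_exists_isOverWith (M := M) (L := L) hM R
  have hmaps : ∀ R ∈ Rs, below R ∈ Qs := by
    intro R hR
    rw [hQs]
    exact isOver_of_tower hK ⟨e R, he R⟩ ((hRs R).1 hR)
  rw [← Finset.sum_fiberwise_of_maps_to hmaps]
  refine Finset.sum_congr rfl (fun Q hQ => ?_)
  refine Finset.sum_congr ?_ (fun _ _ => rfl)
  ext R
  simp only [Finset.mem_filter]
  constructor
  · rintro ⟨hR, rfl⟩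
    exact ⟨hR, ⟨e R, he R⟩⟩
  · rintro ⟨hR, hRQ⟩
    exact ⟨hR, isOver_unique ⟨e R, he R⟩ hRQ⟩

open scoped Classical in
lemma mem_filter_isOver_iff {P : Place k K}
    {Rs : Finset (Place k L)} (hRs : ∀ R, R ∈ Rs ↔ IsOver R P)
    {Q : Place k M} (hQ : IsOver Q P) (R : Place k L) :
    R ∈ Rs.filter (fun R => IsOver R Q) ↔ IsOver R Q := by
  rw [Finset.mem_filter, hRs]
  refine ⟨fun h => h.2, fun h => ⟨?_, h⟩⟩
  obtain ⟨e₂, h₂⟩ := h
  obtain ⟨e₁, h₁⟩ := hQ
  exact ⟨_, isOverWith_trans h₂ h₁⟩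

theorem normFormula_trans (hK : IsWeakFF k K) (hM : IsWeakFF k M) (h₁ : NormFormula k K M)
    (h₂ : NormFormula k M L) : NormFormula k K L := by
  classical
  intro P x Rs hRs
  obtain ⟨hfin, -⟩ := wk_sum_ramIdx_mul_deg (L := M) hK P
  have hQs : ∀ Q, Q ∈ hfin.toFinset ↔ IsOver Q P := fun Q => by simp [Set.Finite.mem_toFinset]
  rw [sum_tower hK hM P Rs hRs hfin.toFinset hQs, ← Algebra.norm_norm (S := M),
    h₁ P (Algebra.norm M x) hfin.toFinset hQs]
  refine Finset.sum_congr rfl (fun Q hQ => ?_)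
  exact h₂ Q x _ (mem_filter_isOver_iff hRs ((hQs Q).1 hQ))

theorem normFormula_descent (hK : IsWeakFF k K) (hM : IsWeakFF k M) (h : NormFormula k K L) :
    NormFormula k K M := by
  classical
  intro P x Qs hQs
  have hfinKL : FiniteDimensional K L := FiniteDimensional.trans K M L
  obtain ⟨hfin, -⟩ := wk_sum_ramIdx_mul_deg (L := L) hK P
  have hRs : ∀ R, R ∈ hfin.toFinset ↔ IsOver R P := fun R => by simp [Set.Finite.mem_toFinset]
  have h1 := h P (algebraMap M L x) hfin.toFinset hRs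
  rw [sum_tower hK hM P hfin.toFinset hRs Qs hQs, ← Algebra.norm_norm (S := M),
    Algebra.norm_algebraMap, map_pow, ord_pow] at h1
  have h2 : ∀ Q ∈ Qs, ∑ R ∈ hfin.toFinset.filter (fun R => IsOver R Q),
      (R.deg : ℤ) * R.ord (algebraMap M L x) = (finrank M L : ℤ) * ((Q.deg : ℤ) * Q.ord x) := by
    intro Q hQ
    obtain ⟨-, hsum⟩ := wk_sum_ramIdx_mul_deg (L := L) hM Q
    have h3 := hsum _ (mem_filter_isOver_iff hRs ((hQs Q).1 hQ))
    have h4 : ∀ R ∈ hfin.toFinset.filter (fun R => IsOver R Q),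
        (R.deg : ℤ) * R.ord (algebraMap M L x) = ((ramIdx R Q * R.deg : ℕ) : ℤ) * Q.ord x := by
      intro R hR
      have hRQ := (mem_filter_isOver_iff hRs ((hQs Q).1 hQ) R).1 hR
      rw [isOverWith_ord (isOverWith_ramIdx hRQ)]
      push_cast
      ring
    rw [Finset.sum_congr rfl h4, ← Finset.sum_mul, ← Nat.cast_sum, h3]
    push_cast
    ring
  rw [Finset.sum_congr rfl h2, ← Finset.mul_sum] at h1
  have hpos : (finrank M L : ℤ) ≠ 0 := by
    exact_mod_cast (Module.finrank_pos (R := M) (M := L)).ne'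
  have h5 : (finrank M L : ℤ) * ((P.deg : ℤ) * P.ord (Algebra.norm K x)) =
      (finrank M L : ℤ) * ∑ Q ∈ Qs, (Q.deg : ℤ) * Q.ord x := by
    rw [← h1]; ring
  exact mul_left_cancel₀ hpos h5

end Norm3

open FunFld Polynomial Module IntermediateField

section Norm4

variable {k K M : Type*} [Field k] [Field K] [Field M] [Algebra k K] [Algebra k M]
  [Algebra K M] [IsScalarTower k K M] [FiniteDimensional K M]

theorem normFormula_separable (hK : IsFunctionField k K) [Algebra.IsSeparable K M] :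
    NormFormula k K M := by
  classical
  let N := normalClosure K M (AlgebraicClosure M)
  have hsepN : Algebra.IsSeparable K N := by
    have h1 : ∀ f : M →ₐ[K] AlgebraicClosure M, Algebra.IsSeparable K f.fieldRange := fun f =>
      Algebra.IsSeparable.of_algHom K M (AlgEquiv.ofInjectiveField f).symm.toAlgHom
    show Algebra.IsSeparable K (normalClosure K M (AlgebraicClosure M))
    rw [normalClosure_def]
    exact IntermediateField.isSeparable_iSup K (AlgebraicClosure M)
  have hgal : IsGalois K N := { }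
  have hst : IsScalarTower k M N := IsScalarTower.of_algebraMap_eq (fun c => Subtype.ext
    (IsScalarTower.algebraMap_apply k M (AlgebraicClosure M) c))
  have hfin : FiniteDimensional M N := FiniteDimensional.right K M N
  have hKw : IsWeakFF k K := IsWeakFF.of_isFunctionField hK
  have hMw : IsWeakFF k M := isWeakFF_of_finite (K := K) hK
  exact normFormula_descent (L := N) hKw hMw (normFormula_galois hKw)

end Norm4

section Norm5

variable {k K K' : Type*} [Field k] [Field K] [Field K'] [Algebra k K] [Algebra k K']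
  [Algebra K K'] [IsScalarTower k K K'] [FiniteDimensional K K']

theorem normFormula (hK : IsFunctionField k K) : NormFormula k K K' := by
  classical
  have halg : Algebra.IsAlgebraic K K' := Algebra.IsAlgebraic.of_finite K K'
  let M := separableClosure K K'
  have hst : IsScalarTower k M K' := IsScalarTower.of_algebraMap_eq (fun _ => rfl)
  have hKw : IsWeakFF k K := IsWeakFF.of_isFunctionField hK
  have hMw : IsWeakFF k M := isWeakFF_of_finite (K := K) hK
  have h1 : NormFormula k K M := normFormula_separable hK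
  have h2 : NormFormula k M K' := normFormula_pi hMw
  exact normFormula_trans hKw hMw h1 h2

end Norm5

end Groth.Agent.Helper17.FF
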