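import Mathlib
import Groth.Prelude.Def_LocRes
import Groth.Agent.Lib.Helper17.FFLoc2
import Groth.Agent.Lib.Helper17.FFNorm
import Groth.Agent.Lib.Helper17.FFIC
namespace Groth.Agent.Helper17.FF

universe u v w v'

open FunFld Module LaurentSeries HahnSeries Polynomial IntermediateField

section LocPar

open scoped KaehlerDifferential

variable {k : Type u} {K : Type v} {K' : Type v'} [Field k] [Field K] [Field K'] [Algebra k K]
  [Algebra K K'] [Algebra k K'] [IsScalarTower k K K'] {F F' : Type w} [Field F] [Algebra k F]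
  [Field F'] [Algebra k F']

/-- if `s` is a local parameter at `Q` killed by a polynomial over `O_P` whose constant term is a
local parameter at `P`, the derivative of the polynomial at `s` has order `d(Q|P)` -/
theorem ord_derivative_eq_diffExp (hfr : finrank K (Ω[K⁄k]) = 1)
    [FiniteDimensional K K'] [Algebra.IsSeparable K K']
    {P : Place k K} {Q : Place k K'} {e : ℕ}
    (he : IsOverWith Q P e) {φ : K →ₐ[k] F⸨X⸩} (hφ : LocRes.IsExpansionAt P.1 φ)
    {ψ : K' →ₐ[k] F'⸨X⸩} (hψ : LocRes.IsExpansionAt Q.1 ψ) (x : K)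
    (hx : LocRes.vDiff φ 1 x ≠ 0) (hx' : LocRes.vDiff ψ 1 (algebraMap K K' x) ≠ 0)
    (s : K') (hs : Q.1 s = WithZero.exp (-1)) (f : K[X]) (h0 : aeval s f = 0)
    (ha0 : P.1 (f.coeff 0) = WithZero.exp (-1)) (hle : ∀ i, P.1 (f.coeff i) ≤ 1) :
    Q.ord (Polynomial.aeval s (Polynomial.derivative f)) = LocRes.diffExp φ ψ e x := by
  classical
  obtain ⟨t, ht⟩ := hφ.2.2
  have hfr' : finrank K' (Ω[K'⁄k]) = 1 := finrank_kaehler_of_separable hfr
  have hsD := D_unif_ne_zero hψ hs
  have htD := D_unif_ne_zero hφ ht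
  obtain ⟨b, hb⟩ := exists_smul_D_eq hfr' hsD (algebraMap K K' t)
  rw [diffExp_eq_ord hfr he hφ hψ x hx hx' ht hs hb]
  have hepos := isOverWith_pos he
  choose a' ha' using fun i : ℕ => exists_smul_D_eq hfr htD (f.coeff i)
  have hva' : ∀ i, P.1 (a' i) = Valued.v (LocRes.D F (φ (f.coeff i))) := fun i =>
    (val_D_expansion hφ ht (ha' i)).symm
  have ha'le : ∀ i, P.1 (a' i) ≤ 1 := fun i => by
    rw [hva']
    exact val_D_le_one (by rw [hφ.1]; exact hle i)
  have ha'0 : P.1 (a' 0) = 1 := by
    rw [hva']
    exact val_D_uniformizer (by rw [hφ.1]; exact ha0)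
  have h1 := D_aeval (k := k) f s
  rw [h0, map_zero] at h1
  set S : K' := ∑ i ∈ f.support, s ^ i * algebraMap K K' (a' i) with hS
  have h2 : f.sum (fun i a => s ^ i • KaehlerDifferential.D k K' (algebraMap K K' a)) =
      (S * b) • KaehlerDifferential.D k K' s := by
    rw [Polynomial.sum_def, hS, Finset.sum_mul, Finset.sum_smul]
    refine Finset.sum_congr rfl fun i _ => ?_
    rw [D_algebraMap_eq (ha' i), hb, smul_smul, smul_smul, mul_assoc]
  rw [h2, ← add_smul] at h1
  have h3 : aeval s (derivative f) + S * b = 0 := by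
    rcases smul_eq_zero.1 h1.symm with h | h
    · exact h
    · exact absurd h hsD
  have h4 : aeval s (derivative f) = -(S * b) := eq_neg_of_add_eq_zero_left h3
  have h0mem : 0 ∈ f.support := by
    rw [Polynomial.mem_support_iff]
    intro h
    rw [h, map_zero] at ha0
    exact WithZero.exp_ne_zero ha0.symm
  have hS1 : Q.1 S = 1 := by
    rw [hS, Valuation.map_sum_eq_of_lt Q.1 h0mem]
    · rw [pow_zero, one_mul, he, ha'0, one_pow]
    · intro i hi
      rw [Finset.mem_sdiff, Finset.mem_singleton] at hi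
      rw [pow_zero, one_mul, he (a' 0), ha'0, one_pow, map_mul, map_pow, hs, he]
      have h5 : Q.1 s ^ i < 1 := by
        rw [hs]
        exact pow_lt_one' exp_neg_one_lt_one hi.2
      rw [hs] at h5
      calc WithZero.exp (-1) ^ i * P.1 (a' i) ^ e ≤ WithZero.exp (-1) ^ i * 1 :=
            mul_le_mul_right (pow_le_one' (ha'le i) e) _
        _ = WithZero.exp (-1) ^ i := mul_one _
        _ < 1 := h5
  unfold Place.ord
  rw [h4, Valuation.map_neg, map_mul, hS1, one_mul]

attribute [-instance] IsLocalRing.instModuleResidueFieldOfAlgebra IsLocalRing.ResidueField.algebra in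
/-- residue degree one: the degrees agree -/
lemma deg_eq_of_residue_surjective {P : Place k K} {Q : Place k K'} [P.1.HasExtension Q.1]
    (hf : Function.Surjective
      (algebraMap (IsLocalRing.ResidueField P.O) (IsLocalRing.ResidueField Q.O))) :
    Q.deg = P.deg := by
  have hbij : Function.Bijective
      (algebraMap (IsLocalRing.ResidueField P.O) (IsLocalRing.ResidueField Q.O)) :=
    ⟨(algebraMap (IsLocalRing.ResidueField P.O) (IsLocalRing.ResidueField Q.O)).injective, hf⟩
  have hcomm : ∀ c : k, algebraMap (IsLocalRing.ResidueField P.O) (IsLocalRing.ResidueField Q.O)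
      (algebraMap k (IsLocalRing.ResidueField P.O) c) =
        algebraMap k (IsLocalRing.ResidueField Q.O) c := by
    intro c
    show algebraMap (IsLocalRing.ResidueField P.O) (IsLocalRing.ResidueField Q.O)
      (IsLocalRing.residue P.O (algebraMap k P.O c)) =
        IsLocalRing.residue Q.O (algebraMap k Q.O c)
    rw [Valuation.HasExtension.algebraMap_residue_eq_residue_algebraMap]
    congr 1
    apply Subtype.ext
    show algebraMap K K' (algebraMap k K c) = algebraMap k K' c
    rw [← IsScalarTower.algebraMap_apply]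
  let L : IsLocalRing.ResidueField P.O →ₗ[k] IsLocalRing.ResidueField Q.O :=
    { toFun := algebraMap (IsLocalRing.ResidueField P.O) (IsLocalRing.ResidueField Q.O)
      map_add' := map_add _
      map_smul' := fun c r => by
        simp only [RingHom.id_apply]
        rw [Algebra.smul_def, map_mul, hcomm, ← Algebra.smul_def] }
  have := (LinearEquiv.ofBijective L hbij).finrank_eq
  unfold Place.deg
  exact this.symm

theorem ord_derivative_minpoly_localParameter (hK : IsFunctionField k K)
    (hfr : finrank K (Ω[K⁄k]) = 1)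
    [FiniteDimensional K K'] [Algebra.IsSeparable K K']
    {P : Place k K} {Q : Place k K'} {e : ℕ}
    (he : IsOverWith Q P e) {φ : K →ₐ[k] F⸨X⸩} (hφ : LocRes.IsExpansionAt P.1 φ)
    {ψ : K' →ₐ[k] F'⸨X⸩} (hψ : LocRes.IsExpansionAt Q.1 ψ) (x : K)
    (hx : LocRes.vDiff φ 1 x ≠ 0) (hx' : LocRes.vDiff ψ 1 (algebraMap K K' x) ≠ 0)
    (hdeg : Q.deg = P.deg)
    (s : K') (hs : Q.1 s = WithZero.exp (-1))
    (hs' : ∀ Q' : Place k K', IsOver Q' P → Q' ≠ Q → Q'.1 s = 1) :
    IntermediateField.adjoin K ({s} : Set K') = ⊤ ∧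
    Q.ord (Polynomial.aeval s (Polynomial.derivative (minpoly K s))) =
      LocRes.diffExp φ ψ e x := by
  classical
  have hKw : IsWeakFF k K := IsWeakFF.of_isFunctionField hK
  have hint : IsIntegral K s := Algebra.IsIntegral.isIntegral s
  set f := minpoly K s with hf
  -- the norm of `s` is a local parameter at `P`
  obtain ⟨hSfin, -⟩ := sum_ramIdx_mul_deg (K' := K') hK P
  have hQmem : Q ∈ hSfin.toFinset := by rw [Set.Finite.mem_toFinset]; exact ⟨e, he⟩
  have hnf := normFormula (K' := K') hK P s hSfin.toFinset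
    (fun Q' => by rw [Set.Finite.mem_toFinset]; rfl)
  rw [Finset.sum_eq_single Q (fun Q' hQ' hne => by
      rw [Set.Finite.mem_toFinset] at hQ'
      have h1 := hs' Q' hQ' hne
      unfold Place.ord
      rw [h1, WithZero.log_one, neg_zero, mul_zero])
    (fun h => absurd hQmem h), ord_uniformizer Q hs, mul_one, hdeg] at hnf
  have hPdeg : (0 : ℤ) < P.deg := by exact_mod_cast deg_pos hK P
  have hordN : P.ord (Algebra.norm K s) = 1 := by
    have : (P.deg : ℤ) * (P.ord (Algebra.norm K s) - 1) = 0 := by rw [mul_sub, hnf, mul_one, sub_self]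
    rcases mul_eq_zero.1 this with h | h
    · omega
    · omega
  -- the norm in terms of the minimal polynomial
  have hnorm : Algebra.norm K s =
      ((-1) ^ f.natDegree * f.coeff 0) ^ finrank K⟮s⟯ K' := by
    rw [Algebra.norm_eq_norm_adjoin K s]
    congr 1
    have h1 := Algebra.PowerBasis.norm_gen_eq_coeff_zero_minpoly (adjoin.powerBasis hint)
    rw [adjoin.powerBasis_gen, adjoin.powerBasis_dim, minpoly_gen] at h1
    exact h1
  set l := finrank K⟮s⟯ K' with hl
  have hc0 : f.coeff 0 ≠ 0 := by
    intro h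
    rw [hnorm, h, mul_zero] at hordN
    rcases Nat.eq_zero_or_pos l with h0 | h0
    · rw [h0, pow_zero] at hordN
      unfold Place.ord at hordN
      rw [map_one, WithZero.log_one] at hordN
      omega
    · rw [zero_pow h0.ne'] at hordN
      unfold Place.ord at hordN
      rw [map_zero, WithZero.log_zero] at hordN
      omega
  have hordl : (l : ℤ) * P.ord (f.coeff 0) = 1 := by
    have h1 : P.ord (((-1) ^ f.natDegree * f.coeff 0) ^ l) = l * P.ord (f.coeff 0) := by
      rw [ord_pow]
      congr 1
      unfold Place.ord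
      rw [map_mul, map_pow, Valuation.map_neg, map_one, one_pow, one_mul]
    rw [← h1, ← hnorm, hordN]
  have hl1 : l = 1 := by
    have h1 : (l : ℤ) ∣ 1 := ⟨_, hordl.symm⟩
    have h2 := Int.natAbs_dvd_natAbs.2 h1
    simpa using h2
  have hord0 : P.ord (f.coeff 0) = 1 := by rw [hl1] at hordl; simpa using hordl
  have htop : IntermediateField.adjoin K ({s} : Set K') = ⊤ := by
    rw [← IntermediateField.finrank_eq_one_iff_eq_top]
    exact hl1
  refine ⟨htop, ?_⟩
  -- integrality of the coefficients
  letI algPO : Algebra P.O K' := ((algebraMap K K').comp P.O.subtype).toAlgebra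
  haveI hst : IsScalarTower P.O K K' := IsScalarTower.of_algebraMap_eq (fun _ => rfl)
  have hsint : IsIntegral P.O s := by
    have := (integralClosure_eq_and_finite (K' := K') hKw P).1 s
    apply this.2
    intro Q' hQ'
    by_cases hQQ : Q' = Q
    · rw [hQQ, hs]; exact exp_neg_one_lt_one.le
    · rw [hs' Q' hQ' hQQ]
  have hfeq : f = (minpoly P.O s).map (algebraMap P.O K) :=
    minpoly.isIntegrallyClosed_eq_field_fractions' K hsint
  have hle : ∀ i, P.1 (f.coeff i) ≤ 1 := by
    intro i
    rw [hfeq, coeff_map]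
    exact ((minpoly P.O s).coeff i).2
  have ha0 : P.1 (f.coeff 0) = WithZero.exp (-1) := by
    rw [val_eq_exp_neg_ord P hc0, hord0]
  exact ord_derivative_eq_diffExp hfr he hφ hψ x hx hx' s hs f (minpoly.aeval K s) ha0 hle

end LocPar

end Groth.Agent.Helper17.FF
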