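import Mathlib
import Groth.Prelude.Def_LocRes
import Groth.Agent.Lib.Helper17.FFLoc3
namespace Groth.Agent.Helper17.FF

universe u v w v'

open FunFld Module LaurentSeries HahnSeries Polynomial IntermediateField

section TraceDual

open scoped KaehlerDifferential Pointwise

variable {k : Type u} {K : Type v} {K' : Type v'} [Field k] [Field K] [Field K'] [Algebra k K]
  [Algebra K K'] [Algebra k K'] [IsScalarTower k K K']

/-- a local parameter at `Q` that is a unit at the other places over `P` -/
lemma exists_good_parameter [FiniteDimensional K K'] (hK : IsFunctionField k K) (P : Place k K)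
    (Q : Place k K') :
    ∃ s : K', Q.1 s = WithZero.exp (-1) ∧
      ∀ Q' : Place k K', IsOver Q' P → Q' ≠ Q → Q'.1 s = 1 := by
  classical
  obtain ⟨hSfin, -⟩ := sum_ramIdx_mul_deg (K' := K') hK P
  let T : Finset (Place k K') := insert Q hSfin.toFinset
  haveI : Fintype ↥T := inferInstance
  obtain ⟨s, hs⟩ := weak_approx_exact (fun i : ↥T => (i : Place k K')) Subtype.val_injective
    (fun _ => 0) (fun i => if (i : Place k K') = Q then 1 else 0)
  refine ⟨s, ?_, ?_⟩
  · have := hs ⟨Q, Finset.mem_insert_self _ _⟩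
    simpa using this
  · intro Q' hQ' hne
    have hmem : Q' ∈ T := Finset.mem_insert_of_mem (by rw [Set.Finite.mem_toFinset]; exact hQ')
    have := hs ⟨Q', hmem⟩
    simpa [hne] using this

variable {P : Place k K} {Q : Place k K'} [Algebra P.O K'] [IsScalarTower P.O K K']

/-- Nakayama: the conductor of `O_P[s]` contains a unit at `Q` -/
theorem exists_conductor_unit [FiniteDimensional K K'] (hK : IsFunctionField k K)
    (hQP : IsOver Q P)
    (hres : ∀ z : K', Q.1 z ≤ 1 → ∃ c : K, P.1 c ≤ 1 ∧ Q.1 (z - algebraMap K K' c) < 1)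
    {s : K'} (hs : Q.1 s = WithZero.exp (-1))
    (hs' : ∀ Q' : Place k K', IsOver Q' P → Q' ≠ Q → Q'.1 s = 1) :
    ∃ b ∈ Algebra.adjoin P.O ({s} : Set K'), Q.1 b = 1 ∧
      ∀ z : K', IsIntegral P.O z → b * z ∈ Algebra.adjoin P.O ({s} : Set K') := by
  classical
  have hKw : IsWeakFF k K := IsWeakFF.of_isFunctionField hK
  have hmap : ∀ r : P.O, algebraMap P.O K' r = algebraMap K K' (r : K) := fun r =>
    IsScalarTower.algebraMap_apply P.O K K' r
  obtain ⟨hic, hicfin⟩ := integralClosure_eq_and_finite (K' := K') hKw P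
  have hint_iff : ∀ z : K', IsIntegral P.O z ↔ ∀ Q' : Place k K', IsOver Q' P → Q'.1 z ≤ 1 :=
    fun z => hic z
  have hsint : IsIntegral P.O s := by
    rw [hint_iff]
    intro Q' hQ'
    by_cases hQQ : Q' = Q
    · rw [hQQ, hs]; exact exp_neg_one_lt_one.le
    · rw [hs' Q' hQ' hQQ]
  set M : Subalgebra P.O K' := Algebra.adjoin P.O ({s} : Set K') with hM
  have hsM : s ∈ M := Algebra.subset_adjoin (Set.mem_singleton s)
  have hMint : ∀ m ∈ M, IsIntegral P.O m := by
    intro m hm
    have hle : M ≤ integralClosure P.O K' := Algebra.adjoin_le (by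
      intro x hx
      rw [Set.mem_singleton_iff] at hx
      rw [hx]; exact hsint)
    exact hle hm
  -- the integral closure as a module over `M`
  let Rm : Submodule ↥M K' :=
    { carrier := {z | IsIntegral P.O z}
      add_mem' := fun ha hb => IsIntegral.add ha hb
      zero_mem' := isIntegral_zero
      smul_mem' := fun m z hz => by
        show IsIntegral P.O (m • z)
        rw [Algebra.smul_def]
        exact (hMint _ m.2).mul hz }
  have hRfg : Rm.FG := by
    obtain ⟨S, hS⟩ := hicfin.fg_top
    refine ⟨S.image (fun z : integralClosure P.O K' => (z : K')), ?_⟩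
    apply le_antisymm
    · rw [Submodule.span_le]
      intro z hz
      rw [Finset.coe_image] at hz
      obtain ⟨z', -, hz'⟩ := hz
      rw [← hz']
      exact z'.2
    · intro z hz
      have hz' : (⟨z, hz⟩ : integralClosure P.O K') ∈ Submodule.span P.O (S : Set _) := by
        rw [hS]; trivial
      have hgen : ∀ y ∈ Submodule.span P.O (S : Set (integralClosure P.O K')),
          (y : K') ∈ Submodule.span ↥M ((S.image (fun z : integralClosure P.O K' => (z : K')) : Finset K') : Set K') := by
        intro y hy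
        induction hy using Submodule.span_induction with
        | mem x hx =>
          exact Submodule.subset_span (by
            rw [Finset.coe_image]; exact ⟨x, hx, rfl⟩)
        | zero => exact Submodule.zero_mem _
        | add x y _ _ hx hy => exact Submodule.add_mem _ hx hy
        | smul r x _ hx =>
          have h1 : ((r • x : integralClosure P.O K') : K') =
              (⟨algebraMap P.O K' r, Subalgebra.algebraMap_mem M r⟩ : ↥M) • (x : K') := by
            rw [Algebra.smul_def]
            show algebraMap P.O K' r * (x : K') = algebraMap P.O K' r * (x : K')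
            rfl
          rw [h1]
          exact Submodule.smul_mem _ _ hx
      exact hgen _ hz'
  set sM : ↥M := ⟨s, hsM⟩ with hsMdef
  set I : Ideal ↥M := Ideal.span {sM} with hI
  have hle : Rm ≤ (1 : Submodule ↥M K') ⊔ I • Rm := by
    intro z hz
    have hzint : IsIntegral P.O z := hz
    have hzQ : Q.1 z ≤ 1 := (hint_iff z).1 hzint Q hQP
    obtain ⟨c, hc1, hc2⟩ := hres z hzQ
    set w : K' := (z - algebraMap K K' c) / s with hw
    have hs0 : s ≠ 0 := fun h => by
      rw [h, map_zero] at hs; exact WithZero.exp_ne_zero hs.symm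
    have hcint : IsIntegral P.O (algebraMap K K' c) := by
      have : algebraMap K K' c = algebraMap P.O K' ⟨c, hc1⟩ := (hmap ⟨c, hc1⟩).symm
      rw [this]; exact isIntegral_algebraMap
    have hwint : IsIntegral P.O w := by
      rw [hint_iff]
      intro Q' hQ'
      by_cases hQQ : Q' = Q
      · rw [hQQ, hw, map_div₀, hs]
        have h1 : Q.1 (z - algebraMap K K' c) ≤ WithZero.exp (-1) := by
          have := (val_lt_exp_iff_le Q (z - algebraMap K K' c) 0).1
            (by rw [WithZero.exp_zero]; exact hc2)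
          simpa using this
        exact (div_le_one₀ (zero_lt_iff.2 WithZero.exp_ne_zero)).2 h1
      · rw [hw, map_div₀, hs' Q' hQ' hQQ, div_one]
        exact (hint_iff _).1 (hzint.sub hcint) Q' hQ'
    have hz_eq : z = algebraMap K K' c + sM • w := by
      rw [hw]
      show z = algebraMap K K' c + s * ((z - algebraMap K K' c) / s)
      rw [mul_div_cancel₀ _ hs0]; ring
    rw [hz_eq]
    apply Submodule.add_mem_sup
    · rw [Submodule.mem_one]
      refine ⟨⟨algebraMap P.O K' ⟨c, hc1⟩, Subalgebra.algebraMap_mem M _⟩, ?_⟩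
      show algebraMap P.O K' ⟨c, hc1⟩ = algebraMap K K' c
      exact hmap _
    · exact Submodule.smul_mem_smul (Ideal.subset_span (Set.mem_singleton _)) hwint
  obtain ⟨r, hr1, hr2⟩ := Submodule.exists_sub_one_mem_and_smul_le_of_fg_of_le_sup
    (I := I) (N := (1 : Submodule ↥M K')) (N' := Rm) (P := Rm) hRfg le_rfl hle
  refine ⟨(r : K'), r.2, ?_, ?_⟩
  · rw [hI, Ideal.mem_span_singleton'] at hr1
    obtain ⟨a, ha⟩ := hr1
    have h1 : (r : K') = 1 + (a : K') * s := by
      have := congrArg (fun x : ↥M => (x : K')) ha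
      simp only [hsMdef] at this
      have h2 : ((r - 1 : ↥M) : K') = (r : K') - 1 := rfl
      have h3 : ((a * ⟨s, hsM⟩ : ↥M) : K') = (a : K') * s := rfl
      rw [h2, h3] at this
      rw [this]; ring
    have ha1 : Q.1 (a : K') ≤ 1 := (hint_iff _).1 (hMint _ a.2) Q hQP
    have h2 : Q.1 ((a : K') * s) < 1 := by
      rw [map_mul, hs]
      exact lt_of_le_of_lt (mul_le_of_le_one_left' ha1) exp_neg_one_lt_one
    rw [h1, Valuation.map_add_eq_of_lt_left _ (by rw [map_one]; exact h2), map_one]
  · intro z hz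
    have h1 : r • z ∈ r • Rm := Submodule.smul_mem_pointwise_smul z r Rm hz
    have h2 := hr2 h1
    rw [Submodule.mem_one] at h2
    obtain ⟨m, hm⟩ := h2
    have h3 : r • z = (r : K') * z := Algebra.smul_def r z
    rw [← h3, ← hm]
    exact m.2

omit [IsScalarTower k K K'] [Algebra P.O K'] [IsScalarTower P.O K K'] in
/-- residue degree one, elementwise -/
lemma hres_of_surjective [P.1.HasExtension Q.1]
    (hf : Function.Surjective
      (algebraMap (IsLocalRing.ResidueField P.O) (IsLocalRing.ResidueField Q.O))) :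
    ∀ z : K', Q.1 z ≤ 1 → ∃ c : K, P.1 c ≤ 1 ∧ Q.1 (z - algebraMap K K' c) < 1 := by
  intro z hz
  obtain ⟨r, hr⟩ := hf (IsLocalRing.residue Q.O ⟨z, hz⟩)
  obtain ⟨r', rfl⟩ := IsLocalRing.residue_surjective r
  rw [Valuation.HasExtension.algebraMap_residue_eq_residue_algebraMap] at hr
  refine ⟨(r' : K), r'.2, ?_⟩
  have h1 := (residue_eq_iff Q ⟨z, hz⟩ (algebraMap P.O Q.O r')).1 hr.symm
  exact h1

theorem traceDual_min_valuation {F F' : Type w} [Field F] [Algebra k F] [Field F'] [Algebra k F']
    (hK : IsFunctionField k K) (hfr : finrank K (Ω[K⁄k]) = 1)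
    [FiniteDimensional K K'] [Algebra.IsSeparable K K'] {e : ℕ}
    (he : IsOverWith Q P e) {φ : K →ₐ[k] F⸨X⸩} (hφ : LocRes.IsExpansionAt P.1 φ)
    {ψ : K' →ₐ[k] F'⸨X⸩} (hψ : LocRes.IsExpansionAt Q.1 ψ) (x : K)
    (hx : LocRes.vDiff φ 1 x ≠ 0) (hx' : LocRes.vDiff ψ 1 (algebraMap K K' x) ≠ 0)
    (hdeg : Q.deg = P.deg)
    (hres : ∀ z : K', Q.1 z ≤ 1 → ∃ c : K, P.1 c ≤ 1 ∧ Q.1 (z - algebraMap K K' c) < 1) :
    (∀ y : K', (∀ z : K', IsIntegral P.O z → P.1 (Algebra.trace K K' (y * z)) ≤ 1) →
      Q.1 y ≤ WithZero.exp (LocRes.diffExp φ ψ e x)) ∧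
    ∃ y : K', (∀ z : K', IsIntegral P.O z → P.1 (Algebra.trace K K' (y * z)) ≤ 1) ∧
      Q.1 y = WithZero.exp (LocRes.diffExp φ ψ e x) := by
  classical
  have hKw : IsWeakFF k K := IsWeakFF.of_isFunctionField hK
  obtain ⟨hic, -⟩ := integralClosure_eq_and_finite (K' := K') hKw P
  have hQP : IsOver Q P := ⟨e, he⟩
  obtain ⟨s, hs, hs'⟩ := exists_good_parameter hK P Q
  obtain ⟨htop, hord⟩ :=
    ord_derivative_minpoly_localParameter hK hfr he hφ hψ x hx hx' hdeg s hs hs'
  have hint : IsIntegral K s := Algebra.IsIntegral.isIntegral s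
  set g : K' := aeval s (derivative (minpoly K s)) with hg
  have hg0 : g ≠ 0 := by
    have hsep : (minpoly K s).Separable := Algebra.IsSeparable.isSeparable K s
    exact hsep.aeval_derivative_ne_zero (minpoly.aeval K s)
  have hQg : Q.1 g = WithZero.exp (-(LocRes.diffExp φ ψ e x)) := by
    rw [val_eq_exp_neg_ord Q hg0, hord]
  have hAtop : Algebra.adjoin K ({s} : Set K') = ⊤ := by
    rw [← IntermediateField.adjoin_simple_toSubalgebra_of_isAlgebraic hint.isAlgebraic, htop,
      IntermediateField.top_toSubalgebra]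
  have hsint : IsIntegral P.O s := by
    apply (hic s).2
    intro Q' hQ'
    by_cases hQQ : Q' = Q
    · rw [hQQ, hs]; exact exp_neg_one_lt_one.le
    · rw [hs' Q' hQ' hQQ]
  set M : Subalgebra P.O K' := Algebra.adjoin P.O ({s} : Set K') with hM
  have hMint : ∀ m ∈ M, IsIntegral P.O m := by
    intro m hm
    have hle : M ≤ integralClosure P.O K' := Algebra.adjoin_le (by
      intro x hx
      rw [Set.mem_singleton_iff] at hx
      rw [hx]; exact hsint)
    exact hle hm
  have hE := traceForm_dualSubmodule_adjoin P.O K hAtop hsint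
  rw [← hg, ← hM] at hE
  have hmem1 : ∀ c : K, P.1 c ≤ 1 → c ∈ (1 : Submodule P.O K) := fun c hc => by
    rw [Submodule.mem_one]; exact ⟨⟨c, hc⟩, rfl⟩
  have hmem1' : ∀ c : K, c ∈ (1 : Submodule P.O K) → P.1 c ≤ 1 := fun c hc => by
    rw [Submodule.mem_one] at hc
    obtain ⟨r, rfl⟩ := hc
    exact r.2
  constructor
  · intro y hy
    have h1 : y ∈ (Algebra.traceForm K K').dualSubmodule (Subalgebra.toSubmodule M) := by
      rw [LinearMap.BilinForm.mem_dualSubmodule]
      intro m hm
      rw [Algebra.traceForm_apply]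
      exact hmem1 _ (hy m (hMint m hm))
    rw [hE, Submodule.mem_smul_pointwise_iff_exists] at h1
    obtain ⟨m, hm, rfl⟩ := h1
    have hm1 : Q.1 m ≤ 1 := (hic m).1 (hMint m hm) Q hQP
    rw [smul_eq_mul, map_mul, map_inv₀, hQg, ← WithZero.exp_neg, neg_neg]
    exact mul_le_of_le_one_right' hm1
  · obtain ⟨b, hbM, hb1, hbR⟩ := exists_conductor_unit hK hQP hres hs hs'
    refine ⟨g⁻¹ * b, ?_, ?_⟩
    · intro z hz
      have h1 : g⁻¹ • (b * z) ∈ g⁻¹ • Subalgebra.toSubmodule M :=
        Submodule.smul_mem_pointwise_smul _ _ _ (hbR z hz)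
      rw [← hE, LinearMap.BilinForm.mem_dualSubmodule] at h1
      have h2 := h1 1 (Subalgebra.one_mem M)
      rw [Algebra.traceForm_apply, mul_one, smul_eq_mul, ← mul_assoc] at h2
      exact hmem1' _ h2
    · rw [map_mul, map_inv₀, hQg, hb1, mul_one, ← WithZero.exp_neg, neg_neg]

end TraceDual

end Groth.Agent.Helper17.FF
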