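import Mathlib
import Groth.Prelude.Def_LocRes
import Groth.Agent.Lib.Helper17.FFLoc4
namespace Groth.Agent.Helper17.FF

universe u v w v'

open FunFld Module LaurentSeries HahnSeries Polynomial IntermediateField

section Monogenic

open scoped KaehlerDifferential Pointwise

variable {k : Type u} {K : Type v} {K' : Type v'} [Field k] [Field K] [Field K'] [Algebra k K]
  [Algebra K K'] [Algebra k K'] [IsScalarTower k K K']
  {P : Place k K} {Q : Place k K'} [Algebra P.O K'] [IsScalarTower P.O K K']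

theorem diffExp_le_ord_derivative_minpoly {F F' : Type w} [Field F] [Algebra k F] [Field F']
    [Algebra k F']
    (hK : IsFunctionField k K) (hfr : finrank K (Ω[K⁄k]) = 1)
    [FiniteDimensional K K'] [Algebra.IsSeparable K K'] {e : ℕ}
    (he : IsOverWith Q P e) {φ : K →ₐ[k] F⸨X⸩} (hφ : LocRes.IsExpansionAt P.1 φ)
    {ψ : K' →ₐ[k] F'⸨X⸩} (hψ : LocRes.IsExpansionAt Q.1 ψ) (x : K)
    (hx : LocRes.vDiff φ 1 x ≠ 0) (hx' : LocRes.vDiff ψ 1 (algebraMap K K' x) ≠ 0)
    (hdeg : Q.deg = P.deg)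
    (hres : ∀ z : K', Q.1 z ≤ 1 → ∃ c : K, P.1 c ≤ 1 ∧ Q.1 (z - algebraMap K K' c) < 1)
    (y : K') (hy : IntermediateField.adjoin K ({y} : Set K') = ⊤) (hyi : IsIntegral P.O y) :
    LocRes.diffExp φ ψ e x ≤ Q.ord (Polynomial.aeval y (Polynomial.derivative (minpoly K y))) ∧
    (Q.ord (Polynomial.aeval y (Polynomial.derivative (minpoly K y))) = LocRes.diffExp φ ψ e x →
      ∀ z : K', Q.1 z ≤ 1 → ∃ a ∈ Algebra.adjoin P.O ({y} : Set K'),
        ∃ b ∈ Algebra.adjoin P.O ({y} : Set K'), Q.1 b = 1 ∧ z * b = a) := by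
  classical
  have hKw : IsWeakFF k K := IsWeakFF.of_isFunctionField hK
  obtain ⟨hic, -⟩ := integralClosure_eq_and_finite (K' := K') hKw P
  have hQP : IsOver Q P := ⟨e, he⟩
  obtain ⟨-, w, hw, hQw⟩ := traceDual_min_valuation hK hfr he hφ hψ x hx hx' hdeg hres
  have hint : IsIntegral K y := Algebra.IsIntegral.isIntegral y
  set G : K' := aeval y (derivative (minpoly K y)) with hG
  have hG0 : G ≠ 0 := by
    have hsep : (minpoly K y).Separable := Algebra.IsSeparable.isSeparable K y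
    exact hsep.aeval_derivative_ne_zero (minpoly.aeval K y)
  have hAtop : Algebra.adjoin K ({y} : Set K') = ⊤ := by
    rw [← IntermediateField.adjoin_simple_toSubalgebra_of_isAlgebraic hint.isAlgebraic, hy,
      IntermediateField.top_toSubalgebra]
  set M : Subalgebra P.O K' := Algebra.adjoin P.O ({y} : Set K') with hM
  have hMint : ∀ m ∈ M, IsIntegral P.O m := by
    intro m hm
    have hle : M ≤ integralClosure P.O K' := Algebra.adjoin_le (by
      intro x hx
      rw [Set.mem_singleton_iff] at hx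
      rw [hx]; exact hyi)
    exact hle hm
  have hE := traceForm_dualSubmodule_adjoin P.O K hAtop hyi
  rw [← hG, ← hM] at hE
  have hmem1 : ∀ c : K, P.1 c ≤ 1 → c ∈ (1 : Submodule P.O K) := fun c hc => by
    rw [Submodule.mem_one]; exact ⟨⟨c, hc⟩, rfl⟩
  -- multiples of `w` by integral elements lie in the dual of `M`
  have hwz : ∀ z : K', IsIntegral P.O z → ∃ m ∈ M, G * (w * z) = m := by
    intro z hz
    have h1 : w * z ∈ (Algebra.traceForm K K').dualSubmodule (Subalgebra.toSubmodule M) := by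
      rw [LinearMap.BilinForm.mem_dualSubmodule]
      intro m hm
      rw [Algebra.traceForm_apply, mul_assoc]
      exact hmem1 _ (hw (z * m) (hz.mul (hMint m hm)))
    rw [hE, Submodule.mem_smul_pointwise_iff_exists] at h1
    obtain ⟨m, hm, hm'⟩ := h1
    refine ⟨m, hm, ?_⟩
    rw [← hm', smul_eq_mul, mul_inv_cancel_left₀ hG0]
  obtain ⟨m₀, hm₀M, hm₀⟩ := hwz 1 isIntegral_one
  rw [mul_one] at hm₀
  have hm₀1 : Q.1 m₀ ≤ 1 := (hic m₀).1 (hMint m₀ hm₀M) Q hQP
  have hQG : Q.1 G ≤ WithZero.exp (-(LocRes.diffExp φ ψ e x)) := by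
    have h1 : Q.1 G * WithZero.exp (LocRes.diffExp φ ψ e x) ≤ 1 := by
      rw [← hQw, ← map_mul, hm₀]; exact hm₀1
    rw [WithZero.exp_neg]
    rw [← one_mul (WithZero.exp (LocRes.diffExp φ ψ e x))⁻¹]
    exact (le_mul_inv_iff₀ (zero_lt_iff.2 WithZero.exp_ne_zero)).2 h1
  have hG_ord : LocRes.diffExp φ ψ e x ≤ Q.ord G := by
    have := (val_le_exp_iff Q hG0 (-(LocRes.diffExp φ ψ e x))).1 hQG
    omega
  refine ⟨hG_ord, ?_⟩
  intro heq z hz
  have hQG' : Q.1 G = WithZero.exp (-(LocRes.diffExp φ ψ e x)) := by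
    rw [val_eq_exp_neg_ord Q hG0, heq]
  have hm₀Q : Q.1 m₀ = 1 := by
    rw [← hm₀, map_mul, hQG', hQw, ← WithZero.exp_add, neg_add_cancel, WithZero.exp_zero]
  -- a unit `u` at `Q`, integral, with `u z` integral
  obtain ⟨hSfin, -⟩ := sum_ramIdx_mul_deg (K' := K') hK P
  haveI : Fintype ↥hSfin.toFinset := inferInstance
  obtain ⟨u, hu⟩ := weak_approx (fun i : ↥hSfin.toFinset => (i : Place k K'))
    Subtype.val_injective (fun i => if (i : Place k K') = Q then 1 else 0)
    (fun i => if (i : Place k K') = Q then 0 else max 0 (-(i : Place k K').ord z))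
  have hQmem : Q ∈ hSfin.toFinset := by rw [Set.Finite.mem_toFinset]; exact hQP
  have huQ : Q.1 (u - 1) < 1 := by
    have := hu ⟨Q, hQmem⟩
    simpa using this
  have huQ1 : Q.1 u = 1 := by
    have : u = 1 + (u - 1) := by ring
    rw [this, Valuation.map_add_eq_of_lt_left _ (by rw [map_one]; exact huQ), map_one]
  have huQ' : ∀ Q' : Place k K', IsOver Q' P → Q' ≠ Q →
      Q'.1 u < WithZero.exp (-(max 0 (-Q'.ord z))) := by
    intro Q' hQ' hne
    have hQ'mem : Q' ∈ hSfin.toFinset := by rw [Set.Finite.mem_toFinset]; exact hQ'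
    have := hu ⟨Q', hQ'mem⟩
    simpa [hne] using this
  have huint : IsIntegral P.O u := by
    apply (hic u).2
    intro Q' hQ'
    by_cases hQQ : Q' = Q
    · rw [hQQ, huQ1]
    · refine (huQ' Q' hQ' hQQ).le.trans ?_
      rw [← WithZero.exp_zero, WithZero.exp_le_exp]
      have := le_max_left 0 (-Q'.ord z)
      omega
  have huzint : IsIntegral P.O (u * z) := by
    apply (hic _).2
    intro Q' hQ'
    by_cases hQQ : Q' = Q
    · rw [hQQ, map_mul, huQ1, one_mul]; exact hz
    · rcases eq_or_ne z 0 with rfl | hz0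
      · rw [mul_zero, map_zero]; exact zero_le_one
      rw [map_mul, val_eq_exp_neg_ord Q' hz0]
      calc Q'.1 u * WithZero.exp (-Q'.ord z)
          ≤ WithZero.exp (-(max 0 (-Q'.ord z))) * WithZero.exp (-Q'.ord z) :=
            mul_le_mul_left (huQ' Q' hQ' hQQ).le _
        _ ≤ 1 := by
            rw [← WithZero.exp_add, ← WithZero.exp_zero, WithZero.exp_le_exp]
            have := le_max_right 0 (-Q'.ord z)
            omega
  obtain ⟨a, haM, ha⟩ := hwz (u * z) huzint
  obtain ⟨b, hbM, hb⟩ := hwz u huint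
  refine ⟨a, haM, b, hbM, ?_, ?_⟩
  · rw [← hb, ← mul_assoc, hm₀, map_mul, hm₀Q, huQ1, one_mul]
  · rw [← hb, ← ha]; ring

end Monogenic

end Groth.Agent.Helper17.FF
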