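import Mathlib
import Groth.Agent.Lib.Helper17.FF17
namespace Groth.Agent.Helper17.FF

universe u v w

open FunFld Polynomial Module IntermediateField

section HypUnique

variable {k : Type u} {K : Type v} [Field k] [Field K] [Algebra k K]

lemma transcendental_of_finrank_adjoin (hK : IsFunctionField k K) {x : K} {n : ℕ} (hn : 0 < n)
    (hx : finrank (IntermediateField.adjoin k ({x} : Set K)) K = n) : Transcendental k x := by
  intro halg
  obtain ⟨c, rfl⟩ := hK.2 x halg
  have hbot : IntermediateField.adjoin k ({algebraMap k K c} : Set K) = ⊥ := by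
    rw [IntermediateField.adjoin_simple_eq_bot_iff]
    exact IntermediateField.algebraMap_mem ⊥ c
  rw [hbot, IntermediateField.finrank_bot'] at hx
  haveI : FiniteDimensional k K := Module.finite_of_finrank_pos (by rw [hx]; exact hn)
  obtain ⟨⟨x₀, hx₀, -⟩, -⟩ := hK
  exact hx₀ (Algebra.IsAlgebraic.isAlgebraic x₀)

/-- a function field of genus at least two has at most one rational subfield of index two -/
theorem rational_index_two_unique (hK : IsFunctionField k K) (hg : 2 ≤ genus k K)
    (x x' : K) (hx : finrank (IntermediateField.adjoin k ({x} : Set K)) K = 2)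
    (hx' : finrank (IntermediateField.adjoin k ({x'} : Set K)) K = 2) :
    IntermediateField.adjoin k ({x} : Set K) = IntermediateField.adjoin k ({x'} : Set K) := by
  classical
  have hxt := transcendental_of_finrank_adjoin hK (by norm_num) hx
  have hxt' := transcendental_of_finrank_adjoin hK (by norm_num) hx'
  have hxk := not_mem_range_of_transcendental hxt
  have hxk' := not_mem_range_of_transcendental hxt'
  have hx0 := ne_zero_of_not_mem_range hxk
  have hx0' := ne_zero_of_not_mem_range hxk'
  haveI := finite_of_transcendental hK hxt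
  haveI := finite_of_transcendental hK hxt'
  set E := IntermediateField.adjoin k ({x} : Set K) with hE
  suffices hmem : x' ∈ E by
    symm
    apply IntermediateField.eq_of_le_of_finrank_eq'
    · rw [IntermediateField.adjoin_le_iff]
      intro z hz
      rw [Set.mem_singleton_iff] at hz
      rw [hz]; exact hmem
    · rw [hx, hx']
  by_contra hnot
  -- `1, x'` is a basis of `K` over `E`
  have hli : LinearIndependent E ![(1 : K), x'] := by
    rw [LinearIndependent.pair_iff]
    intro a b hab
    by_cases hb : b = 0
    · rw [hb, zero_smul, add_zero] at hab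
      have : a = 0 := by
        have h1 : (a : K) = 0 := by simpa [Algebra.smul_def] using hab
        exact_mod_cast h1
      exact ⟨this, hb⟩
    · exfalso
      apply hnot
      have h1 : x' = -(a : K) / (b : K) := by
        have hb' : (b : K) ≠ 0 := fun h => hb (by exact_mod_cast h)
        have h2 : (a : K) + (b : K) * x' = 0 := by
          simpa [Algebra.smul_def] using hab
        field_simp
        linear_combination h2
      rw [h1]
      exact E.div_mem (E.neg_mem a.2) b.2
  let u : Basis (Fin 2) E K := basisOfLinearIndependentOfCardEqFinrank hli (by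
    rw [Fintype.card_fin, hx])
  have hu : ∀ j, u j = ![(1 : K), x'] j := fun j => by
    simp [u]
  set D : Divisor k K := (-FunFld.div k x) ⊔ 0 with hD
  set D' : Divisor k K := (-FunFld.div k x') ⊔ 0 with hD'
  have hDdeg : D.deg = 2 := by rw [hD, deg_poles hK hxt, hx]; rfl
  have hD'deg : D'.deg = 2 := by rw [hD', deg_poles hK hxt', hx']; rfl
  have hDP : ∀ P : Place k K, D P = max (-(P.ord x)) 0 := fun P => by
    rw [hD, Finsupp.sup_apply, Finsupp.neg_apply, div_apply hK]; rfl
  have hD'P : ∀ P : Place k K, D' P = max (-(P.ord x')) 0 := fun P => by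
    rw [hD', Finsupp.sup_apply, Finsupp.neg_apply, div_apply hK]; rfl
  set g := genus k K with hgdef
  set A : Divisor k K := (g : ℤ) • D + D' with hA
  have hAdeg : A.deg = 2 * g + 2 := by
    rw [hA, deg_add, deg_zsmul, hDdeg, hD'deg]; ring
  have hmem : ∀ p : Fin (g + 1) × Fin 2, x ^ (p.1 : ℕ) * u p.2 ∈ L A := by
    rintro ⟨i, j⟩ P
    have huj0 : u j ≠ 0 := u.ne_zero j
    have hne : x ^ (i : ℕ) * u j ≠ 0 := mul_ne_zero (pow_ne_zero _ hx0) huj0
    show P.1 (x ^ (i : ℕ) * u j) ≤ _
    rw [val_le_exp_iff P hne, ord_mul P (pow_ne_zero _ hx0) huj0, ord_pow, hA,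
      Finsupp.add_apply, Finsupp.smul_apply, hDP P, hD'P P, smul_eq_mul]
    have hi : (i : ℤ) ≤ g := by have := i.2; omega
    have h2 : -((g : ℤ) * max (-(P.ord x)) 0) ≤ (i : ℤ) * P.ord x := by
      rcases le_total (-(P.ord x)) 0 with h | h
      · rw [max_eq_right h, mul_zero, neg_zero]
        exact mul_nonneg (by positivity) (by omega)
      · rw [max_eq_left h]
        have h3 : (i : ℤ) * (-(P.ord x)) ≤ g * (-(P.ord x)) := mul_le_mul_of_nonneg_right hi h
        linarith
    have h3 : -(max (-(P.ord x')) 0) ≤ P.ord (u j) := by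
      rw [hu j]
      fin_cases j
      · simp only [Fin.zero_eta, Fin.isValue, Matrix.cons_val_zero]
        have : P.ord (1 : K) = 0 := by unfold Place.ord; simp
        rw [this]
        have := le_max_right (-(P.ord x')) 0
        omega
      · simp only [Fin.mk_one, Fin.isValue, Matrix.cons_val_one, Matrix.cons_val_fin_one]
        have := le_max_left (-(P.ord x')) 0
        omega
    linarith
  have hfd := L_finite hK A
  have hli2 : LinearIndependent k (fun p : Fin (g + 1) × Fin 2 =>
      (⟨x ^ (p.1 : ℕ) * u p.2, hmem p⟩ : L A)) := by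
    apply LinearIndependent.of_comp (L A).subtype
    exact linInd_pow_mul_basis u g x (IntermediateField.mem_adjoin_simple_self k x) hxt
  have h1 := hli2.fintype_card_le_finrank
  rw [Fintype.card_prod, Fintype.card_fin, Fintype.card_fin] at h1
  have h2 := ell_eq_of_deg_ge hK A (by rw [hAdeg]; omega)
  rw [hAdeg] at h2
  have h3 : (((g + 1) * 2 : ℕ) : ℤ) ≤ ell A := by
    unfold ell; exact_mod_cast h1
  push_cast at h3
  have hg' : (2 : ℤ) ≤ g := by exact_mod_cast hg
  linarith

end HypUnique

end Groth.Agent.Helper17.FF
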