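import Mathlib
import Groth.Agent.Lib.Helper17.FFW2

/-! Places of the rational function field `k(X)` at irreducible polynomials. -/

namespace Groth.Agent.Helper17.FF

open FunFld Polynomial Module IntermediateField

section Rat

variable {k : Type*} [Field k]

theorem isFunctionField_ratFunc : IsFunctionField k (RatFunc k) := by
  refine ⟨⟨RatFunc.X, RatFunc.transcendental_X, ?_⟩, ?_⟩
  · have htop : ∀ y : RatFunc k, y ∈ k⟮(RatFunc.X : RatFunc k)⟯ := fun y => by
      rw [RatFunc.adjoin_X]; trivial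
    refine Module.Finite.of_surjective
      (LinearMap.toSpanSingleton k⟮(RatFunc.X : RatFunc k)⟯ (RatFunc k) 1) ?_
    intro y
    refine ⟨⟨y, htop y⟩, ?_⟩
    rw [LinearMap.toSpanSingleton_apply, Algebra.smul_def, mul_one]
    rfl
  · intro y hy
    by_contra hcon
    have hf : ¬ ∃ c, y = RatFunc.C c := by
      rintro ⟨c, rfl⟩
      exact hcon ⟨c, by rw [RatFunc.algebraMap_eq_C]⟩
    have h1 := RatFunc.isAlgebraic_adjoin_simple_X y hf
    have : Algebra.IsAlgebraic k k⟮y⟯ :=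
      IntermediateField.isAlgebraic_adjoin_simple hy.isIntegral
    exact RatFunc.transcendental_X (h1.restrictScalars k)

variable {L : Type*} [Field L] [Algebra k L] {Γ₀ : Type*} [LinearOrderedCommGroupWithZero Γ₀]
  (v : Valuation L Γ₀)

/-- at a pole `x` of a valuation trivial on `k`, a polynomial of degree `d` in `x` has value
`v(x)^d`. -/
theorem val_aeval_of_one_lt (hv : ∀ c : k, v (algebraMap k L c) ≤ 1) {x : L} (hx : 1 < v x)
    {q : k[X]} (hq : q ≠ 0) : v (aeval x q) = v x ^ q.natDegree := by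
  have hx0 : x ≠ 0 := by
    rintro rfl
    rw [map_zero] at hx
    exact absurd hx (by simp)
  letI : Invertible x := invertibleOfNonzero hx0
  have h1 := eval₂_reverse_mul_pow (algebraMap k L) x q
  rw [invOf_eq_inv] at h1
  rw [aeval_def, ← h1, map_mul, map_pow]
  have hxinv : v x⁻¹ < 1 := by
    rw [map_inv₀]
    exact inv_lt_one_of_one_lt₀ hx
  have h2 : v (eval₂ (algebraMap k L) x⁻¹ q.reverse) = 1 := by
    have h3 := divX_mul_X_add q.reverse
    rw [coeff_zero_reverse] at h3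
    rw [← h3, eval₂_add, eval₂_mul, eval₂_X, eval₂_C]
    have h4 : v (eval₂ (algebraMap k L) x⁻¹ q.reverse.divX * x⁻¹) < 1 := by
      rw [map_mul]
      have h5 : v (eval₂ (algebraMap k L) x⁻¹ q.reverse.divX) ≤ 1 := by
        have := val_aeval_le_one v hv hxinv.le q.reverse.divX
        rwa [aeval_def] at this
      calc _ ≤ 1 * v x⁻¹ := mul_le_mul' h5 le_rfl
        _ = v x⁻¹ := one_mul _
        _ < 1 := hxinv
    have h6 : v (algebraMap k L q.leadingCoeff) = 1 :=
      val_const' v hv (leadingCoeff_ne_zero.2 hq)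
    rw [Valuation.map_add_eq_of_lt_right v (by rw [h6]; exact h4), h6]
  rw [h2, one_mul]

end Rat

open FunFld Polynomial Module IntermediateField

section Rat2

variable {k : Type*} [Field k] (P₀ : Place k (RatFunc k)) {p : k[X]}

/-- a finite place of `k(X)`: all polynomials are integral -/
theorem ratPlace_poly_le_one (hp0 : p ≠ 0)
    (hP₀ : P₀.1 (algebraMap k[X] (RatFunc k) p) < 1) (q : k[X]) :
    P₀.1 (algebraMap k[X] (RatFunc k) q) ≤ 1 := by
  have hX : P₀.1 (RatFunc.X : RatFunc k) ≤ 1 := by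
    by_contra hcon
    push Not at hcon
    have h1 := val_aeval_of_one_lt P₀.1 P₀.2.1 hcon hp0
    rw [RatFunc.aeval_X_left_eq_algebraMap] at h1
    rw [h1] at hP₀
    exact absurd hP₀ (not_lt.2 (one_le_pow₀ hcon.le))
  have := val_aeval_le_one P₀.1 P₀.2.1 hX q
  rwa [RatFunc.aeval_X_left_eq_algebraMap] at this

theorem ratPlace_coprime_eq_one (hp0 : p ≠ 0)
    (hP₀ : P₀.1 (algebraMap k[X] (RatFunc k) p) < 1) {g : k[X]} (hg : IsCoprime p g) :
    P₀.1 (algebraMap k[X] (RatFunc k) g) = 1 := by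
  obtain ⟨a, b, hab⟩ := hg
  have h1 : algebraMap k[X] (RatFunc k) a * algebraMap k[X] (RatFunc k) p +
      algebraMap k[X] (RatFunc k) b * algebraMap k[X] (RatFunc k) g = 1 := by
    rw [← map_mul, ← map_mul, ← map_add, hab, map_one]
  have ha := ratPlace_poly_le_one P₀ hp0 hP₀ a
  have hb := ratPlace_poly_le_one P₀ hp0 hP₀ b
  have hg1 := ratPlace_poly_le_one P₀ hp0 hP₀ g
  have h2 : P₀.1 (algebraMap k[X] (RatFunc k) a * algebraMap k[X] (RatFunc k) p) < 1 := by
    rw [map_mul]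
    calc _ ≤ 1 * P₀.1 (algebraMap k[X] (RatFunc k) p) := mul_le_mul' ha le_rfl
      _ = _ := one_mul _
      _ < 1 := hP₀
  by_contra hne
  have hlt : P₀.1 (algebraMap k[X] (RatFunc k) g) < 1 := lt_of_le_of_ne hg1 hne
  have h3 : P₀.1 (algebraMap k[X] (RatFunc k) b * algebraMap k[X] (RatFunc k) g) < 1 := by
    rw [map_mul]
    calc _ ≤ 1 * P₀.1 (algebraMap k[X] (RatFunc k) g) := mul_le_mul' hb le_rfl
      _ = _ := one_mul _
      _ < 1 := hlt
  have h4 := P₀.1.map_add (algebraMap k[X] (RatFunc k) a * algebraMap k[X] (RatFunc k) p)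
    (algebraMap k[X] (RatFunc k) b * algebraMap k[X] (RatFunc k) g)
  rw [h1, map_one] at h4
  exact absurd h4 (not_le.2 (max_lt h2 h3))

/-- the valuation of a polynomial at the place of the irreducible `p` -/
theorem ratPlace_poly_eq_pow (hp : Irreducible p)
    (hP₀ : P₀.1 (algebraMap k[X] (RatFunc k) p) < 1) {q : k[X]} (hq : q ≠ 0) :
    ∃ n : ℕ, P₀.1 (algebraMap k[X] (RatFunc k) q) = P₀.1 (algebraMap k[X] (RatFunc k) p) ^ n := by
  obtain ⟨n, u, hu, rfl⟩ := WfDvdMonoid.max_power_factor hq hp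
  refine ⟨n, ?_⟩
  have hcop : IsCoprime p u := (hp.coprime_iff_not_dvd).2 hu
  rw [map_mul, map_mul, map_pow, map_pow, ratPlace_coprime_eq_one P₀ hp.ne_zero hP₀ hcop, mul_one]

theorem ratPlace_irreducible_eq (hp : Irreducible p)
    (hP₀ : P₀.1 (algebraMap k[X] (RatFunc k) p) < 1) :
    P₀.1 (algebraMap k[X] (RatFunc k) p) = WithZero.exp (-1 : ℤ) := by
  set π := algebraMap k[X] (RatFunc k) p with hπ
  have hπ0 : π ≠ 0 := by
    rw [hπ]
    exact (map_ne_zero_iff _ (IsFractionRing.injective k[X] (RatFunc k))).2 hp.ne_zero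
  have hv0 : P₀.1 π ≠ 0 := (Valuation.ne_zero_iff _).2 hπ0
  obtain ⟨z, hz⟩ := P₀.2.2 (WithZero.exp (-1 : ℤ))
  have hz0 : z ≠ 0 := by
    rintro rfl
    rw [map_zero] at hz
    exact WithZero.exp_ne_zero hz.symm
  have hnum0 : z.num ≠ 0 := RatFunc.num_ne_zero hz0
  obtain ⟨a, ha⟩ := ratPlace_poly_eq_pow P₀ hp hP₀ hnum0
  obtain ⟨b, hb⟩ := ratPlace_poly_eq_pow P₀ hp hP₀ z.denom_ne_zero
  have h1 : P₀.1 z = P₀.1 π ^ ((a : ℤ) - b) := by
    conv_lhs => rw [← RatFunc.num_div_denom z]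
    rw [map_div₀, ha, hb, zpow_sub₀ hv0, zpow_natCast, zpow_natCast]
  set m : ℤ := WithZero.log (P₀.1 π) with hm
  have hvm : P₀.1 π = WithZero.exp m := (WithZero.exp_log hv0).symm
  have hmneg : m < 0 := by
    have := hP₀
    rw [hvm, ← WithZero.exp_zero, WithZero.exp_lt_exp] at this
    exact this
  rw [hz, hvm, ← WithZero.exp_zsmul, WithZero.exp_inj, smul_eq_mul] at h1
  rw [hvm, WithZero.exp_inj]
  -- `-1 = (a - b) * m` with `m < 0`
  have h2 : (m : ℤ) ∣ 1 := ⟨-((a : ℤ) - b), by linarith⟩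
  have h3 := Int.natAbs_dvd_natAbs.2 h2
  have h4 : m.natAbs = 1 := Nat.dvd_one.1 (by simpa using h3)
  omega

end Rat2

open FunFld Polynomial Module IntermediateField

section Hyper

variable {k K : Type*} [Field k] [Field K] [Algebra k K]

/-- if every place over `P₀` contributes at least `[K:K₀] deg P₀`, there is exactly one. -/
theorem unique_over_of_large {K₀ : Type*} [Field K₀] [Algebra k K₀] [Algebra K₀ K]
    [IsScalarTower k K₀ K] [FiniteDimensional K₀ K] (hK₀ : IsFunctionField k K₀)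
    (P₀ : Place k K₀)
    (h : ∀ P : Place k K, IsOver P P₀ → finrank K₀ K * P₀.deg ≤ ramIdx P P₀ * P.deg) :
    (∃! P : Place k K, IsOver P P₀) ∧
      ∀ P : Place k K, IsOver P P₀ → ramIdx P P₀ * P.deg = finrank K₀ K * P₀.deg := by
  classical
  obtain ⟨hfin, hsum⟩ := sum_ramIdx_mul_deg (K' := K) hK₀ P₀
  have hmem : ∀ Q, Q ∈ hfin.toFinset ↔ IsOver Q P₀ := fun Q => by simp [Set.Finite.mem_toFinset]
  have h1 := hsum hfin.toFinset hmem
  have hpos : 0 < finrank K₀ K * P₀.deg := Nat.mul_pos Module.finrank_pos (deg_pos hK₀ P₀)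
  have hcard : hfin.toFinset.card * (finrank K₀ K * P₀.deg) ≤ finrank K₀ K * P₀.deg := by
    calc hfin.toFinset.card * (finrank K₀ K * P₀.deg)
        = ∑ _Q ∈ hfin.toFinset, finrank K₀ K * P₀.deg := by rw [Finset.sum_const, smul_eq_mul]
      _ ≤ ∑ Q ∈ hfin.toFinset, ramIdx Q P₀ * Q.deg :=
          Finset.sum_le_sum fun Q hQ => h Q ((hmem Q).1 hQ)
      _ = finrank K₀ K * P₀.deg := h1
  have hle : hfin.toFinset.card ≤ 1 := by
    by_contra hgt
    push Not at hgt
    have : 2 * (finrank K₀ K * P₀.deg) ≤ hfin.toFinset.card * (finrank K₀ K * P₀.deg) :=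
      Nat.mul_le_mul_right _ hgt
    omega
  have hne : hfin.toFinset.Nonempty := by
    by_contra hemp
    rw [Finset.not_nonempty_iff_eq_empty] at hemp
    rw [hemp, Finset.sum_empty] at h1
    omega
  have hone : hfin.toFinset.card = 1 := le_antisymm hle (Finset.card_pos.2 hne)
  obtain ⟨P, hP⟩ := Finset.card_eq_one.1 hone
  have hPov : IsOver P P₀ := (hmem P).1 (by rw [hP]; exact Finset.mem_singleton_self P)
  have huniq : ∀ Q : Place k K, IsOver Q P₀ → Q = P := by
    intro Q hQ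
    have := (hmem Q).2 hQ
    rw [hP, Finset.mem_singleton] at this
    exact this
  refine ⟨⟨P, hPov, huniq⟩, ?_⟩
  intro Q hQ
  rw [huniq Q hQ]
  rw [hP, Finset.sum_singleton] at h1
  exact h1

variable [Algebra (RatFunc k) K] [IsScalarTower k (RatFunc k) K]

theorem hyperelliptic_ramified
    (hdeg : Module.finrank (RatFunc k) K = 2) (y : K) (f : Polynomial k) (hf : Squarefree f)
    (heq : y ^ 2 = algebraMap (RatFunc k) K (algebraMap (Polynomial k) (RatFunc k) f))
    (p : Polynomial k) (hp : Irreducible p) (hpf : p ∣ f)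
    (P₀ : Place k (RatFunc k)) (hP₀ : P₀.1 (algebraMap (Polynomial k) (RatFunc k) p) < 1) :
    (∃! P : Place k K, IsOver P P₀) ∧
    ∀ P : Place k K, IsOver P P₀ → IsOverWith P P₀ 2 ∧ P.deg = P₀.deg := by
  classical
  have hK₀ : IsFunctionField k (RatFunc k) := isFunctionField_ratFunc
  have : FiniteDimensional (RatFunc k) K := Module.finite_of_finrank_pos (by rw [hdeg]; norm_num)
  -- `ord_{P₀} f = 1`
  obtain ⟨g, rfl⟩ := hpf
  have hcop : IsCoprime p g := ((squarefree_mul_iff.1 hf).1).isCoprime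
  have hvf : P₀.1 (algebraMap (Polynomial k) (RatFunc k) (p * g)) = WithZero.exp (-1 : ℤ) := by
    rw [map_mul, map_mul, ratPlace_irreducible_eq P₀ hp hP₀,
      ratPlace_coprime_eq_one P₀ hp.ne_zero hP₀ hcop, mul_one]
  have hf0 : algebraMap (Polynomial k) (RatFunc k) (p * g) ≠ 0 := by
    intro h0
    rw [h0, map_zero] at hvf
    exact WithZero.exp_ne_zero hvf.symm
  have hordf : P₀.ord (algebraMap (Polynomial k) (RatFunc k) (p * g)) = 1 := ord_uniformizer P₀ hvf
  -- every place over `P₀` has even ramification index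
  have heven : ∀ P : Place k K, IsOver P P₀ → 2 ≤ ramIdx P P₀ := by
    intro P hP
    have h3 := isOverWith_ord (isOverWith_ramIdx hP) (algebraMap (Polynomial k) (RatFunc k) (p * g))
    rw [← heq, ord_pow, hordf, mul_one] at h3
    have hpos := ramIdx_pos hP
    have : (2 : ℤ) ∣ (ramIdx P P₀ : ℤ) := ⟨_, h3.symm⟩
    have := Int.le_of_dvd (by exact_mod_cast hpos) this
    exact_mod_cast this
  have hlarge : ∀ P : Place k K, IsOver P P₀ →
      finrank (RatFunc k) K * P₀.deg ≤ ramIdx P P₀ * P.deg := by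
    intro P hP
    rw [hdeg]
    exact Nat.mul_le_mul (heven P hP) (deg_le_of_isOver hK₀ hP)
  obtain ⟨huniq, hsum⟩ := unique_over_of_large hK₀ P₀ hlarge
  refine ⟨huniq, fun P hP => ?_⟩
  have h4 := hsum P hP
  rw [hdeg] at h4
  have h5 := heven P hP
  have h6 := deg_le_of_isOver hK₀ hP
  have h7 := deg_pos hK₀ P₀
  have hd : P.deg = P₀.deg := by
    by_contra hne
    have hlt : P₀.deg < P.deg := lt_of_le_of_ne h6 (Ne.symm hne)
    have : 2 * P₀.deg < ramIdx P P₀ * P.deg :=
      calc 2 * P₀.deg < 2 * P.deg := by omega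
        _ ≤ ramIdx P P₀ * P.deg := Nat.mul_le_mul_right _ h5
    omega
  have he : ramIdx P P₀ = 2 := by
    rw [hd] at h4
    exact Nat.eq_of_mul_eq_mul_right h7 h4
  refine ⟨?_, hd⟩
  rw [← he]
  exact isOverWith_ramIdx hP

end Hyper

open FunFld Polynomial Module IntermediateField

section Hyper2

variable {k : Type*} [Field k]

/-- a finite place of `k(X)` at which the polynomial `f` vanishes is the place of an irreducible
factor of `f`. -/
theorem exists_irreducible_factor_of_ratPlace (P₀ : Place k (RatFunc k))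
    (hX : P₀.1 (RatFunc.X : RatFunc k) ≤ 1) {f : k[X]} (hf0 : f ≠ 0)
    (hf : P₀.1 (algebraMap k[X] (RatFunc k) f) < 1) :
    ∃ p : k[X], Irreducible p ∧ p ∣ f ∧ P₀.1 (algebraMap k[X] (RatFunc k) p) < 1 := by
  classical
  have hint : ∀ q : k[X], algebraMap k[X] (RatFunc k) q ∈ P₀.O.toSubring := by
    intro q
    have := val_aeval_le_one P₀.1 P₀.2.1 hX q
    rwa [RatFunc.aeval_X_left_eq_algebraMap] at this
  let φ : k[X] →+* P₀.O := (algebraMap k[X] (RatFunc k)).codRestrict P₀.O.toSubring hint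
  let 𝔭 : Ideal k[X] := (IsLocalRing.maximalIdeal P₀.O).comap φ
  have hmem : ∀ q : k[X], q ∈ 𝔭 ↔ P₀.1 (algebraMap k[X] (RatFunc k) q) < 1 := by
    intro q
    show φ q ∈ IsLocalRing.maximalIdeal P₀.O ↔ _
    rw [mem_maximalIdeal_iff]
    rfl
  have hprime : 𝔭.IsPrime := Ideal.comap_isPrime φ _
  have hne : 𝔭 ≠ ⊥ := by
    intro hbot
    have : f ∈ 𝔭 := (hmem f).2 hf
    rw [hbot, Ideal.mem_bot] at this
    exact hf0 this
  have hgen := Submodule.IsPrincipal.prime_generator_of_isPrime 𝔭 hne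
  refine ⟨Submodule.IsPrincipal.generator 𝔭, hgen.irreducible, ?_, ?_⟩
  · have : f ∈ 𝔭 := (hmem f).2 hf
    exact (Submodule.IsPrincipal.mem_iff_generator_dvd 𝔭).1 this
  · exact (hmem _).1 (Submodule.IsPrincipal.generator_mem 𝔭)

variable {K : Type*} [Field K] [Algebra k K] [Algebra (RatFunc k) K]
  [IsScalarTower k (RatFunc k) K]

theorem hyperelliptic_ord_y (hdeg : Module.finrank (RatFunc k) K = 2) (y : K) (f : Polynomial k)
    (hf : Squarefree f)
    (heq : y ^ 2 = algebraMap (RatFunc k) K (algebraMap (Polynomial k) (RatFunc k) f))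
    (P : Place k K) :
    (0 < P.ord y → P.ord y = 1) ∧
    (0 < P.ord y ↔ ∃ P₀ : Place k (RatFunc k), IsOver P P₀ ∧
      0 ≤ P₀.ord (RatFunc.X : RatFunc k) ∧
      0 < P₀.ord (algebraMap (Polynomial k) (RatFunc k) f)) := by
  classical
  have hK₀ : IsFunctionField k (RatFunc k) := isFunctionField_ratFunc
  have : FiniteDimensional (RatFunc k) K := Module.finite_of_finrank_pos (by rw [hdeg]; norm_num)
  have : Algebra.IsAlgebraic (RatFunc k) K := Algebra.IsAlgebraic.of_finite _ _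
  have hf0 : f ≠ 0 := hf.ne_zero
  have hfK0 : algebraMap (Polynomial k) (RatFunc k) f ≠ 0 :=
    (map_ne_zero_iff _ (IsFractionRing.injective k[X] (RatFunc k))).2 hf0
  have hX0 : (RatFunc.X : RatFunc k) ≠ 0 := RatFunc.X_ne_zero
  -- the key relation
  have hrel : ∀ (P₀ : Place k (RatFunc k)), IsOver P P₀ →
      2 * P.ord y = (ramIdx P P₀ : ℤ) * P₀.ord (algebraMap (Polynomial k) (RatFunc k) f) := by
    intro P₀ hP
    have h3 := isOverWith_ord (isOverWith_ramIdx hP) (algebraMap (Polynomial k) (RatFunc k) f)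
    rw [← heq, ord_pow] at h3
    exact_mod_cast h3
  have hmain : 0 < P.ord y → P.ord y = 1 ∧ ∃ P₀ : Place k (RatFunc k), IsOver P P₀ ∧
      0 ≤ P₀.ord (RatFunc.X : RatFunc k) ∧
      0 < P₀.ord (algebraMap (Polynomial k) (RatFunc k) f) := by
    intro hpos
    set P₀ := placeBelow hK₀ P with hP₀
    have hov : IsOver P P₀ := isOver_placeBelow hK₀ P
    have h1 := hrel P₀ hov
    have hepos := ramIdx_pos hov
    have hfpos : 0 < P₀.ord (algebraMap (Polynomial k) (RatFunc k) f) := by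
      by_contra hle
      push Not at hle
      have : (ramIdx P P₀ : ℤ) * P₀.ord (algebraMap (Polynomial k) (RatFunc k) f) ≤ 0 :=
        mul_nonpos_of_nonneg_of_nonpos (by positivity) hle
      omega
    have hXle : P₀.1 (RatFunc.X : RatFunc k) ≤ 1 := by
      by_contra hcon
      push Not at hcon
      have h2 := val_aeval_of_one_lt P₀.1 P₀.2.1 hcon hf0
      rw [RatFunc.aeval_X_left_eq_algebraMap] at h2
      have h3 := (ord_pos_iff P₀ hfK0).1 hfpos
      rw [h2] at h3
      exact absurd h3 (not_lt.2 (one_le_pow₀ hcon.le))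
    have hXord : 0 ≤ P₀.ord (RatFunc.X : RatFunc k) := (ord_nonneg_iff P₀ hX0).2 hXle
    obtain ⟨p, hp, hpf, hpv⟩ := exists_irreducible_factor_of_ratPlace P₀ hXle hf0
      ((ord_pos_iff P₀ hfK0).1 hfpos)
    obtain ⟨-, hall⟩ := hyperelliptic_ramified hdeg y f hf heq p hp hpf P₀ hpv
    obtain ⟨he2, -⟩ := hall P hov
    obtain ⟨g, rfl⟩ := hpf
    have hcop : IsCoprime p g := ((squarefree_mul_iff.1 hf).1).isCoprime
    have hvf : P₀.1 (algebraMap (Polynomial k) (RatFunc k) (p * g)) = WithZero.exp (-1 : ℤ) := by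
      rw [map_mul, map_mul, ratPlace_irreducible_eq P₀ hp hpv,
        ratPlace_coprime_eq_one P₀ hp.ne_zero hpv hcop, mul_one]
    have hordf := ord_uniformizer P₀ hvf
    rw [ramIdx_eq he2, hordf] at h1
    refine ⟨by push_cast at h1; omega, P₀, hov, hXord, hfpos⟩
  refine ⟨fun h => (hmain h).1, fun h => (hmain h).2, ?_⟩
  rintro ⟨P₀, hov, -, hfpos⟩
  have h1 := hrel P₀ hov
  have hepos := ramIdx_pos hov
  have : 0 < (ramIdx P P₀ : ℤ) * P₀.ord (algebraMap (Polynomial k) (RatFunc k) f) :=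
    mul_pos (by exact_mod_cast hepos) hfpos
  omega

end Hyper2

open FunFld Polynomial Module IntermediateField

section RatInf

variable {k : Type*} [Field k] (Pinf : Place k (RatFunc k))

theorem ratInf_val_poly (hinf : 1 < Pinf.1 (RatFunc.X : RatFunc k)) {q : k[X]} (hq : q ≠ 0) :
    Pinf.1 (algebraMap k[X] (RatFunc k) q) = Pinf.1 (RatFunc.X : RatFunc k) ^ q.natDegree := by
  have := val_aeval_of_one_lt Pinf.1 Pinf.2.1 hinf hq
  rwa [RatFunc.aeval_X_left_eq_algebraMap] at this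

theorem ratInf_val (hinf : 1 < Pinf.1 (RatFunc.X : RatFunc k)) {z : RatFunc k} (hz : z ≠ 0) :
    Pinf.1 z = Pinf.1 (RatFunc.X : RatFunc k) ^ ((z.num.natDegree : ℤ) - z.denom.natDegree) := by
  have hv0 : Pinf.1 (RatFunc.X : RatFunc k) ≠ 0 :=
    (Valuation.ne_zero_iff _).2 RatFunc.X_ne_zero
  conv_lhs => rw [← RatFunc.num_div_denom z]
  rw [map_div₀, ratInf_val_poly Pinf hinf (RatFunc.num_ne_zero hz),
    ratInf_val_poly Pinf hinf z.denom_ne_zero, zpow_sub₀ hv0, zpow_natCast, zpow_natCast]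

theorem ratInf_val_X (hinf : 1 < Pinf.1 (RatFunc.X : RatFunc k)) :
    Pinf.1 (RatFunc.X : RatFunc k) = WithZero.exp (1 : ℤ) := by
  have hv0 : Pinf.1 (RatFunc.X : RatFunc k) ≠ 0 :=
    (Valuation.ne_zero_iff _).2 RatFunc.X_ne_zero
  obtain ⟨z, hz⟩ := Pinf.2.2 (WithZero.exp (1 : ℤ))
  have hz0 : z ≠ 0 := by
    rintro rfl
    rw [map_zero] at hz
    exact WithZero.exp_ne_zero hz.symm
  have h1 := ratInf_val Pinf hinf hz0
  set m : ℤ := WithZero.log (Pinf.1 (RatFunc.X : RatFunc k)) with hm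
  have hvm : Pinf.1 (RatFunc.X : RatFunc k) = WithZero.exp m := (WithZero.exp_log hv0).symm
  have hmpos : 0 < m := by
    have := hinf
    rw [hvm, ← WithZero.exp_zero, WithZero.exp_lt_exp] at this
    exact this
  rw [hz, hvm, ← WithZero.exp_zsmul, WithZero.exp_inj, smul_eq_mul] at h1
  rw [hvm, WithZero.exp_inj]
  have h2 : (m : ℤ) ∣ 1 := ⟨_, by rw [mul_comm]; exact h1⟩
  have h3 := Int.natAbs_dvd_natAbs.2 h2
  have h4 : m.natAbs = 1 := Nat.dvd_one.1 (by simpa using h3)
  omega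

theorem ratInf_ord_poly (hinf : 1 < Pinf.1 (RatFunc.X : RatFunc k)) {q : k[X]} (hq : q ≠ 0) :
    Pinf.ord (algebraMap k[X] (RatFunc k) q) = -(q.natDegree : ℤ) := by
  have hq0 : algebraMap k[X] (RatFunc k) q ≠ 0 :=
    (map_ne_zero_iff _ (IsFractionRing.injective k[X] (RatFunc k))).2 hq
  rw [← val_eq_exp_iff Pinf hq0, ratInf_val_poly Pinf hinf hq, ratInf_val_X Pinf hinf,
    ← WithZero.exp_nsmul]
  simp

/-- the residue field at infinity is `k` -/
theorem ratInf_exists_const (hinf : 1 < Pinf.1 (RatFunc.X : RatFunc k)) {z : RatFunc k}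
    (hz : Pinf.1 z ≤ 1) : ∃ c : k, Pinf.1 (z - algebraMap k (RatFunc k) c) < 1 := by
  classical
  rcases eq_or_ne z 0 with rfl | hz0
  · exact ⟨0, by simp⟩
  have hvX := ratInf_val_X Pinf hinf
  have hd0 := z.denom_ne_zero
  have hn0 := RatFunc.num_ne_zero hz0
  have hdeg : z.num.natDegree ≤ z.denom.natDegree := by
    have h1 := ratInf_val Pinf hinf hz0
    rw [h1, hvX, ← WithZero.exp_zsmul, ← WithZero.exp_zero, WithZero.exp_le_exp, smul_eq_mul,
      mul_one] at hz
    omega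
  set c : k := z.num.coeff z.denom.natDegree / z.denom.leadingCoeff with hc
  refine ⟨c, ?_⟩
  set r : k[X] := z.num - C c * z.denom with hr
  have hzr : z - algebraMap k (RatFunc k) c =
      algebraMap k[X] (RatFunc k) r / algebraMap k[X] (RatFunc k) z.denom := by
    have hd' : algebraMap k[X] (RatFunc k) z.denom ≠ 0 :=
      (map_ne_zero_iff _ (IsFractionRing.injective k[X] (RatFunc k))).2 hd0
    have hz' : z * algebraMap k[X] (RatFunc k) z.denom = algebraMap k[X] (RatFunc k) z.num := by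
      have h := RatFunc.num_div_denom z
      rw [div_eq_iff hd'] at h
      exact h.symm
    rw [eq_div_iff hd', hr, map_sub, map_mul, sub_mul, hz', RatFunc.algebraMap_C,
      RatFunc.algebraMap_eq_C]
  rw [hzr, map_div₀]
  rcases eq_or_ne r 0 with hr0 | hr0
  · rw [hr0, map_zero, map_zero, zero_div]; exact zero_lt_one
  have hdegr : r.natDegree < z.denom.natDegree := by
    have h1 : r.degree < (z.denom.natDegree : ℕ) := by
      rw [degree_lt_iff_coeff_zero]
      intro m hm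
      rw [hr, coeff_sub, coeff_C_mul]
      rcases eq_or_lt_of_le hm with rfl | hlt
      · rw [coeff_natDegree, hc, div_mul_cancel₀ _ (leadingCoeff_ne_zero.2 hd0), sub_self]
      · rw [coeff_eq_zero_of_natDegree_lt (lt_of_le_of_lt hdeg hlt),
          coeff_eq_zero_of_natDegree_lt hlt, mul_zero, sub_zero]
    exact (natDegree_lt_iff_degree_lt hr0).2 h1
  rw [ratInf_val_poly Pinf hinf hr0, ratInf_val_poly Pinf hinf hd0, hvX, ← WithZero.exp_nsmul,
    ← WithZero.exp_nsmul, ← WithZero.exp_sub, ← WithZero.exp_zero, WithZero.exp_lt_exp]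
  simp only [nsmul_eq_mul, mul_one]
  omega

theorem ratInf_deg (hinf : 1 < Pinf.1 (RatFunc.X : RatFunc k)) : Pinf.deg = 1 := by
  unfold Place.deg
  rw [finrank_eq_one_iff_of_nonzero' (1 : IsLocalRing.ResidueField Pinf.O) one_ne_zero]
  intro w
  obtain ⟨z, rfl⟩ := IsLocalRing.residue_surjective w
  obtain ⟨c, hc⟩ := ratInf_exists_const Pinf hinf z.2
  refine ⟨c, ?_⟩
  have h1 : z - algebraMap k Pinf.O c ∈ IsLocalRing.maximalIdeal Pinf.O :=
    (mem_maximalIdeal_iff Pinf _).2 hc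
  have h2 := (IsLocalRing.residue_eq_zero_iff _).2 h1
  rw [map_sub, sub_eq_zero] at h2
  rw [h2]
  show IsLocalRing.residue Pinf.O (c • (1 : Pinf.O)) = _
  rw [Algebra.smul_def, mul_one]

end RatInf

end Groth.Agent.Helper17.FF
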