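import Mathlib
import Groth.Agent.Lib.Helper17.FFRat
import Groth.Agent.Lib.Helper17.FFGal
namespace Groth.Agent.Helper17.FF

open FunFld Polynomial Module IntermediateField

section Quad

variable {F E : Type*} [Field F] [Field E] [Algebra F E]

lemma isSeparable_of_finrank_two (h2 : (2 : F) ≠ 0) (hdeg : finrank F E = 2) :
    Algebra.IsSeparable F E := by
  have : FiniteDimensional F E := Module.finite_of_finrank_pos (by rw [hdeg]; norm_num)
  refine ⟨fun x => ?_⟩
  have hint : IsIntegral F x := IsIntegral.of_finite F x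
  have hirr := minpoly.irreducible hint
  show (minpoly F x).Separable
  rw [Polynomial.separable_iff_derivative_ne_zero hirr]
  intro h0
  have hmonic := minpoly.monic hint
  have hle : (minpoly F x).natDegree ≤ 2 := hdeg ▸ minpoly.natDegree_le x
  have hpos : 0 < (minpoly F x).natDegree := minpoly.natDegree_pos hint
  have hc := congrArg (fun q => q.coeff ((minpoly F x).natDegree - 1)) h0
  simp only [coeff_derivative, coeff_zero] at hc
  have h3 : (minpoly F x).natDegree - 1 + 1 = (minpoly F x).natDegree := by omega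
  rw [h3, hmonic.coeff_natDegree, one_mul] at hc
  have h4 : (minpoly F x).natDegree = 1 ∨ (minpoly F x).natDegree = 2 := by omega
  rcases h4 with h4 | h4
  · rw [h4] at hc; simp at hc
  · rw [h4] at hc
    apply h2
    have : ((2 - 1 : ℕ) : F) + 1 = 2 := by norm_num
    rw [← this]; exact hc

/-- the nontrivial automorphism of a quadratic extension negates square roots. -/
lemma exists_algEquiv_neg (h2 : (2 : F) ≠ 0) (hdeg : finrank F E = 2) {y : E}
    (hy : y ∉ Set.range (algebraMap F E)) (hy2 : y ^ 2 ∈ Set.range (algebraMap F E)) :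
    ∃ σ : E ≃ₐ[F] E, σ y = -y := by
  classical
  have : FiniteDimensional F E := Module.finite_of_finrank_pos (by rw [hdeg]; norm_num)
  have hsep := isSeparable_of_finrank_two h2 hdeg
  have : Algebra.IsQuadraticExtension F E := { finrank_eq_two' := hdeg }
  have hgal : IsGalois F E := inferInstance
  have hcard : Nat.card (E ≃ₐ[F] E) = 2 := by rw [IsGalois.card_aut_eq_finrank, hdeg]
  have hnt : Nontrivial (E ≃ₐ[F] E) := by
    have h1 : 1 < Nat.card (E ≃ₐ[F] E) := by rw [hcard]; norm_num
    exact Finite.one_lt_card_iff_nontrivial.1 h1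
  obtain ⟨σ, hσ⟩ := exists_ne (1 : E ≃ₐ[F] E)
  have hli : LinearIndependent F ![(1 : E), y] := by
    rw [LinearIndependent.pair_iff]
    intro a b hab
    by_cases hb : b = 0
    · subst hb
      rw [zero_smul, add_zero, Algebra.smul_def, mul_one] at hab
      exact ⟨(map_eq_zero_iff _ (algebraMap F E).injective).1 hab, rfl⟩
    · exfalso
      apply hy
      refine ⟨-a / b, ?_⟩
      have h3 : b • y = -(a • (1 : E)) := eq_neg_of_add_eq_zero_right hab
      rw [Algebra.smul_def, Algebra.smul_def, mul_one] at h3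
      have hb' : algebraMap F E b ≠ 0 := (map_ne_zero_iff _ (algebraMap F E).injective).2 hb
      rw [map_div₀, map_neg, ← h3, mul_div_cancel_left₀ _ hb']
  have hspan := hli.span_eq_top_of_card_eq_finrank' (by simp [hdeg])
  have hrep : ∀ x : E, ∃ a b : F, x = a • (1 : E) + b • y := by
    intro x
    have hx : x ∈ Submodule.span F (Set.range ![(1 : E), y]) := by rw [hspan]; trivial
    obtain ⟨c, hc⟩ := (Submodule.mem_span_range_iff_exists_fun F).1 hx
    refine ⟨c 0, c 1, ?_⟩
    rw [← hc, Fin.sum_univ_two]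
    rfl
  have hσy : σ y ≠ y := by
    intro hfix
    apply hσ
    ext x
    obtain ⟨a, b, rfl⟩ := hrep x
    rw [map_add, map_smul, map_smul, map_one, hfix]
    rfl
  obtain ⟨c, hc⟩ := hy2
  have hsq : (σ y) ^ 2 = y ^ 2 := by
    rw [← map_pow, ← hc, σ.commutes]
  have h5 : (σ y - y) * (σ y + y) = 0 := by ring_nf; rw [hsq]; ring
  rcases mul_eq_zero.1 h5 with h6 | h6
  · exact absurd (sub_eq_zero.1 h6) hσy
  · exact ⟨σ, eq_neg_of_add_eq_zero_left h6⟩

end Quad

section HyperInf

variable {k K : Type*} [Field k] [Field K] [Algebra k K] [Algebra (RatFunc k) K]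
  [IsScalarTower k (RatFunc k) K]

omit [Algebra k K] [IsScalarTower k (RatFunc k) K] in
lemma hyperelliptic_y_not_mem (y : K) (f : Polynomial k) (hf : Squarefree f)
    (hd : 1 ≤ f.natDegree)
    (heq : y ^ 2 = algebraMap (RatFunc k) K (algebraMap (Polynomial k) (RatFunc k) f)) :
    y ∉ Set.range (algebraMap (RatFunc k) K) := by
  rintro ⟨r, rfl⟩
  rw [← map_pow] at heq
  have h1 : r ^ 2 = algebraMap (Polynomial k) (RatFunc k) f :=
    (algebraMap (RatFunc k) K).injective heq
  have hint : IsIntegral k[X] r := by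
    apply IsIntegral.of_pow (n := 2) (by norm_num)
    rw [h1]
    exact isIntegral_algebraMap
  obtain ⟨s, rfl⟩ := IsIntegrallyClosed.algebraMap_eq_of_integral hint
  rw [← map_pow] at h1
  have h2 : s ^ 2 = f := IsFractionRing.injective k[X] (RatFunc k) h1
  have h3 : IsUnit s := hf s ⟨1, by rw [mul_one, ← h2, sq]⟩
  have h4 : s.natDegree = 0 := natDegree_eq_zero_of_isUnit h3
  rw [← h2, natDegree_pow, h4] at hd
  omega

theorem hyperelliptic_infinite (h2 : ringChar k ≠ 2)
    (hdeg : Module.finrank (RatFunc k) K = 2) (y : K) (f : Polynomial k) (hf : Squarefree f)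
    (hd : 1 ≤ f.natDegree)
    (heq : y ^ 2 = algebraMap (RatFunc k) K (algebraMap (Polynomial k) (RatFunc k) f))
    (Pinf : Place k (RatFunc k)) (hinf : Pinf.ord (RatFunc.X : RatFunc k) < 0) :
    (Odd f.natDegree → (∃! P : Place k K, IsOver P Pinf) ∧
      ∀ P : Place k K, IsOver P Pinf → IsOverWith P Pinf 2 ∧ P.deg = 1) ∧
    (Even f.natDegree → (conorm K (Finsupp.single Pinf 1)).deg = 2 ∧
      ∀ P : Place k K, IsOver P Pinf → IsOverWith P Pinf 1) := by
  classical
  have hK₀ : IsFunctionField k (RatFunc k) := isFunctionField_ratFunc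
  have : FiniteDimensional (RatFunc k) K := Module.finite_of_finrank_pos (by rw [hdeg]; norm_num)
  have hX0 : (RatFunc.X : RatFunc k) ≠ 0 := RatFunc.X_ne_zero
  have hinf' : 1 < Pinf.1 (RatFunc.X : RatFunc k) := (ord_neg_iff Pinf hX0).1 hinf
  have hdegP : Pinf.deg = 1 := ratInf_deg Pinf hinf'
  have hf0 : f ≠ 0 := hf.ne_zero
  have hordf := ratInf_ord_poly Pinf hinf' hf0
  have hrel : ∀ P : Place k K, IsOver P Pinf →
      2 * P.ord y = -((ramIdx P Pinf : ℤ) * f.natDegree) := by
    intro P hP
    have h3 := isOverWith_ord (isOverWith_ramIdx hP) (algebraMap (Polynomial k) (RatFunc k) f)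
    rw [← heq, ord_pow, hordf] at h3
    push_cast at h3
    linarith
  have hdegpos : ∀ P : Place k K, IsOver P Pinf → 1 ≤ P.deg := fun P hP => by
    have := deg_le_of_isOver hK₀ hP
    omega
  obtain ⟨hfin, hsum⟩ := sum_ramIdx_mul_deg (K' := K) hK₀ Pinf
  have hmem : ∀ Q, Q ∈ hfin.toFinset ↔ IsOver Q Pinf := fun Q => by
    simp [Set.Finite.mem_toFinset]
  have hS := hsum hfin.toFinset hmem
  rw [hdeg, hdegP] at hS
  constructor
  · intro hodd
    have heven : ∀ P : Place k K, IsOver P Pinf → 2 ≤ ramIdx P Pinf := by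
      intro P hP
      have h1 := hrel P hP
      have h3 : (2 : ℤ) ∣ ((ramIdx P Pinf * f.natDegree : ℕ) : ℤ) := by
        push_cast
        exact ⟨-P.ord y, by linarith⟩
      have h4 : 2 ∣ ramIdx P Pinf * f.natDegree := by exact_mod_cast h3
      rcases (Nat.Prime.dvd_mul Nat.prime_two).1 h4 with h5 | h5
      · exact Nat.le_of_dvd (ramIdx_pos hP) h5
      · exact absurd (even_iff_two_dvd.2 h5) (Nat.not_even_iff_odd.2 hodd)
    have hlarge : ∀ P : Place k K, IsOver P Pinf →
        finrank (RatFunc k) K * Pinf.deg ≤ ramIdx P Pinf * P.deg := by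
      intro P hP
      rw [hdeg, hdegP]
      exact Nat.mul_le_mul (heven P hP) (hdegpos P hP)
    obtain ⟨huniq, hs⟩ := unique_over_of_large hK₀ Pinf hlarge
    refine ⟨huniq, fun P hP => ?_⟩
    have h4 := hs P hP
    rw [hdeg, hdegP] at h4
    have h5 := heven P hP
    have h6 := hdegpos P hP
    have hd1 : P.deg = 1 := by
      by_contra hne
      have : 2 * 2 ≤ ramIdx P Pinf * P.deg := Nat.mul_le_mul h5 (by omega)
      omega
    have he : ramIdx P Pinf = 2 := by rw [hd1] at h4; omega
    exact ⟨he ▸ isOverWith_ramIdx hP, hd1⟩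
  · intro hev
    refine ⟨?_, ?_⟩
    · rw [deg_conorm hK₀, deg_single, hdeg, hdegP]; norm_num
    · intro P hP
      have hepos := ramIdx_pos hP
      suffices he : ramIdx P Pinf = 1 by rw [← he]; exact isOverWith_ramIdx hP
      by_contra hne
      have he2 : 2 ≤ ramIdx P Pinf := by omega
      have hPmem : P ∈ hfin.toFinset := (hmem P).2 hP
      -- `P` is the only place over `Pinf`, of degree one
      have hterm : ramIdx P Pinf * P.deg ≤ 2 := by
        have h0 := Finset.single_le_sum (f := fun Q => ramIdx Q Pinf * Q.deg)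
          (fun _ _ => Nat.zero_le _) hPmem
        rw [hS] at h0
        exact h0
      have hd1 : P.deg = 1 := by
        have h6 := hdegpos P hP
        by_contra hne'
        have : 2 * 2 ≤ ramIdx P Pinf * P.deg := Nat.mul_le_mul he2 (by omega)
        omega
      have huniq : ∀ Q : Place k K, IsOver Q Pinf → Q = P := by
        intro Q hQ
        by_contra hQP
        have hsub : ({P, Q} : Finset (Place k K)) ⊆ hfin.toFinset := by
          intro R hR
          rcases Finset.mem_insert.1 hR with rfl | hR
          · exact hPmem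
          · rw [Finset.mem_singleton.1 hR]; exact (hmem Q).2 hQ
        have h7 := Finset.sum_le_sum_of_subset (f := fun Q => ramIdx Q Pinf * Q.deg) hsub
        rw [Finset.sum_pair (Ne.symm hQP), hS] at h7
        have h8 : 2 ≤ ramIdx P Pinf * P.deg := by rw [hd1]; omega
        have h9 : 1 ≤ ramIdx Q Pinf * Q.deg :=
          Nat.mul_pos (ramIdx_pos hQ) (hdegpos Q hQ)
        omega
      -- the automorphism
      have h2k : (2 : k) ≠ 0 := Ring.two_ne_zero h2
      have h2K₀ : (2 : RatFunc k) ≠ 0 := by
        have h0 := (map_ne_zero_iff _ (algebraMap k (RatFunc k)).injective).2 h2k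
        rwa [map_ofNat] at h0
      obtain ⟨σ, hσ⟩ := exists_algEquiv_neg h2K₀ hdeg
        (hyperelliptic_y_not_mem y f hf hd heq) ⟨_, heq.symm⟩
      have hσP : galPlace σ P = P := by
        obtain ⟨e, he⟩ := hP
        exact huniq _ ⟨e, isOverWith_galPlace he σ⟩
      -- the unit `z`
      obtain ⟨m, hm⟩ := hev
      set X' : K := algebraMap (RatFunc k) K RatFunc.X with hX'
      have hX'0 : X' ≠ 0 := (map_ne_zero_iff _ (algebraMap (RatFunc k) K).injective).2 hX0
      set z : K := y / X' ^ m with hz
      have hy0 : y ≠ 0 := by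
        rintro rfl
        exact hyperelliptic_y_not_mem 0 f hf hd heq ⟨0, map_zero _⟩
      have hz0 : z ≠ 0 := div_ne_zero hy0 (pow_ne_zero _ hX'0)
      have hordz : P.ord z = 0 := by
        have h1 := hrel P hP
        have h3 := isOverWith_ord (isOverWith_ramIdx hP) (RatFunc.X : RatFunc k)
        have hXord : Pinf.ord (RatFunc.X : RatFunc k) = -1 := by
          rw [← val_eq_exp_iff Pinf hX0, ratInf_val_X Pinf hinf']
        rw [hXord] at h3
        rw [hz, ord_div P hy0 (pow_ne_zero _ hX'0), ord_pow, h3]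
        rw [hm] at h1
        push_cast at h1 ⊢
        linarith
      have hvz : P.1 z = 1 := (ord_eq_zero_iff P hz0).1 hordz
      have hσz : σ z = -z := by
        rw [hz, map_div₀, map_pow, hσ, hX', σ.commutes, neg_div]
      -- residue of `z` is a constant `b`
      have hres : ∃ b : k, P.1 (z - algebraMap k K b) < 1 := by
        have h1 : finrank k (IsLocalRing.ResidueField P.O) = 1 := hd1
        rw [finrank_eq_one_iff_of_nonzero' (1 : IsLocalRing.ResidueField P.O) one_ne_zero] at h1
        obtain ⟨b, hb⟩ := h1 (IsLocalRing.residue P.O ⟨z, hvz.le⟩)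
        refine ⟨b, ?_⟩
        have h3 : IsLocalRing.residue P.O (⟨z, hvz.le⟩ - algebraMap k P.O b) = 0 := by
          rw [map_sub, ← hb, sub_eq_zero]
          show IsLocalRing.residue P.O (b • (1 : P.O)) = _
          rw [Algebra.smul_def, mul_one]
        exact (mem_maximalIdeal_iff P _).1 ((IsLocalRing.residue_eq_zero_iff _).1 h3)
      obtain ⟨b, hb⟩ := hres
      have hb0 : b ≠ 0 := by
        rintro rfl
        rw [map_zero, sub_zero, hvz] at hb
        exact lt_irrefl _ hb
      have hb' : P.1 (σ (z - algebraMap k K b)) < 1 := by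
        have := congrArg (fun Q : Place k K => Q.1 (z - algebraMap k K b)) hσP
        simp only [galPlace_apply] at this
        rw [this]; exact hb
      have hσb : σ (algebraMap k K b) = algebraMap k K b := by
        rw [IsScalarTower.algebraMap_apply k (RatFunc k) K, σ.commutes]
      rw [map_sub, hσz, hσb] at hb'
      have h10 : P.1 ((z - algebraMap k K b) + (-z - algebraMap k K b)) < 1 :=
        lt_of_le_of_lt (P.1.map_add _ _) (max_lt hb hb')
      have h11 : (z - algebraMap k K b) + (-z - algebraMap k K b) = algebraMap k K (-2 * b) := by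
        rw [map_mul, map_neg, map_ofNat]; ring
      rw [h11, val_const P (mul_ne_zero (neg_ne_zero.2 h2k) hb0)] at h10
      exact lt_irrefl _ h10

end HyperInf
end Groth.Agent.Helper17.FF
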