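import Mathlib
import Groth.Agent.Lib.Helper17.FFHyp
namespace Groth.Agent.Helper17.FF

open FunFld Polynomial Module IntermediateField

section Quad2

variable {F E : Type*} [Field F] [Field E] [Algebra F E]

lemma quad_repr (hdeg : finrank F E = 2) {y : E} (hy : y ∉ Set.range (algebraMap F E)) (z : E) :
    ∃ a b : F, z = algebraMap F E a + algebraMap F E b * y := by
  have hli : LinearIndependent F ![(1 : E), y] := by
    rw [LinearIndependent.pair_iff]
    intro s t hst
    have ht : t = 0 := by
      by_contra ht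
      apply hy
      refine ⟨-s / t, ?_⟩
      have h1 : t • y = -(s • (1 : E)) := by
        rw [eq_neg_iff_add_eq_zero, add_comm]; exact hst
      rw [Algebra.smul_def, Algebra.smul_def, mul_one] at h1
      rw [map_div₀, map_neg, ← h1]
      have ht' : algebraMap F E t ≠ 0 := fun h => ht ((map_eq_zero _).1 h)
      field_simp
    refine ⟨?_, ht⟩
    rw [ht, zero_smul, add_zero, Algebra.smul_def, mul_one] at hst
    exact (map_eq_zero _).1 hst
  have hspan := hli.span_eq_top_of_card_eq_finrank (by simp [hdeg])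
  have hz : z ∈ Submodule.span F (Set.range ![(1 : E), y]) := by rw [hspan]; trivial
  rw [Matrix.range_cons, Matrix.range_cons, Matrix.range_empty, Set.union_empty,
    Set.singleton_union, Submodule.mem_span_pair] at hz
  obtain ⟨a, b, hab⟩ := hz
  refine ⟨a, b, ?_⟩
  rw [← hab, Algebra.smul_def, Algebra.smul_def, mul_one]

end Quad2

open FunFld Polynomial Module IntermediateField

section HypFF

variable {k K : Type*} [Field k] [Field K] [Algebra k K]

/-- the `RatFunc k`-algebra structure on `K` given by a transcendental element -/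
noncomputable def ratAlgHom (x : K) (hx : Transcendental k x) : RatFunc k →ₐ[k] K :=
  (k⟮x⟯.val).comp (RatFunc.algEquivOfTranscendental x hx).toAlgHom

lemma ratAlgHom_X (x : K) (hx : Transcendental k x) : ratAlgHom x hx RatFunc.X = x := by
  show ((RatFunc.algEquivOfTranscendental x hx) RatFunc.X : K) = x
  rw [RatFunc.algEquivOfTranscendental_X]

lemma ratAlgHom_poly (x : K) (hx : Transcendental k x) (g : k[X]) :
    ratAlgHom x hx (algebraMap k[X] (RatFunc k) g) = aeval x g := by
  show ((RatFunc.algEquivOfTranscendental x hx) (algebraMap k[X] (RatFunc k) g) : K) = aeval x g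
  rw [RatFunc.algEquivOfTranscendental_algebraMap]
  exact IntermediateField.AdjoinSimple.coe_aeval_gen_apply k x g

theorem hyperelliptic_setup (x y : K) (hx : Transcendental k x)
    (hxy : IntermediateField.adjoin k ({x, y} : Set K) = ⊤)
    (f : Polynomial k) (hf : Squarefree f) (hd : 1 ≤ f.natDegree)
    (heq : y ^ 2 = Polynomial.aeval x f) :
    letI : Algebra (RatFunc k) K := (ratAlgHom x hx).toRingHom.toAlgebra
    IsScalarTower k (RatFunc k) K ∧ finrank (RatFunc k) K = 2 ∧
      y ^ 2 = algebraMap (RatFunc k) K (algebraMap (Polynomial k) (RatFunc k) f) ∧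
      algebraMap (RatFunc k) K RatFunc.X = x := by
  letI : Algebra (RatFunc k) K := (ratAlgHom x hx).toRingHom.toAlgebra
  have hst : IsScalarTower k (RatFunc k) K :=
    IsScalarTower.of_algebraMap_eq (fun c => ((ratAlgHom x hx).commutes c).symm)
  have heq' : y ^ 2 = algebraMap (RatFunc k) K (algebraMap (Polynomial k) (RatFunc k) f) := by
    rw [heq]; exact (ratAlgHom_poly x hx f).symm
  have hX : algebraMap (RatFunc k) K RatFunc.X = x := ratAlgHom_X x hx
  refine ⟨hst, ?_, heq', hX⟩
  have hy : y ∉ Set.range (algebraMap (RatFunc k) K) := hyperelliptic_y_not_mem y f hf hd heq'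
  -- `K = (RatFunc k)(y)`
  have htop : (RatFunc k)⟮y⟯ = ⊤ := by
    rw [eq_top_iff]
    intro z _
    have hz : z ∈ IntermediateField.adjoin k ({x, y} : Set K) := by rw [hxy]; trivial
    have hle : IntermediateField.adjoin k ({x, y} : Set K) ≤
        ((RatFunc k)⟮y⟯).restrictScalars k := by
      rw [IntermediateField.adjoin_le_iff]
      intro w hw
      rcases hw with rfl | rfl
      · show w ∈ (RatFunc k)⟮y⟯
        rw [← hX]
        exact IntermediateField.algebraMap_mem _ _
      · exact IntermediateField.mem_adjoin_simple_self (RatFunc k) w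
    exact hle hz
  have hint : IsIntegral (RatFunc k) y := by
    refine ⟨X ^ 2 - C (algebraMap (Polynomial k) (RatFunc k) f), monic_X_pow_sub_C _ (by norm_num), ?_⟩
    rw [eval₂_sub, eval₂_pow, eval₂_X, eval₂_C, heq', sub_self]
  have h1 : finrank (RatFunc k) K = (minpoly (RatFunc k) y).natDegree := by
    rw [← IntermediateField.adjoin.finrank hint, htop, IntermediateField.finrank_top']
  rw [h1]
  have hle : (minpoly (RatFunc k) y).natDegree ≤ 2 := by
    have hdvd : minpoly (RatFunc k) y ∣ X ^ 2 - C (algebraMap (Polynomial k) (RatFunc k) f) :=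
      minpoly.dvd _ _ (by
        rw [aeval_def, eval₂_sub, eval₂_pow, eval₂_X, eval₂_C, heq', sub_self])
    have := natDegree_le_of_dvd hdvd (monic_X_pow_sub_C _ (by norm_num)).ne_zero
    rwa [natDegree_X_pow_sub_C] at this
  have hge : 2 ≤ (minpoly (RatFunc k) y).natDegree := (minpoly.two_le_natDegree_iff hint).2 hy
  omega

end HypFF

open FunFld Polynomial Module IntermediateField

section HypFF2

variable {k K : Type*} [Field k] [Field K] [Algebra k K]

theorem algClosed_hyperelliptic [Algebra (RatFunc k) K] [IsScalarTower k (RatFunc k) K]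
    (h2 : ringChar k ≠ 2) (hdeg : finrank (RatFunc k) K = 2) (y : K)
    (f : Polynomial k) (hf : Squarefree f) (hd : 1 ≤ f.natDegree)
    (heq : y ^ 2 = algebraMap (RatFunc k) K (algebraMap (Polynomial k) (RatFunc k) f)) :
    ∀ α : K, IsAlgebraic k α → α ∈ Set.range (algebraMap k K) := by
  intro α hα
  have hK₀ : IsFunctionField k (RatFunc k) := isFunctionField_ratFunc
  have h2k : (2 : k) ≠ 0 := Ring.two_ne_zero h2
  have h2K₀ : (2 : RatFunc k) ≠ 0 := by
    have h0 : algebraMap k (RatFunc k) 2 ≠ 0 :=
      (map_ne_zero_iff _ (algebraMap k (RatFunc k)).injective).2 h2k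
    rwa [map_ofNat] at h0
  have hy : y ∉ Set.range (algebraMap (RatFunc k) K) := hyperelliptic_y_not_mem y f hf hd heq
  obtain ⟨σ, hσ⟩ := exists_algEquiv_neg h2K₀ hdeg hy ⟨_, heq.symm⟩
  obtain ⟨a, b, hab⟩ := quad_repr hdeg hy α
  have hσα : σ α = algebraMap (RatFunc k) K a - algebraMap (RatFunc k) K b * y := by
    rw [hab, map_add, map_mul, σ.commutes, σ.commutes, hσ]; ring
  have hσalg : IsAlgebraic k (σ α) := hα.algHom (σ.restrictScalars k).toAlgHom
  -- the trace
  have hT : IsAlgebraic k (algebraMap (RatFunc k) K (2 * a)) := by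
    have h1 : algebraMap (RatFunc k) K (2 * a) = α + σ α := by
      rw [hσα, hab, map_mul, map_ofNat]; ring
    rw [h1]; exact hα.add hσalg
  have hT' : IsAlgebraic k (2 * a) :=
    (isAlgebraic_algebraMap_iff (algebraMap (RatFunc k) K).injective).1 hT
  obtain ⟨t, ht⟩ := hK₀.2 _ hT'
  have ha : a = algebraMap k (RatFunc k) (t / 2) := by
    rw [map_div₀, ht, map_ofNat]
    field_simp
  -- the norm
  have hN : IsAlgebraic k (algebraMap (RatFunc k) K
      (a ^ 2 - b ^ 2 * algebraMap (Polynomial k) (RatFunc k) f)) := by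
    have h1 : algebraMap (RatFunc k) K (a ^ 2 - b ^ 2 * algebraMap (Polynomial k) (RatFunc k) f) =
        α * σ α := by
      rw [hσα, hab, map_sub, map_mul, map_pow, map_pow, ← heq]; ring
    rw [h1]; exact hα.mul hσalg
  have hN' := (isAlgebraic_algebraMap_iff (algebraMap (RatFunc k) K).injective).1 hN
  obtain ⟨n, hn⟩ := hK₀.2 _ hN'
  by_cases hb : b = 0
  · refine ⟨t / 2, ?_⟩
    rw [hab, hb, map_zero, zero_mul, add_zero, ha, ← IsScalarTower.algebraMap_apply]
  · exfalso
    -- `b² f` is a constant `c`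
    have hc : b ^ 2 * algebraMap (Polynomial k) (RatFunc k) f =
        algebraMap k (RatFunc k) ((t / 2) ^ 2 - n) := by
      rw [map_sub, map_pow, ← ha, hn]; ring
    set c : k := (t / 2) ^ 2 - n with hcdef
    have hf0 : f ≠ 0 := hf.ne_zero
    have hf0' : algebraMap (Polynomial k) (RatFunc k) f ≠ 0 := by
      rw [Ne, map_eq_zero_iff _ (IsFractionRing.injective k[X] (RatFunc k))]; exact hf0
    have hc0 : c ≠ 0 := by
      intro h0
      rw [h0, map_zero] at hc
      exact (mul_ne_zero (pow_ne_zero 2 hb) hf0') hc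
    have hsq : (b⁻¹) ^ 2 = algebraMap (RatFunc k) (RatFunc k)
        (algebraMap (Polynomial k) (RatFunc k) (C c⁻¹ * f)) := by
      have hCc : algebraMap k[X] (RatFunc k) (C c⁻¹) = algebraMap k (RatFunc k) c⁻¹ := by
        rw [IsScalarTower.algebraMap_apply k k[X] (RatFunc k)]; rfl
      rw [Algebra.algebraMap_self_apply, map_mul, hCc, map_inv₀, inv_pow]
      have hc' : algebraMap k (RatFunc k) c ≠ 0 := by
        rw [Ne, map_eq_zero]; exact hc0
      rw [← hc]
      field_simp
    have hsqf : Squarefree (C c⁻¹ * f) := by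
      have hu : IsUnit (C c⁻¹ : k[X]) := isUnit_C.2 (isUnit_iff_ne_zero.2 (inv_ne_zero hc0))
      exact squarefree_mul_iff.2 ⟨hu.isRelPrime_left, hu.squarefree, hf⟩
    have hdeg' : 1 ≤ (C c⁻¹ * f).natDegree := by
      rw [natDegree_C_mul (inv_ne_zero hc0)]; exact hd
    exact hyperelliptic_y_not_mem (K := RatFunc k) b⁻¹ (C c⁻¹ * f) hsqf hdeg' hsq ⟨b⁻¹, rfl⟩

end HypFF2

open FunFld Polynomial Module IntermediateField

section HypFF3

variable {k K : Type*} [Field k] [Field K] [Algebra k K]

theorem isFunctionField_hyperelliptic (h2 : ringChar k ≠ 2) (x y : K) (hx : Transcendental k x)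
    (hxy : IntermediateField.adjoin k ({x, y} : Set K) = ⊤)
    (f : Polynomial k) (hf : Squarefree f) (hd : 1 ≤ f.natDegree)
    (heq : y ^ 2 = Polynomial.aeval x f) : IsFunctionField k K := by
  letI : Algebra (RatFunc k) K := (ratAlgHom x hx).toRingHom.toAlgebra
  obtain ⟨hst, hdeg, heq', hX⟩ := hyperelliptic_setup x y hx hxy f hf hd heq
  have hfin : FiniteDimensional (RatFunc k) K :=
    Module.finite_of_finrank_pos (by rw [hdeg]; norm_num)
  refine ⟨⟨x, hx, ?_⟩, algClosed_hyperelliptic h2 hdeg y f hf hd heq'⟩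
  exact Module.Finite.of_equiv_equiv (RatFunc.algEquivOfTranscendental x hx).toRingEquiv
    (RingEquiv.refl K) (by ext z <;> rfl)

end HypFF3

end Groth.Agent.Helper17.FF
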