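import Mathlib
import Groth.Agent.Lib.Helper17.FFUR
import Groth.Agent.Lib.Helper17.FFHyp2
namespace Groth.Agent.Helper17.FF

open FunFld Polynomial Module IntermediateField

section ASR0

variable {k K K₀ : Type*} [Field k] [Field K] [Field K₀] [Algebra k K] [Algebra k K₀]
  [Algebra K₀ K] [IsScalarTower k K₀ K] [FiniteDimensional K₀ K]

/-- in a quadratic extension, a place all of whose extensions are ramified is totally ramified -/
theorem ramified_of_two_le (hK₀ : IsFunctionField k K₀) (hdeg : finrank K₀ K = 2)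
    (P₀ : Place k K₀) (heven : ∀ P : Place k K, IsOver P P₀ → 2 ≤ ramIdx P P₀) :
    (∃! P : Place k K, IsOver P P₀) ∧
      ∀ P : Place k K, IsOver P P₀ → IsOverWith P P₀ 2 ∧ P.deg = P₀.deg := by
  have hlarge : ∀ P : Place k K, IsOver P P₀ →
      finrank K₀ K * P₀.deg ≤ ramIdx P P₀ * P.deg := by
    intro P hP
    rw [hdeg]
    exact Nat.mul_le_mul (heven P hP) (deg_le_of_isOver hK₀ hP)
  obtain ⟨huniq, hsum⟩ := unique_over_of_large hK₀ P₀ hlarge
  refine ⟨huniq, fun P hP => ?_⟩
  have h4 := hsum P hP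
  rw [hdeg] at h4
  have h5 := heven P hP
  have h6 := deg_le_of_isOver hK₀ hP
  have h7 := deg_pos hK₀ P₀
  have hd : P.deg = P₀.deg := by
    by_contra hne
    have hlt : P₀.deg < P.deg := lt_of_le_of_ne h6 (Ne.symm hne)
    have : 2 * P₀.deg < ramIdx P P₀ * P.deg :=
      calc 2 * P₀.deg < 2 * P.deg := by omega
        _ ≤ ramIdx P P₀ * P.deg := Nat.mul_le_mul_right _ h5
    omega
  have he : ramIdx P P₀ = 2 := by
    rw [hd] at h4
    exact Nat.eq_of_mul_eq_mul_right h7 h4
  refine ⟨?_, hd⟩
  rw [← he]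
  exact isOverWith_ramIdx hP

end ASR0

section ASR

variable {k K : Type*} [Field k] [Field K] [Algebra k K] [Algebra (RatFunc k) K]
  [IsScalarTower k (RatFunc k) K]

omit [Algebra k K] [IsScalarTower k (RatFunc k) K] in
/-- the minimal polynomial of an Artin–Schreier generator -/
lemma as_minpoly (hdeg : finrank (RatFunc k) K = 2) {y : K}
    (hy : y ∉ Set.range (algebraMap (RatFunc k) K)) {f : RatFunc k}
    (heq : y ^ 2 + y = algebraMap (RatFunc k) K f) :
    minpoly (RatFunc k) y = X ^ 2 + X - C f ∧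
      IntermediateField.adjoin (RatFunc k) ({y} : Set K) = ⊤ := by
  haveI : FiniteDimensional (RatFunc k) K := Module.finite_of_finrank_pos (by rw [hdeg]; norm_num)
  have hint : IsIntegral (RatFunc k) y := IsIntegral.of_finite _ _
  set p : (RatFunc k)[X] := X ^ 2 + X - C f with hp
  have hp' : p = X ^ 2 + (X - C f) := by rw [hp]; ring
  have hlt : (X - C f : (RatFunc k)[X]).degree < ((2 : ℕ) : WithBot ℕ) := by
    rw [degree_X_sub_C]; exact_mod_cast one_lt_two
  have hpm : p.Monic := by rw [hp']; exact monic_X_pow_add hlt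
  have hpdeg : p.natDegree = 2 := by
    rw [hp', natDegree_add_eq_left_of_degree_lt (by rw [degree_X_pow]; exact hlt), natDegree_X_pow]
  have hp0 : aeval y p = 0 := by
    rw [hp, map_sub, map_add, map_pow, aeval_X, aeval_C, heq, sub_self]
  have hdvd : minpoly (RatFunc k) y ∣ p := minpoly.dvd _ _ hp0
  have hge : 2 ≤ (minpoly (RatFunc k) y).natDegree :=
    (minpoly.two_le_natDegree_iff hint).2 (fun h => hy (RingHom.mem_range.1 h))
  have hmin : minpoly (RatFunc k) y = p :=
    (Polynomial.eq_of_monic_of_dvd_of_natDegree_le (minpoly.monic hint) hpm hdvd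
      (by rw [hpdeg]; exact hge)).symm
  refine ⟨hmin, ?_⟩
  rw [← IntermediateField.finrank_eq_one_iff_eq_top]
  have h1 := IntermediateField.adjoin.finrank hint
  rw [hmin, hpdeg] at h1
  have h2 := Module.finrank_mul_finrank (RatFunc k) (RatFunc k)⟮y⟯ K
  rw [h1, hdeg] at h2
  omega

/-- at an odd pole of `f`, every extension is ramified -/
lemma as_two_le_ramIdx {y : K} {f : RatFunc k}
    (heq : y ^ 2 + y = algebraMap (RatFunc k) K f) (P₀ : Place k (RatFunc k))
    (hneg : P₀.ord f < 0) (hodd : Odd (P₀.ord f)) (P : Place k K) (hP : IsOver P P₀) :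
    2 ≤ ramIdx P P₀ := by
  have he := isOverWith_ramIdx hP
  have hepos := ramIdx_pos hP
  set e := ramIdx P P₀ with hedef
  have hf0 : f ≠ 0 := by
    rintro rfl
    rw [ord_zero] at hneg
    exact lt_irrefl _ hneg
  have hfK0 : algebraMap (RatFunc k) K f ≠ 0 :=
    (map_ne_zero_iff _ (algebraMap (RatFunc k) K).injective).2 hf0
  have h3 : P.ord (algebraMap (RatFunc k) K f) = e * P₀.ord f := isOverWith_ord he f
  have hfneg : P.ord (algebraMap (RatFunc k) K f) < 0 := by
    rw [h3]
    exact mul_neg_of_pos_of_neg (by exact_mod_cast hepos) hneg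
  have hPf : 1 < P.1 (algebraMap (RatFunc k) K f) := (ord_neg_iff P hfK0).1 hfneg
  have hPy : 1 < P.1 y := by
    by_contra hcon
    push Not at hcon
    have h1 : P.1 (y ^ 2 + y) ≤ 1 := by
      refine (P.1.map_add _ _).trans (max_le ?_ hcon)
      rw [map_pow]; exact pow_le_one' hcon 2
    rw [heq] at h1
    exact absurd h1 (not_le.2 hPf)
  have hlt : P.1 y < P.1 (y ^ 2) := by
    rw [map_pow]
    exact lt_self_pow₀ hPy (by norm_num)
  have h4 : P.1 (y ^ 2 + y) = P.1 (y ^ 2) := Valuation.map_add_eq_of_lt_left _ hlt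
  have h5 : P.ord (algebraMap (RatFunc k) K f) = 2 * P.ord y := by
    rw [← heq]
    unfold Place.ord
    rw [h4, map_pow, WithZero.log_pow]
    simp
  rw [h3] at h5
  have h6 : Even ((e : ℤ) * P₀.ord f) := ⟨P.ord y, by rw [h5]; ring⟩
  rcases Int.even_mul.1 h6 with h7 | h7
  · have h8 : Even e := (Int.even_coe_nat e).1 h7
    obtain ⟨r, hr⟩ := h8
    omega
  · exact absurd h7 (Int.not_even_iff_odd.2 hodd)

set_option maxHeartbeats 800000 in
/-- where `f` is regular, every extension is unramified -/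
theorem as_unramified (h2 : ringChar k = 2) (hdeg : finrank (RatFunc k) K = 2)
    [Algebra.IsSeparable (RatFunc k) K] {y : K}
    (hy : y ∉ Set.range (algebraMap (RatFunc k) K)) {f : RatFunc k}
    (heq : y ^ 2 + y = algebraMap (RatFunc k) K f) (P₀ : Place k (RatFunc k))
    (hf : P₀.1 f ≤ 1) {P : Place k K} {e : ℕ} (he : IsOverWith P P₀ e) : e = 1 := by
  classical
  haveI : FiniteDimensional (RatFunc k) K := Module.finite_of_finrank_pos (by rw [hdeg]; norm_num)
  have hK₀ : IsFunctionField k (RatFunc k) := isFunctionField_ratFunc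
  have hKw : IsWeakFF k (RatFunc k) := IsWeakFF.of_isFunctionField hK₀
  have hint : IsIntegral (RatFunc k) y := IsIntegral.of_finite _ _
  obtain ⟨hmin, htop⟩ := as_minpoly hdeg hy heq
  have h2k : (2 : k) = 0 := by
    have := ringChar.Nat.cast_ringChar (R := k)
    rw [h2] at this
    exact_mod_cast this
  have h2K₀ : (2 : RatFunc k) = 0 := by
    have := congrArg (algebraMap k (RatFunc k)) h2k
    rwa [map_ofNat, map_zero] at this
  let pb : PowerBasis (RatFunc k) K := (IntermediateField.adjoin.powerBasis hint).map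
    ((IntermediateField.equivOfEq htop).trans IntermediateField.topEquiv)
  have hgen : pb.gen = y := by
    simp [pb]
  have hminpb : minpoly (RatFunc k) pb.gen = X ^ 2 + X - C f := by rw [hgen]; exact hmin
  have hder : derivative (minpoly (RatFunc k) pb.gen) = 1 := by
    rw [hminpb, derivative_sub, derivative_add, derivative_X_sq, derivative_X, derivative_C,
      h2K₀, map_zero, zero_mul, zero_add, sub_zero]
  have hab : (0 : (RatFunc k)[X]) * minpoly (RatFunc k) pb.gen +
      1 * derivative (minpoly (RatFunc k) pb.gen) = 1 := by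
    rw [zero_mul, zero_add, one_mul, hder]
  have hite : ∀ (c : Prop) [Decidable c], P₀.1 (if c then (1 : RatFunc k) else 0) ≤ 1 := by
    intro c _
    split_ifs
    · rw [map_one]
    · rw [map_zero]; exact zero_le_one
  have hg : ∀ n, P₀.1 ((minpoly (RatFunc k) pb.gen).coeff n) ≤ 1 := by
    intro n
    rw [hminpb, coeff_sub, coeff_add, coeff_X_pow, coeff_X, coeff_C]
    refine Valuation.map_sub_le _ (Valuation.map_add_le _ (hite _) (hite _)) ?_
    split_ifs
    · exact hf
    · rw [map_zero]; exact zero_le_one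
  have ha : ∀ n, P₀.1 ((0 : (RatFunc k)[X]).coeff n) ≤ 1 := by
    intro n
    rw [coeff_zero, map_zero]; exact zero_le_one
  have hb : ∀ n, P₀.1 ((1 : (RatFunc k)[X]).coeff n) ≤ 1 := by
    intro n
    rw [coeff_one]
    exact hite _
  have hd : P₀.1 (Algebra.discr (RatFunc k) pb.basis) = 1 := by
    rw [Algebra.discr_powerBasis_eq_norm, hder, map_one, map_one, mul_one, map_pow,
      Valuation.map_neg, map_one, one_pow]
  exact ramIdx_eq_one_of_good hKw pb 0 1 hab P₀ hg ha hb hd he

/-- ramification in an Artin–Schreier extension of `k(x)` in characteristic two -/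
theorem as_ramification (h2 : ringChar k = 2) (hdeg : finrank (RatFunc k) K = 2)
    [Algebra.IsSeparable (RatFunc k) K] (y : K)
    (hy : y ∉ Set.range (algebraMap (RatFunc k) K)) (f : RatFunc k)
    (heq : y ^ 2 + y = algebraMap (RatFunc k) K f) (P₀ : Place k (RatFunc k)) :
    ((P₀.ord f < 0 ∧ Odd (P₀.ord f)) → (∃! P : Place k K, IsOver P P₀) ∧
      ∀ P : Place k K, IsOver P P₀ → IsOverWith P P₀ 2 ∧ P.deg = P₀.deg) ∧
    (0 ≤ P₀.ord f → ∀ P : Place k K, IsOver P P₀ → IsOverWith P P₀ 1) := by
  haveI : FiniteDimensional (RatFunc k) K := Module.finite_of_finrank_pos (by rw [hdeg]; norm_num)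
  have hK₀ : IsFunctionField k (RatFunc k) := isFunctionField_ratFunc
  refine ⟨fun h => ?_, fun h P hP => ?_⟩
  · exact ramified_of_two_le hK₀ hdeg P₀ (fun P hP => as_two_le_ramIdx heq P₀ h.1 h.2 P hP)
  · obtain ⟨e, he⟩ := hP
    have hf : P₀.1 f ≤ 1 := by
      rcases eq_or_ne f 0 with rfl | hf0
      · rw [map_zero]; exact zero_le_one
      · exact (ord_nonneg_iff P₀ hf0).1 h
    have := as_unramified h2 hdeg hy heq P₀ hf he
    rw [this] at he
    exact he

end ASR

end Groth.Agent.Helper17.FF
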