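import Mathlib
import Groth.Agent.Lib.Helper17.FFHyp2
namespace Groth.Agent.Helper17.FF

universe u v w


open FunFld Polynomial Module IntermediateField

section RatPoly

variable {k : Type*} [Field k]

/-- the infinite place of `k(X)` is unique -/
theorem ratInf_unique (P₁ P₂ : Place k (RatFunc k)) (h₁ : 1 < P₁.1 (RatFunc.X : RatFunc k))
    (h₂ : 1 < P₂.1 (RatFunc.X : RatFunc k)) : P₁ = P₂ := by
  apply Subtype.ext
  apply Valuation.ext
  intro z
  rcases eq_or_ne z 0 with rfl | hz
  · rw [map_zero, map_zero]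
  · rw [ratInf_val P₁ h₁ hz, ratInf_val P₂ h₂ hz, ratInf_val_X P₁ h₁, ratInf_val_X P₂ h₂]

/-- a rational function integral at all finite places is a polynomial -/
theorem ratFunc_eq_poly_of_integral (r : RatFunc k)
    (h : ∀ P₀ : Place k (RatFunc k), P₀.1 (RatFunc.X : RatFunc k) ≤ 1 → P₀.1 r ≤ 1) :
    ∃ a : k[X], r = algebraMap k[X] (RatFunc k) a := by
  classical
  have hK₀ : IsFunctionField k (RatFunc k) := isFunctionField_ratFunc
  rcases eq_or_ne r 0 with rfl | hr0
  · exact ⟨0, by rw [map_zero]⟩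
  by_cases hd : r.denom.natDegree = 0
  · have h1 : r.denom = 1 := eq_one_of_monic_natDegree_zero (RatFunc.monic_denom r) hd
    refine ⟨r.num, ?_⟩
    conv_lhs => rw [← RatFunc.num_div_denom r, h1, map_one, div_one]
  · exfalso
    have hnu : ¬ IsUnit r.denom := fun hu => hd (natDegree_eq_zero_of_isUnit hu)
    obtain ⟨p, hpirr, hpdvd⟩ := WfDvdMonoid.exists_irreducible_factor hnu r.denom_ne_zero
    have hpnot : algebraMap k[X] (RatFunc k) p ∉ Set.range (algebraMap k (RatFunc k)) := by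
      rintro ⟨c, hc⟩
      have h1 : algebraMap k[X] (RatFunc k) (C c) = algebraMap k[X] (RatFunc k) p := by
        rw [← hc]; rfl
      have h2 : C c = p := IsFractionRing.injective k[X] (RatFunc k) h1
      have h3 := hpirr.natDegree_pos
      rw [← h2, natDegree_C] at h3
      exact lt_irrefl _ h3
    obtain ⟨P₀, hP₀⟩ := exists_zero hK₀ hpnot
    have hX : P₀.1 (RatFunc.X : RatFunc k) ≤ 1 := by
      have := ratPlace_poly_le_one P₀ hpirr.ne_zero hP₀ X
      rwa [RatFunc.algebraMap_X] at this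
    obtain ⟨u, hu⟩ := hpdvd
    have hden : P₀.1 (algebraMap k[X] (RatFunc k) r.denom) < 1 := by
      rw [hu, map_mul, map_mul]
      calc P₀.1 (algebraMap k[X] (RatFunc k) p) * P₀.1 (algebraMap k[X] (RatFunc k) u)
          ≤ P₀.1 (algebraMap k[X] (RatFunc k) p) * 1 :=
            mul_le_mul' le_rfl (ratPlace_poly_le_one P₀ hpirr.ne_zero hP₀ u)
        _ = P₀.1 (algebraMap k[X] (RatFunc k) p) := mul_one _
        _ < 1 := hP₀
    have hcop : IsCoprime p r.num := by
      have h1 : IsCoprime r.num r.denom := RatFunc.isCoprime_num_denom r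
      exact (h1.symm.of_isCoprime_of_dvd_left ⟨u, hu⟩)
    have hnum : P₀.1 (algebraMap k[X] (RatFunc k) r.num) = 1 :=
      ratPlace_coprime_eq_one P₀ hpirr.ne_zero hP₀ hcop
    have hr := h P₀ hX
    rw [← RatFunc.num_div_denom r, map_div₀, hnum] at hr
    have hden0 : P₀.1 (algebraMap k[X] (RatFunc k) r.denom) ≠ 0 := by
      rw [Valuation.ne_zero_iff]
      exact (map_ne_zero_iff _ (IsFractionRing.injective k[X] (RatFunc k))).2 r.denom_ne_zero
    rw [one_div, inv_le_one₀ (zero_lt_iff.2 hden0)] at hr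
    exact absurd hden (not_lt.2 hr)

end RatPoly


open FunFld Polynomial Module IntermediateField

section HypGenus

variable {k K : Type*} [Field k] [Field K] [Algebra k K] [Algebra (RatFunc k) K]
  [IsScalarTower k (RatFunc k) K]

/-- the divisor of poles of `x` -/
noncomputable def hypD (K : Type*) [Field K] [Algebra k K] [Algebra (RatFunc k) K]
    (Pinf : Place k (RatFunc k)) : Divisor k K :=
  conorm K (Finsupp.single Pinf (1 : ℤ))

lemma hypD_apply_of_over [FiniteDimensional (RatFunc k) K] {Pinf : Place k (RatFunc k)}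
    {P : Place k K} {e : ℕ} (he : IsOverWith P Pinf e) : hypD K Pinf P = e := by
  have hK₀ : IsFunctionField k (RatFunc k) := isFunctionField_ratFunc
  unfold hypD
  rw [conorm_apply hK₀]
  have h1 : Pinf = placeBelow hK₀ P := (isOver_iff hK₀ P Pinf).1 ⟨e, he⟩
  rw [← h1, ramIdx_eq he, Finsupp.single_eq_same, mul_one]

lemma hypD_apply_of_not_over [FiniteDimensional (RatFunc k) K] {Pinf : Place k (RatFunc k)}
    {P : Place k K} (h : ¬ IsOver P Pinf) : hypD K Pinf P = 0 := by
  have hK₀ : IsFunctionField k (RatFunc k) := isFunctionField_ratFunc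
  unfold hypD
  rw [conorm_apply hK₀]
  have h1 : Pinf ≠ placeBelow hK₀ P := fun h1 => h ((isOver_iff hK₀ P Pinf).2 h1)
  rw [Finsupp.single_eq_of_ne h1.symm, mul_zero]

lemma deg_hypD [FiniteDimensional (RatFunc k) K] {Pinf : Place k (RatFunc k)}
    (hinf : 1 < Pinf.1 (RatFunc.X : RatFunc k)) :
    (hypD K Pinf).deg = finrank (RatFunc k) K := by
  have hK₀ : IsFunctionField k (RatFunc k) := isFunctionField_ratFunc
  unfold hypD
  rw [deg_conorm hK₀, deg_single, ratInf_deg Pinf hinf]
  simp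

lemma hypD_galPlace [FiniteDimensional (RatFunc k) K] (Pinf : Place k (RatFunc k))
    (σ : K ≃ₐ[RatFunc k] K) (P : Place k K) :
    hypD K Pinf (galPlace σ P) = hypD K Pinf P := by
  by_cases h : IsOver P Pinf
  · obtain ⟨e, he⟩ := h
    rw [hypD_apply_of_over he, hypD_apply_of_over (isOverWith_galPlace he σ)]
  · rw [hypD_apply_of_not_over h, hypD_apply_of_not_over]
    rintro ⟨e, he⟩
    apply h
    have := isOverWith_galPlace he σ⁻¹
    rw [galPlace_mul, mul_inv_cancel, galPlace_one] at this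
    exact ⟨e, this⟩

lemma exists_place_over [FiniteDimensional (RatFunc k) K] (P₀ : Place k (RatFunc k)) :
    ∃ (P : Place k K) (e : ℕ), IsOverWith P P₀ e := by
  classical
  have hK₀ : IsFunctionField k (RatFunc k) := isFunctionField_ratFunc
  obtain ⟨hfin, hsum⟩ := sum_ramIdx_mul_deg (K' := K) hK₀ P₀
  have h1 := hsum hfin.toFinset (fun Q => by rw [Set.Finite.mem_toFinset]; rfl)
  have hpos : 0 < finrank (RatFunc k) K * P₀.deg :=
    Nat.mul_pos finrank_pos (deg_pos hK₀ P₀)
  rw [← h1] at hpos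
  obtain ⟨Q, hQ, -⟩ := Finset.exists_ne_zero_of_sum_ne_zero hpos.ne'
  rw [Set.Finite.mem_toFinset] at hQ
  obtain ⟨e, he⟩ := hQ
  exact ⟨Q, e, he⟩


/-- finite places: polynomials in `x` and `y` are integral -/
lemma hyp_finite_le_one [FiniteDimensional (RatFunc k) K] (y : K) (f : k[X])
    (heq : y ^ 2 = algebraMap (RatFunc k) K (algebraMap k[X] (RatFunc k) f))
    {Pinf : Place k (RatFunc k)} (hinf : 1 < Pinf.1 (RatFunc.X : RatFunc k))
    {P : Place k K} (hP : ¬ IsOver P Pinf) :
    (∀ a : k[X], P.1 (algebraMap (RatFunc k) K (algebraMap k[X] (RatFunc k) a)) ≤ 1) ∧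
      P.1 y ≤ 1 := by
  have hK₀ : IsFunctionField k (RatFunc k) := isFunctionField_ratFunc
  haveI : Algebra.IsAlgebraic (RatFunc k) K := Algebra.IsAlgebraic.of_finite _ _
  obtain ⟨P₀, e, he⟩ := exists_isOverWith hK₀ P
  have hX : P₀.1 (RatFunc.X : RatFunc k) ≤ 1 := by
    by_contra hcon
    push Not at hcon
    have := ratInf_unique P₀ Pinf hcon hinf
    rw [this] at he
    exact hP ⟨e, he⟩
  have h1 : ∀ a : k[X], P.1 (algebraMap (RatFunc k) K (algebraMap k[X] (RatFunc k) a)) ≤ 1 := by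
    intro a
    rw [isOverWith_le_one_iff he]
    have := val_aeval_le_one P₀.1 P₀.2.1 hX a
    rwa [RatFunc.aeval_X_left_eq_algebraMap] at this
  refine ⟨h1, ?_⟩
  by_contra hcon
  push Not at hcon
  have h3 : 1 < P.1 (y ^ 2) := by rw [map_pow]; exact one_lt_pow₀ hcon two_ne_zero
  rw [heq] at h3
  exact absurd (h1 f) (not_le.2 h3)

theorem hyp_mem_L_of_bounds [FiniteDimensional (RatFunc k) K] (y : K) (f : k[X]) (hf0 : f ≠ 0)
    (heq : y ^ 2 = algebraMap (RatFunc k) K (algebraMap k[X] (RatFunc k) f))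
    {Pinf : Place k (RatFunc k)} (hinf : 1 < Pinf.1 (RatFunc.X : RatFunc k)) (n : ℕ)
    (a b : k[X]) (ha : a.natDegree ≤ n) (hb : b = 0 ∨ 2 * b.natDegree + f.natDegree ≤ 2 * n) :
    algebraMap (RatFunc k) K (algebraMap k[X] (RatFunc k) a) +
      algebraMap (RatFunc k) K (algebraMap k[X] (RatFunc k) b) * y ∈
        L ((n : ℤ) • hypD K Pinf) := by
  have hinj : Function.Injective (fun a : k[X] =>
      algebraMap (RatFunc k) K (algebraMap k[X] (RatFunc k) a)) :=
    (algebraMap (RatFunc k) K).injective.comp (IsFractionRing.injective k[X] (RatFunc k))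
  have hι0 : ∀ a : k[X], a ≠ 0 →
      algebraMap (RatFunc k) K (algebraMap k[X] (RatFunc k) a) ≠ 0 := by
    intro a ha0 h0
    apply ha0
    apply hinj
    show algebraMap (RatFunc k) K (algebraMap k[X] (RatFunc k) a) =
      algebraMap (RatFunc k) K (algebraMap k[X] (RatFunc k) 0)
    rw [h0, map_zero, map_zero]
  have hy0 : y ≠ 0 := by
    rintro rfl
    rw [zero_pow two_ne_zero] at heq
    exact hι0 f hf0 heq.symm
  intro P
  rw [Finsupp.smul_apply, smul_eq_mul]
  refine (P.1.map_add _ _).trans (max_le ?_ ?_)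
  · -- the `a` term
    by_cases hP : IsOver P Pinf
    · obtain ⟨e, he⟩ := hP
      rw [hypD_apply_of_over he]
      rcases eq_or_ne a 0 with rfl | ha0
      · rw [map_zero, map_zero, map_zero]; exact zero_le
      rw [val_le_exp_iff P (hι0 a ha0), isOverWith_ord he, ratInf_ord_poly Pinf hinf ha0]
      have : (a.natDegree : ℤ) ≤ n := by exact_mod_cast ha
      have he0 : (0 : ℤ) ≤ e := Nat.cast_nonneg _
      nlinarith
    · rw [hypD_apply_of_not_over hP, mul_zero, WithZero.exp_zero]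
      exact (hyp_finite_le_one y f heq hinf hP).1 a
  · -- the `b y` term
    rcases eq_or_ne b 0 with rfl | hb0
    · rw [map_zero, map_zero, zero_mul, map_zero]; exact zero_le
    have hb' : 2 * b.natDegree + f.natDegree ≤ 2 * n := hb.resolve_left hb0
    by_cases hP : IsOver P Pinf
    · obtain ⟨e, he⟩ := hP
      rw [hypD_apply_of_over he]
      rw [val_le_exp_iff P (mul_ne_zero (hι0 b hb0) hy0), ord_mul P (hι0 b hb0) hy0,
        isOverWith_ord he, ratInf_ord_poly Pinf hinf hb0]
      have hy2 : 2 * P.ord y = -((e : ℤ) * f.natDegree) := by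
        have h1 := ord_pow P y 2
        rw [heq, isOverWith_ord he, ratInf_ord_poly Pinf hinf hf0] at h1
        push_cast at h1
        linarith
      have hb'' : (2 * (b.natDegree : ℤ) + f.natDegree) ≤ 2 * n := by exact_mod_cast hb'
      have he0 : (0 : ℤ) ≤ e := Nat.cast_nonneg _
      nlinarith
    · rw [hypD_apply_of_not_over hP, mul_zero, WithZero.exp_zero, map_mul]
      obtain ⟨h1, h2⟩ := hyp_finite_le_one y f heq hinf hP
      exact mul_le_one' (h1 b) h2


/-- an element of `k(x)` lying in `L(m D)` is a polynomial of degree at most `m` -/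
theorem ratFunc_poly_of_mem_L [FiniteDimensional (RatFunc k) K]
    {Pinf : Place k (RatFunc k)} (hinf : 1 < Pinf.1 (RatFunc.X : RatFunc k)) (m : ℕ)
    (r : RatFunc k) (h : algebraMap (RatFunc k) K r ∈ L ((m : ℤ) • hypD K Pinf)) :
    ∃ A : k[X], r = algebraMap k[X] (RatFunc k) A ∧ A.natDegree ≤ m := by
  have hK₀ : IsFunctionField k (RatFunc k) := isFunctionField_ratFunc
  have hint : ∀ P₀ : Place k (RatFunc k), P₀.1 (RatFunc.X : RatFunc k) ≤ 1 → P₀.1 r ≤ 1 := by
    intro P₀ hX
    obtain ⟨P, e, he⟩ := exists_place_over (K := K) P₀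
    have hP : ¬ IsOver P Pinf := by
      intro hP
      have := isOver_unique hP ⟨e, he⟩
      rw [← this] at hX
      exact absurd hinf (not_lt.2 hX)
    have h1 := h P
    rw [Finsupp.smul_apply, hypD_apply_of_not_over hP, smul_zero, WithZero.exp_zero] at h1
    exact (isOverWith_le_one_iff he r).1 h1
  obtain ⟨A, hA⟩ := ratFunc_eq_poly_of_integral r hint
  refine ⟨A, hA, ?_⟩
  rcases eq_or_ne A 0 with rfl | hA0
  · rw [natDegree_zero]; exact Nat.zero_le _
  obtain ⟨P, e, he⟩ := exists_place_over (K := K) Pinf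
  have h1 := h P
  have hr0 : algebraMap (RatFunc k) K r ≠ 0 := by
    rw [hA]
    refine (_root_.map_ne_zero _).2 ?_
    exact (map_ne_zero_iff _ (IsFractionRing.injective k[X] (RatFunc k))).2 hA0
  rw [Finsupp.smul_apply, hypD_apply_of_over he, smul_eq_mul, val_le_exp_iff P hr0,
    isOverWith_ord he, hA, ratInf_ord_poly Pinf hinf hA0] at h1
  have hepos : (0 : ℤ) < e := by exact_mod_cast isOverWith_pos he
  have : (A.natDegree : ℤ) ≤ m := by nlinarith
  exact_mod_cast this

theorem hyp_bounds_of_mem_L [FiniteDimensional (RatFunc k) K] (h2 : ringChar k ≠ 2)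
    (hdeg : finrank (RatFunc k) K = 2) (y : K) (f : k[X]) (hf : Squarefree f)
    (hd : 1 ≤ f.natDegree)
    (heq : y ^ 2 = algebraMap (RatFunc k) K (algebraMap k[X] (RatFunc k) f))
    {Pinf : Place k (RatFunc k)} (hinf : 1 < Pinf.1 (RatFunc.X : RatFunc k)) (n : ℕ)
    (z : K) (hz : z ∈ L ((n : ℤ) • hypD K Pinf)) :
    ∃ a b : k[X], a.natDegree ≤ n ∧ (b = 0 ∨ 2 * b.natDegree + f.natDegree ≤ 2 * n) ∧
      z = algebraMap (RatFunc k) K (algebraMap k[X] (RatFunc k) a) +
        algebraMap (RatFunc k) K (algebraMap k[X] (RatFunc k) b) * y := by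
  classical
  have hK₀ : IsFunctionField k (RatFunc k) := isFunctionField_ratFunc
  have h2k : (2 : k) ≠ 0 := Ring.two_ne_zero h2
  have h2K₀ : (2 : RatFunc k) ≠ 0 := by
    have h0 : algebraMap k (RatFunc k) 2 ≠ 0 :=
      (map_ne_zero_iff _ (algebraMap k (RatFunc k)).injective).2 h2k
    rwa [map_ofNat] at h0
  have hf0 : f ≠ 0 := hf.ne_zero
  have hy : y ∉ Set.range (algebraMap (RatFunc k) K) := hyperelliptic_y_not_mem y f hf hd heq
  obtain ⟨σ, hσ⟩ := exists_algEquiv_neg h2K₀ hdeg hy ⟨_, heq.symm⟩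
  obtain ⟨a₀, b₀, hab⟩ := quad_repr hdeg hy z
  have hσz : σ z = algebraMap (RatFunc k) K a₀ - algebraMap (RatFunc k) K b₀ * y := by
    rw [hab, map_add, map_mul, σ.commutes, σ.commutes, hσ]; ring
  have hσL : σ z ∈ L ((n : ℤ) • hypD K Pinf) := by
    intro P
    have := hz (galPlace σ P)
    rw [galPlace_apply, Finsupp.smul_apply, hypD_galPlace] at this
    rw [Finsupp.smul_apply]
    exact this
  -- the `a` part
  have hw₁ : algebraMap (RatFunc k) K (2 * a₀) ∈ L ((n : ℤ) • hypD K Pinf) := by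
    have h1 : algebraMap (RatFunc k) K (2 * a₀) = z + σ z := by
      rw [hσz, hab, map_mul, map_ofNat]; ring
    rw [h1]; exact Submodule.add_mem _ hz hσL
  obtain ⟨A₁, hA₁, hA₁deg⟩ := ratFunc_poly_of_mem_L hinf n (2 * a₀) hw₁
  -- the `b` part
  have hw₂ : algebraMap (RatFunc k) K (2 * b₀) * y ∈ L ((n : ℤ) • hypD K Pinf) := by
    have h1 : algebraMap (RatFunc k) K (2 * b₀) * y = z - σ z := by
      rw [hσz, hab, map_mul, map_ofNat]; ring
    rw [h1]; exact Submodule.sub_mem _ hz hσL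
  have hw₂' : algebraMap (RatFunc k) K ((2 * b₀) ^ 2 * algebraMap k[X] (RatFunc k) f) ∈
      L (((2 * n : ℕ) : ℤ) • hypD K Pinf) := by
    have h1 : algebraMap (RatFunc k) K ((2 * b₀) ^ 2 * algebraMap k[X] (RatFunc k) f) =
        (algebraMap (RatFunc k) K (2 * b₀) * y) ^ 2 := by
      rw [map_mul, map_pow, ← heq]; ring
    rw [h1]
    intro P
    have := hw₂ P
    rw [Finsupp.smul_apply, smul_eq_mul] at this ⊢
    rw [map_pow]
    calc P.1 (algebraMap (RatFunc k) K (2 * b₀) * y) ^ 2
        ≤ (WithZero.exp ((n : ℤ) * hypD K Pinf P)) ^ 2 := pow_le_pow_left' this 2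
      _ = WithZero.exp (((2 * n : ℕ) : ℤ) * hypD K Pinf P) := by
        rw [← WithZero.exp_nsmul]; congr 1; push_cast; ring
  obtain ⟨C₁, hC₁, hC₁deg⟩ := ratFunc_poly_of_mem_L hinf (2 * n) _ hw₂'
  -- `2 b₀` is a polynomial
  set b₁ := 2 * b₀ with hb₁
  have hb₁eq : algebraMap k[X] (RatFunc k) (b₁.num ^ 2 * f) =
      algebraMap k[X] (RatFunc k) (C₁ * b₁.denom ^ 2) := by
    have hden0 : algebraMap k[X] (RatFunc k) b₁.denom ≠ 0 :=
      (map_ne_zero_iff _ (IsFractionRing.injective k[X] (RatFunc k))).2 b₁.denom_ne_zero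
    rw [map_mul, map_mul, map_pow, map_pow, ← hC₁]
    have key := RatFunc.num_div_denom b₁
    rw [div_eq_iff hden0] at key
    rw [key]; ring
  have hpoly : b₁.num ^ 2 * f = C₁ * b₁.denom ^ 2 :=
    IsFractionRing.injective k[X] (RatFunc k) hb₁eq
  have hcop : IsCoprime (b₁.denom ^ 2) (b₁.num ^ 2) :=
    ((RatFunc.isCoprime_num_denom b₁).symm).pow
  have hdvd : b₁.denom ^ 2 ∣ f := by
    have h1 : b₁.denom ^ 2 ∣ b₁.num ^ 2 * f := ⟨C₁, by rw [hpoly]; ring⟩
    exact hcop.dvd_of_dvd_mul_left h1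
  have hunit : IsUnit b₁.denom := hf b₁.denom (by rw [← pow_two]; exact hdvd)
  have hden1 : b₁.denom = 1 :=
    eq_one_of_monic_natDegree_zero (RatFunc.monic_denom b₁) (natDegree_eq_zero_of_isUnit hunit)
  have hb₁poly : b₁ = algebraMap k[X] (RatFunc k) b₁.num := by
    conv_lhs => rw [← RatFunc.num_div_denom b₁, hden1, map_one, div_one]
  rw [hden1, one_pow, mul_one] at hpoly
  -- assemble
  have hhalf : (C (2 : k)⁻¹ : k[X]) * C 2 = 1 := by rw [← C_mul, inv_mul_cancel₀ h2k, C_1]
  have h2alg : algebraMap k[X] (RatFunc k) (C 2) = 2 := by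
    rw [← algebraMap_eq, ← IsScalarTower.algebraMap_apply, map_ofNat]
  have ha₀ : a₀ = algebraMap k[X] (RatFunc k) (C (2 : k)⁻¹ * A₁) := by
    rw [map_mul, ← hA₁]
    have : algebraMap k[X] (RatFunc k) (C (2 : k)⁻¹) * 2 = 1 := by
      rw [← h2alg, ← map_mul, hhalf, map_one]
    rw [← mul_assoc, this, one_mul]
  have hb₀ : b₀ = algebraMap k[X] (RatFunc k) (C (2 : k)⁻¹ * b₁.num) := by
    rw [map_mul, ← hb₁poly, hb₁]
    have : algebraMap k[X] (RatFunc k) (C (2 : k)⁻¹) * 2 = 1 := by
      rw [← h2alg, ← map_mul, hhalf, map_one]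
    rw [← mul_assoc, this, one_mul]
  have hinv0 : (2 : k)⁻¹ ≠ 0 := inv_ne_zero h2k
  refine ⟨C (2 : k)⁻¹ * A₁, C (2 : k)⁻¹ * b₁.num, ?_, ?_, ?_⟩
  · rw [natDegree_C_mul hinv0]; exact hA₁deg
  · by_cases hnum : b₁.num = 0
    · left; rw [hnum, mul_zero]
    · right
      rw [natDegree_C_mul hinv0]
      have h1 : C₁.natDegree = 2 * b₁.num.natDegree + f.natDegree := by
        rw [← hpoly, natDegree_mul (pow_ne_zero 2 hnum) hf0, natDegree_pow]
      rw [← h1]; exact hC₁deg
  · rw [← ha₀, ← hb₀]; exact hab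


lemma finrank_degreeLT' (N : ℕ) : finrank k (degreeLT k N) = N := by
  rw [(degreeLTEquiv k N).finrank_eq, Module.finrank_fin_fun]

theorem hyp_ell [FiniteDimensional (RatFunc k) K] (h2 : ringChar k ≠ 2)
    (hdeg : finrank (RatFunc k) K = 2) (y : K) (f : k[X]) (hf : Squarefree f)
    (hd : 1 ≤ f.natDegree)
    (heq : y ^ 2 = algebraMap (RatFunc k) K (algebraMap k[X] (RatFunc k) f))
    {Pinf : Place k (RatFunc k)} (hinf : 1 < Pinf.1 (RatFunc.X : RatFunc k)) (n : ℕ)
    (hn : f.natDegree ≤ 2 * n) :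
    ell ((n : ℤ) • hypD K Pinf) = (n + 1) + ((2 * n - f.natDegree) / 2 + 1) := by
  classical
  set m := (2 * n - f.natDegree) / 2 with hm
  have hy : y ∉ Set.range (algebraMap (RatFunc k) K) := hyperelliptic_y_not_mem y f hf hd heq
  let ιl : k[X] →ₗ[k] K :=
    ((Algebra.linearMap (RatFunc k) K).restrictScalars k).comp
      ((Algebra.linearMap k[X] (RatFunc k)).restrictScalars k)
  have hιl : ∀ a : k[X], ιl a = algebraMap (RatFunc k) K (algebraMap k[X] (RatFunc k) a) :=
    fun a => rfl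
  have hιinj : Function.Injective ιl :=
    (algebraMap (RatFunc k) K).injective.comp (IsFractionRing.injective k[X] (RatFunc k))
  let Φ : (degreeLT k (n + 1)) × (degreeLT k (m + 1)) →ₗ[k] K :=
    (ιl.comp ((degreeLT k (n + 1)).subtype.comp (LinearMap.fst k _ _))) +
      ((LinearMap.mulRight k y).comp (ιl.comp ((degreeLT k (m + 1)).subtype.comp
        (LinearMap.snd k _ _))))
  have hΦ : ∀ p : (degreeLT k (n + 1)) × (degreeLT k (m + 1)),
      Φ p = ιl (p.1 : k[X]) + ιl (p.2 : k[X]) * y := fun p => rfl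
  have hΦinj : Function.Injective Φ := by
    rw [← LinearMap.ker_eq_bot, LinearMap.ker_eq_bot']
    rintro ⟨a, b⟩ hab
    rw [hΦ] at hab
    simp only at hab
    have hb0 : (b : k[X]) = 0 := by
      by_contra hb0
      have hιb : ιl (b : k[X]) ≠ 0 := fun h => hb0 (hιinj (by rw [h, map_zero]))
      apply hy
      refine ⟨-(algebraMap k[X] (RatFunc k) (a : k[X])) / algebraMap k[X] (RatFunc k) (b : k[X]), ?_⟩
      rw [map_div₀, map_neg]
      rw [hιl, hιl] at hab
      rw [hιl] at hιb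
      field_simp
      linear_combination -hab
    have ha0 : (a : k[X]) = 0 := by
      rw [hb0, map_zero, zero_mul, add_zero] at hab
      exact hιinj (by rw [hab, map_zero])
    exact Prod.ext (Subtype.ext ha0) (Subtype.ext hb0)
  have hrange : LinearMap.range Φ = L ((n : ℤ) • hypD K Pinf) := by
    apply le_antisymm
    · rintro _ ⟨⟨a, b⟩, rfl⟩
      rw [hΦ, hιl, hιl]
      refine hyp_mem_L_of_bounds y f hf.ne_zero heq hinf n a b ?_ ?_
      · have := (mem_degreeLT.1 a.2)
        rcases eq_or_ne (a : k[X]) 0 with h0 | h0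
        · rw [h0, natDegree_zero]; exact Nat.zero_le _
        · rw [degree_eq_natDegree h0] at this
          have : a.1.natDegree < n + 1 := by exact_mod_cast this
          omega
      · rcases eq_or_ne (b : k[X]) 0 with h0 | h0
        · left; exact h0
        · right
          have := (mem_degreeLT.1 b.2)
          rw [degree_eq_natDegree h0] at this
          have : b.1.natDegree < m + 1 := by exact_mod_cast this
          omega
    · intro z hz
      obtain ⟨a, b, ha, hb, hzab⟩ := hyp_bounds_of_mem_L h2 hdeg y f hf hd heq hinf n z hz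
      have ha' : a ∈ degreeLT k (n + 1) := by
        rw [mem_degreeLT]
        exact lt_of_le_of_lt degree_le_natDegree (by exact_mod_cast Nat.lt_succ_of_le ha)
      have hb' : b ∈ degreeLT k (m + 1) := by
        rw [mem_degreeLT]
        rcases hb with rfl | hb
        · rw [degree_zero]; exact WithBot.bot_lt_coe _
        · refine lt_of_le_of_lt degree_le_natDegree ?_
          have : b.natDegree < m + 1 := by omega
          exact_mod_cast this
      exact ⟨(⟨a, ha'⟩, ⟨b, hb'⟩), by rw [hΦ, hιl, hιl]; exact hzab.symm⟩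
  unfold ell
  rw [← hrange, LinearMap.finrank_range_of_inj hΦinj, Module.finrank_prod, finrank_degreeLT',
    finrank_degreeLT']

theorem genus_hyp [FiniteDimensional (RatFunc k) K] (hK : IsFunctionField k K)
    (h2 : ringChar k ≠ 2)
    (hdeg : finrank (RatFunc k) K = 2) (y : K) (f : k[X]) (hf : Squarefree f)
    (hd : 1 ≤ f.natDegree)
    (heq : y ^ 2 = algebraMap (RatFunc k) K (algebraMap k[X] (RatFunc k) f)) :
    genus k K = (f.natDegree - 1) / 2 := by
  have hK₀ : IsFunctionField k (RatFunc k) := isFunctionField_ratFunc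
  obtain ⟨Pinf, hinf⟩ := exists_pole hK₀
    (not_mem_range_of_transcendental (RatFunc.transcendental_X (K := k)))
  obtain ⟨-, N, hN⟩ := riemann hK
  set d := f.natDegree with hdd
  set n := N.toNat + d with hn
  have hdegD : (((n : ℤ) • hypD K Pinf : Divisor k K)).deg = 2 * n := by
    rw [deg_zsmul, deg_hypD hinf, hdeg]; push_cast; ring
  have h1 := hN ((n : ℤ) • hypD K Pinf) (by
    rw [hdegD]
    have := Int.self_le_toNat N
    push_cast [hn]
    omega)
  rw [hdegD, hyp_ell h2 hdeg y f hf hd heq hinf n (by omega)] at h1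
  have h3 : ((n + 1 + ((2 * n - d) / 2 + 1) : ℕ) : ℤ) = 2 * n + 1 - genus k K := by linarith
  have h4 : (genus k K : ℤ) + ((n + 1 + ((2 * n - d) / 2 + 1) : ℕ) : ℤ) = 2 * n + 1 := by
    linarith
  have h5 : genus k K + (n + 1 + ((2 * n - d) / 2 + 1)) = 2 * n + 1 := by exact_mod_cast h4
  omega

end HypGenus

end Groth.Agent.Helper17.FF
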