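import Mathlib
import Groth.Agent.Lib.Helper17.FFASR
import Groth.Agent.Lib.Helper17.FFHyp3
import Groth.Agent.Lib.Helper17.FF17
namespace Groth.Agent.Helper17.FF

open FunFld Polynomial Module IntermediateField

section ASG0

variable {k K : Type*} [Field k] [Field K] [Algebra k K]

lemma deg_finset_sum {ι : Type*} (s : Finset ι) (D : ι → Divisor k K) :
    (∑ i ∈ s, D i).deg = ∑ i ∈ s, (D i).deg := by
  classical
  induction s using Finset.induction_on with
  | empty => simp [deg_zero]
  | insert a s ha ih => rw [Finset.sum_insert ha, Finset.sum_insert ha, deg_add, ih]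

end ASG0

section ASG

variable {k K : Type*} [Field k] [Field K] [Algebra k K] [Algebra (RatFunc k) K]
  [IsScalarTower k (RatFunc k) K]

lemma two_eq_zero_ratFunc (h2 : ringChar k = 2) : (2 : RatFunc k) = 0 := by
  have h2k : (2 : k) = 0 := by
    have := ringChar.Nat.cast_ringChar (R := k)
    rw [h2] at this
    exact_mod_cast this
  have := congrArg (algebraMap k (RatFunc k)) h2k
  rwa [map_ofNat, map_zero] at this

theorem as_isSeparable (h2 : ringChar k = 2) (hdeg : finrank (RatFunc k) K = 2) {y : K}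
    (hy : y ∉ Set.range (algebraMap (RatFunc k) K)) {f : RatFunc k}
    (heq : y ^ 2 + y = algebraMap (RatFunc k) K f) : Algebra.IsSeparable (RatFunc k) K := by
  obtain ⟨hmin, htop⟩ := as_minpoly hdeg hy heq
  have h2K₀ := two_eq_zero_ratFunc h2
  have hder : derivative (minpoly (RatFunc k) y) = 1 := by
    rw [hmin, derivative_sub, derivative_add, derivative_X_sq, derivative_X, derivative_C,
      h2K₀, map_zero, zero_mul, zero_add, sub_zero]
  have hsepy : IsSeparable (RatFunc k) y := by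
    show (minpoly (RatFunc k) y).Separable
    rw [separable_def, hder]
    exact isCoprime_one_right
  haveI : Algebra.IsSeparable (RatFunc k) (RatFunc k)⟮y⟯ :=
    (IntermediateField.isSeparable_adjoin_simple_iff_isSeparable _ _).2 hsepy
  exact AlgEquiv.Algebra.isSeparable
    ((IntermediateField.equivOfEq htop).trans IntermediateField.topEquiv)

theorem as_exists_sigma (h2 : ringChar k = 2) (hdeg : finrank (RatFunc k) K = 2) {y : K}
    (hy : y ∉ Set.range (algebraMap (RatFunc k) K)) {f : RatFunc k}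
    (heq : y ^ 2 + y = algebraMap (RatFunc k) K f) :
    ∃ σ : K ≃ₐ[RatFunc k] K, σ y = y + 1 := by
  classical
  haveI : FiniteDimensional (RatFunc k) K := Module.finite_of_finrank_pos (by rw [hdeg]; norm_num)
  haveI := as_isSeparable h2 hdeg hy heq
  haveI : Algebra.IsQuadraticExtension (RatFunc k) K := { finrank_eq_two' := hdeg }
  have hgal : IsGalois (RatFunc k) K := inferInstance
  have hcard : Nat.card (K ≃ₐ[RatFunc k] K) = 2 := by rw [IsGalois.card_aut_eq_finrank, hdeg]
  have hnt : Nontrivial (K ≃ₐ[RatFunc k] K) := by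
    have h1 : 1 < Nat.card (K ≃ₐ[RatFunc k] K) := by rw [hcard]; norm_num
    exact Finite.one_lt_card_iff_nontrivial.1 h1
  obtain ⟨σ, hσ⟩ := exists_ne (1 : K ≃ₐ[RatFunc k] K)
  have hσy : σ y ≠ y := by
    intro hfix
    apply hσ
    ext x
    obtain ⟨a, b, rfl⟩ := quad_repr hdeg hy x
    rw [map_add, map_mul, σ.commutes, σ.commutes, hfix]
    rfl
  have hsq : (σ y) ^ 2 + σ y = y ^ 2 + y := by
    rw [← map_pow, ← map_add, heq, σ.commutes]
  have h5 : (σ y - y) * (σ y + y + 1) = 0 := by
    have : (σ y - y) * (σ y + y + 1) = ((σ y) ^ 2 + σ y) - (y ^ 2 + y) := by ring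
    rw [this, hsq, sub_self]
  have h2K : (2 : K) = 0 := by
    have := congrArg (algebraMap (RatFunc k) K) (two_eq_zero_ratFunc h2)
    rwa [map_ofNat, map_zero] at this
  rcases mul_eq_zero.1 h5 with h6 | h6
  · exact absurd (sub_eq_zero.1 h6) hσy
  · refine ⟨σ, ?_⟩
    have : σ y = -(y + 1) := by linear_combination h6
    rw [this]
    linear_combination (-(y + 1)) * h2K

lemma as_val_y_le_one {y : K} {f : RatFunc k} (heq : y ^ 2 + y = algebraMap (RatFunc k) K f)
    {P₀ : Place k (RatFunc k)} {P : Place k K} {e : ℕ} (he : IsOverWith P P₀ e)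
    (hf : P₀.1 f ≤ 1) : P.1 y ≤ 1 := by
  by_contra hcon
  push Not at hcon
  have hlt : P.1 y < P.1 (y ^ 2) := by
    rw [map_pow]
    exact lt_self_pow₀ hcon (by norm_num)
  have h4 : P.1 (y ^ 2 + y) = P.1 (y ^ 2) := Valuation.map_add_eq_of_lt_left _ hlt
  have h5 : 1 < P.1 (y ^ 2 + y) := by
    rw [h4]; exact lt_trans hcon hlt
  rw [heq] at h5
  exact absurd ((isOverWith_le_one_iff he f).2 hf) (not_le.2 h5)

lemma as_ord_y {y : K} {f : RatFunc k} (heq : y ^ 2 + y = algebraMap (RatFunc k) K f)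
    {P₀ : Place k (RatFunc k)} (hneg : P₀.ord f < 0) {P : Place k K} {e : ℕ}
    (he : IsOverWith P P₀ e) : 2 * P.ord y = e * P₀.ord f ∧ 1 < P.1 y := by
  have hepos := isOverWith_pos he
  have hf0 : f ≠ 0 := by
    rintro rfl
    rw [ord_zero] at hneg
    exact lt_irrefl _ hneg
  have hfK0 : algebraMap (RatFunc k) K f ≠ 0 :=
    (map_ne_zero_iff _ (algebraMap (RatFunc k) K).injective).2 hf0
  have h3 : P.ord (algebraMap (RatFunc k) K f) = e * P₀.ord f := isOverWith_ord he f
  have hfneg : P.ord (algebraMap (RatFunc k) K f) < 0 := by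
    rw [h3]
    exact mul_neg_of_pos_of_neg (by exact_mod_cast hepos) hneg
  have hPf : 1 < P.1 (algebraMap (RatFunc k) K f) := (ord_neg_iff P hfK0).1 hfneg
  have hPy : 1 < P.1 y := by
    by_contra hcon
    push Not at hcon
    have h1 : P.1 (y ^ 2 + y) ≤ 1 := by
      refine (P.1.map_add _ _).trans (max_le ?_ hcon)
      rw [map_pow]; exact pow_le_one' hcon 2
    rw [heq] at h1
    exact absurd h1 (not_le.2 hPf)
  have hlt : P.1 y < P.1 (y ^ 2) := by
    rw [map_pow]
    exact lt_self_pow₀ hPy (by norm_num)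
  have h4 : P.1 (y ^ 2 + y) = P.1 (y ^ 2) := Valuation.map_add_eq_of_lt_left _ hlt
  have h5 : P.ord (algebraMap (RatFunc k) K f) = 2 * P.ord y := by
    rw [← heq]
    unfold Place.ord
    rw [h4, map_pow, WithZero.log_pow]
    simp
  rw [h3] at h5
  exact ⟨h5.symm, hPy⟩

lemma as_pole_local {y : K} {f : RatFunc k} (heq : y ^ 2 + y = algebraMap (RatFunc k) K f)
    {P₀ : Place k (RatFunc k)} (hneg : P₀.ord f < 0) (hodd : Odd (P₀.ord f)) {P : Place k K}
    (he : IsOverWith P P₀ 2) (a b : RatFunc k) (m : ℤ) :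
    P.1 (algebraMap (RatFunc k) K a + algebraMap (RatFunc k) K b * y) ≤ WithZero.exp (2 * m) ↔
      P₀.1 a ≤ WithZero.exp m ∧ P₀.1 b ≤ WithZero.exp (m - (1 - P₀.ord f) / 2) := by
  obtain ⟨hy2, hy1⟩ := as_ord_y heq hneg he
  have hy0 : y ≠ 0 := by
    rintro rfl
    rw [map_zero] at hy1
    exact absurd hy1 (by simp)
  have hordy : P.ord y = P₀.ord f := by push_cast at hy2; omega
  have hinj := (algebraMap (RatFunc k) K).injective
  have hmax : P.1 (algebraMap (RatFunc k) K a + algebraMap (RatFunc k) K b * y) =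
      max (P.1 (algebraMap (RatFunc k) K a)) (P.1 (algebraMap (RatFunc k) K b * y)) := by
    rcases eq_or_ne a 0 with rfl | ha0
    · rw [map_zero, zero_add, map_zero]; exact (max_eq_right zero_le).symm
    rcases eq_or_ne b 0 with rfl | hb0
    · rw [map_zero, zero_mul, add_zero, map_zero]; exact (max_eq_left zero_le).symm
    apply Valuation.map_add_of_distinct_val
    intro heq'
    have ha0' : algebraMap (RatFunc k) K a ≠ 0 := (map_ne_zero_iff _ hinj).2 ha0
    have hb0' : algebraMap (RatFunc k) K b ≠ 0 := (map_ne_zero_iff _ hinj).2 hb0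
    have h1 : P.ord (algebraMap (RatFunc k) K a) = P.ord (algebraMap (RatFunc k) K b * y) := by
      unfold Place.ord; rw [heq']
    rw [ord_mul P hb0' hy0, isOverWith_ord he, isOverWith_ord he, hordy] at h1
    obtain ⟨j, hj⟩ := hodd
    push_cast at h1
    omega
  rw [hmax, max_le_iff]
  obtain ⟨j, hj⟩ := hodd
  constructor
  · rintro ⟨h1, h2⟩
    constructor
    · rcases eq_or_ne a 0 with rfl | ha0
      · rw [map_zero]; exact zero_le
      have ha0' : algebraMap (RatFunc k) K a ≠ 0 := (map_ne_zero_iff _ hinj).2 ha0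
      rw [val_le_exp_iff P ha0', isOverWith_ord he] at h1
      rw [val_le_exp_iff P₀ ha0]
      push_cast at h1
      omega
    · rcases eq_or_ne b 0 with rfl | hb0
      · rw [map_zero]; exact zero_le
      have hb0' : algebraMap (RatFunc k) K b ≠ 0 := (map_ne_zero_iff _ hinj).2 hb0
      rw [val_le_exp_iff P (mul_ne_zero hb0' hy0), ord_mul P hb0' hy0, isOverWith_ord he,
        hordy] at h2
      rw [val_le_exp_iff P₀ hb0]
      push_cast at h2
      omega
  · rintro ⟨h1, h2⟩
    constructor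
    · rcases eq_or_ne a 0 with rfl | ha0
      · rw [map_zero, map_zero]; exact zero_le
      have ha0' : algebraMap (RatFunc k) K a ≠ 0 := (map_ne_zero_iff _ hinj).2 ha0
      rw [val_le_exp_iff P ha0', isOverWith_ord he]
      rw [val_le_exp_iff P₀ ha0] at h1
      push_cast
      omega
    · rcases eq_or_ne b 0 with rfl | hb0
      · rw [map_zero, zero_mul, map_zero]; exact zero_le
      have hb0' : algebraMap (RatFunc k) K b ≠ 0 := (map_ne_zero_iff _ hinj).2 hb0
      rw [val_le_exp_iff P (mul_ne_zero hb0' hy0), ord_mul P hb0' hy0, isOverWith_ord he,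
        hordy]
      rw [val_le_exp_iff P₀ hb0] at h2
      push_cast
      omega

lemma as_good_le {y : K} {f : RatFunc k} (heq : y ^ 2 + y = algebraMap (RatFunc k) K f)
    {P₀ : Place k (RatFunc k)} (hf : P₀.1 f ≤ 1) {P : Place k K}
    (he : IsOverWith P P₀ 1) (a b : RatFunc k) (m : ℤ) (ha : P₀.1 a ≤ WithZero.exp m)
    (hb : P₀.1 b ≤ WithZero.exp m) :
    P.1 (algebraMap (RatFunc k) K a + algebraMap (RatFunc k) K b * y) ≤ WithZero.exp m := by
  have hy1 := as_val_y_le_one heq he hf
  have h1 : ∀ x : RatFunc k, P.1 (algebraMap (RatFunc k) K x) = P₀.1 x := fun x => by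
    rw [he x, pow_one]
  refine (P.1.map_add _ _).trans (max_le ?_ ?_)
  · rw [h1]; exact ha
  · rw [map_mul, h1]
    calc P₀.1 b * P.1 y ≤ WithZero.exp m * 1 := mul_le_mul' hb hy1
      _ = WithZero.exp m := mul_one _

lemma as_good_ge {y : K} {f : RatFunc k} (heq : y ^ 2 + y = algebraMap (RatFunc k) K f)
    {P₀ : Place k (RatFunc k)} (hf : P₀.1 f ≤ 1) {P : Place k K}
    (he : IsOverWith P P₀ 1) (σ : K ≃ₐ[RatFunc k] K) (hσ : σ y = y + 1) (a b : RatFunc k) (m : ℤ)
    (hz : P.1 (algebraMap (RatFunc k) K a + algebraMap (RatFunc k) K b * y) ≤ WithZero.exp m)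
    (hσz : P.1 (σ (algebraMap (RatFunc k) K a + algebraMap (RatFunc k) K b * y)) ≤
      WithZero.exp m) :
    P₀.1 a ≤ WithZero.exp m ∧ P₀.1 b ≤ WithZero.exp m := by
  have hy1 := as_val_y_le_one heq he hf
  have h1 : ∀ x : RatFunc k, P.1 (algebraMap (RatFunc k) K x) = P₀.1 x := fun x => by
    rw [he x, pow_one]
  have hb : algebraMap (RatFunc k) K b =
      σ (algebraMap (RatFunc k) K a + algebraMap (RatFunc k) K b * y) -
        (algebraMap (RatFunc k) K a + algebraMap (RatFunc k) K b * y) := by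
    rw [map_add, map_mul, σ.commutes, σ.commutes, hσ]; ring
  have hb' : P₀.1 b ≤ WithZero.exp m := by
    rw [← h1, hb]; exact Valuation.map_sub_le _ hσz hz
  refine ⟨?_, hb'⟩
  have ha : algebraMap (RatFunc k) K a =
      (algebraMap (RatFunc k) K a + algebraMap (RatFunc k) K b * y) -
        algebraMap (RatFunc k) K b * y := by ring
  rw [← h1, ha]
  refine Valuation.map_sub_le _ hz ?_
  rw [map_mul, h1]
  calc P₀.1 b * P.1 y ≤ WithZero.exp m * 1 := mul_le_mul' hb' hy1
    _ = WithZero.exp m := mul_one _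

lemma conorm_apply_over [FiniteDimensional (RatFunc k) K] (A : Divisor k (RatFunc k))
    {P₀ : Place k (RatFunc k)} {P : Place k K} {e : ℕ} (he : IsOverWith P P₀ e) :
    conorm K A P = e * A P₀ := by
  have hK₀ : IsFunctionField k (RatFunc k) := isFunctionField_ratFunc
  rw [conorm_apply hK₀]
  have h1 : P₀ = placeBelow hK₀ P := (isOver_iff hK₀ P P₀).1 ⟨e, he⟩
  rw [← h1, ramIdx_eq he]

theorem as_mem_L_iff (h2 : ringChar k = 2) (hdeg : finrank (RatFunc k) K = 2) {y : K}
    (hy : y ∉ Set.range (algebraMap (RatFunc k) K)) {f : RatFunc k}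
    (heq : y ^ 2 + y = algebraMap (RatFunc k) K f)
    (hodd : ∀ P₀ : Place k (RatFunc k), P₀.ord f < 0 → Odd (P₀.ord f))
    (B : Divisor k (RatFunc k))
    (hB : ∀ P₀ : Place k (RatFunc k), B P₀ = if P₀.ord f < 0 then (1 - P₀.ord f) / 2 else 0)
    (A : Divisor k (RatFunc k)) (a b : RatFunc k) :
    algebraMap (RatFunc k) K a + algebraMap (RatFunc k) K b * y ∈ L (conorm K A) ↔
      a ∈ L A ∧ b ∈ L (A - B) := by
  haveI : FiniteDimensional (RatFunc k) K := Module.finite_of_finrank_pos (by rw [hdeg]; norm_num)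
  haveI : Algebra.IsAlgebraic (RatFunc k) K := Algebra.IsAlgebraic.of_finite _ _
  haveI := as_isSeparable h2 hdeg hy heq
  have hK₀ : IsFunctionField k (RatFunc k) := isFunctionField_ratFunc
  have hnonpole : ∀ P₀ : Place k (RatFunc k), ¬ P₀.ord f < 0 → P₀.1 f ≤ 1 := by
    intro P₀ h
    rcases eq_or_ne f 0 with rfl | hf0
    · rw [map_zero]; exact zero_le_one
    · exact (ord_nonneg_iff P₀ hf0).1 (not_lt.1 h)
  have hram : ∀ P₀ : Place k (RatFunc k), P₀.ord f < 0 → ∀ P : Place k K, IsOver P P₀ →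
      IsOverWith P P₀ 2 := by
    intro P₀ hp P hP
    exact ((ramified_of_two_le hK₀ hdeg P₀
      (fun Q hQ => as_two_le_ramIdx heq P₀ hp (hodd P₀ hp) Q hQ)).2 P hP).1
  constructor
  · intro hz
    obtain ⟨σ, hσ⟩ := as_exists_sigma h2 hdeg hy heq
    have key : ∀ P₀ : Place k (RatFunc k),
        P₀.1 a ≤ WithZero.exp (A P₀) ∧ P₀.1 b ≤ WithZero.exp ((A - B) P₀) := by
      intro P₀
      obtain ⟨P, e, he⟩ := exists_place_over (K := K) P₀
      rw [Finsupp.sub_apply, hB]
      by_cases hp : P₀.ord f < 0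
      · rw [if_pos hp]
        have he2 : IsOverWith P P₀ 2 := hram P₀ hp P ⟨e, he⟩
        have h1 := hz P
        rw [conorm_apply_over A he2] at h1
        push_cast at h1
        exact (as_pole_local heq hp (hodd P₀ hp) he2 a b (A P₀)).1 h1
      · rw [if_neg hp, sub_zero]
        have hf := hnonpole P₀ hp
        have he1 : e = 1 := as_unramified h2 hdeg hy heq P₀ hf he
        subst he1
        have h1 := hz P
        have h2' := hz (galPlace σ P)
        rw [conorm_apply_over A he] at h1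
        rw [conorm_apply_over A (isOverWith_galPlace he σ), galPlace_apply] at h2'
        rw [Nat.cast_one, one_mul] at h1 h2'
        exact as_good_ge heq hf he σ hσ a b (A P₀) h1 h2'
    exact ⟨fun P₀ => (key P₀).1, fun P₀ => (key P₀).2⟩
  · rintro ⟨ha, hb⟩ P
    obtain ⟨P₀, e, he⟩ := exists_isOverWith hK₀ P
    rw [conorm_apply_over A he]
    have hb' := hb P₀
    rw [Finsupp.sub_apply, hB] at hb'
    by_cases hp : P₀.ord f < 0
    · rw [if_pos hp] at hb'
      have he2 : IsOverWith P P₀ 2 := hram P₀ hp P ⟨e, he⟩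
      have : e = 2 := isOverWith_unique he he2
      subst this
      push_cast
      exact (as_pole_local heq hp (hodd P₀ hp) he2 a b (A P₀)).2 ⟨ha P₀, hb'⟩
    · rw [if_neg hp, sub_zero] at hb'
      have hf := hnonpole P₀ hp
      have he1 : e = 1 := as_unramified h2 hdeg hy heq P₀ hf he
      subst he1
      rw [Nat.cast_one, one_mul]
      exact as_good_le heq hf he a b (A P₀) (ha P₀) hb'

theorem as_ell (h2 : ringChar k = 2) (hdeg : finrank (RatFunc k) K = 2) {y : K}
    (hy : y ∉ Set.range (algebraMap (RatFunc k) K)) {f : RatFunc k}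
    (heq : y ^ 2 + y = algebraMap (RatFunc k) K f)
    (hodd : ∀ P₀ : Place k (RatFunc k), P₀.ord f < 0 → Odd (P₀.ord f))
    (B : Divisor k (RatFunc k))
    (hB : ∀ P₀ : Place k (RatFunc k), B P₀ = if P₀.ord f < 0 then (1 - P₀.ord f) / 2 else 0)
    (A : Divisor k (RatFunc k)) :
    ell (conorm K A) = ell A + ell (A - B) := by
  classical
  have hK₀ : IsFunctionField k (RatFunc k) := isFunctionField_ratFunc
  haveI := L_finite hK₀ A
  haveI := L_finite hK₀ (A - B)
  let ι : RatFunc k →ₗ[k] K := (Algebra.linearMap (RatFunc k) K).restrictScalars k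
  have hι : ∀ a : RatFunc k, ι a = algebraMap (RatFunc k) K a := fun a => rfl
  have hιinj : Function.Injective ι := (algebraMap (RatFunc k) K).injective
  let Φ : (L A) × (L (A - B)) →ₗ[k] K :=
    (ι.comp ((L A).subtype.comp (LinearMap.fst k _ _))) +
      ((LinearMap.mulRight k y).comp (ι.comp ((L (A - B)).subtype.comp (LinearMap.snd k _ _))))
  have hΦ : ∀ p : (L A) × (L (A - B)),
      Φ p = ι (p.1 : RatFunc k) + ι (p.2 : RatFunc k) * y := fun p => rfl
  have hΦinj : Function.Injective Φ := by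
    rw [← LinearMap.ker_eq_bot, LinearMap.ker_eq_bot']
    rintro ⟨a, b⟩ hab
    rw [hΦ] at hab
    simp only at hab
    have hb0 : (b : RatFunc k) = 0 := by
      by_contra hb0
      have hιb : ι (b : RatFunc k) ≠ 0 := fun h => hb0 (hιinj (by rw [h, map_zero]))
      apply hy
      refine ⟨-(a : RatFunc k) / (b : RatFunc k), ?_⟩
      rw [map_div₀, map_neg]
      rw [hι, hι] at hab
      rw [hι] at hιb
      field_simp
      linear_combination -hab
    have ha0 : (a : RatFunc k) = 0 := by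
      rw [hb0, map_zero, zero_mul, add_zero] at hab
      exact hιinj (by rw [hab, map_zero])
    exact Prod.ext (Subtype.ext ha0) (Subtype.ext hb0)
  have hrange : LinearMap.range Φ = L (conorm K A) := by
    apply le_antisymm
    · rintro _ ⟨⟨a, b⟩, rfl⟩
      rw [hΦ, hι, hι]
      exact (as_mem_L_iff h2 hdeg hy heq hodd B hB A a b).2 ⟨a.2, b.2⟩
    · intro z hz
      obtain ⟨a, b, hab⟩ := quad_repr hdeg hy z
      rw [hab] at hz
      obtain ⟨ha, hb⟩ := (as_mem_L_iff h2 hdeg hy heq hodd B hB A a b).1 hz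
      exact ⟨(⟨a, ha⟩, ⟨b, hb⟩), by rw [hΦ, hι, hι]; exact hab.symm⟩
  unfold ell
  rw [← hrange, LinearMap.finrank_range_of_inj hΦinj, Module.finrank_prod]

theorem as_genus (hK : IsFunctionField k K) (h2 : ringChar k = 2)
    (hdeg : finrank (RatFunc k) K = 2) {y : K}
    (hy : y ∉ Set.range (algebraMap (RatFunc k) K)) {f : RatFunc k}
    (heq : y ^ 2 + y = algebraMap (RatFunc k) K f)
    (hodd : ∀ P₀ : Place k (RatFunc k), P₀.ord f < 0 → Odd (P₀.ord f))
    (B : Divisor k (RatFunc k))
    (hB : ∀ P₀ : Place k (RatFunc k), B P₀ = if P₀.ord f < 0 then (1 - P₀.ord f) / 2 else 0) :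
    (genus k K : ℤ) = -1 + B.deg := by
  haveI : FiniteDimensional (RatFunc k) K := Module.finite_of_finrank_pos (by rw [hdeg]; norm_num)
  have hK₀ : IsFunctionField k (RatFunc k) := isFunctionField_ratFunc
  have hg0 : genus k (RatFunc k) = 0 :=
    genus_eq_zero_of_adjoin_eq_top hK₀ (x := (RatFunc.X : RatFunc k)) RatFunc.adjoin_X
  obtain ⟨Pinf, hinf⟩ := exists_pole hK₀
    (not_mem_range_of_transcendental (RatFunc.transcendental_X (K := k)))
  obtain ⟨-, N, hN⟩ := riemann hK
  obtain ⟨-, N₀, hN₀⟩ := riemann hK₀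
  obtain ⟨n, hn⟩ : ∃ n : ℤ, n = |N| + |N₀| + |B.deg| := ⟨_, rfl⟩
  obtain ⟨A, hA⟩ : ∃ A : Divisor k (RatFunc k), A = Finsupp.single Pinf n := ⟨_, rfl⟩
  have hdegA : A.deg = n := by rw [hA, deg_single, ratInf_deg Pinf hinf]; simp
  have hdegC : (conorm K A).deg = 2 * n := by
    rw [deg_conorm hK₀, hdeg, hdegA]; push_cast; ring
  have hdegAB : (A - B).deg = n - B.deg := by rw [deg_sub, hdegA]
  have e1 := hN (conorm K A) (by
    rw [hdegC]
    linarith [le_abs_self N, abs_nonneg N, abs_nonneg N₀, abs_nonneg B.deg])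
  have e2 := hN₀ A (by
    rw [hdegA]
    linarith [le_abs_self N₀, abs_nonneg N, abs_nonneg N₀, abs_nonneg B.deg])
  have e3 := hN₀ (A - B) (by
    rw [hdegAB]
    linarith [le_abs_self N₀, abs_nonneg N, le_abs_self B.deg])
  rw [hg0] at e2 e3
  rw [hdegC, as_ell h2 hdeg hy heq hodd B hB A] at e1
  rw [hdegA] at e2
  rw [hdegAB] at e3
  push_cast at e1 e2 e3
  linarith

end ASG

end Groth.Agent.Helper17.FF
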