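import Mathlib
import Groth.Agent.Lib.Helper17.FFIn
namespace Groth.Agent.Helper17.FF

open FunFld Polynomial Module IntermediateField

section Inertia

variable {k K K' : Type*} [Field k] [Field K] [Field K'] [Algebra k K] [Algebra K K']
  [Algebra k K'] [IsScalarTower k K K']

lemma decomp_smul_coe (Q : Place k K') (σ : Q.O.decompositionSubgroup K) (x : Q.O) :
    ((σ • x : Q.O) : K') = σ.1 (x : K') := rfl

lemma mem_inertia_iff (Q : Place k K') (σ : Q.O.decompositionSubgroup K) :
    σ ∈ Q.O.inertiaSubgroup K ↔ InG Q 1 σ.1 := by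
  rw [ValuationSubring.inertiaSubgroup, MonoidHom.mem_ker]
  constructor
  · intro h x hx
    have h1 := congrArg (fun f : RingAut (IsLocalRing.ResidueField Q.O) =>
      f (IsLocalRing.residue Q.O ⟨x, hx⟩)) h
    simp only [MulSemiringAction.toRingAut_apply, RingAut.one_apply] at h1
    have h2 : IsLocalRing.residue Q.O (σ • (⟨x, hx⟩ : Q.O)) = IsLocalRing.residue Q.O ⟨x, hx⟩ := h1
    rw [residue_eq_iff] at h2
    have h3 := (val_lt_exp_iff_le Q _ 0).1 (by rw [WithZero.exp_zero]; exact h2)
    have h4 : Q.1 (σ.1 x - x) ≤ WithZero.exp ((0 : ℤ) - 1) := h3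
    simpa using h4
  · intro h
    ext y
    obtain ⟨x, rfl⟩ := IsLocalRing.residue_surjective y
    show IsLocalRing.residue Q.O (σ • x) = IsLocalRing.residue Q.O x
    rw [residue_eq_iff]
    refine lt_of_le_of_lt (h x x.2) ?_
    rw [← WithZero.exp_zero, WithZero.exp_lt_exp]; omega

end Inertia

open FunFld Polynomial Module IntermediateField

section Inertia2

variable {k K K' : Type*} [Field k] [Field K] [Field K'] [Algebra k K] [Algebra K K']
  [Algebra k K'] [IsScalarTower k K K'] [FiniteDimensional K K']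

lemma card_inertia_eq (Q : Place k K') :
    Nat.card (Q.O.inertiaSubgroup K) = Nat.card (ramGroup (K := K) Q 1) := by
  apply Nat.card_congr
  refine ⟨fun σ => ⟨σ.1.1, (mem_inertia_iff Q σ.1).1 σ.2⟩,
    fun τ => ⟨⟨τ.1, (mem_decomp_iff τ.1 Q).2 (galPlace_eq_of_inG Q τ.2)⟩,
      (mem_inertia_iff Q _).2 τ.2⟩, fun σ => ?_, fun τ => ?_⟩
  · rfl
  · rfl

attribute [-instance] IsLocalRing.instModuleResidueFieldOfAlgebra in
theorem card_decomp_le (hK : IsFunctionField k K) {Q : Place k K'} {P : Place k K} {e : ℕ}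
    (he : IsOverWith Q P e) :
    Nat.card (Q.O.decompositionSubgroup K) ≤ Nat.card (Q.O.inertiaSubgroup K) *
      finrank (resMap he).fieldRange (IsLocalRing.ResidueField Q.O) := by
  classical
  let ρ := MulSemiringAction.toRingAut (Q.O.decompositionSubgroup K) (IsLocalRing.ResidueField Q.O)
  have h1 : Nat.card (Q.O.inertiaSubgroup K) * Nat.card ρ.range =
      Nat.card (Q.O.decompositionSubgroup K) := by
    rw [← Subgroup.index_ker ρ]
    exact Subgroup.card_mul_index ρ.ker
  rw [← h1]
  refine Nat.mul_le_mul_left _ ?_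
  have hfin : FiniteDimensional k (IsLocalRing.ResidueField Q.O) := residue_finite_ext hK Q
  have hfin2 : FiniteDimensional (resMap he).fieldRange (IsLocalRing.ResidueField Q.O) :=
    FiniteDimensional.right k _ _
  -- range ρ injects in the automorphism group over the image of `F_P`
  have hcomm : ∀ r : ρ.range, ∀ a : (resMap he).fieldRange,
      r.1 (algebraMap (resMap he).fieldRange (IsLocalRing.ResidueField Q.O) a) =
        algebraMap (resMap he).fieldRange (IsLocalRing.ResidueField Q.O) a := by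
    rintro ⟨r, ⟨σ, rfl⟩⟩ ⟨a, ⟨b, rfl⟩⟩
    obtain ⟨b, rfl⟩ := IsLocalRing.residue_surjective b
    show ρ σ (resMap he (IsLocalRing.residue P.O b)) = resMap he (IsLocalRing.residue P.O b)
    rw [resMap_residue]
    show IsLocalRing.residue Q.O (σ • (ringIncl he b)) = _
    congr 1
    apply Subtype.ext
    show σ.1 (algebraMap K K' (b : K)) = algebraMap K K' (b : K)
    exact σ.1.commutes _
  let Φ : ρ.range → (IsLocalRing.ResidueField Q.O ≃ₐ[(resMap he).fieldRange]
      IsLocalRing.ResidueField Q.O) := fun r => AlgEquiv.ofRingEquiv (f := r.1) (hcomm r)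
  have hΦ : Function.Injective Φ := by
    intro r r' h
    apply Subtype.ext
    ext x
    exact congrArg (fun f : (IsLocalRing.ResidueField Q.O ≃ₐ[(resMap he).fieldRange]
      IsLocalRing.ResidueField Q.O) => f x) h
  have h2 := Nat.card_le_card_of_injective Φ hΦ
  refine h2.trans ?_
  rw [Nat.card_eq_fintype_card]
  exact AlgEquiv.card_le

end Inertia2

open FunFld Polynomial Module IntermediateField

section Inertia3

variable {k T K' : Type*} [Field k] [Field T] [Field K'] [Algebra k T] [Algebra T K']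
  [Algebra k K'] [IsScalarTower k T K'] [FiniteDimensional T K'] [IsGalois T K']

attribute [-instance] IsLocalRing.instModuleResidueFieldOfAlgebra in
/-- if the whole Galois group is inertia at `Q`, the residue field does not grow -/
theorem resMap_surjective_of_inertia (Q : Place k K')
    [Algebra.IsSeparable k (IsLocalRing.ResidueField Q.O)] {Q_T : Place k T} {e' : ℕ}
    (he' : IsOverWith Q Q_T e') (hI : ∀ τ : K' ≃ₐ[T] K', InG Q 1 τ) :
    Function.Surjective (resMap he') := by
  classical
  intro abar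
  obtain ⟨α, rfl⟩ := IsLocalRing.residue_surjective abar
  set A : IntermediateField k (IsLocalRing.ResidueField Q.O) := (resMap he').fieldRange with hA
  have hmemO : ∀ σ : K' ≃ₐ[T] K', Q.1 (σ (α : K')) ≤ 1 := fun σ =>
    inG_apply_le_one Q (hI σ) α.2
  let gO : Polynomial Q.O := ∏ σ : K' ≃ₐ[T] K', (X - C (⟨σ (α : K'), hmemO σ⟩ : Q.O))
  have hres : gO.map (IsLocalRing.residue Q.O) =
      (X - C (IsLocalRing.residue Q.O α)) ^ Fintype.card (K' ≃ₐ[T] K') := by
    rw [Polynomial.map_prod]
    have : ∀ σ : K' ≃ₐ[T] K', (X - C (⟨σ (α : K'), hmemO σ⟩ : Q.O)).map (IsLocalRing.residue Q.O) =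
        X - C (IsLocalRing.residue Q.O α) := by
      intro σ
      rw [Polynomial.map_sub, Polynomial.map_X, Polynomial.map_C]
      congr 2
      rw [residue_eq_iff]
      refine lt_of_le_of_lt (hI σ α α.2) ?_
      rw [← WithZero.exp_zero, WithZero.exp_lt_exp]; omega
    rw [Finset.prod_congr rfl (fun σ _ => this σ), Finset.prod_const, Finset.card_univ]
  have hsub : gO.map Q.O.subtype = ∏ σ : K' ≃ₐ[T] K', (X - C (σ (α : K'))) := by
    rw [Polynomial.map_prod]
    refine Finset.prod_congr rfl (fun σ _ => ?_)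
    rw [Polynomial.map_sub, Polynomial.map_X, Polynomial.map_C]
    rfl
  -- coefficients lie in `T`
  have hcoeffT : ∀ j : ℕ, ((gO.coeff j : Q.O) : K') ∈ Set.range (algebraMap T K') := by
    intro j
    rw [IsGalois.mem_range_algebraMap_iff_fixed]
    intro τ
    have h1 : ((gO.coeff j : Q.O) : K') = (gO.map Q.O.subtype).coeff j := by
      rw [Polynomial.coeff_map]; rfl
    rw [h1, hsub]
    have h2 : τ ((∏ σ : K' ≃ₐ[T] K', (X - C (σ (α : K')))).coeff j) =
        ((∏ σ : K' ≃ₐ[T] K', (X - C (σ (α : K')))).map (τ : K' →+* K')).coeff j := by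
      rw [Polynomial.coeff_map]; rfl
    rw [h2, Polynomial.map_prod]
    congr 1
    refine Fintype.prod_equiv (Equiv.mulLeft τ) _ _ (fun σ => ?_)
    rw [Polynomial.map_sub, Polynomial.map_X, Polynomial.map_C]
    rfl
  -- coefficients of the reduced polynomial lie in `A`
  have hcoeffA : ∀ j : ℕ, ((X - C (IsLocalRing.residue Q.O α)) ^
      Fintype.card (K' ≃ₐ[T] K')).coeff j ∈ (algebraMap A (IsLocalRing.ResidueField Q.O)).range := by
    intro j
    rw [← hres, Polynomial.coeff_map]
    obtain ⟨c, hc⟩ := hcoeffT j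
    have hc1 : Q_T.1 c ≤ 1 := by
      rw [← isOverWith_le_one_iff he', hc]; exact (gO.coeff j).2
    refine ⟨⟨resMap he' (IsLocalRing.residue Q_T.O ⟨c, hc1⟩), ⟨_, rfl⟩⟩, ?_⟩
    show resMap he' (IsLocalRing.residue Q_T.O ⟨c, hc1⟩) = _
    rw [resMap_residue]
    congr 1
    apply Subtype.ext
    exact hc
  have hlift : ((X - C (IsLocalRing.residue Q.O α)) ^ Fintype.card (K' ≃ₐ[T] K')) ∈
      Polynomial.lifts (algebraMap A (IsLocalRing.ResidueField Q.O)) := by
    rw [Polynomial.lifts_iff_coeff_lifts]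
    intro j
    exact hcoeffA j
  obtain ⟨h, hh⟩ := hlift
  rw [Polynomial.coe_mapRingHom] at hh
  have hn : Fintype.card (K' ≃ₐ[T] K') ≠ 0 := Fintype.card_ne_zero
  have hroot : aeval (IsLocalRing.residue Q.O α) h = 0 := by
    rw [aeval_def, ← eval_map, hh, eval_pow, eval_sub, eval_X, eval_C, sub_self, zero_pow hn]
  have hsepA : Algebra.IsSeparable A (IsLocalRing.ResidueField Q.O) :=
    Algebra.isSeparable_tower_top_of_isSeparable k A (IsLocalRing.ResidueField Q.O)
  set p := minpoly A (IsLocalRing.residue Q.O α) with hp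
  have hpsep : p.Separable := Algebra.IsSeparable.isSeparable A _
  have hpdvd : p ∣ h := minpoly.dvd A _ hroot
  have hpdvd' : p.map (algebraMap A (IsLocalRing.ResidueField Q.O)) ∣
      (X - C (IsLocalRing.residue Q.O α)) ^ Fintype.card (K' ≃ₐ[T] K') := by
    rw [← hh]; exact Polynomial.map_dvd _ hpdvd
  have hsq : Squarefree (p.map (algebraMap A (IsLocalRing.ResidueField Q.O))) :=
    (hpsep.map).squarefree
  rw [hsq.dvd_pow_iff_dvd hn] at hpdvd'
  have hdeg : p.natDegree ≤ 1 := by
    have h1 := Polynomial.natDegree_le_of_dvd hpdvd' (X_sub_C_ne_zero _)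
    rwa [natDegree_map, natDegree_X_sub_C] at h1
  have hint : IsIntegral A (IsLocalRing.residue Q.O α) :=
    (Algebra.IsSeparable.isSeparable A (IsLocalRing.residue Q.O α)).isIntegral
  have hdeg1 : p.natDegree = 1 := le_antisymm hdeg (minpoly.natDegree_pos hint)
  obtain ⟨⟨a, ⟨b, hb⟩⟩, ha⟩ := (minpoly.natDegree_eq_one_iff).1 hdeg1
  refine ⟨b, ?_⟩
  rw [← ha]
  exact hb

end Inertia3

end Groth.Agent.Helper17.FF
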