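import Mathlib
import Groth.Agent.Lib.Helper17.FFIn2
import Groth.Agent.Lib.Helper17.FFWk
namespace Groth.Agent.Helper17.FF

open FunFld Polynomial Module IntermediateField

section Inertia4

variable {k K K' : Type*} [Field k] [Field K] [Field K'] [Algebra k K] [Algebra K K']
  [Algebra k K'] [IsScalarTower k K K'] [FiniteDimensional K K'] [IsGalois K K']

lemma isOverWith_dvd {T : Type*} [Field T] [Algebra K T] [Algebra T K'] [IsScalarTower K T K']
    [Algebra k T]
    {Q : Place k K'} {P : Place k K} {Q_T : Place k T} {e e' : ℕ} (he : IsOverWith Q P e)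
    (he' : IsOverWith Q Q_T e') : e' ∣ e := by
  obtain ⟨x, hx⟩ := P.2.2 (WithZero.exp (-1 : ℤ))
  have h1 := isOverWith_ord he x
  have h2 := isOverWith_ord he' (algebraMap K T x)
  rw [← IsScalarTower.algebraMap_apply K T K'] at h2
  have h3 : P.ord x = 1 := by
    rw [Place.ord, hx, WithZero.log_exp]; ring
  rw [h2, h3, mul_one] at h1
  exact Int.natCast_dvd_natCast.1 ⟨_, h1.symm⟩

lemma isScalarTower_intermediate (T : IntermediateField K K') : IsScalarTower k T K' :=
  IsScalarTower.of_algebraMap_eq (fun _ => rfl)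

theorem card_ramGroup_one_le (hK : IsFunctionField k K) {Q : Place k K'} {P : Place k K} {e : ℕ}
    (he : IsOverWith Q P e) [Algebra.IsSeparable k (IsLocalRing.ResidueField Q.O)] :
    Nat.card (ramGroup (K := K) Q 1) ≤ e := by
  classical
  set H := ramGroup (K := K) Q 1 with hH
  set T := IntermediateField.fixedField H with hTdef
  have hT : IsWeakFF k T := isWeakFF_of_finite (K := K) hK
  have : IsScalarTower k T K' := isScalarTower_intermediate T
  obtain ⟨Q_T, e', he'⟩ := wk_exists_isOverWith (M := T) (L := K') hT Q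
  have hI : ∀ τ : K' ≃ₐ[T] K', InG Q 1 τ := by
    intro τ
    have hmem : τ.restrictScalars K ∈ H := by
      have h0 := IntermediateField.fixingSubgroup_fixedField H
      rw [← h0, IntermediateField.mem_fixingSubgroup_iff]
      intro x hx
      exact τ.commutes ⟨x, hx⟩
    exact hmem
  have huniq : ∀ Q' : Place k K', IsOver Q' Q_T → Q' = Q := by
    intro Q' hQ'
    obtain ⟨τ, rfl⟩ := exists_galPlace_of_isOver (K := T) ⟨e', he'⟩ hQ'
    exact galPlace_eq_of_inG Q (hI τ)
  obtain ⟨hfin, hsum⟩ := wk_sum_ramIdx_mul_deg (L := K') hT Q_T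
  have h1 := hsum {Q} (fun Q' => by
    rw [Finset.mem_singleton]
    exact ⟨fun h => h ▸ ⟨e', he'⟩, huniq Q'⟩)
  rw [Finset.sum_singleton, ramIdx_eq he'] at h1
  have hdeg : Q_T.deg = Q.deg := by
    have hsurj := resMap_surjective_of_inertia Q he' hI
    have hinj : Function.Injective (resMap he') := (resMap he').toRingHom.injective
    exact (LinearEquiv.ofBijective (resMap he').toLinearMap ⟨hinj, hsurj⟩).finrank_eq
  have hcard : finrank T K' = Nat.card H := IntermediateField.finrank_fixedField_eq_card H
  have hpos : 0 < Q.deg := deg_pos_ext hK Q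
  rw [hdeg, hcard] at h1
  have h2 : e' = Nat.card H := Nat.eq_of_mul_eq_mul_right hpos h1
  rw [← h2]
  exact Nat.le_of_dvd (isOverWith_pos he) (isOverWith_dvd he he')

attribute [-instance] IsLocalRing.instModuleResidueFieldOfAlgebra in
theorem card_inertia_eq_ramIdx (hK : IsFunctionField k K) {Q : Place k K'} {P : Place k K} {e : ℕ}
    (he : IsOverWith Q P e) [Algebra.IsSeparable k (IsLocalRing.ResidueField Q.O)] :
    Nat.card (Q.O.inertiaSubgroup K) = e := by
  have h1 := card_ramGroup_one_le hK he
  rw [← card_inertia_eq] at h1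
  refine le_antisymm h1 ?_
  have h2 := card_decomp_le hK he
  have h3 := card_decomp_mul_deg hK he
  have h4 := deg_eq_mul_finrank_fieldRange he
  have hpos : 0 < Q.deg := deg_pos_ext hK Q
  have h5 : e * Q.deg ≤ Nat.card (Q.O.inertiaSubgroup K) * Q.deg := by
    rw [← h3]
    calc Nat.card (Q.O.decompositionSubgroup K) * P.deg
        ≤ (Nat.card (Q.O.inertiaSubgroup K) *
          finrank (resMap he).fieldRange (IsLocalRing.ResidueField Q.O)) * P.deg :=
          Nat.mul_le_mul_right _ h2
      _ = Nat.card (Q.O.inertiaSubgroup K) * Q.deg := by rw [h4]; ring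
  exact Nat.le_of_mul_le_mul_right h5 hpos

end Inertia4

end Groth.Agent.Helper17.FF
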