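import Mathlib
import Groth.Agent.Lib.Helper17.FFIn3
namespace Groth.Agent.Helper17.FF

open FunFld Polynomial Module IntermediateField

section WkInertia

variable {k M L : Type*} [Field k] [Field M] [Field L] [Algebra k M] [Algebra M L]
  [Algebra k L] [IsScalarTower k M L] [FiniteDimensional M L] [IsGalois M L]

set_option maxHeartbeats 400000 in
theorem wk_sep_up (hM : IsWeakFF k M) (Q : Place k L)
    [hs : Algebra.IsSeparable k (IsLocalRing.ResidueField Q.O)] :
    Algebra.IsSeparable (algebraicClosure k M)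
      (IsLocalRing.ResidueField (placeUp (algebraicClosure k M) Q).O) := by
  let a1 : Algebra k (IsLocalRing.ResidueField (placeUp (algebraicClosure k M) Q).O) :=
    Place.algRes Q
  have hs' : Algebra.IsSeparable k
    (IsLocalRing.ResidueField (placeUp (algebraicClosure k M) Q).O) := hs
  have : IsScalarTower k (algebraicClosure k M)
      (IsLocalRing.ResidueField (placeUp (algebraicClosure k M) Q).O) :=
    IsScalarTower.of_algebraMap_eq (fun c => congrArg (IsLocalRing.residue Q.O)
      (Subtype.ext (IsScalarTower.algebraMap_apply k (algebraicClosure k M) L c)))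
  exact Algebra.isSeparable_tower_top_of_isSeparable k (algebraicClosure k M)
    (IsLocalRing.ResidueField (placeUp (algebraicClosure k M) Q).O)

theorem wk_card_inertia_eq_ramIdx (hM : IsWeakFF k M) {Q : Place k L} {P : Place k M} {e : ℕ}
    (he : IsOverWith Q P e) [hs : Algebra.IsSeparable k (IsLocalRing.ResidueField Q.O)] :
    Nat.card (Q.O.inertiaSubgroup M) = e := by
  have he' : IsOverWith (placeUp (algebraicClosure k M) Q)
    (placeUp (algebraicClosure k M) P) e := he
  have hsep := wk_sep_up hM Q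
  have h := @card_inertia_eq_ramIdx (algebraicClosure k M) M L _ _ _ _ _ _ _ _ _ hM.ff
    (placeUp (algebraicClosure k M) Q) (placeUp (algebraicClosure k M) P) e he' hsep
  exact h

end WkInertia

open FunFld Polynomial Module IntermediateField

section InertiaField

lemma dvd_of_exp_mem_pow_range {a b : ℕ} (hb : 0 < b)
    (h : ∃ γ : WithZero (Multiplicative ℤ), γ ^ b = WithZero.exp (-(a : ℤ))) : b ∣ a := by
  obtain ⟨γ, hγ⟩ := h
  have hγ0 : γ ≠ 0 := by
    rintro rfl
    rw [zero_pow hb.ne'] at hγ
    exact WithZero.exp_ne_zero hγ.symm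
  obtain ⟨m, rfl⟩ : ∃ m : ℤ, γ = WithZero.exp m := ⟨WithZero.log γ, (WithZero.exp_log hγ0).symm⟩
  rw [← WithZero.exp_nsmul, WithZero.exp_inj, nsmul_eq_mul] at hγ
  exact Int.natCast_dvd_natCast.1 ⟨-m, by linarith⟩

variable {k K K' : Type*} [Field k] [Field K] [Field K'] [Algebra k K] [Algebra K K']
  [Algebra k K'] [IsScalarTower k K K']

lemma range_comap_eq {Q : Place k K'} {P : Place k K} {e : ℕ} (he : IsOverWith Q P e) :
    Set.range (Q.1.comap (algebraMap K K')) =
      Set.range (fun γ : WithZero (Multiplicative ℤ) => γ ^ e) := by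
  ext γ
  constructor
  · rintro ⟨x, rfl⟩
    exact ⟨P.1 x, (he x).symm⟩
  · rintro ⟨δ, rfl⟩
    obtain ⟨x, rfl⟩ := P.2.2 δ
    exact ⟨x, he x⟩

lemma range_pow_eq_iff {a b : ℕ} (ha : 0 < a) (hb : 0 < b) :
    Set.range (fun γ : WithZero (Multiplicative ℤ) => γ ^ a) =
      Set.range (fun γ : WithZero (Multiplicative ℤ) => γ ^ b) ↔ a = b := by
  constructor
  · intro h
    apply Nat.dvd_antisymm
    · have h1 : WithZero.exp (-(b : ℤ)) ∈ Set.range (fun γ : WithZero (Multiplicative ℤ) => γ ^ a) := by
        rw [h]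
        exact ⟨WithZero.exp (-1 : ℤ), by
          show WithZero.exp (-1 : ℤ) ^ b = _
          rw [← WithZero.exp_nsmul]; simp⟩
      exact dvd_of_exp_mem_pow_range ha h1
    · have h1 : WithZero.exp (-(a : ℤ)) ∈ Set.range (fun γ : WithZero (Multiplicative ℤ) => γ ^ b) := by
        rw [← h]
        exact ⟨WithZero.exp (-1 : ℤ), by
          show WithZero.exp (-1 : ℤ) ^ a = _
          rw [← WithZero.exp_nsmul]; simp⟩
      exact dvd_of_exp_mem_pow_range hb h1
  · rintro rfl; rfl

variable [FiniteDimensional K K'] [IsGalois K K']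

lemma map_inertia_eq_ramGroup (Q : Place k K') :
    (Q.O.inertiaSubgroup K).map (Q.O.decompositionSubgroup K).subtype =
      ramGroup (K := K) Q 1 := by
  ext σ
  rw [Subgroup.mem_map, mem_ramGroup]
  constructor
  · rintro ⟨τ, hτ, rfl⟩
    exact (mem_inertia_iff Q τ).1 hτ
  · intro h
    exact ⟨⟨σ, (mem_decomp_iff σ Q).2 (galPlace_eq_of_inG Q h)⟩, (mem_inertia_iff Q _).2 h, rfl⟩

theorem unramified_iff_le_inertiaField (hK : IsFunctionField k K) (Q : Place k K')
    [Algebra.IsSeparable k (IsLocalRing.ResidueField Q.O)] (E : IntermediateField K K') :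
    Set.range (Q.1.comap (algebraMap E K')) = Set.range (Q.1.comap (algebraMap K K')) ↔
      E ≤ IntermediateField.fixedField
        ((Q.O.inertiaSubgroup K).map (Q.O.decompositionSubgroup K).subtype) := by
  classical
  rw [map_inertia_eq_ramGroup, IntermediateField.le_iff_le]
  have : Algebra.IsAlgebraic K K' := Algebra.IsAlgebraic.of_finite K K'
  obtain ⟨P, e, he⟩ := exists_isOverWith hK Q
  have hE : IsWeakFF k E := isWeakFF_of_finite (K := K) hK
  have : IsScalarTower k E K' := isScalarTower_intermediate E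
  obtain ⟨Q_E, e_E, heE⟩ := wk_exists_isOverWith (M := E) (L := K') hE Q
  have h1 : Nat.card (ramGroup (K := K) Q 1) = e := by
    rw [← card_inertia_eq]; exact card_inertia_eq_ramIdx hK he
  have h2 : Nat.card (ramGroup (K := E) Q 1) = e_E := by
    rw [← card_inertia_eq]; exact wk_card_inertia_eq_ramIdx hE heE
  have h3 : Nat.card (ramGroup (K := E) Q 1) =
      Nat.card ↥(ramGroup (K := K) Q 1 ⊓ E.fixingSubgroup) := by
    apply Nat.card_congr
    refine ⟨fun τ => ⟨τ.1.restrictScalars K, ⟨τ.2, fun x => τ.1.commutes x⟩⟩,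
      fun σ => ⟨IntermediateField.fixingSubgroupEquiv E ⟨σ.1, σ.2.2⟩, σ.2.1⟩,
      fun τ => ?_, fun σ => ?_⟩
    · apply Subtype.ext
      ext x
      rfl
    · apply Subtype.ext
      ext x
      rfl
  rw [range_comap_eq he, range_comap_eq heE,
    range_pow_eq_iff (isOverWith_pos heE) (isOverWith_pos he)]
  constructor
  · intro h
    have h4 : Nat.card ↥(ramGroup (K := K) Q 1 ⊓ E.fixingSubgroup) =
        Nat.card (ramGroup (K := K) Q 1) := by rw [← h3, h2, h, h1]
    have h5 : ramGroup (K := K) Q 1 ⊓ E.fixingSubgroup = ramGroup (K := K) Q 1 :=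
      Subgroup.eq_of_le_of_card_ge inf_le_left h4.ge
    rw [← h5]; exact inf_le_right
  · intro h
    have h5 : ramGroup (K := K) Q 1 ⊓ E.fixingSubgroup = ramGroup (K := K) Q 1 := inf_eq_left.2 h
    rw [← h2, h3, h5, h1]

end InertiaField

end Groth.Agent.Helper17.FF
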