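import Mathlib
import Groth.Prelude.Def_LocRes
import Groth.Agent.Lib.Helper17.FFIn4
import Groth.Agent.Lib.Helper17.FFLoc3
namespace Groth.Agent.Helper17.FF

universe u v w v'

open FunFld Module LaurentSeries HahnSeries Polynomial IntermediateField

section HilA

variable {k : Type u} {K : Type v} [Field k] [Field K] [Algebra k K] {F : Type w} [Field F]
  [Algebra k F]

lemma coeff_zero_eq_zero_of_lt {P : Place k K} {φ : K →ₐ[k] F⸨X⸩}
    (hφ : LocRes.IsExpansionAt P.1 φ) {f : K} (hf : P.1 f < 1) : (φ f).coeff 0 = 0 := by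
  have h1 : Valued.v (φ f) ≤ WithZero.exp (-(1 : ℤ)) := by
    rw [hφ.1]
    have := (val_lt_exp_iff_le P f 0).1 (by rw [WithZero.exp_zero]; exact hf)
    simpa using this
  exact lval_le_exp_iff_coeff.1 h1 0 (by norm_num)

/-- the constant-coefficient map on the valuation ring -/
noncomputable def coeffZeroHom (P : Place k K) (φ : K →ₐ[k] F⸨X⸩)
    (hφ : LocRes.IsExpansionAt P.1 φ) : P.O →+* F where
  toFun z := (φ (z : K)).coeff 0
  map_one' := by
    show (φ ((1 : P.O) : K)).coeff 0 = 1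
    rw [OneMemClass.coe_one, map_one, HahnSeries.coeff_one, if_pos rfl]
  map_mul' x y := by
    show (φ ((x * y : P.O) : K)).coeff 0 = _
    rw [MulMemClass.coe_mul, map_mul]
    have := coeff_mul_of_val_le (a := 0) (b := 0) (f := φ x) (g := φ y)
      (by rw [hφ.1, neg_zero, WithZero.exp_zero]; exact x.2)
      (by rw [hφ.1, neg_zero, WithZero.exp_zero]; exact y.2)
    simpa using this
  map_zero' := by
    show (φ ((0 : P.O) : K)).coeff 0 = 0
    rw [ZeroMemClass.coe_zero, map_zero, HahnSeries.coeff_zero]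
  map_add' x y := by
    show (φ ((x + y : P.O) : K)).coeff 0 = _
    rw [AddMemClass.coe_add, map_add, HahnSeries.coeff_add]

instance isLocalHom_coeffZeroHom (P : Place k K) (φ : K →ₐ[k] F⸨X⸩)
    (hφ : LocRes.IsExpansionAt P.1 φ) : IsLocalHom (coeffZeroHom P φ hφ) := by
  constructor
  intro a ha
  rw [isUnit_iff_ne_zero] at ha
  by_contra hnu
  have hmem : a ∈ IsLocalRing.maximalIdeal P.O := (IsLocalRing.mem_maximalIdeal a).2 hnu
  rw [mem_maximalIdeal_iff] at hmem
  exact ha (coeff_zero_eq_zero_of_lt hφ hmem)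

attribute [-instance] IsLocalRing.instModuleResidueFieldOfAlgebra IsLocalRing.ResidueField.algebra in
theorem isSeparable_residue_of_expansion (P : Place k K) (φ : K →ₐ[k] F⸨X⸩)
    (hφ : LocRes.IsExpansionAt P.1 φ) [Algebra.IsSeparable k F] :
    Algebra.IsSeparable k (IsLocalRing.ResidueField P.O) := by
  haveI := isLocalHom_coeffZeroHom P φ hφ
  let g : IsLocalRing.ResidueField P.O →ₐ[k] F :=
    { IsLocalRing.ResidueField.lift (coeffZeroHom P φ hφ) with
      commutes' := fun c => by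
        show IsLocalRing.ResidueField.lift (coeffZeroHom P φ hφ)
          (IsLocalRing.residue P.O (algebraMap k P.O c)) = _
        rw [IsLocalRing.ResidueField.lift_residue_apply]
        show (φ (algebraMap k K c)).coeff 0 = _
        rw [LocRes.map_algebraMap]
        simp }
  exact Algebra.IsSeparable.of_algHom k F g

attribute [-instance] IsLocalRing.instModuleResidueFieldOfAlgebra IsLocalRing.ResidueField.algebra in
/-- the coefficient field of an expansion at a place with finite residue field is finite -/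
theorem finiteDimensional_of_expansion' (P : Place k K)
    (hfinP : Module.Finite k (IsLocalRing.ResidueField P.O))
    (φ : K →ₐ[k] F⸨X⸩) (hφ : LocRes.IsExpansionAt P.1 φ) : FiniteDimensional k F := by
  classical
  let b := Module.finBasis k (IsLocalRing.ResidueField P.O)
  have hlift : ∀ i, ∃ β : P.O, IsLocalRing.residue P.O β = b i :=
    fun i => IsLocalRing.residue_surjective _
  choose β hβ using hlift
  have hker : ∀ f : K, P.1 f < 1 → (φ f).coeff 0 = 0 := fun f hf =>
    coeff_zero_eq_zero_of_lt hφ hf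
  rw [FiniteDimensional, Module.finite_def]
  have htop : (⊤ : Submodule k F) =
      Submodule.span k (Set.range fun i => (φ (β i : K)).coeff 0) := by
    symm
    rw [eq_top_iff]
    intro a _
    obtain ⟨f, hf1, hfa⟩ := hφ.2.1 a
    set c := b.repr (IsLocalRing.residue P.O ⟨f, hf1⟩) with hc
    set g : P.O := ⟨f, hf1⟩ - ∑ i, algebraMap k P.O (c i) * β i with hg
    have hres : IsLocalRing.residue P.O g = 0 := by
      rw [hg, map_sub, map_sum]
      have h1 : ∀ i, IsLocalRing.residue P.O (algebraMap k P.O (c i) * β i) = c i • b i := by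
        intro i
        rw [map_mul, hβ, Algebra.smul_def]
        rfl
      simp only [h1]
      rw [hc, b.sum_repr, sub_self]
    rw [IsLocalRing.residue_eq_zero_iff, mem_maximalIdeal_iff] at hres
    have hg0 := hker (g : K) hres
    have hfeq : f = (g : K) + ∑ i, algebraMap k K (c i) * (β i : K) := by
      rw [hg]
      push_cast
      have : ∀ i, ((algebraMap k P.O (c i) : P.O) : K) = algebraMap k K (c i) := fun i => rfl
      simp only [this]
      ring
    rw [← hfa, hfeq, map_add, map_sum, HahnSeries.coeff_add, hg0, zero_add]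
    have h2 : (∑ i, φ (algebraMap k K (c i) * (β i : K))).coeff 0 =
        ∑ i, c i • (φ (β i : K)).coeff 0 := by
      rw [← HahnSeries.coeff.addMonoidHom_apply, map_sum]
      refine Finset.sum_congr rfl fun i _ => ?_
      rw [HahnSeries.coeff.addMonoidHom_apply, map_mul, LocRes.map_algebraMap,
        HahnSeries.C_mul_eq_smul, HahnSeries.coeff_smul, Algebra.smul_def, Algebra.smul_def]
      rfl
    rw [h2]
    exact Submodule.sum_mem _ fun i _ =>
      Submodule.smul_mem _ _ (Submodule.subset_span ⟨i, rfl⟩)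
  rw [htop]
  exact Submodule.fg_span (Set.finite_range _)

end HilA

section HilU

open scoped KaehlerDifferential

variable {k : Type u} {K : Type v} {K' : Type v'} [Field k] [Field K] [Field K'] [Algebra k K]
  [Algebra K K'] [Algebra k K'] [IsScalarTower k K K']

attribute [-instance] IsLocalRing.instModuleResidueFieldOfAlgebra IsLocalRing.ResidueField.algebra in
/-- a separable residue class gives `m(a) ∈ 𝔪`, `m'(a)` a unit -/
lemma exists_sep_poly (Q : Place k K') [Algebra.IsSeparable k (IsLocalRing.ResidueField Q.O)]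
    {a : K'} (ha : Q.1 a ≤ 1) :
    ∃ m : k[X], Q.1 (aeval a m) < 1 ∧ Q.1 (aeval a (derivative m)) = 1 := by
  set abar := IsLocalRing.residue Q.O ⟨a, ha⟩ with habar
  have hsep : (minpoly k abar).Separable := Algebra.IsSeparable.isSeparable k abar
  refine ⟨minpoly k abar, ?_, ?_⟩
  · have h1 : IsLocalRing.residue Q.O (eval₂ (algebraMap k Q.O) ⟨a, ha⟩ (minpoly k abar)) = 0 := by
      rw [residue_eval₂_O]; exact minpoly.aeval k abar
    rw [IsLocalRing.residue_eq_zero_iff, mem_maximalIdeal_iff, coe_eval₂_O] at h1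
    rw [aeval_def]; exact h1
  · have h1 : IsLocalRing.residue Q.O
        (eval₂ (algebraMap k Q.O) ⟨a, ha⟩ (derivative (minpoly k abar))) ≠ 0 := by
      rw [residue_eval₂_O]; exact hsep.aeval_derivative_ne_zero (minpoly.aeval k abar)
    rw [Ne, IsLocalRing.residue_eq_zero_iff, mem_maximalIdeal_iff, coe_eval₂_O, not_lt] at h1
    have h2 : Q.1 (eval₂ (algebraMap k K') a (derivative (minpoly k abar))) ≤ 1 := by
      have := (eval₂ (algebraMap k Q.O) ⟨a, ha⟩ (derivative (minpoly k abar))).2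
      rw [← coe_eval₂_O Q _ ⟨a, ha⟩]; exact this
    rw [aeval_def]; exact le_antisymm h2 h1

attribute [-instance] IsLocalRing.instModuleResidueFieldOfAlgebra IsLocalRing.ResidueField.algebra in
/-- derivatives with respect to a parameter of the unramified part stay integral -/
theorem val_der_le_one (Q : Place k K') [Algebra.IsSeparable k (IsLocalRing.ResidueField Q.O)]
    (T : IntermediateField K K') {t' : K'} (ht'T : t' ∈ T) (ht'0 : t' ≠ 0)
    (ht'1 : Q.1 t' < 1)
    (hTval : ∀ z ∈ T, Q.1 z < 1 → Q.1 z ≤ Q.1 t')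
    (δ : Derivation k K' K') (hδt : δ t' = 1)
    {C : WithZero (Multiplicative ℤ)} (hC : ∀ z, Q.1 z ≤ 1 → Q.1 (δ z) ≤ C) :
    ∀ a ∈ T, Q.1 a ≤ 1 → Q.1 (δ a) ≤ 1 := by
  have hQt0 : Q.1 t' ≠ 0 := (Valuation.ne_zero_iff _).2 ht'0
  have hstep : ∀ a ∈ T, Q.1 a ≤ 1 →
      ∃ a₁ ∈ T, Q.1 a₁ ≤ 1 ∧ Q.1 (δ a) ≤ max 1 (Q.1 t' * Q.1 (δ a₁)) := by
    intro a haT ha
    obtain ⟨m, hm1, hm2⟩ := exists_sep_poly Q ha
    have hmT : aeval a m ∈ T := by
      rw [aeval_eq_sum_range]
      refine sum_mem fun i _ => ?_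
      rw [Algebra.smul_def, IsScalarTower.algebraMap_apply k K K']
      exact T.mul_mem (T.algebraMap_mem _) (pow_mem haT i)
    set a₁ := aeval a m / t' with ha₁
    have ha₁T : a₁ ∈ T := T.div_mem hmT ht'T
    have ha₁le : Q.1 a₁ ≤ 1 := by
      rw [ha₁, map_div₀]
      exact (div_le_one₀ (zero_lt_iff.2 hQt0)).2 (hTval _ hmT hm1)
    refine ⟨a₁, ha₁T, ha₁le, ?_⟩
    have hprod : aeval a m = t' * a₁ := by rw [ha₁]; field_simp
    have h1 : δ (aeval a m) = aeval a (derivative m) • δ a := Derivation.comp_aeval_eq a δ m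
    have h2 : δ (t' * a₁) = t' • δ a₁ + a₁ • δ t' := δ.leibniz t' a₁
    rw [hprod, h2, hδt, smul_eq_mul, smul_eq_mul, smul_eq_mul, mul_one] at h1
    have h3 : Q.1 (δ a) = Q.1 (t' * δ a₁ + a₁) := by
      rw [h1, map_mul, hm2, one_mul]
    rw [h3]
    refine (Q.1.map_add _ _).trans ?_
    rw [map_mul]
    exact max_le (le_max_right _ _) (ha₁le.trans (le_max_left _ _))
  have hind : ∀ n : ℕ, ∀ a ∈ T, Q.1 a ≤ 1 → Q.1 (δ a) ≤ max 1 (Q.1 t' ^ n * C) := by
    intro n
    induction n with
    | zero =>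
      intro a haT ha
      rw [pow_zero, one_mul]
      exact (hC a ha).trans (le_max_right _ _)
    | succ n ih =>
      intro a haT ha
      obtain ⟨a₁, ha₁T, ha₁, hle⟩ := hstep a haT ha
      refine hle.trans (max_le (le_max_left _ _) ?_)
      have := ih a₁ ha₁T ha₁
      calc Q.1 t' * Q.1 (δ a₁) ≤ Q.1 t' * max 1 (Q.1 t' ^ n * C) := mul_le_mul' le_rfl this
        _ ≤ max 1 (Q.1 t' ^ (n + 1) * C) := by
          rcases le_total 1 (Q.1 t' ^ n * C) with h | h
          · rw [max_eq_right h, pow_succ', mul_assoc]; exact le_max_right _ _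
          · rw [max_eq_left h, mul_one]; exact ht'1.le.trans (le_max_left _ _)
  obtain ⟨n, hn⟩ : ∃ n : ℕ, Q.1 t' ^ n * C ≤ 1 := by
    have ht'e : Q.1 t' ≤ WithZero.exp (-(1 : ℤ)) := by
      have := (val_lt_exp_iff_le Q t' 0).1 (by rw [WithZero.exp_zero]; exact ht'1)
      simpa using this
    rcases eq_or_ne C 0 with hC0 | hC0
    · exact ⟨0, by rw [hC0, mul_zero]; exact zero_le⟩
    · obtain ⟨c, hc⟩ : ∃ c : ℤ, C = WithZero.exp c :=
        ⟨WithZero.log C, (WithZero.exp_log hC0).symm⟩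
      refine ⟨c.toNat, ?_⟩
      calc Q.1 t' ^ c.toNat * C ≤ WithZero.exp (-(1 : ℤ)) ^ c.toNat * C :=
            mul_le_mul' (pow_le_pow_left' ht'e _) le_rfl
        _ = WithZero.exp (c.toNat • (-(1 : ℤ)) + c) := by
            rw [hc, ← WithZero.exp_nsmul, ← WithZero.exp_add]
        _ ≤ 1 := by
            rw [← WithZero.exp_zero, WithZero.exp_le_exp]
            have := Int.self_le_toNat c
            simp only [nsmul_eq_mul]
            linarith
  intro a haT ha
  exact (hind n a haT ha).trans (max_le le_rfl hn)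

omit [IsScalarTower k K K'] [Algebra K K'] [Algebra k K] [Field K] in
/-- the derivation `d/dt` -/
lemma exists_derivation_eq (hfr : finrank K' (Ω[K'⁄k]) = 1) {t : K'}
    (ht : KaehlerDifferential.D k K' t ≠ 0) :
    ∃ δ : Derivation k K' K',
      ∀ z : K', KaehlerDifferential.D k K' z = δ z • KaehlerDifferential.D k K' t := by
  obtain ⟨ℓ, hℓ⟩ : ∃ ℓ : Ω[K'⁄k] →ₗ[K'] K', ℓ (KaehlerDifferential.D k K' t) ≠ 0 := by
    by_contra hcon
    push Not at hcon
    exact ht ((Module.forall_dual_apply_eq_zero_iff K' _).1 hcon)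
  set c₀ := ℓ (KaehlerDifferential.D k K' t) with hc₀
  refine ⟨(c₀⁻¹ • ℓ).compDer (KaehlerDifferential.D k K'), fun z => ?_⟩
  obtain ⟨c, hc⟩ := exists_smul_D_eq hfr ht z
  have : ((c₀⁻¹ • ℓ).compDer (KaehlerDifferential.D k K')) z = c := by
    show (c₀⁻¹ • ℓ) (KaehlerDifferential.D k K' z) = c
    rw [hc, map_smul, LinearMap.smul_apply, ← hc₀, smul_eq_mul, smul_eq_mul, inv_mul_cancel₀ hℓ,
      mul_one]
  rw [this, hc]

omit [IsScalarTower k K K'] [Algebra K K'] [Algebra k K] [Field K] in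
lemma der_unif_eq_one {t : K'} {δ : Derivation k K' K'}
    (hδ : ∀ z : K', KaehlerDifferential.D k K' z = δ z • KaehlerDifferential.D k K' t)
    (ht : KaehlerDifferential.D k K' t ≠ 0) : δ t = 1 := by
  have h1 : (δ t - 1) • KaehlerDifferential.D k K' t = 0 := by
    rw [sub_smul, one_smul, ← hδ t, sub_self]
  rcases smul_eq_zero.1 h1 with h | h
  · exact sub_eq_zero.1 h
  · exact absurd h ht

omit [IsScalarTower k K K'] [Algebra K K'] [Algebra k K] [Field K] in
lemma val_der_le {F' : Type w} [Field F'] [Algebra k F']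
    {w : Valuation K' (WithZero (Multiplicative ℤ))} {ψ : K' →ₐ[k] F'⸨X⸩}
    (hψ : LocRes.IsExpansionAt w ψ) {t : K'} {δ : Derivation k K' K'}
    (hδ : ∀ z : K', KaehlerDifferential.D k K' z = δ z • KaehlerDifferential.D k K' t)
    (h0 : LocRes.D F' (ψ t) ≠ 0) {z : K'} (hz : w z ≤ 1) :
    w (δ z) ≤ (Valued.v (LocRes.D F' (ψ t)))⁻¹ := by
  have h1 := dExp_eq ψ (hδ z)
  have h2 : Valued.v (LocRes.D F' (ψ z)) ≤ 1 := val_D_le_one (by rw [hψ.1]; exact hz)
  rw [h1, map_mul, hψ.1] at h2
  have h3 : Valued.v (LocRes.D F' (ψ t)) ≠ 0 := (Valuation.ne_zero_iff _).2 h0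
  calc w (δ z) = w (δ z) * Valued.v (LocRes.D F' (ψ t)) * (Valued.v (LocRes.D F' (ψ t)))⁻¹ := by
        rw [mul_assoc, mul_inv_cancel₀ h3, mul_one]
    _ ≤ 1 * (Valued.v (LocRes.D F' (ψ t)))⁻¹ := mul_le_mul' h2 le_rfl
    _ = _ := one_mul _

end HilU

end Groth.Agent.Helper17.FF
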