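import Mathlib
import Groth.Prelude.Def_LocRes
import Groth.Agent.Lib.Helper17.FFLoc2
import Groth.Agent.Lib.Helper17.FFRat
import Groth.Agent.Lib.Helper17.FFW2
import Groth.Agent.Lib.Helper17.FFGeom
namespace Groth.Agent.Helper17.FF

universe u v w v'

open FunFld Module LaurentSeries HahnSeries Polynomial

section ASDiff

open scoped KaehlerDifferential

variable {k : Type u} {K : Type v} [Field k] [Field K] [Algebra k K] [Algebra (RatFunc k) K]
  [IsScalarTower k (RatFunc k) K]

/-- the ramification index is at most the degree of the extension -/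
lemma isOverWith_le_finrank {k : Type u} {K₀ : Type v} {K : Type v'} [Field k] [Field K₀] [Field K]
    [Algebra k K₀] [Algebra K₀ K] [Algebra k K] [IsScalarTower k K₀ K] [FiniteDimensional K₀ K]
    (hK₀ : IsFunctionField k K₀) {P : Place k K} {p : Place k K₀} {e : ℕ}
    (he : IsOverWith P p e) : e ≤ finrank K₀ K := by
  classical
  obtain ⟨hfin, hsum⟩ := sum_ramIdx_mul_deg (K' := K) hK₀ p
  have h1 := hsum hfin.toFinset (fun Q => by rw [Set.Finite.mem_toFinset]; rfl)
  have hP : P ∈ hfin.toFinset := by rw [Set.Finite.mem_toFinset]; exact ⟨e, he⟩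
  have h2 : ramIdx P p * P.deg ≤ ∑ Q ∈ hfin.toFinset, ramIdx Q p * Q.deg :=
    Finset.single_le_sum (f := fun Q => ramIdx Q p * Q.deg) (fun _ _ => Nat.zero_le _) hP
  rw [h1, ramIdx_eq he] at h2
  have h3 := deg_le_of_isOver hK₀ (⟨e, he⟩ : IsOver P p)
  have h4 := deg_pos hK₀ p
  have h5 : e * p.deg ≤ finrank K₀ K * p.deg := le_trans (Nat.mul_le_mul_left e h3) h2
  exact Nat.le_of_mul_le_mul_right h5 h4

theorem artin_schreier_diffExp [PerfectField k]
    (hK : IsFunctionField k K) (hdeg : finrank (RatFunc k) K = 2) (h2 : ringChar k = 2)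
    [Algebra.IsSeparable (RatFunc k) K]
    (y : K) (f : RatFunc k) (heq : y ^ 2 + y = algebraMap (RatFunc k) K f)
    (p : Place k (RatFunc k)) (hp : 1 < p.1 f) (hodd : Odd (p.ord f))
    (P : Place k K) (e : ℕ) (he : IsOverWith P p e)
    {F F' : Type w} [Field F] [Algebra k F] [Field F'] [Algebra k F']
    (φ : RatFunc k →ₐ[k] F⸨X⸩) (hφ : LocRes.IsExpansionAt p.1 φ)
    (ψ : K →ₐ[k] F'⸨X⸩) (hψ : LocRes.IsExpansionAt P.1 ψ)
    (z : RatFunc k) (hz : LocRes.vDiff φ 1 z ≠ 0)
    (hz' : LocRes.vDiff ψ 1 (algebraMap (RatFunc k) K z) ≠ 0) :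
    LocRes.diffExp φ ψ e z = 1 - p.ord f := by
  classical
  haveI : FiniteDimensional (RatFunc k) K :=
    Module.finite_of_finrank_pos (by rw [hdeg]; norm_num)
  have hK₀ : IsFunctionField k (RatFunc k) := isFunctionField_ratFunc
  have hfr : finrank (RatFunc k) (Ω[RatFunc k⁄k]) = 1 :=
    finrank_kaehler hK₀ (isGeometric_of_perfect k (RatFunc k) hK₀)
  haveI hck : CharP k 2 := by rw [← h2]; exact ringChar.charP k
  haveI hcK : CharP K 2 := charP_of_injective_algebraMap (algebraMap k K).injective 2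
  haveI hcF : CharP F 2 := charP_of_injective_algebraMap (algebraMap k F).injective 2
  have hf0 : f ≠ 0 := fun h => by
    rw [h, map_zero] at hp; exact not_lt.2 zero_le_one hp
  have hordneg : p.ord f < 0 := (ord_neg_iff p hf0).2 hp
  obtain ⟨j, hj⟩ := hodd
  set d : ℕ := (-j).toNat with hd
  have hdj : (d : ℤ) = -j := Int.toNat_of_nonneg (by omega)
  have hordf : p.ord f = 1 - 2 * (d : ℤ) := by rw [hdj, hj]; ring
  have hdpos : 1 ≤ d := by omega
  have hpf : p.1 f = WithZero.exp (2 * (d : ℤ) - 1) := by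
    rw [val_eq_exp_neg_ord p hf0, hordf]; congr 1; ring
  -- `e = 2`
  have hepos := isOverWith_pos he
  have he2 : e ≤ 2 := by rw [← hdeg]; exact isOverWith_le_finrank hK₀ he
  have hPf : P.1 (algebraMap (RatFunc k) K f) = p.1 f ^ e := he f
  have hPy : 1 < P.1 y := by
    by_contra hc
    push Not at hc
    have h1 : P.1 (y ^ 2 + y) ≤ 1 :=
      (P.1.map_add _ _).trans (max_le (by rw [map_pow]; exact pow_le_one' hc 2) hc)
    rw [heq, hPf] at h1
    exact absurd h1 (not_le.2 (one_lt_pow₀ hp hepos.ne'))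
  have hy0 : y ≠ 0 := fun h => by
    rw [h, map_zero] at hPy; exact not_lt.2 zero_le_one hPy
  have hPyy : P.1 (y ^ 2 + y) = P.1 y ^ 2 := by
    rw [Valuation.map_add_eq_of_lt_left, map_pow]
    rw [map_pow]
    exact lt_self_pow₀ hPy (by norm_num)
  have hkey : P.1 y ^ 2 = p.1 f ^ e := by rw [← hPyy, heq, hPf]
  obtain ⟨a, ha⟩ : ∃ a : ℤ, P.1 y = WithZero.exp a :=
    ⟨_, (WithZero.exp_log (val_ne_zero_of_ne_zero P hy0)).symm⟩
  have hkey2 : 2 * a = e * (2 * (d : ℤ) - 1) := by
    rw [ha, hpf, ← WithZero.exp_nsmul, ← WithZero.exp_nsmul] at hkey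
    have := WithZero.exp_injective hkey
    simpa using this
  have hee : e = 2 := by
    rcases (show e = 1 ∨ e = 2 by omega) with h | h
    · rw [h] at hkey2; push_cast at hkey2; omega
    · exact h
  subst hee
  have haval : a = 2 * (d : ℤ) - 1 := by push_cast at hkey2; omega
  -- uniformizers
  obtain ⟨t, ht⟩ := exists_uniformizer p
  have ht0 : t ≠ 0 := fun h => by
    rw [h, map_zero] at ht; exact WithZero.exp_ne_zero ht.symm
  set T : K := algebraMap (RatFunc k) K t with hT
  have hPT : P.1 T = WithZero.exp (-2) := by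
    rw [hT, he t, ht, ← WithZero.exp_nsmul]; rfl
  set s : K := T ^ d * y with hs
  have hPs : P.1 s = WithZero.exp (-1) := by
    rw [hs, map_mul, map_pow, hPT, ha, ← WithZero.exp_nsmul, ← WithZero.exp_add]
    congr 1
    simp only [nsmul_eq_mul]
    rw [haval]; ring
  -- the derivative of `f`
  have htD := D_unif_ne_zero hφ ht
  obtain ⟨f', hf'⟩ := exists_smul_D_eq hfr htD f
  have hpf' : p.1 f' = WithZero.exp (2 * (d : ℤ)) := by
    rw [← val_D_expansion hφ ht hf']
    have h1 : Valued.v (φ f) = WithZero.exp (-(1 - 2 * (d : ℤ))) := by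
      rw [hφ.1, hpf]; congr 1; ring
    have h3 : ((1 - 2 * (d : ℤ) : ℤ) : F) ≠ 0 := by
      push_cast
      have : (2 : F) = 0 := CharP.ofNat_eq_zero F 2
      rw [this, zero_mul, sub_zero]
      exact one_ne_zero
    rw [val_D_eq h1 h3]
    congr 1; ring
  -- `dy = df`
  have h2K : (2 : K) = 0 := CharP.ofNat_eq_zero K 2
  have hDy : KaehlerDifferential.D k K y =
      algebraMap (RatFunc k) K f' • KaehlerDifferential.D k K T := by
    rw [← D_algebraMap_eq hf', ← heq, map_add, Derivation.leibniz_pow]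
    have : (2 : ℕ) • y ^ (2 - 1) • KaehlerDifferential.D k K y = 0 := by
      rw [← Nat.cast_smul_eq_nsmul K, Nat.cast_ofNat, h2K, zero_smul]
    rw [this, zero_add]
  set g : K := T ^ d * algebraMap (RatFunc k) K f' + y * ((d : K) * T ^ (d - 1)) with hg
  have hDs : KaehlerDifferential.D k K s = g • KaehlerDifferential.D k K T := by
    rw [hs, Derivation.leibniz, Derivation.leibniz_pow, hDy, hg, add_smul, smul_smul]
    congr 1
    rw [← Nat.cast_smul_eq_nsmul K, smul_smul, smul_smul, mul_assoc]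
  have hPA : P.1 (T ^ d * algebraMap (RatFunc k) K f') = WithZero.exp (2 * (d : ℤ)) := by
    rw [map_mul, map_pow, hPT, he f', hpf', ← WithZero.exp_nsmul, ← WithZero.exp_nsmul,
      ← WithZero.exp_add]
    congr 1
    simp only [nsmul_eq_mul]
    push_cast
    ring
  have hPB : P.1 (y * ((d : K) * T ^ (d - 1))) ≤ WithZero.exp 1 := by
    have hdK : P.1 (d : K) ≤ 1 := by
      have : (d : K) = algebraMap k K (d : k) := by simp
      rw [this]; exact P.2.1 _
    rw [map_mul, map_mul, map_pow, hPT, ha, ← WithZero.exp_nsmul]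
    calc WithZero.exp a * (P.1 (d : K) * WithZero.exp ((d - 1) • (-2 : ℤ)))
        ≤ WithZero.exp a * (1 * WithZero.exp ((d - 1) • (-2 : ℤ))) :=
          mul_le_mul_right (mul_le_mul_left hdK _) _
      _ = WithZero.exp 1 := by
          rw [one_mul, ← WithZero.exp_add]
          congr 1
          simp only [nsmul_eq_mul]
          rw [haval, Nat.cast_sub hdpos]
          push_cast
          ring
  have hPg : P.1 g = WithZero.exp (2 * (d : ℤ)) := by
    rw [hg, Valuation.map_add_eq_of_lt_left, hPA]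
    rw [hPA]
    refine lt_of_le_of_lt hPB ?_
    rw [WithZero.exp_lt_exp]
    omega
  have hg0 : g ≠ 0 := fun h => by
    rw [h, map_zero] at hPg; exact WithZero.exp_ne_zero hPg.symm
  have hb : KaehlerDifferential.D k K T = g⁻¹ • KaehlerDifferential.D k K s := by
    rw [hDs, inv_smul_smul₀ hg0]
  rw [diffExp_eq_ord hfr he hφ hψ z hz hz' ht hPs hb, ord_inv, hordf]
  unfold Place.ord
  rw [hPg, WithZero.log_exp]
  ring

end ASDiff

end Groth.Agent.Helper17.FF
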