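import Groth.Agent.H16.Tate11

/-! Copies of the last part of helper16's Tate residue library with the hypothesis
`IsGeometric k K` weakened to `finrank K Ω[K/k] = 1` (the only consequence that was used). -/

namespace Groth.Agent.Helper17.TateFr

open FunFld LaurentSeries Groth.Agent.Helper17.FF Groth.Agent.Helper16.Tate
open scoped KaehlerDifferential

universe u v w
variable {k : Type u} {K : Type v} [Field k] [Field K] [Algebra k K]
variable {F : Place k K → Type w} [∀ P, Field (F P)] [∀ P, Algebra k (F P)]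
variable (hK : IsFunctionField k K) (φ : ∀ P, K →ₐ[k] (F P)⸨X⸩)
  (hφ : ∀ P, LocRes.IsExpansionAt P.1 (φ P))
variable [∀ P, FiniteDimensional k (F P)] (hg : Module.finrank K (Ω[K⁄k]) = 1)
include hK hφ hg


lemma vDiff_ne_zero {u v : K} (hu : u ≠ 0) (hv : KaehlerDifferential.D k K v ≠ 0) (P : Place k K) :
    LocRes.vDiff (φ P) u v ≠ 0 := by
  unfold LocRes.vDiff
  rw [map_mul]
  refine mul_ne_zero ?_ ?_
  · rw [(hφ P).1]
    exact (Valuation.ne_zero_iff _).2 hu
  · exact (Valuation.ne_zero_iff _).2 (D_expansion_ne_zero hg (hφ P) hv)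

lemma vDiff_eq_exp {u v : K} (hu : u ≠ 0) (hv : KaehlerDifferential.D k K v ≠ 0) (P : Place k K) :
    LocRes.vDiff (φ P) u v = WithZero.exp (-(LocRes.ordDiff (φ P) u v)) := by
  unfold LocRes.ordDiff
  rw [neg_neg, WithZero.exp_log (vDiff_ne_zero hK φ hφ hg hu hv P)]

lemma resW_ne_zero {u v : K} (hu : u ≠ 0) (hv : KaehlerDifferential.D k K v ≠ 0) :
    resW hK φ hφ u v ≠ 0 := by
  obtain ⟨P⟩ := exists_place hK
  obtain ⟨y, hy⟩ := exists_locRes_ne_zero hg (hφ P) hv
  intro h0
  have h1 := resW_sgl hK φ hφ u v P (y / u)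
  rw [h0, LinearMap.zero_apply, div_mul_cancel₀ _ hu] at h1
  exact hy h1.symm

/-- the divisor of the Weil differential of `u dv` is the divisor of orders of `u dv` -/
theorem isDivOf_resW_apply {u v : K} (hu : u ≠ 0) (hv : KaehlerDifferential.D k K v ≠ 0)
    {C : Divisor k K} (hC : IsDivOf (resW hK φ hφ u v) C) (P : Place k K) :
    C P = LocRes.ordDiff (φ P) u v := by
  classical
  have hfr := hg
  have hvd := vDiff_eq_exp hK φ hφ hg hu hv P
  have hmem := (mem_WD_iff' hK).1 (IsDivOf.mem hC)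
  apply le_antisymm
  · -- `C P ≤ ord`
    by_contra hlt
    push Not at hlt
    obtain ⟨y, hy1, hy2⟩ := exists_locRes_ne_zero' hfr (hφ P) hv
    have hyu : LocRes.vDiff (φ P) y v = P.1 (y / u) * LocRes.vDiff (φ P) u v := by
      rw [← (hφ P).1, ← vDiff_mul, div_mul_cancel₀ _ hu]
    have hval : P.1 (y / u) ≤ WithZero.exp (C P) := by
      have h1 : P.1 (y / u) = LocRes.vDiff (φ P) y v * WithZero.exp (LocRes.ordDiff (φ P) u v) := by
        rw [hyu, hvd, mul_assoc, ← WithZero.exp_add, neg_add_cancel, WithZero.exp_zero, mul_one]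
      rw [h1]
      calc _ ≤ WithZero.exp 1 * WithZero.exp (LocRes.ordDiff (φ P) u v) := mul_le_mul' hy1 le_rfl
        _ = WithZero.exp (1 + LocRes.ordDiff (φ P) u v) := by rw [← WithZero.exp_add]
        _ ≤ WithZero.exp (C P) := by rw [WithZero.exp_le_exp]; omega
    have hAD : (sgl P (y / u) : Place k K → K) ∈ AD C := by
      intro Q
      by_cases hQ : Q = P
      · subst hQ; rw [sgl_apply_same]; exact hval
      · rw [sgl_apply_ne hQ, map_zero]; exact zero_le
    have h0 := hmem.1 _ hAD
    have h1 := resW_sgl hK φ hφ u v P (y / u)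
    rw [div_mul_cancel₀ _ hu] at h1
    apply hy2
    rw [← h1]
    exact h0
  · -- `ord ≤ C P`
    by_contra hlt
    push Not at hlt
    obtain ⟨E, hE⟩ : ∃ E : Divisor k K, E = C + Finsupp.single P (LocRes.ordDiff (φ P) u v - C P) :=
      ⟨_, rfl⟩
    have hEP : E P = LocRes.ordDiff (φ P) u v := by
      rw [hE, Finsupp.add_apply, Finsupp.single_eq_same]; ring
    have hEQ : ∀ Q, Q ≠ P → E Q = C Q := by
      intro Q hQ
      rw [hE, Finsupp.add_apply, Finsupp.single_eq_of_ne hQ, add_zero]
    have hWE : resW hK φ hφ u v ∈ WD E := by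
      rw [mem_WD_iff' hK]
      refine ⟨fun a ha => ?_, fun x => resW_diag hK φ hφ u v x⟩
      have hb1 : Function.update a P 0 ∈ AD C := by
        intro Q
        by_cases hQ : Q = P
        · subst hQ; rw [Function.update_self, map_zero]; exact zero_le
        · rw [Function.update_of_ne hQ, ← hEQ Q hQ]; exact ha Q
      have hsplit : (⟨a, AD_le_adele E ha⟩ : adele k K) =
          ⟨Function.update a P 0, AD_le_adele C hb1⟩ + sgl P (a P) := by
        apply Subtype.ext
        funext Q
        show a Q = Function.update a P 0 Q + (sgl P (a P) : Place k K → K) Q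
        by_cases hQ : Q = P
        · subst hQ; rw [Function.update_self, sgl_apply_same, zero_add]
        · rw [Function.update_of_ne hQ, sgl_apply_ne hQ, add_zero]
      rw [hsplit, map_add, hmem.1 _ hb1, zero_add, resW_sgl]
      apply locRes_eq_zero_of_vDiff_le
      rw [vDiff_mul, (hφ P).1, hvd]
      calc _ ≤ WithZero.exp (E P) * WithZero.exp (-(LocRes.ordDiff (φ P) u v)) := mul_le_mul' (ha P) le_rfl
        _ = 1 := by rw [hEP, ← WithZero.exp_add, add_neg_cancel, WithZero.exp_zero]
    have hle := (hC E).1 hWE P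
    rw [hEP] at hle
    omega

/-- **S12581**: the Weil differential of `u dv`. -/
theorem weil_of_differential {u v : K} (hu : u ≠ 0) (hv : KaehlerDifferential.D k K v ≠ 0) :
    ∃ ω : Module.Dual k (adele k K),
      (∀ a : adele k K,
        (Function.support fun P => LocRes.locRes (φ P) ((a : Place k K → K) P * u) v).Finite ∧
          ω a = ∑ᶠ P, LocRes.locRes (φ P) ((a : Place k K → K) P * u) v) ∧
      IsWeil ω ∧ ω ≠ 0 ∧
      (Function.support fun P => LocRes.ordDiff (φ P) u v).Finite ∧
      ∀ C : Divisor k K, (∀ P, C P = LocRes.ordDiff (φ P) u v) → IsDivOf ω C := by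
  have hW := resW_isWeil hK φ hφ u v
  have h0 := resW_ne_zero hK φ hφ hg hu hv
  obtain ⟨C₀, hC₀⟩ := exists_isDivOf hK _ hW h0
  have hC₀P := isDivOf_resW_apply hK φ hφ hg hu hv hC₀
  refine ⟨resW hK φ hφ u v, fun a => ⟨support_locRes_finite hK φ hφ u v a, rfl⟩, hW, h0, ?_, ?_⟩
  · refine C₀.support.finite_toSet.subset fun P hP => ?_
    rw [Finset.mem_coe, Finsupp.mem_support_iff, hC₀P P]
    exact hP
  · intro C hC
    have : C = C₀ := Finsupp.ext fun P => by rw [hC P, hC₀P P]
    rw [this]; exact hC₀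



lemma resW_injective {v : K} (hv : KaehlerDifferential.D k K v ≠ 0) :
    Function.Injective fun u => resW hK φ hφ u v := by
  intro u u' h
  have h1 : mulWLin hK (resW hK φ hφ 1 v) u = mulWLin hK (resW hK φ hφ 1 v) u' := by
    rw [mulWLin_resW, mulWLin_resW, mul_one, mul_one]; exact h
  exact mulWLin_injective hK (resW_ne_zero hK φ hφ hg one_ne_zero hv) h1

/-- every Weil differential is the residue differential of `u dv` for some `u` -/
theorem exists_resW_eq {v : K} (hv : KaehlerDifferential.D k K v ≠ 0)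
    {ω : Module.Dual k (adele k K)} (hω : IsWeil ω) : ∃ u : K, resW hK φ hφ u v = ω := by
  obtain ⟨x, hx⟩ := exists_mulWLin_eq hK (resW_isWeil hK φ hφ 1 v)
    (resW_ne_zero hK φ hφ hg one_ne_zero hv) hω
  refine ⟨x, ?_⟩
  rw [← hx, mulWLin_resW, mul_one]

/-- **S12628** -/
theorem existsUnique_of_weil {v : K} (hv : KaehlerDifferential.D k K v ≠ 0)
    {ω : Module.Dual k (adele k K)} (hω : IsWeil ω) :
    ∃! u : K, ∀ a : adele k K,
      (Function.support fun P => LocRes.locRes (φ P) ((a : Place k K → K) P * u) v).Finite ∧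
        ω a = ∑ᶠ P, LocRes.locRes (φ P) ((a : Place k K → K) P * u) v := by
  obtain ⟨u, hu⟩ := exists_resW_eq hK φ hφ hg hv hω
  refine ⟨u, fun a => ⟨support_locRes_finite hK φ hφ u v a, by rw [← hu]; rfl⟩, fun u' hu' => ?_⟩
  apply resW_injective hK φ hφ hg hv
  show resW hK φ hφ u' v = resW hK φ hφ u v
  rw [hu]
  ext a
  exact ((hu' a).2).symm

theorem mem_MD_of_mem_WD {v : K} (hv : KaehlerDifferential.D k K v ≠ 0) {D : Divisor k K} {y : K}
    (h : resW hK φ hφ y v ∈ WD D) : y ∈ MD φ v D := by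
  by_cases hy : y = 0
  · rw [hy]; exact Submodule.zero_mem _
  · have hW := resW_isWeil hK φ hφ y v
    have h0 := resW_ne_zero hK φ hφ hg hy hv
    obtain ⟨C, hC⟩ := exists_isDivOf hK _ hW h0
    have hle := (hC D).1 h
    intro P
    rw [vDiff_eq_exp hK φ hφ hg hy hv P, WithZero.exp_le_exp, ← isDivOf_resW_apply hK φ hφ hg hy hv hC P]
    have := hle P
    omega

/-- **S12629** -/
theorem finrank_MD {v : K} (hv : KaehlerDifferential.D k K v ≠ 0) (D : Divisor k K) :
    Module.finrank k (MD φ v D) = Module.finrank k (WD D) := by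
  let f : ↥(MD φ v D) →ₗ[k] ↥(WD D) :=
    (mulWLin hK (resW hK φ hφ 1 v)).restrict (p := MD φ v D) (q := WD D)
      (fun y hy => by
        rw [mulWLin_resW, mul_one]
        exact resW_mem_WD hK φ hφ y v D hy)
  have hf : Function.Bijective f := by
    constructor
    · intro x y hxy
      have h1 : mulWLin hK (resW hK φ hφ 1 v) x = mulWLin hK (resW hK φ hφ 1 v) y :=
        congrArg Subtype.val hxy
      exact Subtype.ext (mulWLin_injective hK (resW_ne_zero hK φ hφ hg one_ne_zero hv) h1)
    · rintro ⟨ω', hω'⟩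
      obtain ⟨y, hy⟩ := exists_resW_eq hK φ hφ hg hv ⟨D, hω'⟩
      have hyM : y ∈ MD φ v D := mem_MD_of_mem_WD hK φ hφ hg hv (by rw [hy]; exact hω')
      refine ⟨⟨y, hyM⟩, Subtype.ext ?_⟩
      show mulWLin hK (resW hK φ hφ 1 v) y = ω'
      rw [mulWLin_resW, mul_one, hy]
  exact (LinearEquiv.ofBijective f hf).finrank_eq



/-- **S12582**: the regular differentials form a space of dimension `g`. -/
theorem finrank_regular {x : K} (hx : KaehlerDifferential.D k K x ≠ 0) :
    Module.finrank k (Submodule.span k {y : K | ∀ P, LocRes.vDiff (φ P) y x ≤ 1}) = genus k K := by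
  have hS : {y : K | ∀ P, LocRes.vDiff (φ P) y x ≤ 1} = (MD φ x 0 : Set K) := by
    ext y
    show (∀ P, LocRes.vDiff (φ P) y x ≤ 1) ↔ ∀ P, LocRes.vDiff (φ P) y x ≤ WithZero.exp (-((0 : Divisor k K) P))
    simp
  rw [hS, Submodule.span_eq, finrank_MD hK φ hφ hg hx 0]
  have h1 := (finrank_WD hK (0 : Divisor k K)).2
  unfold delta at h1
  rw [deg_zero, ell_zero hK] at h1
  have : (Module.finrank k (WD (0 : Divisor k K)) : ℤ) = genus k K := by rw [h1]; push_cast; ring
  exact_mod_cast this


/-- the space `MD φ v D` is finite dimensional -/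
theorem finiteDimensional_MD {v : K} (hv : KaehlerDifferential.D k K v ≠ 0) (D : Divisor k K) :
    Module.Finite k (MD φ v D) := by
  let f : ↥(MD φ v D) →ₗ[k] ↥(WD D) :=
    (mulWLin hK (resW hK φ hφ 1 v)).restrict (p := MD φ v D) (q := WD D)
      (fun y hy => by
        rw [mulWLin_resW, mul_one]
        exact resW_mem_WD hK φ hφ y v D hy)
  have hf : Function.Bijective f := by
    constructor
    · intro x y hxy
      have h1 : mulWLin hK (resW hK φ hφ 1 v) x = mulWLin hK (resW hK φ hφ 1 v) y :=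
        congrArg Subtype.val hxy
      exact Subtype.ext (mulWLin_injective hK (resW_ne_zero hK φ hφ hg one_ne_zero hv) h1)
    · rintro ⟨ω', hω'⟩
      obtain ⟨y, hy⟩ := exists_resW_eq hK φ hφ hg hv ⟨D, hω'⟩
      have hyM : y ∈ MD φ v D := mem_MD_of_mem_WD hK φ hφ hg hv (by rw [hy]; exact hω')
      refine ⟨⟨y, hyM⟩, Subtype.ext ?_⟩
      show mulWLin hK (resW hK φ hφ 1 v) y = ω'
      rw [mulWLin_resW, mul_one, hy]
  have h1 : Module.Finite k (WD D) := (finrank_WD hK D).1
  exact Module.Finite.equiv (LinearEquiv.ofBijective f hf).symm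

/-- the regular differentials `y dv`: dimension `g`, as the submodule `MD φ v 0` -/
theorem finrank_MD_zero {v : K} (hv : KaehlerDifferential.D k K v ≠ 0) :
    Module.finrank k (MD φ v 0) = genus k K := by
  rw [finrank_MD hK φ hφ hg hv 0]
  have h1 := (finrank_WD hK (0 : Divisor k K)).2
  unfold delta at h1
  rw [deg_zero, ell_zero hK] at h1
  have : (Module.finrank k (WD (0 : Divisor k K)) : ℤ) = genus k K := by rw [h1]; push_cast; ring
  exact_mod_cast this

end Groth.Agent.Helper17.TateFr
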