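import Mathlib
import Groth.Prelude.Def_LocRes
import Groth.Agent.Lib.Helper17.TateFr
import Groth.Agent.Lib.Helper17.FFHyp3
import Groth.Agent.Lib.Helper17.FFAS
import Groth.Agent.Lib.Helper17.FFSep
namespace Groth.Agent.Helper17.FF

universe u v w

open FunFld Module LaurentSeries Polynomial IntermediateField

section HypD1

open scoped KaehlerDifferential

variable {k : Type u} [Field k]

/-- differentials of the rational function field -/
theorem kaehler_ratFunc :
    finrank (RatFunc k) (Ω[RatFunc k⁄k]) = 1 ∧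
      ∃ E : Ω[RatFunc k⁄k] ≃ₗ[RatFunc k] RatFunc k,
        E (KaehlerDifferential.D k (RatFunc k) RatFunc.X) = 1 := by
  haveI : Algebra.IsSeparable
      (IntermediateField.adjoin k ({(RatFunc.X : RatFunc k)} : Set (RatFunc k))) (RatFunc k) := by
    constructor
    intro z
    have hz : z ∈ IntermediateField.adjoin k ({(RatFunc.X : RatFunc k)} : Set (RatFunc k)) := by
      rw [RatFunc.adjoin_X]; trivial
    exact isSeparable_algebraMap
      (⟨z, hz⟩ : IntermediateField.adjoin k ({(RatFunc.X : RatFunc k)} : Set (RatFunc k)))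
  obtain ⟨E, hE⟩ := exists_kaehler_equiv (RatFunc.transcendental_X (K := k)) inferInstance
  exact ⟨by rw [E.finrank_eq, Module.finrank_self], E, hE⟩

variable {K : Type v} [Field K] [Algebra k K] [Algebra (RatFunc k) K]
  [IsScalarTower k (RatFunc k) K]

/-- differentials of a finite separable extension of the rational function field -/
theorem kaehler_over_ratFunc [FiniteDimensional (RatFunc k) K] [Algebra.IsSeparable (RatFunc k) K] :
    finrank K (Ω[K⁄k]) = 1 ∧
      KaehlerDifferential.D k K (algebraMap (RatFunc k) K RatFunc.X) ≠ 0 := by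
  obtain ⟨hfr₀, E, hE⟩ := kaehler_ratFunc (k := k)
  refine ⟨finrank_kaehler_of_separable hfr₀, ?_⟩
  haveI : Algebra.FormallyEtale (RatFunc k) K := Algebra.FormallyEtale.of_isSeparable (RatFunc k) K
  intro h0
  have h1 := KaehlerDifferential.tensorKaehlerEquivOfFormallyEtale_symm_D_algebraMap k (RatFunc k) K
    RatFunc.X
  rw [h0, map_zero] at h1
  have h2 := congrArg (fun t => TensorProduct.rid (RatFunc k) K
    (LinearMap.lTensor K E.toLinearMap t)) h1
  simp only [map_zero, LinearMap.lTensor_tmul, LinearEquiv.coe_coe, hE, TensorProduct.rid_tmul,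
    one_smul] at h2
  exact zero_ne_one h2

end HypD1

section HypD2

open scoped KaehlerDifferential

variable {k : Type u} {K : Type v} [Field k] [Field K] [Algebra k K] [Algebra (RatFunc k) K]
  [IsScalarTower k (RatFunc k) K]

set_option maxHeartbeats 800000 in
/-- the forms `x^i dx / y` are regular at every place (`i < g`) -/
theorem hyp_vDiff_le_one (hdeg : finrank (RatFunc k) K = 2) (h2 : ringChar k ≠ 2)
    (y : K) (f : k[X]) (hf : Squarefree f)
    (heq : y ^ 2 = algebraMap (RatFunc k) K (algebraMap k[X] (RatFunc k) f))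
    (hfr : finrank K (Ω[K⁄k]) = 1)
    {F : Type w} [Field F] [Algebra k F] (P : Place k K) (φ : K →ₐ[k] F⸨X⸩)
    (hφ : LocRes.IsExpansionAt P.1 φ) (i : ℕ) (hi : i < (f.natDegree - 1) / 2) :
    LocRes.vDiff φ (algebraMap (RatFunc k) K RatFunc.X ^ i / y)
      (algebraMap (RatFunc k) K RatFunc.X) ≤ 1 := by
  classical
  have hK₀ : IsFunctionField k (RatFunc k) := isFunctionField_ratFunc
  haveI : FiniteDimensional (RatFunc k) K := Module.finite_of_finrank_pos (by rw [hdeg]; norm_num)
  haveI : Algebra.IsAlgebraic (RatFunc k) K := Algebra.IsAlgebraic.of_finite _ _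
  set x : K := algebraMap (RatFunc k) K RatFunc.X with hx
  set d := f.natDegree with hdd
  have hf0 : f ≠ 0 := hf.ne_zero
  have hf₀ne : algebraMap k[X] (RatFunc k) f ≠ 0 :=
    (map_ne_zero_iff _ (IsFractionRing.injective k[X] (RatFunc k))).2 hf0
  have hfK0 : algebraMap (RatFunc k) K (algebraMap k[X] (RatFunc k) f) ≠ 0 :=
    (map_ne_zero_iff _ (algebraMap (RatFunc k) K).injective).2 hf₀ne
  have hy0 : y ≠ 0 := by
    intro h
    rw [h, zero_pow two_ne_zero] at heq
    exact hfK0 heq.symm
  obtain ⟨P₀, e, he⟩ := exists_isOverWith hK₀ P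
  have hepos := isOverWith_pos he
  have he2 : e ≤ 2 := by rw [← hdeg]; exact isOverWith_le_finrank hK₀ he
  have hvd : LocRes.vDiff φ (x ^ i / y) x =
      P.1 x ^ i * (P.1 y)⁻¹ * Valued.v (LocRes.D F (φ x)) := by
    unfold LocRes.vDiff
    rw [map_mul, hφ.1, map_div₀, map_pow, div_eq_mul_inv]
  rw [hvd]
  have hPx : P.1 x = P₀.1 RatFunc.X ^ e := he RatFunc.X
  have hPy2 : P.1 y ^ 2 = P₀.1 (algebraMap k[X] (RatFunc k) f) ^ e := by
    rw [← map_pow, heq]; exact he _
  have haev : ∀ q : k[X], algebraMap (RatFunc k) K (algebraMap k[X] (RatFunc k) q) = aeval x q := by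
    intro q
    rw [hx, aeval_algebraMap_apply, RatFunc.aeval_X_left_eq_algebraMap]
  rcases le_or_gt (P.1 x) 1 with hfin | hinf
  · -- finite places
    have hX₀ : P₀.1 RatFunc.X ≤ 1 := (isOverWith_le_one_iff he RatFunc.X).1 hfin
    have hvDx : Valued.v (LocRes.D F (φ x)) ≤ 1 := val_D_le_one (by rw [hφ.1]; exact hfin)
    have hpoly : ∀ q : k[X], P₀.1 (algebraMap k[X] (RatFunc k) q) ≤ 1 := by
      intro q
      have := val_aeval_le_one P₀.1 P₀.2.1 hX₀ q
      rwa [RatFunc.aeval_X_left_eq_algebraMap] at this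
    have hPyle : P.1 y ≤ 1 := by
      by_contra hcon
      push Not at hcon
      have h1 : 1 < P.1 y ^ 2 := one_lt_pow₀ hcon two_ne_zero
      rw [hPy2] at h1
      exact absurd (pow_le_one' (hpoly f) e) (not_le.2 h1)
    have hxi : P.1 x ^ i ≤ 1 := pow_le_one' hfin i
    rcases eq_or_lt_of_le hPyle with hPy1 | hPylt
    · rw [hPy1, inv_one, mul_one]
      calc _ ≤ (1 : WithZero (Multiplicative ℤ)) * 1 := mul_le_mul' hxi hvDx
        _ = 1 := one_mul _
    · have hordpos : 0 < P.ord y := (ord_pos_iff P hy0).2 hPylt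
      obtain ⟨hord1, hiff⟩ := hyperelliptic_ord_y hdeg y f hf heq P
      have hord : P.ord y = 1 := hord1 hordpos
      have hPy : P.1 y = WithZero.exp (-1 : ℤ) := by rw [val_eq_exp_neg_ord P hy0, hord]
      obtain ⟨P₀', hP₀', -, hf'⟩ := hiff.1 hordpos
      have hP₀eq : P₀' = P₀ := isOver_unique hP₀' ⟨e, he⟩
      rw [hP₀eq] at hf'
      have hf₀lt : P₀.1 (algebraMap k[X] (RatFunc k) f) < 1 := (ord_pos_iff P₀ hf₀ne).1 hf'
      obtain ⟨p, hpirr, hpf, hp₀⟩ := exists_irreducible_factor_of_ratPlace P₀ hX₀ hf0 hf₀lt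
      have hram := (hyperelliptic_ramified hdeg y f hf heq p hpirr hpf P₀ hp₀).2 P ⟨e, he⟩
      have he2' : e = 2 := isOverWith_unique he hram.1
      have hyD : KaehlerDifferential.D k K y ≠ 0 := D_unif_ne_zero hφ hPy
      obtain ⟨c, hc⟩ := exists_smul_D_eq hfr hyD x
      have hvc : Valued.v (LocRes.D F (φ x)) = P.1 c := val_D_expansion hφ hPy hc
      have h1 : KaehlerDifferential.D k K (y ^ 2) = KaehlerDifferential.D k K (aeval x f) := by
        rw [heq, haev]
      rw [Derivation.leibniz_pow, Derivation.comp_aeval_eq, hc, smul_smul] at h1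
      have e1 : (2 : ℕ) • y ^ (2 - 1) • KaehlerDifferential.D k K y =
          ((2 : K) * y) • KaehlerDifferential.D k K y := by
        rw [show (2 - 1 : ℕ) = 1 from rfl, pow_one, two_nsmul, two_mul, add_smul]
      rw [e1] at h1
      have h3 : (2 : K) * y = aeval x (derivative f) * c := by
        have h4 : ((2 : K) * y - aeval x (derivative f) * c) • KaehlerDifferential.D k K y = 0 := by
          rw [sub_smul, h1, sub_self]
        rcases smul_eq_zero.1 h4 with h | h
        · exact sub_eq_zero.1 h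
        · exact absurd h hyD
      have hP2 : P.1 (2 : K) = 1 := by
        have h2k : (2 : k) ≠ 0 := Ring.two_ne_zero h2
        have hle := P.2.1 (2 : k)
        have hle' := P.2.1 (2 : k)⁻¹
        have hmul : P.1 (algebraMap k K 2) * P.1 (algebraMap k K (2 : k)⁻¹) = 1 := by
          rw [← map_mul, ← map_mul, mul_inv_cancel₀ h2k, map_one, map_one]
        have h21 : P.1 (algebraMap k K 2) = 1 := by
          refine le_antisymm hle ?_
          by_contra hlt
          push Not at hlt
          have : P.1 (algebraMap k K 2) * P.1 (algebraMap k K (2 : k)⁻¹) < 1 := by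
            calc P.1 (algebraMap k K 2) * P.1 (algebraMap k K (2 : k)⁻¹)
                ≤ P.1 (algebraMap k K 2) * 1 := mul_le_mul' le_rfl hle'
              _ = P.1 (algebraMap k K 2) := mul_one _
              _ < 1 := hlt
          rw [hmul] at this
          exact lt_irrefl _ this
        rwa [map_ofNat] at h21
      have h5 := congrArg P.1 h3
      rw [map_mul, map_mul, hP2, one_mul, hPy, ← haev, he, he2'] at h5
      have hf'le := hpoly (derivative f)
      have hPc1 : P.1 c ≤ 1 := by rw [← hvc]; exact hvDx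
      have hf'1 : P₀.1 (algebraMap k[X] (RatFunc k) (derivative f)) = 1 := by
        refine le_antisymm hf'le ?_
        by_contra hcon
        push Not at hcon
        have h6 : P₀.1 (algebraMap k[X] (RatFunc k) (derivative f)) ≤ WithZero.exp (-(1 : ℤ)) := by
          have := (val_lt_exp_iff_le P₀ _ 0).1 (by rw [WithZero.exp_zero]; exact hcon)
          simpa using this
        have h7 : P₀.1 (algebraMap k[X] (RatFunc k) (derivative f)) ^ 2 * P.1 c ≤
            WithZero.exp (-(2 : ℤ)) := by
          calc _ ≤ WithZero.exp (-(1 : ℤ)) ^ 2 * 1 := mul_le_mul' (pow_le_pow_left' h6 2) hPc1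
            _ = WithZero.exp (-(2 : ℤ)) := by
              rw [mul_one, ← WithZero.exp_nsmul]; norm_num
        rw [← h5, WithZero.exp_le_exp] at h7
        omega
      rw [hf'1, one_pow, one_mul] at h5
      rw [hvc, ← h5, hPy, mul_assoc, inv_mul_cancel₀ WithZero.exp_ne_zero, mul_one]
      exact hxi
  · -- infinite places
    have hX₀ : 1 < P₀.1 RatFunc.X := by
      by_contra hcon
      push Not at hcon
      exact absurd ((isOverWith_le_one_iff he RatFunc.X).2 hcon) (not_le.2 hinf)
    have hX₀e : P₀.1 RatFunc.X = WithZero.exp (1 : ℤ) := ratInf_val_X P₀ hX₀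
    have hPxe : P.1 x = WithZero.exp (e : ℤ) := by
      rw [hPx, hX₀e, ← WithZero.exp_nsmul]; simp
    have hordf : P₀.ord (algebraMap k[X] (RatFunc k) f) = -(d : ℤ) := ratInf_ord_poly P₀ hX₀ hf0
    have hordy : 2 * P.ord y = -((e : ℤ) * d) := by
      have h3 := isOverWith_ord he (algebraMap k[X] (RatFunc k) f)
      rw [← heq, ord_pow, hordf] at h3
      push_cast at h3
      linarith
    have hPy : (P.1 y)⁻¹ = WithZero.exp (P.ord y) := by
      rw [val_eq_exp_neg_ord P hy0, ← WithZero.exp_neg, neg_neg]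
    have hvDx : Valued.v (LocRes.D F (φ x)) ≤ WithZero.exp ((e : ℤ) + 1) := by
      have := val_D_le (f := φ x) (n := -(e : ℤ)) (by rw [hφ.1, hPxe, neg_neg])
      have h8 : -(-(e : ℤ) - 1) = (e : ℤ) + 1 := by ring
      rwa [h8] at this
    rw [hPxe, hPy, ← WithZero.exp_nsmul, ← WithZero.exp_add]
    calc _ ≤ WithZero.exp (i • (e : ℤ) + P.ord y) * WithZero.exp ((e : ℤ) + 1) :=
          mul_le_mul' le_rfl hvDx
      _ = WithZero.exp (i • (e : ℤ) + P.ord y + ((e : ℤ) + 1)) := by rw [← WithZero.exp_add]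
      _ ≤ 1 := by
        rw [← WithZero.exp_zero, WithZero.exp_le_exp]
        simp only [nsmul_eq_mul]
        have h9 : e = 1 ∨ e = 2 := by omega
        rcases h9 with rfl | rfl
        · push_cast at hordy ⊢; omega
        · push_cast at hordy ⊢; omega

end HypD2

section HypD3

open scoped KaehlerDifferential
open Groth.Agent.Helper16.Tate

variable {k : Type u} {K : Type v} [Field k] [Field K] [Algebra k K] [Algebra (RatFunc k) K]
  [IsScalarTower k (RatFunc k) K]

set_option maxHeartbeats 800000 in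
/-- the forms `x^i dx / y`, `i < g`, are a basis of the regular differentials of a hyperelliptic
function field -/
theorem hyp_regular_basis (hK : IsFunctionField k K) (hdeg : finrank (RatFunc k) K = 2)
    (h2 : ringChar k ≠ 2) (y : K) (f : k[X]) (hf : Squarefree f) (hd : 1 ≤ f.natDegree)
    (heq : y ^ 2 = algebraMap (RatFunc k) K (algebraMap k[X] (RatFunc k) f))
    (F : Place k K → Type w) [∀ P, Field (F P)] [∀ P, Algebra k (F P)]
    [∀ P, FiniteDimensional k (F P)]
    (φ : ∀ P, K →ₐ[k] (F P)⸨X⸩) (hφ : ∀ P, LocRes.IsExpansionAt P.1 (φ P)) :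
    (∀ i : ℕ, i < genus k K → ∀ P,
      LocRes.vDiff (φ P) (algebraMap (RatFunc k) K RatFunc.X ^ i / y)
        (algebraMap (RatFunc k) K RatFunc.X) ≤ 1) ∧
    ∀ z : K, (∀ P, LocRes.vDiff (φ P) z (algebraMap (RatFunc k) K RatFunc.X) ≤ 1) →
      ∃ a : k[X], a.degree < (genus k K : WithBot ℕ) ∧
        z = algebraMap (RatFunc k) K (algebraMap k[X] (RatFunc k) a) / y := by
  classical
  haveI : FiniteDimensional (RatFunc k) K := Module.finite_of_finrank_pos (by rw [hdeg]; norm_num)
  have h2k : (2 : k) ≠ 0 := Ring.two_ne_zero h2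
  have h2K₀ : (2 : RatFunc k) ≠ 0 := by
    have := (map_ne_zero_iff _ (algebraMap k (RatFunc k)).injective).2 h2k
    rwa [map_ofNat] at this
  haveI : Algebra.IsSeparable (RatFunc k) K := isSeparable_of_finrank_two h2K₀ hdeg
  obtain ⟨hfr, hDx⟩ := kaehler_over_ratFunc (k := k) (K := K)
  have hgen : genus k K = (f.natDegree - 1) / 2 := genus_hyp hK h2 hdeg y f hf hd heq
  set x : K := algebraMap (RatFunc k) K RatFunc.X with hx
  set g := genus k K with hg
  have hf0 : f ≠ 0 := hf.ne_zero
  have hfK0 : algebraMap (RatFunc k) K (algebraMap k[X] (RatFunc k) f) ≠ 0 :=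
    (map_ne_zero_iff _ (algebraMap (RatFunc k) K).injective).2
      ((map_ne_zero_iff _ (IsFractionRing.injective k[X] (RatFunc k))).2 hf0)
  have hy0 : y ≠ 0 := by
    intro h
    rw [h, zero_pow two_ne_zero] at heq
    exact hfK0 heq.symm
  have hxt : Transcendental k x :=
    (transcendental_algebraMap_iff (algebraMap (RatFunc k) K).injective).2
      (RatFunc.transcendental_X (K := k))
  have haev : ∀ q : k[X], algebraMap (RatFunc k) K (algebraMap k[X] (RatFunc k) q) = aeval x q := by
    intro q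
    rw [hx, aeval_algebraMap_apply, RatFunc.aeval_X_left_eq_algebraMap]
  have hA : ∀ i : ℕ, i < g → ∀ P, LocRes.vDiff (φ P) (x ^ i / y) x ≤ 1 := by
    intro i hi P
    exact hyp_vDiff_le_one hdeg h2 y f hf heq hfr P (φ P) (hφ P) i (by rw [← hgen]; exact hi)
  refine ⟨hA, ?_⟩
  -- the space of regular differentials
  set V : Submodule k K := MD φ x 0 with hV
  have hVmem : ∀ z : K, z ∈ V ↔ ∀ P, LocRes.vDiff (φ P) z x ≤ 1 := by
    intro z
    show (∀ P, LocRes.vDiff (φ P) z x ≤ WithZero.exp (-((0 : Divisor k K) P))) ↔ _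
    simp
  have hVfin : Module.Finite k V := TateFr.finiteDimensional_MD hK φ hφ hfr hDx 0
  have hVrank : finrank k V = g := TateFr.finrank_MD_zero hK φ hφ hfr hDx
  -- the map `a ↦ a(x)/y`
  let Ψ : degreeLT k g →ₗ[k] K :=
    (LinearMap.mulRight k y⁻¹) ∘ₗ (aeval x).toLinearMap ∘ₗ (degreeLT k g).subtype
  have hΨ : ∀ a : degreeLT k g, Ψ a = aeval x (a : k[X]) * y⁻¹ := fun a => rfl
  have hΨmem : ∀ a : degreeLT k g, Ψ a ∈ V := by
    intro a
    rw [hΨ, aeval_eq_sum_range, Finset.sum_mul]
    refine Submodule.sum_mem _ fun i _ => ?_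
    by_cases hi : i < g
    · rw [smul_mul_assoc, ← div_eq_mul_inv]
      exact Submodule.smul_mem _ _ ((hVmem _).2 (hA i hi))
    · have hdeg' : (a : k[X]).degree < (g : WithBot ℕ) := Polynomial.mem_degreeLT.1 a.2
      have : (a : k[X]).coeff i = 0 :=
        coeff_eq_zero_of_degree_lt (lt_of_lt_of_le hdeg' (by exact_mod_cast not_lt.1 hi))
      rw [this, zero_smul, zero_mul]
      exact Submodule.zero_mem _
  let Φ : degreeLT k g →ₗ[k] V := Ψ.codRestrict V hΨmem
  have hΦinj : Function.Injective Φ := by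
    intro a b hab
    have h1 : Ψ a = Ψ b := congrArg Subtype.val hab
    rw [hΨ, hΨ] at h1
    have h3 : aeval x (a : k[X]) = aeval x (b : k[X]) :=
      mul_right_cancel₀ (inv_ne_zero hy0) h1
    exact Subtype.ext ((transcendental_iff_injective.1 hxt) h3)
  haveI : Module.Finite k (degreeLT k g) := Module.Finite.equiv (degreeLTEquiv k g).symm
  have hΦsurj : Function.Surjective Φ :=
    (LinearMap.injective_iff_surjective_of_finrank_eq_finrank
      (by rw [finrank_degreeLT', hVrank])).1 hΦinj
  intro z hz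
  obtain ⟨a, ha⟩ := hΦsurj ⟨z, (hVmem z).2 hz⟩
  refine ⟨(a : k[X]), Polynomial.mem_degreeLT.1 a.2, ?_⟩
  have h1 : Ψ a = z := congrArg Subtype.val ha
  rw [haev, div_eq_mul_inv, ← hΨ, h1]

end HypD3

end Groth.Agent.Helper17.FF
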