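import Mathlib
import Groth.Prelude.Def_LocRes
import Groth.Agent.Lib.Helper17.FFASG
import Groth.Agent.Lib.Helper17.FFHypD
import Groth.Agent.Lib.Helper17.FFHil
namespace Groth.Agent.Helper17.FF

universe u v w

open FunFld Module LaurentSeries Polynomial IntermediateField

section ASD1

variable {k : Type u} [Field k]

/-- the divisor `∑ d_p p` over the poles of `f`, with `d_p = (1 - ord_p f)/2` -/
lemma exists_asB (f : RatFunc k) : ∃ B : Divisor k (RatFunc k),
    ∀ p : Place k (RatFunc k), B p = if p.ord f < 0 then (1 - p.ord f) / 2 else 0 := by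
  classical
  have hK₀ : IsFunctionField k (RatFunc k) := isFunctionField_ratFunc
  refine ⟨∑ P ∈ (FunFld.div k f).support with FunFld.div k f P < 0,
      Finsupp.single P ((1 - FunFld.div k f P) / 2), fun p => ?_⟩
  rw [Finsupp.finsetSum_apply]
  simp only [Finsupp.single_apply]
  rw [Finset.sum_ite_eq']
  rw [← div_apply hK₀ f p]
  by_cases hp : FunFld.div k f p < 0
  · rw [if_pos hp, if_pos]
    rw [Finset.mem_filter, Finsupp.mem_support_iff]
    exact ⟨hp.ne, hp⟩
  · rw [if_neg hp, if_neg]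
    rw [Finset.mem_filter]
    exact fun h => hp h.2

end ASD1

section ASD2

open scoped KaehlerDifferential

variable {k : Type u} {K : Type v} [Field k] [Field K] [Algebra k K] [Algebra (RatFunc k) K]
  [IsScalarTower k (RatFunc k) K]

/-- the genus in terms of the polynomial `q` of the finite poles and the pole at infinity -/
theorem as_genus_q (hK : IsFunctionField k K) (h2 : ringChar k = 2)
    (hdeg : finrank (RatFunc k) K = 2) {y : K}
    (hy : y ∉ Set.range (algebraMap (RatFunc k) K)) {f : RatFunc k}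
    (heq : y ^ 2 + y = algebraMap (RatFunc k) K f)
    (hodd : ∀ P₀ : Place k (RatFunc k), P₀.ord f < 0 → Odd (P₀.ord f))
    (B : Divisor k (RatFunc k))
    (hB : ∀ P₀ : Place k (RatFunc k), B P₀ = if P₀.ord f < 0 then (1 - P₀.ord f) / 2 else 0)
    (q : k[X]) (hq0 : q ≠ 0)
    (hq : ∀ p : Place k (RatFunc k), p.1 RatFunc.X ≤ 1 →
      p.ord (algebraMap k[X] (RatFunc k) q) = B p)
    {Pinf : Place k (RatFunc k)} (hinf : 1 < Pinf.1 (RatFunc.X : RatFunc k)) :
    (genus k K : ℤ) = -1 + q.natDegree + B Pinf := by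
  rw [as_genus hK h2 hdeg hy heq hodd B hB]
  have hK₀ : IsFunctionField k (RatFunc k) := isFunctionField_ratFunc
  have h1 : B = FunFld.div k (algebraMap k[X] (RatFunc k) q) +
      Finsupp.single Pinf ((q.natDegree : ℤ) + B Pinf) := by
    ext p
    rw [Finsupp.add_apply, div_apply hK₀]
    by_cases hp : p = Pinf
    · subst hp
      rw [Finsupp.single_eq_same, ratInf_ord_poly p hinf hq0]; ring
    · rw [Finsupp.single_eq_of_ne hp, add_zero]
      have hX : p.1 RatFunc.X ≤ 1 := by
        by_contra hc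
        push Not at hc
        exact hp (ratInf_unique p Pinf hc hinf)
      exact (hq p hX).symm
  have h2' := congrArg Divisor.deg h1
  rw [deg_add, deg_div hK₀, deg_single, ratInf_deg Pinf hinf] at h2'
  rw [h2']; push_cast; ring

attribute [-instance] IsLocalRing.instModuleResidueFieldOfAlgebra in
set_option maxHeartbeats 1600000 in
/-- at a place over an odd pole of `f`, the differential of a uniformizer below has order
`1 - ord_p f` -/
theorem as_val_D_unif (h2 : ringChar k = 2) {y : K} {f : RatFunc k}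
    (heq : y ^ 2 + y = algebraMap (RatFunc k) K f)
    (hfr : finrank K (Ω[K⁄k]) = 1)
    {p : Place k (RatFunc k)} (hneg : p.ord f < 0) (hodd : Odd (p.ord f))
    {P : Place k K} (he : IsOverWith P p 2)
    [Algebra.IsSeparable k (IsLocalRing.ResidueField P.O)]
    {F : Type w} [Field F] [Algebra k F] {φ : K →ₐ[k] F⸨X⸩} (hφ : LocRes.IsExpansionAt P.1 φ)
    {t₀ : RatFunc k} (ht₀ : p.1 t₀ = WithZero.exp (-1 : ℤ))
    (htD : KaehlerDifferential.D k K (algebraMap (RatFunc k) K t₀) ≠ 0) :
    Valued.v (LocRes.D F (φ (algebraMap (RatFunc k) K t₀))) =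
      WithZero.exp (-(1 - p.ord f)) := by
  haveI hck : CharP k 2 := by rw [← h2]; exact ringChar.charP k
  haveI hcK : CharP K 2 := charP_of_injective_algebraMap (algebraMap k K).injective 2
  haveI hcF : CharP F 2 := charP_of_injective_algebraMap (algebraMap k F).injective 2
  have h2K : (2 : K) = 0 := CharP.ofNat_eq_zero K 2
  have h2F : (2 : F) = 0 := CharP.ofNat_eq_zero F 2
  obtain ⟨t', ht'⟩ : ∃ t' : K, t' = algebraMap (RatFunc k) K t₀ := ⟨_, rfl⟩
  rw [← ht'] at htD ⊢
  have hf0 : f ≠ 0 := by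
    rintro rfl
    rw [ord_zero] at hneg
    exact lt_irrefl _ hneg
  obtain ⟨hy2, hy1⟩ := as_ord_y heq hneg he
  have hy0 : y ≠ 0 := by
    rintro rfl
    rw [map_zero] at hy1
    exact absurd hy1 (by simp)
  have hordy : P.ord y = p.ord f := by push_cast at hy2; omega
  obtain ⟨j, hj⟩ := hodd
  obtain ⟨m, hm⟩ : ∃ m : ℕ, m = (-(p.ord f)).toNat := ⟨_, rfl⟩
  have hmz : (m : ℤ) = -(p.ord f) := by rw [hm]; exact Int.toNat_of_nonneg (by omega)
  have hmodd : Odd m := by
    rw [← Int.odd_coe_nat, hmz]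
    exact ⟨-j - 1, by omega⟩
  have hmK : (m : K) = 1 := by
    obtain ⟨r, hr⟩ := hmodd
    rw [hr]; push_cast
    rw [h2K]; ring
  have hmF : (m : F) = 1 := by
    obtain ⟨r, hr⟩ := hmodd
    rw [hr]; push_cast
    rw [h2F]; ring
  have hmpos : 1 ≤ m := by omega
  -- the derivation `d/dt'`
  obtain ⟨δ, hδ⟩ := exists_derivation_eq hfr htD
  have hδt : δ t' = 1 := der_unif_eq_one hδ htD
  have hPt' : P.1 t' = WithZero.exp (-2 : ℤ) := by
    rw [ht', he t₀, ht₀, ← WithZero.exp_nsmul]; rfl
  have ht'0 : t' ≠ 0 := by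
    intro h0
    rw [h0, map_zero] at hPt'
    exact WithZero.exp_ne_zero hPt'.symm
  have ht'1 : P.1 t' < 1 := by
    rw [hPt', ← WithZero.exp_zero, WithZero.exp_lt_exp]; omega
  obtain ⟨T, hT⟩ : ∃ T : IntermediateField (RatFunc k) K, T = ⊥ := ⟨_, rfl⟩
  have ht'T : t' ∈ T := by rw [ht']; exact T.algebraMap_mem t₀
  have hTval : ∀ z ∈ T, P.1 z < 1 → P.1 z ≤ P.1 t' := by
    intro z hz hz1
    rw [hT] at hz
    obtain ⟨z₀, rfl⟩ := IntermediateField.mem_bot.1 hz
    rw [he z₀] at hz1 ⊢
    rw [ht', he t₀]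
    have h1 : p.1 z₀ < 1 := by
      by_contra hc
      push Not at hc
      exact absurd hz1 (not_lt.2 (one_le_pow₀ hc))
    have h3 : p.1 z₀ ≤ WithZero.exp (-1 : ℤ) := by
      have := (val_lt_exp_iff_le p z₀ 0).1 (by rw [WithZero.exp_zero]; exact h1)
      simpa using this
    rw [ht₀]
    exact pow_le_pow_left' h3 2
  have hDφ : LocRes.D F (φ t') ≠ 0 := D_expansion_ne_zero hfr hφ htD
  have hU := val_der_le_one P T ht'T ht'0 ht'1 hTval δ hδt
    (fun z hz => val_der_le hφ hδ hDφ hz)
  -- the unit `u = f t^m`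
  obtain ⟨u₀, hu₀⟩ : ∃ u₀ : RatFunc k, u₀ = f * t₀ ^ m := ⟨_, rfl⟩
  have hpu : p.1 u₀ = 1 := by
    rw [hu₀, map_mul, map_pow, ht₀, val_eq_exp_neg_ord p hf0, ← WithZero.exp_nsmul,
      ← WithZero.exp_add, ← WithZero.exp_zero]
    congr 1
    simp only [nsmul_eq_mul]
    rw [hmz]; ring
  have hPu : P.1 (algebraMap (RatFunc k) K u₀) ≤ 1 := by rw [he u₀, hpu, one_pow]
  have hδu := hU (algebraMap (RatFunc k) K u₀) (T.algebraMap_mem u₀) hPu
  have hδy : δ y = δ (algebraMap (RatFunc k) K f) := by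
    rw [← heq, map_add, Derivation.leibniz_pow]
    have h0 : (2 : ℕ) • (y ^ (2 - 1) • δ y) = 0 := by
      rw [nsmul_eq_mul]; push_cast; rw [h2K, zero_mul]
    rw [h0, zero_add]
  have hprod : algebraMap (RatFunc k) K u₀ = algebraMap (RatFunc k) K f * t' ^ m := by
    rw [hu₀, map_mul, map_pow, ht']
  have hleib : δ (algebraMap (RatFunc k) K u₀) =
      algebraMap (RatFunc k) K f * t' ^ (m - 1) + t' ^ m * δ y := by
    rw [hprod, Derivation.leibniz, Derivation.leibniz_pow, hδt, ← hδy]
    simp only [smul_eq_mul, nsmul_eq_mul]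
    rw [hmK]; ring
  have hPf : P.1 (algebraMap (RatFunc k) K f) = WithZero.exp (2 * (m : ℤ)) := by
    rw [he f, val_eq_exp_neg_ord p hf0, ← WithZero.exp_nsmul]
    congr 1
    simp only [nsmul_eq_mul]
    rw [hmz]; push_cast; ring
  have hterm : P.1 (algebraMap (RatFunc k) K f * t' ^ (m - 1)) = WithZero.exp (2 : ℤ) := by
    rw [map_mul, map_pow, hPf, hPt', ← WithZero.exp_nsmul, ← WithZero.exp_add]
    congr 1
    simp only [nsmul_eq_mul]
    rw [Nat.cast_sub hmpos]; push_cast; ring
  have hδu2 : P.1 (t' ^ m * δ y) = WithZero.exp (2 : ℤ) := by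
    have h1 : t' ^ m * δ y = δ (algebraMap (RatFunc k) K u₀) -
        algebraMap (RatFunc k) K f * t' ^ (m - 1) := by rw [hleib]; ring
    rw [h1, Valuation.map_sub_eq_of_lt_right, hterm]
    rw [hterm]
    refine lt_of_le_of_lt hδu ?_
    rw [← WithZero.exp_zero, WithZero.exp_lt_exp]; norm_num
  have hPδy : P.1 (δ y) = WithZero.exp (2 + 2 * (m : ℤ)) := by
    rw [map_mul, map_pow, hPt', ← WithZero.exp_nsmul] at hδu2
    have h3 : P.1 (δ y) = (WithZero.exp (m • (-2 : ℤ)))⁻¹ * WithZero.exp (2 : ℤ) := by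
      rw [← hδu2, ← mul_assoc, inv_mul_cancel₀ WithZero.exp_ne_zero, one_mul]
    rw [h3, ← WithZero.exp_neg, ← WithZero.exp_add]
    congr 1
    simp only [nsmul_eq_mul]; ring
  have hvy : Valued.v (LocRes.D F (φ y)) = WithZero.exp ((m : ℤ) + 1) := by
    have h1 : Valued.v (φ y) = WithZero.exp (-(-(m : ℤ))) := by
      rw [hφ.1, val_eq_exp_neg_ord P hy0, hordy]
      congr 1
      rw [hmz]; ring
    have h3 : ((-(m : ℤ) : ℤ) : F) ≠ 0 := by
      push_cast
      rw [hmF]
      exact neg_ne_zero.2 one_ne_zero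
    rw [val_D_eq h1 h3]
    congr 1
    ring
  have hrel := dExp_eq φ (hδ y)
  rw [hrel, map_mul, hφ.1, hPδy] at hvy
  have h4 : Valued.v (LocRes.D F (φ t')) =
      (WithZero.exp (2 + 2 * (m : ℤ)))⁻¹ * WithZero.exp ((m : ℤ) + 1) := by
    rw [← hvy, ← mul_assoc, inv_mul_cancel₀ WithZero.exp_ne_zero, one_mul]
  rw [h4, ← WithZero.exp_neg, ← WithZero.exp_add]
  congr 1
  have : p.ord f = -(m : ℤ) := by omega
  rw [this]; ring

set_option maxHeartbeats 1600000 in
/-- the forms `x^i dx / q(x)`, `i < g`, are regular -/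
theorem as_vDiff_le_one [PerfectField k] (hK : IsFunctionField k K) (h2 : ringChar k = 2)
    (hdeg : finrank (RatFunc k) K = 2) [Algebra.IsSeparable (RatFunc k) K] {y : K}
    (hy : y ∉ Set.range (algebraMap (RatFunc k) K)) {f : RatFunc k}
    (heq : y ^ 2 + y = algebraMap (RatFunc k) K f)
    (hodd : ∀ p : Place k (RatFunc k), 1 < p.1 f → Odd (p.ord f))
    (q : k[X]) (hq0 : q ≠ 0)
    (hq : ∀ p : Place k (RatFunc k), p.1 RatFunc.X ≤ 1 →
      p.ord (algebraMap k[X] (RatFunc k) q) = if 1 < p.1 f then (1 - p.ord f) / 2 else 0)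
    (hfr : finrank K (Ω[K⁄k]) = 1)
    (hDx : KaehlerDifferential.D k K (algebraMap (RatFunc k) K RatFunc.X) ≠ 0)
    {F : Type w} [Field F] [Algebra k F] [FiniteDimensional k F] (P : Place k K)
    (φ : K →ₐ[k] F⸨X⸩) (hφ : LocRes.IsExpansionAt P.1 φ) (i : ℕ) (hi : i < genus k K) :
    LocRes.vDiff φ (algebraMap (RatFunc k) K
      (RatFunc.X ^ i / algebraMap k[X] (RatFunc k) q)) (algebraMap (RatFunc k) K RatFunc.X) ≤ 1 := by
  classical
  have hK₀ : IsFunctionField k (RatFunc k) := isFunctionField_ratFunc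
  haveI : FiniteDimensional (RatFunc k) K := Module.finite_of_finrank_pos (by rw [hdeg]; norm_num)
  haveI : Algebra.IsAlgebraic (RatFunc k) K := Algebra.IsAlgebraic.of_finite _ _
  haveI : Algebra.IsSeparable k F := isSeparable_of_expansion hfr hφ
  haveI : Algebra.IsSeparable k (IsLocalRing.ResidueField P.O) :=
    isSeparable_residue_of_expansion P φ hφ
  obtain ⟨x, hx⟩ : ∃ x : K, x = algebraMap (RatFunc k) K RatFunc.X := ⟨_, rfl⟩
  rw [← hx] at hDx ⊢
  have hf0 : f ≠ 0 := by
    rintro rfl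
    rw [map_zero] at heq
    have h1 : y * (y + 1) = 0 := by rw [← heq]; ring
    rcases mul_eq_zero.1 h1 with h | h
    · exact hy ⟨0, by rw [map_zero, h]⟩
    · exact hy ⟨-1, by rw [map_neg, map_one]; exact (eq_neg_of_add_eq_zero_left h).symm⟩
  have hpole : ∀ p : Place k (RatFunc k), 1 < p.1 f ↔ p.ord f < 0 :=
    fun p => (ord_neg_iff p hf0).symm
  have hodd' : ∀ p : Place k (RatFunc k), p.ord f < 0 → Odd (p.ord f) :=
    fun p h => hodd p ((hpole p).2 h)
  obtain ⟨B, hB⟩ := exists_asB f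
  have hq' : ∀ p : Place k (RatFunc k), p.1 RatFunc.X ≤ 1 →
      p.ord (algebraMap k[X] (RatFunc k) q) = B p := by
    intro p hX
    rw [hq p hX, hB]
    by_cases h : 1 < p.1 f
    · rw [if_pos h, if_pos ((hpole p).1 h)]
    · rw [if_neg h, if_neg (fun h' => h ((hpole p).2 h'))]
  have hq₀ : algebraMap k[X] (RatFunc k) q ≠ 0 :=
    (map_ne_zero_iff _ (IsFractionRing.injective k[X] (RatFunc k))).2 hq0
  have hram : ∀ p : Place k (RatFunc k), p.ord f < 0 → ∀ P : Place k K, IsOver P p →
      IsOverWith P p 2 := by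
    intro p hp P hP
    exact ((ramified_of_two_le hK₀ hdeg p
      (fun Q hQ => as_two_le_ramIdx heq p hp (hodd' p hp) Q hQ)).2 P hP).1
  obtain ⟨p, e, he⟩ := exists_isOverWith hK₀ P
  have hepos := isOverWith_pos he
  have hvd : LocRes.vDiff φ (algebraMap (RatFunc k) K
      (RatFunc.X ^ i / algebraMap k[X] (RatFunc k) q)) x =
      (p.1 RatFunc.X ^ i / p.1 (algebraMap k[X] (RatFunc k) q)) ^ e *
        Valued.v (LocRes.D F (φ x)) := by
    unfold LocRes.vDiff
    rw [map_mul, hφ.1, he, map_div₀, map_pow]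
  rw [hvd]
  have hPx : P.1 x = p.1 RatFunc.X ^ e := by rw [hx]; exact he RatFunc.X
  have hW0 : Valued.v (LocRes.D F (φ x)) ≠ 0 :=
    (Valuation.ne_zero_iff _).2 (D_expansion_ne_zero hfr hφ hDx)
  obtain ⟨w, hw⟩ : ∃ w : ℤ, Valued.v (LocRes.D F (φ x)) = WithZero.exp w :=
    ⟨_, (WithZero.exp_log hW0).symm⟩
  rcases le_or_gt (p.1 RatFunc.X) 1 with hfin | hinf
  · -- finite places
    have hvDx : Valued.v (LocRes.D F (φ x)) ≤ 1 :=
      val_D_le_one (by rw [hφ.1, hPx]; exact pow_le_one' hfin e)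
    have hXi : p.1 RatFunc.X ^ i ≤ 1 := pow_le_one' hfin i
    by_cases hp : p.ord f < 0
    · -- a finite pole
      have he2 : IsOverWith P p 2 := hram p hp P ⟨e, he⟩
      have hee : e = 2 := isOverWith_unique he he2
      subst hee
      obtain ⟨j, hj⟩ := hodd' p hp
      have hordq : p.ord (algebraMap k[X] (RatFunc k) q) = -j := by
        rw [hq' p hfin, hB, if_pos hp, hj]; omega
      have hpq : p.1 (algebraMap k[X] (RatFunc k) q) = WithZero.exp j := by
        rw [val_eq_exp_neg_ord p hq₀, hordq, neg_neg]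
      have hjneg : j < 0 := by omega
      have hpqlt : p.1 (algebraMap k[X] (RatFunc k) q) < 1 := by
        rw [hpq, ← WithZero.exp_zero, WithZero.exp_lt_exp]; exact hjneg
      obtain ⟨π, hπirr, hπq, hπlt⟩ := exists_irreducible_factor_of_ratPlace p hfin hq0 hpqlt
      have hπu : p.1 (algebraMap k[X] (RatFunc k) π) = WithZero.exp (-1 : ℤ) :=
        ratPlace_irreducible_eq p hπirr hπlt
      have hπsep : π.Separable := PerfectField.separable_of_irreducible hπirr
      have hπ' : p.1 (algebraMap k[X] (RatFunc k) (derivative π)) = 1 :=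
        ratPlace_coprime_eq_one p hπirr.ne_zero hπlt ((separable_def π).1 hπsep)
      have haev : ∀ g : k[X],
          algebraMap (RatFunc k) K (algebraMap k[X] (RatFunc k) g) = aeval x g := by
        intro g
        rw [hx, aeval_algebraMap_apply, RatFunc.aeval_X_left_eq_algebraMap]
      obtain ⟨c, hc⟩ : ∃ c : K,
          c = algebraMap (RatFunc k) K (algebraMap k[X] (RatFunc k) (derivative π)) := ⟨_, rfl⟩
      have hPc : P.1 c = 1 := by rw [hc, he2, hπ', one_pow]
      have hc0 : c ≠ 0 := by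
        intro h
        rw [h, map_zero] at hPc
        exact zero_ne_one hPc
      have hDt : KaehlerDifferential.D k K
          (algebraMap (RatFunc k) K (algebraMap k[X] (RatFunc k) π)) =
          c • KaehlerDifferential.D k K x := by
        rw [haev, Derivation.comp_aeval_eq, ← haev, ← hc]
      have htD : KaehlerDifferential.D k K
          (algebraMap (RatFunc k) K (algebraMap k[X] (RatFunc k) π)) ≠ 0 := by
        rw [hDt]; exact smul_ne_zero hc0 hDx
      have hV := as_val_D_unif h2 heq hfr hp ⟨j, hj⟩ he2 hφ hπu htD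
      have hrel := dExp_eq φ hDt
      rw [hrel, map_mul, hφ.1, hPc, one_mul, hw, WithZero.exp_inj] at hV
      rw [hw, hpq, div_eq_mul_inv, ← WithZero.exp_neg]
      calc (p.1 RatFunc.X ^ i * WithZero.exp (-j)) ^ 2 * WithZero.exp w
          ≤ (1 * WithZero.exp (-j)) ^ 2 * WithZero.exp w :=
            mul_le_mul' (pow_le_pow_left' (mul_le_mul' hXi le_rfl) 2) le_rfl
        _ = 1 := by
            rw [one_mul, ← WithZero.exp_nsmul, ← WithZero.exp_add, ← WithZero.exp_zero]
            congr 1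
            simp only [nsmul_eq_mul]
            push_cast
            omega
    · -- a finite place where `f` is regular
      have hordq : p.ord (algebraMap k[X] (RatFunc k) q) = 0 := by
        rw [hq' p hfin, hB, if_neg hp]
      have hpq : p.1 (algebraMap k[X] (RatFunc k) q) = 1 := (ord_eq_zero_iff p hq₀).1 hordq
      rw [hpq, div_one]
      calc (p.1 RatFunc.X ^ i) ^ e * Valued.v (LocRes.D F (φ x))
          ≤ 1 * 1 := mul_le_mul' (pow_le_one' hXi e) hvDx
        _ = 1 := one_mul 1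
  · -- the place at infinity
    have hX₀e : p.1 RatFunc.X = WithZero.exp (1 : ℤ) := ratInf_val_X p hinf
    have hordq : p.ord (algebraMap k[X] (RatFunc k) q) = -(q.natDegree : ℤ) :=
      ratInf_ord_poly p hinf hq0
    have hpq : p.1 (algebraMap k[X] (RatFunc k) q) = WithZero.exp (q.natDegree : ℤ) := by
      rw [val_eq_exp_neg_ord p hq₀, hordq, neg_neg]
    have hgen := as_genus_q hK h2 hdeg hy heq hodd' B hB q hq0 hq' hinf
    have hi' : (i : ℤ) < genus k K := by exact_mod_cast hi
    have hPxe : P.1 x = WithZero.exp (e : ℤ) := by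
      rw [hPx, hX₀e, ← WithZero.exp_nsmul]; simp
    have hratio : (p.1 RatFunc.X ^ i / p.1 (algebraMap k[X] (RatFunc k) q)) ^ e =
        WithZero.exp ((e : ℤ) * ((i : ℤ) - q.natDegree)) := by
      rw [hX₀e, hpq, ← WithZero.exp_nsmul, div_eq_mul_inv, ← WithZero.exp_neg,
        ← WithZero.exp_add, ← WithZero.exp_nsmul]
      congr 1
      simp only [nsmul_eq_mul]
      ring
    rw [hratio]
    by_cases hp : p.ord f < 0
    · -- a pole at infinity
      have he2 : IsOverWith P p 2 := hram p hp P ⟨e, he⟩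
      have hee : e = 2 := isOverWith_unique he he2
      subst hee
      obtain ⟨j, hj⟩ := hodd' p hp
      have hBp : B p = -j := by rw [hB, if_pos hp, hj]; omega
      have ht₀ : p.1 (RatFunc.X : RatFunc k)⁻¹ = WithZero.exp (-1 : ℤ) := by
        rw [map_inv₀, hX₀e, ← WithZero.exp_neg]
      have hx0 : x ≠ 0 := by
        intro h
        rw [h, map_zero] at hPxe
        exact WithZero.exp_ne_zero hPxe.symm
      have hDt : KaehlerDifferential.D k K (algebraMap (RatFunc k) K (RatFunc.X : RatFunc k)⁻¹) =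
          (-x⁻¹ ^ 2) • KaehlerDifferential.D k K x := by
        rw [map_inv₀, ← hx, Derivation.leibniz_inv]
      have hc0 : (-x⁻¹ ^ 2 : K) ≠ 0 := neg_ne_zero.2 (pow_ne_zero 2 (inv_ne_zero hx0))
      have htD : KaehlerDifferential.D k K
          (algebraMap (RatFunc k) K (RatFunc.X : RatFunc k)⁻¹) ≠ 0 := by
        rw [hDt]; exact smul_ne_zero hc0 hDx
      have hV := as_val_D_unif h2 heq hfr hp ⟨j, hj⟩ he2 hφ ht₀ htD
      have hrel := dExp_eq φ hDt
      rw [hrel, map_mul, hφ.1, Valuation.map_neg, map_pow, map_inv₀, hPxe, hw,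
        ← WithZero.exp_neg, ← WithZero.exp_nsmul, ← WithZero.exp_add, WithZero.exp_inj] at hV
      rw [hw, ← WithZero.exp_add, ← WithZero.exp_zero, WithZero.exp_le_exp]
      simp only [nsmul_eq_mul] at hV
      push_cast at hV ⊢
      omega
    · -- infinity is not a pole
      have hBp : B p = 0 := by rw [hB, if_neg hp]
      have hf1 : p.1 f ≤ 1 := (ord_nonneg_iff p hf0).1 (not_lt.1 hp)
      have he1 : e = 1 := as_unramified h2 hdeg hy heq p hf1 he
      subst he1
      have hvDx : Valued.v (LocRes.D F (φ x)) ≤ WithZero.exp (2 : ℤ) := by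
        have := val_D_le (f := φ x) (n := -(1 : ℤ)) (by rw [hφ.1, hPxe]; simp)
        have h8 : -(-(1 : ℤ) - 1) = 2 := by ring
        rwa [h8] at this
      calc WithZero.exp (((1 : ℕ) : ℤ) * ((i : ℤ) - q.natDegree)) * Valued.v (LocRes.D F (φ x))
          ≤ WithZero.exp (((1 : ℕ) : ℤ) * ((i : ℤ) - q.natDegree)) * WithZero.exp (2 : ℤ) :=
            mul_le_mul' le_rfl hvDx
        _ = WithZero.exp (((1 : ℕ) : ℤ) * ((i : ℤ) - q.natDegree) + 2) := by
            rw [← WithZero.exp_add]
        _ ≤ 1 := by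
            rw [← WithZero.exp_zero, WithZero.exp_le_exp]
            push_cast
            omega

end ASD2

section ASD3

open scoped KaehlerDifferential
open Groth.Agent.Helper16.Tate

variable {k : Type u} {K : Type v} [Field k] [Field K] [Algebra k K] [Algebra (RatFunc k) K]
  [IsScalarTower k (RatFunc k) K]

set_option maxHeartbeats 800000 in
/-- the forms `x^i dx / q(x)`, `i < g`, are a basis of the regular differentials of an
Artin–Schreier function field in characteristic two -/
theorem as_regular_basis [PerfectField k] (hK : IsFunctionField k K)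
    (hdeg : finrank (RatFunc k) K = 2) (h2 : ringChar k = 2)
    [Algebra.IsSeparable (RatFunc k) K] (y : K)
    (hy : y ∉ Set.range (algebraMap (RatFunc k) K)) (f : RatFunc k)
    (heq : y ^ 2 + y = algebraMap (RatFunc k) K f)
    (hodd : ∀ p : Place k (RatFunc k), 1 < p.1 f → Odd (p.ord f))
    (q : k[X]) (hq0 : q ≠ 0)
    (hq : ∀ p : Place k (RatFunc k), p.1 RatFunc.X ≤ 1 →
      p.ord (algebraMap k[X] (RatFunc k) q) = if 1 < p.1 f then (1 - p.ord f) / 2 else 0)
    (F : Place k K → Type w) [∀ P, Field (F P)] [∀ P, Algebra k (F P)]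
    [∀ P, FiniteDimensional k (F P)]
    (φ : ∀ P, K →ₐ[k] (F P)⸨X⸩) (hφ : ∀ P, LocRes.IsExpansionAt P.1 (φ P)) :
    (∀ i : ℕ, i < genus k K → ∀ P,
      LocRes.vDiff (φ P) (algebraMap (RatFunc k) K
        (RatFunc.X ^ i / algebraMap k[X] (RatFunc k) q))
        (algebraMap (RatFunc k) K RatFunc.X) ≤ 1) ∧
    ∀ z : K, (∀ P, LocRes.vDiff (φ P) z (algebraMap (RatFunc k) K RatFunc.X) ≤ 1) →
      ∃ a : k[X], a.degree < (genus k K : WithBot ℕ) ∧
        z = algebraMap (RatFunc k) K
          (algebraMap k[X] (RatFunc k) a / algebraMap k[X] (RatFunc k) q) := by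
  classical
  haveI : FiniteDimensional (RatFunc k) K := Module.finite_of_finrank_pos (by rw [hdeg]; norm_num)
  obtain ⟨hfr, hDx⟩ := kaehler_over_ratFunc (k := k) (K := K)
  have hA : ∀ i : ℕ, i < genus k K → ∀ P,
      LocRes.vDiff (φ P) (algebraMap (RatFunc k) K
        (RatFunc.X ^ i / algebraMap k[X] (RatFunc k) q))
        (algebraMap (RatFunc k) K RatFunc.X) ≤ 1 := by
    intro i hi P
    exact as_vDiff_le_one hK h2 hdeg hy heq hodd q hq0 hq hfr hDx P (φ P) (hφ P) i hi
  refine ⟨hA, ?_⟩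
  set x : K := algebraMap (RatFunc k) K RatFunc.X with hx
  set g := genus k K with hg
  have hxt : Transcendental k x :=
    (transcendental_algebraMap_iff (algebraMap (RatFunc k) K).injective).2
      (RatFunc.transcendental_X (K := k))
  have haev : ∀ g' : k[X],
      algebraMap (RatFunc k) K (algebraMap k[X] (RatFunc k) g') = aeval x g' := by
    intro g'
    rw [hx, aeval_algebraMap_apply, RatFunc.aeval_X_left_eq_algebraMap]
  have hqx0 : aeval x q ≠ 0 := fun h =>
    hq0 ((transcendental_iff_injective.1 hxt) (by rw [h, map_zero]))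
  have hzi : ∀ i : ℕ, algebraMap (RatFunc k) K
      (RatFunc.X ^ i / algebraMap k[X] (RatFunc k) q) = x ^ i * (aeval x q)⁻¹ := by
    intro i
    rw [map_div₀, map_pow, haev, div_eq_mul_inv]
  -- the space of regular differentials
  set V : Submodule k K := MD φ x 0 with hV
  have hVmem : ∀ z : K, z ∈ V ↔ ∀ P, LocRes.vDiff (φ P) z x ≤ 1 := by
    intro z
    show (∀ P, LocRes.vDiff (φ P) z x ≤ WithZero.exp (-((0 : Divisor k K) P))) ↔ _
    simp
  have hVfin : Module.Finite k V := TateFr.finiteDimensional_MD hK φ hφ hfr hDx 0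
  have hVrank : finrank k V = g := TateFr.finrank_MD_zero hK φ hφ hfr hDx
  let Ψ : degreeLT k g →ₗ[k] K :=
    (LinearMap.mulRight k (aeval x q)⁻¹) ∘ₗ (aeval x).toLinearMap ∘ₗ (degreeLT k g).subtype
  have hΨ : ∀ a : degreeLT k g, Ψ a = aeval x (a : k[X]) * (aeval x q)⁻¹ := fun a => rfl
  have hΨmem : ∀ a : degreeLT k g, Ψ a ∈ V := by
    intro a
    rw [hΨ, aeval_eq_sum_range, Finset.sum_mul]
    refine Submodule.sum_mem _ fun i _ => ?_
    by_cases hi : i < g
    · rw [smul_mul_assoc, ← hzi]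
      exact Submodule.smul_mem _ _ ((hVmem _).2 (hA i hi))
    · have hdeg' : (a : k[X]).degree < (g : WithBot ℕ) := Polynomial.mem_degreeLT.1 a.2
      have : (a : k[X]).coeff i = 0 :=
        coeff_eq_zero_of_degree_lt (lt_of_lt_of_le hdeg' (by exact_mod_cast not_lt.1 hi))
      rw [this, zero_smul, zero_mul]
      exact Submodule.zero_mem _
  let Φ : degreeLT k g →ₗ[k] V := Ψ.codRestrict V hΨmem
  have hΦinj : Function.Injective Φ := by
    intro a b hab
    have h1 : Ψ a = Ψ b := congrArg Subtype.val hab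
    rw [hΨ, hΨ] at h1
    have h3 : aeval x (a : k[X]) = aeval x (b : k[X]) :=
      mul_right_cancel₀ (inv_ne_zero hqx0) h1
    exact Subtype.ext ((transcendental_iff_injective.1 hxt) h3)
  haveI : Module.Finite k (degreeLT k g) := Module.Finite.equiv (degreeLTEquiv k g).symm
  have hΦsurj : Function.Surjective Φ :=
    (LinearMap.injective_iff_surjective_of_finrank_eq_finrank
      (by rw [finrank_degreeLT', hVrank])).1 hΦinj
  intro z hz
  obtain ⟨a, ha⟩ := hΦsurj ⟨z, (hVmem z).2 hz⟩
  refine ⟨(a : k[X]), Polynomial.mem_degreeLT.1 a.2, ?_⟩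
  have h1 : Ψ a = z := congrArg Subtype.val ha
  rw [map_div₀, haev, haev, div_eq_mul_inv, ← hΨ, h1]

end ASD3

end Groth.Agent.Helper17.FF
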