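import Mathlib
import Groth.Prelude.Def_LocRes
import Groth.Agent.Lib.Helper17.FFASD
namespace Groth.Agent.Helper17.FF

universe u v w

open FunFld Module LaurentSeries Polynomial IntermediateField

section ASP1

open scoped KaehlerDifferential

variable {k : Type u} {K : Type v} [Field k] [Field K] [Algebra k K] [Algebra (RatFunc k) K]
  [IsScalarTower k (RatFunc k) K]

set_option maxHeartbeats 1600000 in
/-- `r dx` is regular as soon as `div r ≥ -B + 2∞` -/
theorem as_vDiff_le_one_gen [PerfectField k] (h2 : ringChar k = 2)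
    (hdeg : finrank (RatFunc k) K = 2) [Algebra.IsSeparable (RatFunc k) K] {y : K}
    (hy : y ∉ Set.range (algebraMap (RatFunc k) K)) {f : RatFunc k}
    (heq : y ^ 2 + y = algebraMap (RatFunc k) K f)
    (hodd : ∀ p : Place k (RatFunc k), p.ord f < 0 → Odd (p.ord f))
    (B : Divisor k (RatFunc k))
    (hB : ∀ p : Place k (RatFunc k), B p = if p.ord f < 0 then (1 - p.ord f) / 2 else 0)
    (hfr : finrank K (Ω[K⁄k]) = 1)
    (hDx : KaehlerDifferential.D k K (algebraMap (RatFunc k) K RatFunc.X) ≠ 0)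
    {F : Type w} [Field F] [Algebra k F] [FiniteDimensional k F] (P : Place k K)
    (φ : K →ₐ[k] F⸨X⸩) (hφ : LocRes.IsExpansionAt P.1 φ) (r : RatFunc k)
    (hr : ∀ p : Place k (RatFunc k), p.1 RatFunc.X ≤ 1 → p.1 r ≤ WithZero.exp (B p))
    (hrinf : ∀ p : Place k (RatFunc k), 1 < p.1 RatFunc.X → p.1 r ≤ WithZero.exp (B p - 2)) :
    LocRes.vDiff φ (algebraMap (RatFunc k) K r) (algebraMap (RatFunc k) K RatFunc.X) ≤ 1 := by
  classical
  have hK₀ : IsFunctionField k (RatFunc k) := isFunctionField_ratFunc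
  haveI : FiniteDimensional (RatFunc k) K := Module.finite_of_finrank_pos (by rw [hdeg]; norm_num)
  haveI : Algebra.IsAlgebraic (RatFunc k) K := Algebra.IsAlgebraic.of_finite _ _
  haveI : Algebra.IsSeparable k F := isSeparable_of_expansion hfr hφ
  haveI : Algebra.IsSeparable k (IsLocalRing.ResidueField P.O) :=
    isSeparable_residue_of_expansion P φ hφ
  obtain ⟨x, hx⟩ : ∃ x : K, x = algebraMap (RatFunc k) K RatFunc.X := ⟨_, rfl⟩
  rw [← hx] at hDx ⊢
  have hf0 : f ≠ 0 := by
    rintro rfl
    rw [map_zero] at heq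
    have h1 : y * (y + 1) = 0 := by rw [← heq]; ring
    rcases mul_eq_zero.1 h1 with h | h
    · exact hy ⟨0, by rw [map_zero, h]⟩
    · exact hy ⟨-1, by rw [map_neg, map_one]; exact (eq_neg_of_add_eq_zero_left h).symm⟩
  have hram : ∀ p : Place k (RatFunc k), p.ord f < 0 → ∀ P : Place k K, IsOver P p →
      IsOverWith P p 2 := by
    intro p hp P hP
    exact ((ramified_of_two_le hK₀ hdeg p
      (fun Q hQ => as_two_le_ramIdx heq p hp (hodd p hp) Q hQ)).2 P hP).1
  obtain ⟨p, e, he⟩ := exists_isOverWith hK₀ P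
  have hepos := isOverWith_pos he
  have hvd : LocRes.vDiff φ (algebraMap (RatFunc k) K r) x =
      p.1 r ^ e * Valued.v (LocRes.D F (φ x)) := by
    unfold LocRes.vDiff
    rw [map_mul, hφ.1, he]
  rw [hvd]
  have hPx : P.1 x = p.1 RatFunc.X ^ e := by rw [hx]; exact he RatFunc.X
  have hW0 : Valued.v (LocRes.D F (φ x)) ≠ 0 :=
    (Valuation.ne_zero_iff _).2 (D_expansion_ne_zero hfr hφ hDx)
  obtain ⟨w, hw⟩ : ∃ w : ℤ, Valued.v (LocRes.D F (φ x)) = WithZero.exp w :=
    ⟨_, (WithZero.exp_log hW0).symm⟩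
  rcases le_or_gt (p.1 RatFunc.X) 1 with hfin | hinf
  · -- finite places
    have hvDx : Valued.v (LocRes.D F (φ x)) ≤ 1 :=
      val_D_le_one (by rw [hφ.1, hPx]; exact pow_le_one' hfin e)
    have hrp := hr p hfin
    by_cases hp : p.ord f < 0
    · -- a finite pole
      have he2 : IsOverWith P p 2 := hram p hp P ⟨e, he⟩
      have hee : e = 2 := isOverWith_unique he he2
      subst hee
      obtain ⟨j, hj⟩ := hodd p hp
      have hBp : B p = -j := by rw [hB, if_pos hp, hj]; omega
      have hpoly : ∀ g : k[X], p.1 (algebraMap k[X] (RatFunc k) g) ≤ 1 := by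
        intro g
        have := val_aeval_le_one p.1 p.2.1 hfin g
        rwa [RatFunc.aeval_X_left_eq_algebraMap] at this
      have hden0 : algebraMap k[X] (RatFunc k) f.denom ≠ 0 :=
        (map_ne_zero_iff _ (IsFractionRing.injective k[X] (RatFunc k))).2 f.denom_ne_zero
      have hpf : 1 < p.1 f := (ord_neg_iff p hf0).1 hp
      have hpden : p.1 (algebraMap k[X] (RatFunc k) f.denom) < 1 := by
        refine lt_of_le_of_ne (hpoly _) ?_
        intro h1
        have h3 : p.1 f = p.1 (algebraMap k[X] (RatFunc k) f.num) := by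
          conv_lhs => rw [← RatFunc.num_div_denom f]
          rw [map_div₀, h1, div_one]
        rw [h3] at hpf
        exact absurd (hpoly _) (not_le.2 hpf)
      obtain ⟨π, hπirr, hπq, hπlt⟩ :=
        exists_irreducible_factor_of_ratPlace p hfin f.denom_ne_zero hpden
      have hπu : p.1 (algebraMap k[X] (RatFunc k) π) = WithZero.exp (-1 : ℤ) :=
        ratPlace_irreducible_eq p hπirr hπlt
      have hπsep : π.Separable := PerfectField.separable_of_irreducible hπirr
      have hπ' : p.1 (algebraMap k[X] (RatFunc k) (derivative π)) = 1 :=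
        ratPlace_coprime_eq_one p hπirr.ne_zero hπlt ((separable_def π).1 hπsep)
      have haev : ∀ g : k[X],
          algebraMap (RatFunc k) K (algebraMap k[X] (RatFunc k) g) = aeval x g := by
        intro g
        rw [hx, aeval_algebraMap_apply, RatFunc.aeval_X_left_eq_algebraMap]
      obtain ⟨c, hc⟩ : ∃ c : K,
          c = algebraMap (RatFunc k) K (algebraMap k[X] (RatFunc k) (derivative π)) := ⟨_, rfl⟩
      have hPc : P.1 c = 1 := by rw [hc, he2, hπ', one_pow]
      have hc0 : c ≠ 0 := by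
        intro h
        rw [h, map_zero] at hPc
        exact zero_ne_one hPc
      have hDt : KaehlerDifferential.D k K
          (algebraMap (RatFunc k) K (algebraMap k[X] (RatFunc k) π)) =
          c • KaehlerDifferential.D k K x := by
        rw [haev, Derivation.comp_aeval_eq, ← haev, ← hc]
      have htD : KaehlerDifferential.D k K
          (algebraMap (RatFunc k) K (algebraMap k[X] (RatFunc k) π)) ≠ 0 := by
        rw [hDt]; exact smul_ne_zero hc0 hDx
      have hV := as_val_D_unif h2 heq hfr hp ⟨j, hj⟩ he2 hφ hπu htD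
      have hrel := dExp_eq φ hDt
      rw [hrel, map_mul, hφ.1, hPc, one_mul, hw, WithZero.exp_inj] at hV
      rw [hw]
      rw [hBp] at hrp
      calc p.1 r ^ 2 * WithZero.exp w
          ≤ WithZero.exp (-j) ^ 2 * WithZero.exp w :=
            mul_le_mul' (pow_le_pow_left' hrp 2) le_rfl
        _ = 1 := by
            rw [← WithZero.exp_nsmul, ← WithZero.exp_add, ← WithZero.exp_zero]
            congr 1
            simp only [nsmul_eq_mul]
            push_cast
            omega
    · -- a finite place where `f` is regular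
      have hBp : B p = 0 := by rw [hB, if_neg hp]
      rw [hBp, WithZero.exp_zero] at hrp
      calc p.1 r ^ e * Valued.v (LocRes.D F (φ x))
          ≤ 1 * 1 := mul_le_mul' (pow_le_one' hrp e) hvDx
        _ = 1 := one_mul 1
  · -- the place at infinity
    have hX₀e : p.1 RatFunc.X = WithZero.exp (1 : ℤ) := ratInf_val_X p hinf
    have hPxe : P.1 x = WithZero.exp (e : ℤ) := by
      rw [hPx, hX₀e, ← WithZero.exp_nsmul]; simp
    have hrp := hrinf p hinf
    by_cases hp : p.ord f < 0
    · -- a pole at infinity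
      have he2 : IsOverWith P p 2 := hram p hp P ⟨e, he⟩
      have hee : e = 2 := isOverWith_unique he he2
      subst hee
      obtain ⟨j, hj⟩ := hodd p hp
      have hBp : B p = -j := by rw [hB, if_pos hp, hj]; omega
      have ht₀ : p.1 (RatFunc.X : RatFunc k)⁻¹ = WithZero.exp (-1 : ℤ) := by
        rw [map_inv₀, hX₀e, ← WithZero.exp_neg]
      have hx0 : x ≠ 0 := by
        intro h
        rw [h, map_zero] at hPxe
        exact WithZero.exp_ne_zero hPxe.symm
      have hDt : KaehlerDifferential.D k K (algebraMap (RatFunc k) K (RatFunc.X : RatFunc k)⁻¹) =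
          (-x⁻¹ ^ 2) • KaehlerDifferential.D k K x := by
        rw [map_inv₀, ← hx, Derivation.leibniz_inv]
      have hc0 : (-x⁻¹ ^ 2 : K) ≠ 0 := neg_ne_zero.2 (pow_ne_zero 2 (inv_ne_zero hx0))
      have htD : KaehlerDifferential.D k K
          (algebraMap (RatFunc k) K (RatFunc.X : RatFunc k)⁻¹) ≠ 0 := by
        rw [hDt]; exact smul_ne_zero hc0 hDx
      have hV := as_val_D_unif h2 heq hfr hp ⟨j, hj⟩ he2 hφ ht₀ htD
      have hrel := dExp_eq φ hDt
      rw [hrel, map_mul, hφ.1, Valuation.map_neg, map_pow, map_inv₀, hPxe, hw,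
        ← WithZero.exp_neg, ← WithZero.exp_nsmul, ← WithZero.exp_add, WithZero.exp_inj] at hV
      rw [hw]
      rw [hBp] at hrp
      calc p.1 r ^ 2 * WithZero.exp w
          ≤ WithZero.exp (-j - 2) ^ 2 * WithZero.exp w :=
            mul_le_mul' (pow_le_pow_left' hrp 2) le_rfl
        _ = 1 := by
            rw [← WithZero.exp_nsmul, ← WithZero.exp_add, ← WithZero.exp_zero]
            congr 1
            simp only [nsmul_eq_mul] at hV ⊢
            push_cast at hV ⊢
            omega
    · -- infinity is not a pole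
      have hBp : B p = 0 := by rw [hB, if_neg hp]
      have hf1 : p.1 f ≤ 1 := (ord_nonneg_iff p hf0).1 (not_lt.1 hp)
      have he1 : e = 1 := as_unramified h2 hdeg hy heq p hf1 he
      subst he1
      have hvDx : Valued.v (LocRes.D F (φ x)) ≤ WithZero.exp (2 : ℤ) := by
        have := val_D_le (f := φ x) (n := -(1 : ℤ)) (by rw [hφ.1, hPxe]; simp)
        have h8 : -(-(1 : ℤ) - 1) = 2 := by ring
        rwa [h8] at this
      rw [hBp] at hrp
      calc p.1 r ^ 1 * Valued.v (LocRes.D F (φ x))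
          ≤ WithZero.exp ((0 : ℤ) - 2) ^ 1 * WithZero.exp (2 : ℤ) :=
            mul_le_mul' (pow_le_pow_left' hrp 1) hvDx
        _ = 1 := by
            rw [pow_one, ← WithZero.exp_add, ← WithZero.exp_zero]
            congr 1

end ASP1

section ASP2

variable {k : Type u} [Field k]

lemma val_X_sub_C_le_one (p : Place k (RatFunc k)) (hfin : p.1 RatFunc.X ≤ 1) (β : k) :
    p.1 ((RatFunc.X : RatFunc k) - RatFunc.C β) ≤ 1 := by
  refine Valuation.map_sub_le _ hfin ?_
  rw [← RatFunc.algebraMap_eq_C]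
  exact p.2.1 β

lemma val_X_sub_C_unif (p : Place k (RatFunc k)) {β : k}
    (h : p.1 ((RatFunc.X : RatFunc k) - RatFunc.C β) < 1) :
    p.1 ((RatFunc.X : RatFunc k) - RatFunc.C β) = WithZero.exp (-1 : ℤ) := by
  have h1 : algebraMap k[X] (RatFunc k) (X - C β) = (RatFunc.X : RatFunc k) - RatFunc.C β := by
    rw [map_sub, RatFunc.algebraMap_X, RatFunc.algebraMap_C]
  rw [← h1] at h ⊢
  exact ratPlace_irreducible_eq p (irreducible_X_sub_C β) h

lemma val_X_sub_C_other (p : Place k (RatFunc k)) {α β : k} (hne : α ≠ β)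
    (h : p.1 ((RatFunc.X : RatFunc k) - RatFunc.C α) < 1) :
    p.1 ((RatFunc.X : RatFunc k) - RatFunc.C β) = 1 := by
  have h1 : (RatFunc.X : RatFunc k) - RatFunc.C β =
      ((RatFunc.X : RatFunc k) - RatFunc.C α) + RatFunc.C (α - β) := by
    rw [map_sub]; ring
  have h2 : p.1 (RatFunc.C (α - β) : RatFunc k) = 1 := by
    rw [← RatFunc.algebraMap_eq_C]
    exact val_const p (sub_ne_zero.2 hne)
  rw [h1, Valuation.map_add_eq_of_lt_right _ (by rw [h2]; exact h), h2]

lemma val_X_sub_C_inf (p : Place k (RatFunc k)) (hinf : 1 < p.1 RatFunc.X) (β : k) :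
    p.1 ((RatFunc.X : RatFunc k) - RatFunc.C β) = p.1 RatFunc.X := by
  apply Valuation.map_sub_eq_of_lt_left
  refine lt_of_le_of_lt ?_ hinf
  rw [← RatFunc.algebraMap_eq_C]
  exact p.2.1 β

lemma val_X_sub_C_fin_cases (p : Place k (RatFunc k)) (hfin : p.1 RatFunc.X ≤ 1) (β : k) :
    p.1 ((RatFunc.X : RatFunc k) - RatFunc.C β) = WithZero.exp (-1 : ℤ) ∨
      p.1 ((RatFunc.X : RatFunc k) - RatFunc.C β) = 1 := by
  rcases lt_or_eq_of_le (val_X_sub_C_le_one p hfin β) with h | h
  · left; exact val_X_sub_C_unif p h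
  · right; exact h

/-- the dominant term of a finite sum -/
lemma sum_ne_zero_of_dominant {K₀ : Type*} [Field K₀] [Algebra k K₀] {ι : Type*} [Fintype ι]
    (P : Place k K₀) (w : ι → K₀) (j : ι) (hj : w j ≠ 0)
    (h : ∀ i, i ≠ j → P.1 (w i) < P.1 (w j)) : ∑ i, w i ≠ 0 := by
  classical
  have h1 : P.1 (∑ i ∈ Finset.univ.erase j, w i) < P.1 (w j) :=
    Valuation.map_sum_lt P.1 (val_ne_zero_of_ne_zero P hj)
      (fun i hi => h i (Finset.ne_of_mem_erase hi))
  have h2 : ∑ i, w i = w j + ∑ i ∈ Finset.univ.erase j, w i :=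
    (Finset.add_sum_erase _ _ (Finset.mem_univ j)).symm
  intro h0
  have h4 : P.1 (∑ i, w i) = P.1 (w j) := by
    rw [h2, Valuation.map_add_eq_of_lt_left _ h1]
  rw [h0, map_zero] at h4
  exact val_ne_zero_of_ne_zero P hj h4.symm

end ASP2

section ASP3

variable {k : Type u} [Field k]

/-- index type of the higher-order forms -/
abbrev I1 (B : Finset k) (d : k → ℕ) := {a : ↥B × ℕ // 1 ≤ a.2 ∧ 2 * a.2 + 1 ≤ d (a.1 : k)}

/-- index type of the simple-pole forms -/
abbrev I2 (B : Finset k) := {b : ↥B // (b : k) ≠ 0}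

noncomputable def rA (B : Finset k) (d : k → ℕ) (a : I1 B d) : RatFunc k :=
  ((RatFunc.X : RatFunc k) - RatFunc.C (a.1.1 : k))⁻¹ ^ (a.1.2 + 1)

noncomputable def rB (B : Finset k) (b : I2 B) : RatFunc k :=
  RatFunc.C (b.1 : k) / ((RatFunc.X : RatFunc k) * ((RatFunc.X : RatFunc k) - RatFunc.C (b.1 : k)))

def equivI1 (B : Finset k) (d : k → ℕ) : I1 B d ≃ Σ α : ↥B, Fin ((d (α : k) - 1) / 2) where
  toFun a := ⟨a.1.1, ⟨a.1.2 - 1, by have := a.2; omega⟩⟩
  invFun s := ⟨(s.1, s.2.1 + 1), by
    have := s.2.2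
    show 1 ≤ s.2.1 + 1 ∧ 2 * (s.2.1 + 1) + 1 ≤ d (s.1 : k)
    constructor <;> omega⟩
  left_inv a := by
    apply Subtype.ext
    apply Prod.ext
    · rfl
    · show a.1.2 - 1 + 1 = a.1.2
      have := a.2.1
      omega
  right_inv s := by
    rcases s with ⟨α, ⟨i, hi⟩⟩
    rfl

def equivI2 [DecidableEq k] (B : Finset k) : I2 B ≃ ↥(B.erase 0) where
  toFun b := ⟨b.1.1, Finset.mem_erase.2 ⟨b.2, b.1.2⟩⟩
  invFun c := ⟨⟨c.1, Finset.mem_of_mem_erase c.2⟩, Finset.ne_of_mem_erase c.2⟩
  left_inv b := rfl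
  right_inv c := rfl

lemma card_I1 (B : Finset k) (d : k → ℕ) : Nat.card (I1 B d) = ∑ α ∈ B, (d α - 1) / 2 := by
  rw [Nat.card_congr (equivI1 B d), Nat.card_sigma]
  simp only [Nat.card_fin]
  exact Finset.sum_coe_sort B (fun α => (d α - 1) / 2)

lemma card_I2 (B : Finset k) (h0 : (0 : k) ∈ B) : Nat.card (I2 B) = B.card - 1 := by
  classical
  rw [Nat.card_congr (equivI2 B), Nat.card_eq_fintype_card, Fintype.card_coe,
    Finset.card_erase_of_mem h0]

lemma smul_val_le {K₀ : Type*} [Field K₀] [Algebra k K₀] (p : Place k K₀) (c : k) (r : K₀) :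
    p.1 (c • r) ≤ p.1 r := by
  rw [Algebra.smul_def, map_mul]
  calc p.1 (algebraMap k K₀ c) * p.1 r ≤ 1 * p.1 r := mul_le_mul' (p.2.1 c) le_rfl
    _ = p.1 r := one_mul _

set_option maxHeartbeats 800000 in
theorem pf_linearIndependent (B : Finset k) (d : k → ℕ) :
    LinearIndependent k (Sum.elim (rA B d) (rB B)) := by
  classical
  have hK₀ : IsFunctionField k (RatFunc k) := isFunctionField_ratFunc
  haveI : Fintype (I1 B d) := Fintype.ofEquiv _ (equivI1 B d).symm
  rw [Fintype.linearIndependent_iff]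
  intro c hsum
  have hplace : ∀ α : k, ∃ p : Place k (RatFunc k),
      p.1 ((RatFunc.X : RatFunc k) - RatFunc.C α) < 1 := by
    intro α
    apply exists_zero hK₀
    rintro ⟨c', hc'⟩
    have : (RatFunc.X : RatFunc k) = algebraMap k (RatFunc k) (c' + α) := by
      rw [map_add, hc', RatFunc.algebraMap_eq_C]; ring
    exact (not_mem_range_of_transcendental (RatFunc.transcendental_X (K := k))) ⟨_, this.symm⟩
  have hvalA : ∀ (p : Place k (RatFunc k)) (α₀ : k),
      p.1 ((RatFunc.X : RatFunc k) - RatFunc.C α₀) < 1 → ∀ a : I1 B d,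
      p.1 (rA B d a) = if (a.1.1 : k) = α₀ then WithZero.exp ((a.1.2 : ℤ) + 1) else 1 := by
    intro p α₀ hp a
    unfold rA
    rw [map_pow, map_inv₀]
    split_ifs with h
    · rw [h, val_X_sub_C_unif p hp, ← WithZero.exp_neg, ← WithZero.exp_nsmul]
      congr 1
      simp
    · rw [val_X_sub_C_other p (Ne.symm h) hp, inv_one, one_pow]
  have hvalB : ∀ (p : Place k (RatFunc k)) (α₀ : k),
      p.1 ((RatFunc.X : RatFunc k) - RatFunc.C α₀) < 1 → ∀ b : I2 B,
      p.1 (rB B b) ≤ WithZero.exp (1 : ℤ) ∧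
        (α₀ ≠ 0 → (b.1 : k) ≠ α₀ → p.1 (rB B b) = 1) ∧
        ((b.1 : k) = α₀ → p.1 (rB B b) = WithZero.exp (1 : ℤ)) := by
    intro p α₀ hp b
    have hX : p.1 (RatFunc.X : RatFunc k) = p.1 ((RatFunc.X : RatFunc k) - RatFunc.C 0) := by
      rw [map_zero, sub_zero]
    have hCb : p.1 (RatFunc.C (b.1 : k) : RatFunc k) = 1 := by
      rw [← RatFunc.algebraMap_eq_C]
      exact val_const p b.2
    have hval : p.1 (rB B b) = (p.1 (RatFunc.X : RatFunc k) *
        p.1 ((RatFunc.X : RatFunc k) - RatFunc.C (b.1 : k)))⁻¹ := by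
      unfold rB
      rw [map_div₀, map_mul, hCb, one_div]
    have hinv : ((WithZero.exp (-1 : ℤ) : WithZero (Multiplicative ℤ)))⁻¹ = WithZero.exp (1 : ℤ) := by
      rw [← WithZero.exp_neg]; rfl
    by_cases hb : (b.1 : k) = α₀
    · have h1 : p.1 ((RatFunc.X : RatFunc k) - RatFunc.C (b.1 : k)) = WithZero.exp (-1 : ℤ) := by
        rw [hb]; exact val_X_sub_C_unif p hp
      have h2 : p.1 (RatFunc.X : RatFunc k) = 1 := by
        rw [hX]
        exact val_X_sub_C_other p (by rw [← hb]; exact b.2) hp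
      have h3 : p.1 (rB B b) = WithZero.exp (1 : ℤ) := by rw [hval, h1, h2, one_mul, hinv]
      exact ⟨h3.le, fun _ h => absurd hb h, fun _ => h3⟩
    · have h1 : p.1 ((RatFunc.X : RatFunc k) - RatFunc.C (b.1 : k)) = 1 :=
        val_X_sub_C_other p (Ne.symm hb) hp
      by_cases hα : α₀ = 0
      · have h2 : p.1 (RatFunc.X : RatFunc k) = WithZero.exp (-1 : ℤ) := by
          rw [hX]
          rw [hα] at hp
          exact val_X_sub_C_unif p hp
        have h3 : p.1 (rB B b) = WithZero.exp (1 : ℤ) := by rw [hval, h1, h2, mul_one, hinv]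
        exact ⟨h3.le, fun h => absurd hα h, fun h => absurd h hb⟩
      · have h2 : p.1 (RatFunc.X : RatFunc k) = 1 := by
          rw [hX]
          exact val_X_sub_C_other p hα hp
        have h3 : p.1 (rB B b) = 1 := by rw [hval, h1, h2, one_mul, inv_one]
        refine ⟨?_, fun _ _ => h3, fun h => absurd h hb⟩
        rw [h3, ← WithZero.exp_zero, WithZero.exp_le_exp]
        norm_num
  have step1 : ∀ a : I1 B d, c (Sum.inl a) = 0 := by
    intro a₀
    obtain ⟨p, hp⟩ := hplace (a₀.1.1 : k)
    have key : ∀ n : ℕ, ∀ a : I1 B d, (a.1.1 : k) = (a₀.1.1 : k) →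
        d (a₀.1.1 : k) ≤ a.1.2 + n → c (Sum.inl a) = 0 := by
      intro n
      induction n with
      | zero =>
        intro a ha hn
        exfalso
        have := a.2.2
        rw [ha] at this
        omega
      | succ n ih =>
        intro a ha hn
        by_contra hca
        have hwa : p.1 (c (Sum.inl a) • rA B d a) = WithZero.exp ((a.1.2 : ℤ) + 1) := by
          rw [Algebra.smul_def, map_mul, val_const p hca, one_mul, hvalA p _ hp a, if_pos ha]
        have hw0 : c (Sum.inl a) • rA B d a ≠ 0 := by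
          intro h
          rw [h, map_zero] at hwa
          exact WithZero.exp_ne_zero hwa.symm
        refine sum_ne_zero_of_dominant p (fun i => c i • Sum.elim (rA B d) (rB B) i) (Sum.inl a)
          hw0 ?_ hsum
        intro i hi
        show p.1 (c i • Sum.elim (rA B d) (rB B) i) < p.1 (c (Sum.inl a) • rA B d a)
        rw [hwa]
        rcases i with a' | b
        · show p.1 (c (Sum.inl a') • rA B d a') < _
          have hne : a' ≠ a := fun h => hi (by rw [h])
          by_cases hα : (a'.1.1 : k) = (a₀.1.1 : k)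
          · rcases lt_trichotomy a'.1.2 a.1.2 with hlt | heq | hgt
            · calc p.1 (c (Sum.inl a') • rA B d a') ≤ p.1 (rA B d a') := smul_val_le p _ _
                _ = WithZero.exp ((a'.1.2 : ℤ) + 1) := by rw [hvalA p _ hp a', if_pos hα]
                _ < WithZero.exp ((a.1.2 : ℤ) + 1) := by
                  rw [WithZero.exp_lt_exp]; omega
            · exfalso
              apply hne
              apply Subtype.ext
              apply Prod.ext
              · exact Subtype.ext (hα.trans ha.symm)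
              · exact heq
            · rw [ih a' hα (by omega), zero_smul, map_zero]
              exact WithZero.exp_pos
          · calc p.1 (c (Sum.inl a') • rA B d a') ≤ p.1 (rA B d a') := smul_val_le p _ _
              _ = 1 := by rw [hvalA p _ hp a', if_neg hα]
              _ < WithZero.exp ((a.1.2 : ℤ) + 1) := by
                rw [← WithZero.exp_zero, WithZero.exp_lt_exp]; omega
        · show p.1 (c (Sum.inr b) • rB B b) < _
          calc p.1 (c (Sum.inr b) • rB B b) ≤ p.1 (rB B b) := smul_val_le p _ _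
            _ ≤ WithZero.exp (1 : ℤ) := (hvalB p _ hp b).1
            _ < WithZero.exp ((a.1.2 : ℤ) + 1) := by
              rw [WithZero.exp_lt_exp]
              have := a.2.1
              omega
    exact key (d (a₀.1.1 : k)) a₀ rfl (by omega)
  have step2 : ∀ b : I2 B, c (Sum.inr b) = 0 := by
    intro b₀
    obtain ⟨p, hp⟩ := hplace (b₀.1 : k)
    by_contra hcb
    have hwb : p.1 (c (Sum.inr b₀) • rB B b₀) = WithZero.exp (1 : ℤ) := by
      rw [Algebra.smul_def, map_mul, val_const p hcb, one_mul]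
      exact (hvalB p _ hp b₀).2.2 rfl
    have hw0 : c (Sum.inr b₀) • rB B b₀ ≠ 0 := by
      intro h
      rw [h, map_zero] at hwb
      exact WithZero.exp_ne_zero hwb.symm
    refine sum_ne_zero_of_dominant p (fun i => c i • Sum.elim (rA B d) (rB B) i) (Sum.inr b₀)
      hw0 ?_ hsum
    intro i hi
    show p.1 (c i • Sum.elim (rA B d) (rB B) i) < p.1 (c (Sum.inr b₀) • rB B b₀)
    rw [hwb]
    rcases i with a' | b
    · show p.1 (c (Sum.inl a') • rA B d a') < _
      rw [step1 a', zero_smul, map_zero]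
      exact WithZero.exp_pos
    · show p.1 (c (Sum.inr b) • rB B b) < _
      have hne : (b.1 : k) ≠ (b₀.1 : k) := fun h => hi (by
        congr 1
        exact Subtype.ext (Subtype.ext h))
      calc p.1 (c (Sum.inr b) • rB B b) ≤ p.1 (rB B b) := smul_val_le p _ _
        _ = 1 := (hvalB p _ hp b).2.1 b₀.2 hne
        _ < WithZero.exp (1 : ℤ) := by
          rw [← WithZero.exp_zero, WithZero.exp_lt_exp]; norm_num
  intro i
  rcases i with a | b
  · exact step1 a
  · exact step2 b

end ASP3

section ASP4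

open scoped KaehlerDifferential
open Groth.Agent.Helper16.Tate

variable {k : Type u} {K : Type v} [Field k] [Field K] [Algebra k K] [Algebra (RatFunc k) K]
  [IsScalarTower k (RatFunc k) K]

set_option maxHeartbeats 3200000 in
/-- the partial-fraction basis of the regular differentials -/
theorem as_pf_basis [IsAlgClosed k] [CharP k 2] (hK : IsFunctionField k K)
    (hdeg : finrank (RatFunc k) K = 2) [Algebra.IsSeparable (RatFunc k) K]
    (y : K) (hy : y ∉ Set.range (algebraMap (RatFunc k) K)) (f : RatFunc k)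
    (heq : y ^ 2 + y = algebraMap (RatFunc k) K f)
    (B : Finset k) (h0 : (0 : k) ∈ B) (d : k → ℕ) (hd : ∀ α ∈ B, Odd (d α))
    (hpole : ∀ (p : Place k (RatFunc k)) (α : k), α ∈ B →
      p.1 ((RatFunc.X : RatFunc k) - RatFunc.C α) < 1 → p.ord f = -(d α : ℤ))
    (hint : ∀ p : Place k (RatFunc k),
      (∀ α ∈ B, 1 ≤ p.1 ((RatFunc.X : RatFunc k) - RatFunc.C α)) → p.1 f ≤ 1)
    (F : Place k K → Type w) [∀ P, Field (F P)] [∀ P, Algebra k (F P)]
    [∀ P, FiniteDimensional k (F P)]
    (φ : ∀ P, K →ₐ[k] (F P)⸨X⸩) (hφ : ∀ P, LocRes.IsExpansionAt P.1 (φ P)) :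
    (∀ i P, LocRes.vDiff (φ P) ((Sum.elim
        (fun a : I1 B d => algebraMap (RatFunc k) K (rA B d a))
        (fun b : I2 B => algebraMap (RatFunc k) K (rB B b))) i)
        (algebraMap (RatFunc k) K RatFunc.X) ≤ 1) ∧
    LinearIndependent k (Sum.elim
        (fun a : I1 B d => algebraMap (RatFunc k) K (rA B d a))
        (fun b : I2 B => algebraMap (RatFunc k) K (rB B b))) ∧
    ∀ z : K, (∀ P, LocRes.vDiff (φ P) z (algebraMap (RatFunc k) K RatFunc.X) ≤ 1) →
      z ∈ Submodule.span k (Set.range (Sum.elim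
        (fun a : I1 B d => algebraMap (RatFunc k) K (rA B d a))
        (fun b : I2 B => algebraMap (RatFunc k) K (rB B b)))) := by
  classical
  have hK₀ : IsFunctionField k (RatFunc k) := isFunctionField_ratFunc
  haveI : FiniteDimensional (RatFunc k) K := Module.finite_of_finrank_pos (by rw [hdeg]; norm_num)
  have h2 : ringChar k = 2 := ringChar.eq k 2
  obtain ⟨hfr, hDx⟩ := kaehler_over_ratFunc (k := k) (K := K)
  have hf0 : f ≠ 0 := by
    rintro rfl
    rw [map_zero] at heq
    have h1 : y * (y + 1) = 0 := by rw [← heq]; ring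
    rcases mul_eq_zero.1 h1 with h | h
    · exact hy ⟨0, by rw [map_zero, h]⟩
    · exact hy ⟨-1, by rw [map_neg, map_one]; exact (eq_neg_of_add_eq_zero_left h).symm⟩
  -- the poles of `f`
  have hF1 : ∀ p : Place k (RatFunc k), p.ord f < 0 →
      ∃ α ∈ B, p.1 ((RatFunc.X : RatFunc k) - RatFunc.C α) < 1 := by
    intro p hp
    by_contra hcon
    push Not at hcon
    have := hint p hcon
    have h1 := (ord_nonneg_iff p hf0).2 this
    omega
  have hdpos : ∀ α ∈ B, 1 ≤ d α := by
    intro α hα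
    obtain ⟨r, hr⟩ := hd α hα
    omega
  have hodd' : ∀ p : Place k (RatFunc k), p.ord f < 0 → Odd (p.ord f) := by
    intro p hp
    obtain ⟨α, hα, hpα⟩ := hF1 p hp
    rw [hpole p α hα hpα]
    exact (Int.odd_coe_nat _).2 (hd α hα) |>.neg
  obtain ⟨Bd, hBd⟩ := exists_asB f
  have hF3 : ∀ (p : Place k (RatFunc k)) (α : k), α ∈ B →
      p.1 ((RatFunc.X : RatFunc k) - RatFunc.C α) < 1 → Bd p = ((d α + 1) / 2 : ℕ) := by
    intro p α hα hpα
    have h1 := hpole p α hα hpα
    have h3 := hdpos α hα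
    rw [hBd, if_pos (by rw [h1]; omega), h1]
    push_cast
    omega
  have hF5 : ∀ p : Place k (RatFunc k),
      (∀ α ∈ B, 1 ≤ p.1 ((RatFunc.X : RatFunc k) - RatFunc.C α)) → Bd p = 0 := by
    intro p hp
    have h1 := (ord_nonneg_iff p hf0).2 (hint p hp)
    rw [hBd, if_neg (by omega)]
  have hF4 : ∀ p : Place k (RatFunc k), 1 < p.1 RatFunc.X → Bd p = 0 := by
    intro p hinf
    apply hF5
    intro α _
    rw [val_X_sub_C_inf p hinf]
    exact hinf.le
  have hF6 : ∀ p : Place k (RatFunc k), 0 ≤ Bd p := by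
    intro p
    rw [hBd]
    split_ifs with h
    · omega
    · exact le_rfl
  -- regularity
  have hreg : ∀ r : RatFunc k,
      (∀ p : Place k (RatFunc k), p.1 RatFunc.X ≤ 1 → p.1 r ≤ WithZero.exp (Bd p)) →
      (∀ p : Place k (RatFunc k), 1 < p.1 RatFunc.X → p.1 r ≤ WithZero.exp (Bd p - 2)) →
      ∀ P, LocRes.vDiff (φ P) (algebraMap (RatFunc k) K r)
        (algebraMap (RatFunc k) K RatFunc.X) ≤ 1 := by
    intro r hr hrinf P
    exact as_vDiff_le_one_gen h2 hdeg hy heq hodd' Bd hBd hfr hDx P (φ P) (hφ P) r hr hrinf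
  have hinv : ((WithZero.exp (-1 : ℤ) : WithZero (Multiplicative ℤ)))⁻¹ = WithZero.exp (1 : ℤ) := by
    rw [← WithZero.exp_neg]; rfl
  have hregA : ∀ (a : I1 B d) P, LocRes.vDiff (φ P) (algebraMap (RatFunc k) K (rA B d a))
      (algebraMap (RatFunc k) K RatFunc.X) ≤ 1 := by
    intro a
    have haB : (a.1.1 : k) ∈ B := a.1.1.2
    apply hreg
    · intro p hfin
      have hval : p.1 (rA B d a) =
          (p.1 ((RatFunc.X : RatFunc k) - RatFunc.C (a.1.1 : k)))⁻¹ ^ (a.1.2 + 1) := by
        unfold rA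
        rw [map_pow, map_inv₀]
      rw [hval]
      rcases val_X_sub_C_fin_cases p hfin (a.1.1 : k) with h | h
      · rw [h, hinv, ← WithZero.exp_nsmul, WithZero.exp_le_exp,
          hF3 p _ haB (by rw [h]; exact exp_neg_one_lt_one)]
        have := a.2.2
        simp only [nsmul_eq_mul, mul_one]
        push_cast
        omega
      · rw [h, inv_one, one_pow, ← WithZero.exp_zero, WithZero.exp_le_exp]
        exact hF6 p
    · intro p hinf
      unfold rA
      rw [map_pow, map_inv₀, val_X_sub_C_inf p hinf, ratInf_val_X p hinf, ← WithZero.exp_neg,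
        ← WithZero.exp_nsmul, WithZero.exp_le_exp, hF4 p hinf]
      have := a.2.1
      simp only [nsmul_eq_mul]
      push_cast
      omega
  have hregB : ∀ (b : I2 B) P, LocRes.vDiff (φ P) (algebraMap (RatFunc k) K (rB B b))
      (algebraMap (RatFunc k) K RatFunc.X) ≤ 1 := by
    intro b
    have hbB : (b.1 : k) ∈ B := b.1.2
    have hval : ∀ p : Place k (RatFunc k), p.1 (rB B b) = (p.1 (RatFunc.X : RatFunc k) *
        p.1 ((RatFunc.X : RatFunc k) - RatFunc.C (b.1 : k)))⁻¹ := by
      intro p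
      have hCb : p.1 (RatFunc.C (b.1 : k) : RatFunc k) = 1 := by
        rw [← RatFunc.algebraMap_eq_C]
        exact val_const p b.2
      unfold rB
      rw [map_div₀, map_mul, hCb, one_div]
    apply hreg
    · intro p hfin
      have hX : p.1 (RatFunc.X : RatFunc k) = p.1 ((RatFunc.X : RatFunc k) - RatFunc.C 0) := by
        rw [map_zero, sub_zero]
      rw [hval]
      rcases val_X_sub_C_fin_cases p hfin 0 with h | h
      · have hlt : p.1 ((RatFunc.X : RatFunc k) - RatFunc.C 0) < 1 := by
          rw [h]; exact exp_neg_one_lt_one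
        have h1 : p.1 ((RatFunc.X : RatFunc k) - RatFunc.C (b.1 : k)) = 1 :=
          val_X_sub_C_other p (Ne.symm b.2) hlt
        rw [hX, h, h1, mul_one, hinv, WithZero.exp_le_exp, hF3 p 0 h0 hlt]
        have := hdpos 0 h0
        push_cast
        omega
      · rcases val_X_sub_C_fin_cases p hfin (b.1 : k) with h' | h'
        · have hlt : p.1 ((RatFunc.X : RatFunc k) - RatFunc.C (b.1 : k)) < 1 := by
            rw [h']; exact exp_neg_one_lt_one
          rw [hX, h, h', one_mul, hinv, WithZero.exp_le_exp, hF3 p _ hbB hlt]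
          have := hdpos _ hbB
          push_cast
          omega
        · rw [hX, h, h', one_mul, inv_one, ← WithZero.exp_zero, WithZero.exp_le_exp]
          exact hF6 p
    · intro p hinf
      rw [hval, val_X_sub_C_inf p hinf, ratInf_val_X p hinf, ← WithZero.exp_add,
        ← WithZero.exp_neg, WithZero.exp_le_exp, hF4 p hinf]
      norm_num
  have hpart1 : ∀ i P, LocRes.vDiff (φ P) ((Sum.elim
        (fun a : I1 B d => algebraMap (RatFunc k) K (rA B d a))
        (fun b : I2 B => algebraMap (RatFunc k) K (rB B b))) i)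
        (algebraMap (RatFunc k) K RatFunc.X) ≤ 1 := by
    intro i P
    rcases i with a | b
    · exact hregA a P
    · exact hregB b P
  -- linear independence
  let ι : RatFunc k →ₗ[k] K := (Algebra.linearMap (RatFunc k) K).restrictScalars k
  have hιker : LinearMap.ker ι = ⊥ :=
    LinearMap.ker_eq_bot.2 (algebraMap (RatFunc k) K).injective
  have hLI : LinearIndependent k (Sum.elim
        (fun a : I1 B d => algebraMap (RatFunc k) K (rA B d a))
        (fun b : I2 B => algebraMap (RatFunc k) K (rB B b))) := by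
    have h1 := (pf_linearIndependent B d).map' ι hιker
    have h3 : (ι ∘ Sum.elim (rA B d) (rB B)) = Sum.elim
        (fun a : I1 B d => algebraMap (RatFunc k) K (rA B d a))
        (fun b : I2 B => algebraMap (RatFunc k) K (rB B b)) := by
      funext i
      rcases i with a | b <;> rfl
    rw [h3] at h1
    exact h1
  refine ⟨hpart1, hLI, ?_⟩
  -- spanning, by a dimension count
  set x : K := algebraMap (RatFunc k) K RatFunc.X with hx
  set V : Submodule k K := MD φ x 0 with hV
  have hVmem : ∀ z : K, z ∈ V ↔ ∀ P, LocRes.vDiff (φ P) z x ≤ 1 := by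
    intro z
    show (∀ P, LocRes.vDiff (φ P) z x ≤ WithZero.exp (-((0 : Divisor k K) P))) ↔ _
    simp
  have hVfin : Module.Finite k V := TateFr.finiteDimensional_MD hK φ hφ hfr hDx 0
  have hVrank : finrank k V = genus k K := TateFr.finrank_MD_zero hK φ hφ hfr hDx
  -- the genus
  obtain ⟨q, hq⟩ : ∃ q : k[X], q = ∏ α ∈ B, (X - C α) ^ ((d α + 1) / 2) := ⟨_, rfl⟩
  have hq0 : q ≠ 0 := by
    rw [hq]
    exact Finset.prod_ne_zero_iff.2 (fun α _ => pow_ne_zero _ (X_sub_C_ne_zero α))
  have hqdeg : q.natDegree = ∑ α ∈ B, (d α + 1) / 2 := by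
    rw [hq, natDegree_prod_of_monic _ _ (fun α _ => (monic_X_sub_C α).pow _)]
    refine Finset.sum_congr rfl (fun α _ => ?_)
    rw [(monic_X_sub_C α).natDegree_pow, natDegree_X_sub_C, mul_one]
  have hqmap : algebraMap k[X] (RatFunc k) q =
      ∏ α ∈ B, ((RatFunc.X : RatFunc k) - RatFunc.C α) ^ ((d α + 1) / 2) := by
    rw [hq, map_prod]
    refine Finset.prod_congr rfl (fun α _ => ?_)
    rw [map_pow, map_sub, RatFunc.algebraMap_X, RatFunc.algebraMap_C]
  have hq' : ∀ p : Place k (RatFunc k), p.1 RatFunc.X ≤ 1 →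
      p.ord (algebraMap k[X] (RatFunc k) q) = Bd p := by
    intro p hfin
    have hne : ∀ α : k, (RatFunc.X : RatFunc k) - RatFunc.C α ≠ 0 := by
      intro α h
      rcases val_X_sub_C_fin_cases p hfin α with h' | h'
      · rw [h, map_zero] at h'; exact WithZero.exp_ne_zero h'.symm
      · rw [h, map_zero] at h'; exact zero_ne_one h'
    rw [hqmap, ord_prod p B _ (fun α _ => pow_ne_zero _ (hne α))]
    have hterm : ∀ α : k, p.ord (((RatFunc.X : RatFunc k) - RatFunc.C α) ^ ((d α + 1) / 2)) =
        (((d α + 1) / 2 : ℕ) : ℤ) * p.ord ((RatFunc.X : RatFunc k) - RatFunc.C α) :=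
      fun α => ord_pow p _ _
    simp only [hterm]
    by_cases hex : ∃ α ∈ B, p.1 ((RatFunc.X : RatFunc k) - RatFunc.C α) < 1
    · obtain ⟨α₀, hα₀, hpα₀⟩ := hex
      rw [Finset.sum_eq_single_of_mem α₀ hα₀, hF3 p α₀ hα₀ hpα₀]
      · have h1 : p.ord ((RatFunc.X : RatFunc k) - RatFunc.C α₀) = 1 := by
          have := (val_eq_exp_iff p (hne α₀) (-1)).1 (val_X_sub_C_unif p hpα₀)
          rw [this]; norm_num
        rw [h1, mul_one]
      · intro β _ hβ
        have h1 : p.ord ((RatFunc.X : RatFunc k) - RatFunc.C β) = 0 :=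
          (ord_eq_zero_iff p (hne β)).2 (val_X_sub_C_other p (Ne.symm hβ) hpα₀)
        rw [h1, mul_zero]
    · push Not at hex
      rw [hF5 p hex]
      refine Finset.sum_eq_zero (fun β hβ => ?_)
      have h1 : p.ord ((RatFunc.X : RatFunc k) - RatFunc.C β) = 0 :=
        (ord_eq_zero_iff p (hne β)).2
          (le_antisymm (val_X_sub_C_le_one p hfin β) (hex β hβ))
      rw [h1, mul_zero]
  obtain ⟨Pinf, hinf⟩ := exists_pole hK₀
    (not_mem_range_of_transcendental (RatFunc.transcendental_X (K := k)))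
  have hgen := as_genus_q hK h2 hdeg hy heq hodd' Bd hBd q hq0 hq' hinf
  rw [hF4 Pinf hinf, add_zero, hqdeg] at hgen
  -- the cardinality of the index set
  haveI : Fintype (I1 B d) := Fintype.ofEquiv _ (equivI1 B d).symm
  have hcard : Fintype.card (I1 B d ⊕ I2 B) = genus k K := by
    rw [← Nat.card_eq_fintype_card, Nat.card_sum, card_I1, card_I2 B h0]
    have hsum : ∑ α ∈ B, (d α + 1) / 2 = ∑ α ∈ B, (d α - 1) / 2 + B.card := by
      rw [Finset.card_eq_sum_ones, ← Finset.sum_add_distrib]
      refine Finset.sum_congr rfl (fun α hα => ?_)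
      have := hdpos α hα
      omega
    have hBpos : 1 ≤ B.card := Finset.card_pos.2 ⟨0, h0⟩
    have h5 : (genus k K : ℤ) = -1 + ((∑ α ∈ B, (d α - 1) / 2 + B.card : ℕ) : ℤ) := by
      rw [← hsum]; exact hgen
    push_cast at h5
    omega
  set W : Submodule k K := Submodule.span k (Set.range (Sum.elim
        (fun a : I1 B d => algebraMap (RatFunc k) K (rA B d a))
        (fun b : I2 B => algebraMap (RatFunc k) K (rB B b)))) with hW
  have hWV : W ≤ V := by
    rw [hW, Submodule.span_le]
    rintro _ ⟨i, rfl⟩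
    exact (hVmem _).2 (fun P => hpart1 i P)
  have hWrank : finrank k W = finrank k V := by
    rw [hW, finrank_span_eq_card hLI, hcard, hVrank]
  have hWeq : W = V := Submodule.eq_of_le_of_finrank_eq hWV hWrank
  intro z hz
  rw [hWeq]
  exact (hVmem z).2 hz

end ASP4

end Groth.Agent.Helper17.FF
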