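import Mathlib
import Groth.Prelude.Def_LocRes
import Groth.Agent.Lib.Helper17.FFASP
namespace Groth.Agent.Helper17.FF

universe u v w

open FunFld Module Polynomial IntermediateField

section ASH1

variable {k : Type u} [Field k]

lemma single_mem_adele {K : Type v} [Field K] [Algebra k K] [DecidableEq (Place k K)]
    (P : Place k K) (z : K) : (Pi.single P z : Place k K → K) ∈ adele k K := by
  show ∀ᶠ Q : Place k K in Filter.cofinite, Q.1 ((Pi.single P z : Place k K → K) Q) ≤ 1
  rw [Filter.eventually_cofinite]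
  refine (Set.finite_singleton P).subset ?_
  intro Q hQ
  by_contra hne
  apply hQ
  have hne' : Q ≠ P := fun h => hne (Set.mem_singleton_iff.2 h)
  rw [Pi.single_eq_of_ne hne', map_zero]
  exact zero_le_one

lemma val_aeval_unif_ge {K₀ : Type*} [Field K₀] [Algebra k K₀] (p : Place k K₀) {t : K₀}
    (ht : p.1 t = WithZero.exp (-1 : ℤ)) :
    ∀ (n : ℕ) (Q : k[X]), Q ≠ 0 → Q.natDegree ≤ n →
      WithZero.exp (-(n : ℤ)) ≤ p.1 (aeval t Q) := by
  have ht1 : p.1 t ≤ 1 := by rw [ht]; exact exp_neg_one_lt_one.le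
  intro n
  induction n with
  | zero =>
    intro Q hQ hdeg
    have hQC : Q = C (Q.coeff 0) := eq_C_of_natDegree_le_zero hdeg
    have hc0 : Q.coeff 0 ≠ 0 := fun h => hQ (by rw [hQC, h, map_zero])
    rw [hQC, aeval_C, val_const p hc0, Nat.cast_zero, neg_zero, WithZero.exp_zero]
  | succ n ih =>
    intro Q hQ hdeg
    have hdecomp : aeval t Q = aeval t Q.divX * t + algebraMap k K₀ (Q.coeff 0) := by
      conv_lhs => rw [← divX_mul_X_add Q]
      rw [map_add, map_mul, aeval_X, aeval_C]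
    by_cases hc0 : Q.coeff 0 = 0
    · have hdiv0 : Q.divX ≠ 0 := by
        intro h
        apply hQ
        rw [← divX_mul_X_add Q, h, hc0, zero_mul, map_zero, add_zero]
      have hdivdeg : Q.divX.natDegree ≤ n := by
        rw [natDegree_divX_eq_natDegree_tsub_one]; omega
      have h1 := ih Q.divX hdiv0 hdivdeg
      rw [hdecomp, hc0, map_zero, add_zero, map_mul, ht]
      calc WithZero.exp (-((n + 1 : ℕ) : ℤ))
          = WithZero.exp (-(n : ℤ)) * WithZero.exp (-1 : ℤ) := by
            rw [← WithZero.exp_add]; congr 1; push_cast; ring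
        _ ≤ _ := mul_le_mul' h1 le_rfl
    · have h1 : p.1 (aeval t Q.divX * t) < 1 := by
        rw [map_mul, ht]
        calc p.1 (aeval t Q.divX) * WithZero.exp (-1 : ℤ) ≤ 1 * WithZero.exp (-1 : ℤ) :=
              mul_le_mul' (val_aeval_le_one p.1 p.2.1 ht1 _) le_rfl
          _ < 1 := by rw [one_mul]; exact exp_neg_one_lt_one
      have h2 : p.1 (algebraMap k K₀ (Q.coeff 0)) = 1 := val_const p hc0
      rw [hdecomp, Valuation.map_add_eq_of_lt_right _ (by rw [h2]; exact h1), h2,
        ← WithZero.exp_zero, WithZero.exp_le_exp]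
      omega

end ASH1

section ASH2

variable {k : Type u} {K : Type v} [Field k] [Field K] [Algebra k K] [Algebra (RatFunc k) K]
  [IsScalarTower k (RatFunc k) K]

/-- the family of repartitions -/
noncomputable def xi [DecidableEq (Place k K)] (y : K) (B : Finset k) (d : k → ℕ)
    (Pl : k → Place k K) : I1 B d ⊕ I2 B → (Place k K → K) :=
  Sum.elim
    (fun a : I1 B d => (Pi.single (Pl (a.1.1 : k))
      (y * ((algebraMap (RatFunc k) K RatFunc.X) - (algebraMap k K (a.1.1 : k))) ^ a.1.2) :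
        Place k K → K))
    (fun b : I2 B => (Pi.single (Pl (b.1 : k)) y : Place k K → K))

set_option maxHeartbeats 1600000 in
theorem as_card_eq_genus [IsAlgClosed k] [CharP k 2] (hK : IsFunctionField k K)
    (hdeg : finrank (RatFunc k) K = 2) [Algebra.IsSeparable (RatFunc k) K]
    (y : K) (hy : y ∉ Set.range (algebraMap (RatFunc k) K)) (f : RatFunc k)
    (heq : y ^ 2 + y = algebraMap (RatFunc k) K f)
    (B : Finset k) (h0 : (0 : k) ∈ B) (d : k → ℕ) (hd : ∀ α ∈ B, Odd (d α))
    (hpole : ∀ (p : Place k (RatFunc k)) (α : k), α ∈ B →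
      p.1 ((RatFunc.X : RatFunc k) - RatFunc.C α) < 1 → p.ord f = -(d α : ℤ))
    (hint : ∀ p : Place k (RatFunc k),
      (∀ α ∈ B, 1 ≤ p.1 ((RatFunc.X : RatFunc k) - RatFunc.C α)) → p.1 f ≤ 1)
    [Fintype (I1 B d)] [Fintype (I2 B)] :
    Fintype.card (I1 B d ⊕ I2 B) = genus k K := by
  classical
  have hK₀ : IsFunctionField k (RatFunc k) := isFunctionField_ratFunc
  haveI : FiniteDimensional (RatFunc k) K := Module.finite_of_finrank_pos (by rw [hdeg]; norm_num)
  have h2 : ringChar k = 2 := ringChar.eq k 2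
  have hf0 : f ≠ 0 := by
    rintro rfl
    rw [map_zero] at heq
    have h1 : y * (y + 1) = 0 := by rw [← heq]; ring
    rcases mul_eq_zero.1 h1 with h | h
    · exact hy ⟨0, by rw [map_zero, h]⟩
    · exact hy ⟨-1, by rw [map_neg, map_one]; exact (eq_neg_of_add_eq_zero_left h).symm⟩
  have hF1 : ∀ p : Place k (RatFunc k), p.ord f < 0 →
      ∃ α ∈ B, p.1 ((RatFunc.X : RatFunc k) - RatFunc.C α) < 1 := by
    intro p hp
    by_contra hcon
    push Not at hcon
    have := hint p hcon
    have h1 := (ord_nonneg_iff p hf0).2 this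
    omega
  have hdpos : ∀ α ∈ B, 1 ≤ d α := by
    intro α hα
    obtain ⟨r, hr⟩ := hd α hα
    omega
  have hodd' : ∀ p : Place k (RatFunc k), p.ord f < 0 → Odd (p.ord f) := by
    intro p hp
    obtain ⟨α, hα, hpα⟩ := hF1 p hp
    rw [hpole p α hα hpα]
    exact (Int.odd_coe_nat _).2 (hd α hα) |>.neg
  obtain ⟨Bd, hBd⟩ := exists_asB f
  have hF3 : ∀ (p : Place k (RatFunc k)) (α : k), α ∈ B →
      p.1 ((RatFunc.X : RatFunc k) - RatFunc.C α) < 1 → Bd p = ((d α + 1) / 2 : ℕ) := by
    intro p α hα hpα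
    have h1 := hpole p α hα hpα
    have h3 := hdpos α hα
    rw [hBd, if_pos (by rw [h1]; omega), h1]
    push_cast
    omega
  have hF5 : ∀ p : Place k (RatFunc k),
      (∀ α ∈ B, 1 ≤ p.1 ((RatFunc.X : RatFunc k) - RatFunc.C α)) → Bd p = 0 := by
    intro p hp
    have h1 := (ord_nonneg_iff p hf0).2 (hint p hp)
    rw [hBd, if_neg (by omega)]
  have hF4 : ∀ p : Place k (RatFunc k), 1 < p.1 RatFunc.X → Bd p = 0 := by
    intro p hinf
    apply hF5
    intro α _
    rw [val_X_sub_C_inf p hinf]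
    exact hinf.le
  obtain ⟨q, hq⟩ : ∃ q : k[X], q = ∏ α ∈ B, (X - C α) ^ ((d α + 1) / 2) := ⟨_, rfl⟩
  have hq0 : q ≠ 0 := by
    rw [hq]
    exact Finset.prod_ne_zero_iff.2 (fun α _ => pow_ne_zero _ (X_sub_C_ne_zero α))
  have hqdeg : q.natDegree = ∑ α ∈ B, (d α + 1) / 2 := by
    rw [hq, natDegree_prod_of_monic _ _ (fun α _ => (monic_X_sub_C α).pow _)]
    refine Finset.sum_congr rfl (fun α _ => ?_)
    rw [(monic_X_sub_C α).natDegree_pow, natDegree_X_sub_C, mul_one]
  have hqmap : algebraMap k[X] (RatFunc k) q =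
      ∏ α ∈ B, ((RatFunc.X : RatFunc k) - RatFunc.C α) ^ ((d α + 1) / 2) := by
    rw [hq, map_prod]
    refine Finset.prod_congr rfl (fun α _ => ?_)
    rw [map_pow, map_sub, RatFunc.algebraMap_X, RatFunc.algebraMap_C]
  have hq' : ∀ p : Place k (RatFunc k), p.1 RatFunc.X ≤ 1 →
      p.ord (algebraMap k[X] (RatFunc k) q) = Bd p := by
    intro p hfin
    have hne : ∀ α : k, (RatFunc.X : RatFunc k) - RatFunc.C α ≠ 0 := by
      intro α h
      rcases val_X_sub_C_fin_cases p hfin α with h' | h'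
      · rw [h, map_zero] at h'; exact WithZero.exp_ne_zero h'.symm
      · rw [h, map_zero] at h'; exact zero_ne_one h'
    rw [hqmap, ord_prod p B _ (fun α _ => pow_ne_zero _ (hne α))]
    have hterm : ∀ α : k, p.ord (((RatFunc.X : RatFunc k) - RatFunc.C α) ^ ((d α + 1) / 2)) =
        (((d α + 1) / 2 : ℕ) : ℤ) * p.ord ((RatFunc.X : RatFunc k) - RatFunc.C α) :=
      fun α => ord_pow p _ _
    simp only [hterm]
    by_cases hex : ∃ α ∈ B, p.1 ((RatFunc.X : RatFunc k) - RatFunc.C α) < 1
    · obtain ⟨α₀, hα₀, hpα₀⟩ := hex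
      rw [Finset.sum_eq_single_of_mem α₀ hα₀, hF3 p α₀ hα₀ hpα₀]
      · have h1 : p.ord ((RatFunc.X : RatFunc k) - RatFunc.C α₀) = 1 := by
          have := (val_eq_exp_iff p (hne α₀) (-1)).1 (val_X_sub_C_unif p hpα₀)
          rw [this]; norm_num
        rw [h1, mul_one]
      · intro β _ hβ
        have h1 : p.ord ((RatFunc.X : RatFunc k) - RatFunc.C β) = 0 :=
          (ord_eq_zero_iff p (hne β)).2 (val_X_sub_C_other p (Ne.symm hβ) hpα₀)
        rw [h1, mul_zero]
    · push Not at hex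
      rw [hF5 p hex]
      refine Finset.sum_eq_zero (fun β hβ => ?_)
      have h1 : p.ord ((RatFunc.X : RatFunc k) - RatFunc.C β) = 0 :=
        (ord_eq_zero_iff p (hne β)).2
          (le_antisymm (val_X_sub_C_le_one p hfin β) (hex β hβ))
      rw [h1, mul_zero]
  obtain ⟨Pinf, hinf⟩ := exists_pole hK₀
    (not_mem_range_of_transcendental (RatFunc.transcendental_X (K := k)))
  have hgen := as_genus_q hK h2 hdeg hy heq hodd' Bd hBd q hq0 hq' hinf
  rw [hF4 Pinf hinf, add_zero, hqdeg] at hgen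
  rw [← Nat.card_eq_fintype_card, Nat.card_sum, card_I1, card_I2 B h0]
  have hsum : ∑ α ∈ B, (d α + 1) / 2 = ∑ α ∈ B, (d α - 1) / 2 + B.card := by
    rw [Finset.card_eq_sum_ones, ← Finset.sum_add_distrib]
    refine Finset.sum_congr rfl (fun α hα => ?_)
    have := hdpos α hα
    omega
  have hBpos : 1 ≤ B.card := Finset.card_pos.2 ⟨0, h0⟩
  have h5 : (genus k K : ℤ) = -1 + ((∑ α ∈ B, (d α - 1) / 2 + B.card : ℕ) : ℤ) := by
    rw [← hsum]; exact hgen
  push_cast at h5
  omega

set_option maxHeartbeats 3200000 in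
/-- the core independence statement -/
theorem as_h1_core [IsAlgClosed k] [CharP k 2] (hK : IsFunctionField k K)
    (hdeg : finrank (RatFunc k) K = 2) [Algebra.IsSeparable (RatFunc k) K]
    (y : K) (hy : y ∉ Set.range (algebraMap (RatFunc k) K)) (f : RatFunc k)
    (heq : y ^ 2 + y = algebraMap (RatFunc k) K f)
    (B : Finset k) (h0 : (0 : k) ∈ B) (d : k → ℕ) (hd : ∀ α ∈ B, Odd (d α))
    (hpole : ∀ (p : Place k (RatFunc k)) (α : k), α ∈ B →
      p.1 ((RatFunc.X : RatFunc k) - RatFunc.C α) < 1 → p.ord f = -(d α : ℤ))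
    (hint : ∀ p : Place k (RatFunc k),
      (∀ α ∈ B, 1 ≤ p.1 ((RatFunc.X : RatFunc k) - RatFunc.C α)) → p.1 f ≤ 1)
    (Pl : k → Place k K)
    (hPl : ∀ β ∈ B, (Pl β).1 ((algebraMap (RatFunc k) K RatFunc.X) - (algebraMap k K β)) < 1)
    [DecidableEq (Place k K)] [Fintype (I1 B d)] [Fintype (I2 B)]
    (c : I1 B d ⊕ I2 B → k)
    (hc : ∑ i, c i • xi y B d Pl i ∈
      AD (0 : Divisor k K) ⊔ LinearMap.range (diag k K)) : ∀ i, c i = 0 := by
  classical
  have hK₀ : IsFunctionField k (RatFunc k) := isFunctionField_ratFunc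
  haveI : FiniteDimensional (RatFunc k) K := Module.finite_of_finrank_pos (by rw [hdeg]; norm_num)
  haveI : Algebra.IsAlgebraic (RatFunc k) K := Algebra.IsAlgebraic.of_finite _ _
  have h2 : ringChar k = 2 := ringChar.eq k 2
  have hf0 : f ≠ 0 := by
    rintro rfl
    rw [map_zero] at heq
    have h1 : y * (y + 1) = 0 := by rw [← heq]; ring
    rcases mul_eq_zero.1 h1 with h | h
    · exact hy ⟨0, by rw [map_zero, h]⟩
    · exact hy ⟨-1, by rw [map_neg, map_one]; exact (eq_neg_of_add_eq_zero_left h).symm⟩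
  have hF1 : ∀ p : Place k (RatFunc k), p.ord f < 0 →
      ∃ α ∈ B, p.1 ((RatFunc.X : RatFunc k) - RatFunc.C α) < 1 := by
    intro p hp
    by_contra hcon
    push Not at hcon
    have := hint p hcon
    have h1 := (ord_nonneg_iff p hf0).2 this
    omega
  have hdpos : ∀ α ∈ B, 1 ≤ d α := by
    intro α hα
    obtain ⟨r, hr⟩ := hd α hα
    omega
  have hodd' : ∀ p : Place k (RatFunc k), p.ord f < 0 → Odd (p.ord f) := by
    intro p hp
    obtain ⟨α, hα, hpα⟩ := hF1 p hp
    rw [hpole p α hα hpα]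
    exact (Int.odd_coe_nat _).2 (hd α hα) |>.neg
  have hnonpole : ∀ P₀ : Place k (RatFunc k), ¬ P₀.ord f < 0 → P₀.1 f ≤ 1 := by
    intro P₀ h
    exact (ord_nonneg_iff P₀ hf0).1 (not_lt.1 h)
  have hram : ∀ P₀ : Place k (RatFunc k), P₀.ord f < 0 → ∀ P : Place k K, IsOver P P₀ →
      IsOverWith P P₀ 2 := by
    intro P₀ hp P hP
    exact ((ramified_of_two_le hK₀ hdeg P₀
      (fun Q hQ => as_two_le_ramIdx heq P₀ hp (hodd' P₀ hp) Q hQ)).2 P hP).1
  obtain ⟨σ, hσ⟩ := as_exists_sigma h2 hdeg hy heq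
  have hxα : ∀ α : k, algebraMap (RatFunc k) K RatFunc.X - algebraMap k K α =
      algebraMap (RatFunc k) K ((RatFunc.X : RatFunc k) - RatFunc.C α) := by
    intro α
    rw [map_sub, IsScalarTower.algebraMap_apply k (RatFunc k) K α, RatFunc.algebraMap_eq_C]
  have hbelow : ∀ α ∈ B, ∃ p : Place k (RatFunc k), IsOverWith (Pl α) p 2 ∧
      p.1 ((RatFunc.X : RatFunc k) - RatFunc.C α) < 1 ∧ p.ord f = -(d α : ℤ) := by
    intro α hα
    obtain ⟨p, e, he⟩ := exists_isOverWith hK₀ (Pl α)
    have h1 := hPl α hα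
    rw [hxα, he] at h1
    have h3 : p.1 ((RatFunc.X : RatFunc k) - RatFunc.C α) < 1 := by
      by_contra hcon
      push Not at hcon
      exact absurd h1 (not_lt.2 (one_le_pow₀ hcon))
    have h4 := hpole p α hα h3
    have hneg : p.ord f < 0 := by
      rw [h4]
      have := hdpos α hα
      omega
    exact ⟨p, hram p hneg (Pl α) ⟨e, he⟩, h3, h4⟩
  have hPlinj : ∀ α ∈ B, ∀ β ∈ B, Pl α = Pl β → α = β := by
    intro α hα β hβ hαβ
    by_contra hne
    have h1 := hPl α hα
    have h2' := hPl β hβ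
    rw [← hαβ] at h2'
    have h3 : (Pl α).1 (algebraMap k K (β - α)) < 1 := by
      have : algebraMap k K (β - α) =
          (algebraMap (RatFunc k) K RatFunc.X - algebraMap k K α) -
            (algebraMap (RatFunc k) K RatFunc.X - algebraMap k K β) := by
        rw [map_sub]; ring
      rw [this]
      exact lt_of_le_of_lt (Valuation.map_sub _ _ _) (max_lt h1 h2')
    rw [val_const (Pl α) (sub_ne_zero.2 (Ne.symm hne))] at h3
    exact lt_irrefl _ h3
  -- decompose
  obtain ⟨u, hu, w, ⟨h, rfl⟩, huw⟩ := Submodule.mem_sup.1 hc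
  have hu' : ∀ P : Place k K, P.1 (u P) ≤ 1 := by
    intro P
    have := hu P
    rwa [Finsupp.zero_apply, WithZero.exp_zero] at this
  have hval : ∀ P : Place k K, u P + h = ∑ i, c i • xi y B d Pl i P := by
    intro P
    have := congrFun huw P
    rw [Pi.add_apply, Finset.sum_apply] at this
    exact this
  obtain ⟨a₀, b₀, hab⟩ := quad_repr hdeg hy h
  have hS0 : ∀ P : Place k K, (∀ α ∈ B, P ≠ Pl α) → ∑ i, c i • xi y B d Pl i P = 0 := by
    intro P hP
    refine Finset.sum_eq_zero (fun i _ => ?_)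
    rcases i with a | b
    · show c (Sum.inl a) • (Pi.single (Pl (a.1.1 : k))
        (y * ((algebraMap (RatFunc k) K RatFunc.X) - (algebraMap k K (a.1.1 : k))) ^ a.1.2) :
          Place k K → K) P = 0
      rw [Pi.single_eq_of_ne (hP _ a.1.1.2), smul_zero]
    · show c (Sum.inr b) • (Pi.single (Pl (b.1 : k)) y : Place k K → K) P = 0
      rw [Pi.single_eq_of_ne (hP _ b.1.2), smul_zero]
  obtain ⟨Pp, hPp⟩ : ∃ Pp : k → k[X], Pp = fun α =>
      (∑ a : I1 B d, if (a.1.1 : k) = α then C (c (Sum.inl a)) * X ^ a.1.2 else 0) +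
        ∑ b : I2 B, if (b.1 : k) = α then C (c (Sum.inr b)) else 0 := ⟨_, rfl⟩
  have hPp' : ∀ α : k, Pp α =
      (∑ a : I1 B d, if (a.1.1 : k) = α then C (c (Sum.inl a)) * X ^ a.1.2 else 0) +
        ∑ b : I2 B, if (b.1 : k) = α then C (c (Sum.inr b)) else 0 := fun α => by rw [hPp]
  have hSα : ∀ α ∈ B, ∑ i, c i • xi y B d Pl i (Pl α) =
      y * aeval (algebraMap (RatFunc k) K RatFunc.X - algebraMap k K α) (Pp α) := by
    intro α hα
    rw [Fintype.sum_sum_type, hPp' α, map_add, map_sum, map_sum, mul_add, Finset.mul_sum,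
      Finset.mul_sum]
    congr 1
    · refine Finset.sum_congr rfl (fun a _ => ?_)
      show c (Sum.inl a) • (Pi.single (Pl (a.1.1 : k))
        (y * ((algebraMap (RatFunc k) K RatFunc.X) - (algebraMap k K (a.1.1 : k))) ^ a.1.2) :
          Place k K → K) (Pl α) = _
      by_cases haα : (a.1.1 : k) = α
      · rw [if_pos haα, ← haα, Pi.single_eq_same, map_mul, map_pow, aeval_C, aeval_X,
          Algebra.smul_def]
        ring
      · have hne : Pl α ≠ Pl (a.1.1 : k) := fun h => haα (hPlinj _ hα _ a.1.1.2 h).symm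
        rw [if_neg haα, map_zero, mul_zero, Pi.single_eq_of_ne hne, smul_zero]
    · refine Finset.sum_congr rfl (fun b _ => ?_)
      show c (Sum.inr b) • (Pi.single (Pl (b.1 : k)) y : Place k K → K) (Pl α) = _
      by_cases hbα : (b.1 : k) = α
      · rw [if_pos hbα, ← hbα, Pi.single_eq_same, aeval_C, Algebra.smul_def]
        ring
      · have hne : Pl α ≠ Pl (b.1 : k) := fun h => hbα (hPlinj _ hα _ b.1.2 h).symm
        rw [if_neg hbα, map_zero, mul_zero, Pi.single_eq_of_ne hne, smul_zero]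
  have hPpdeg : ∀ α, (Pp α).natDegree ≤ (d α - 1) / 2 := by
    intro α
    rw [hPp' α]
    refine (natDegree_add_le _ _).trans (max_le ?_ ?_)
    · refine natDegree_sum_le_of_forall_le _ _ (fun a _ => ?_)
      split_ifs with haα
      · refine (natDegree_C_mul_X_pow_le _ _).trans ?_
        have := a.2.2
        rw [haα] at this
        omega
      · rw [natDegree_zero]; exact Nat.zero_le _
    · refine natDegree_sum_le_of_forall_le _ _ (fun b _ => ?_)
      split_ifs
      · rw [natDegree_C]; exact Nat.zero_le _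
      · rw [natDegree_zero]; exact Nat.zero_le _
  have hlocal : ∀ α ∈ B, ∀ p : Place k (RatFunc k), IsOverWith (Pl α) p 2 → p.ord f < 0 →
      p.1 (aeval ((RatFunc.X : RatFunc k) - RatFunc.C α) (Pp α) - b₀) ≤
        WithZero.exp (0 - (1 - p.ord f) / 2) := by
    intro α hα p he2 hp
    have h1 := hval (Pl α)
    rw [hSα α hα, hxα, aeval_algebraMap_apply, hab] at h1
    have h3 : u (Pl α) = algebraMap (RatFunc k) K (-a₀) + algebraMap (RatFunc k) K
        (aeval ((RatFunc.X : RatFunc k) - RatFunc.C α) (Pp α) - b₀) * y := by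
      rw [map_neg, map_sub]; linear_combination h1
    have h4 := hu' (Pl α)
    rw [h3] at h4
    have h5 : (Pl α).1 (algebraMap (RatFunc k) K (-a₀) + algebraMap (RatFunc k) K
        (aeval ((RatFunc.X : RatFunc k) - RatFunc.C α) (Pp α) - b₀) * y) ≤
        WithZero.exp (2 * (0 : ℤ)) := by
      rw [mul_zero, WithZero.exp_zero]; exact h4
    exact ((as_pole_local heq hp (hodd' p hp) he2 _ _ 0).1 h5).2
  have hnotPl : ∀ (p : Place k (RatFunc k)) (P : Place k K), IsOver P p → ¬ p.ord f < 0 →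
      ∀ β ∈ B, P ≠ Pl β := by
    intro p P hP hp β hβ hPβ
    obtain ⟨p', he', hp'β, hord⟩ := hbelow β hβ
    rw [hPβ] at hP
    have hpp : p = p' := isOver_unique hP ⟨2, he'⟩
    apply hp
    rw [hpp, hord]
    have := hdpos β hβ
    omega
  have hb₀int : ∀ p : Place k (RatFunc k), p.1 b₀ ≤ 1 := by
    intro p
    obtain ⟨P, e, he⟩ := exists_place_over (K := K) p
    by_cases hp : p.ord f < 0
    · have he2 : IsOverWith P p 2 := hram p hp P ⟨e, he⟩
      obtain ⟨α, hα, hpα⟩ := hF1 p hp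
      by_cases hPα : P = Pl α
      · rw [hPα] at he2
        have h6 := hlocal α hα p he2 hp
        have h7 : p.1 (aeval ((RatFunc.X : RatFunc k) - RatFunc.C α) (Pp α) - b₀) ≤ 1 := by
          refine h6.trans ?_
          rw [← WithZero.exp_zero, WithZero.exp_le_exp]
          omega
        have h8 : p.1 (aeval ((RatFunc.X : RatFunc k) - RatFunc.C α) (Pp α)) ≤ 1 :=
          val_aeval_le_one p.1 p.2.1 hpα.le _
        have h9 : b₀ = aeval ((RatFunc.X : RatFunc k) - RatFunc.C α) (Pp α) -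
            (aeval ((RatFunc.X : RatFunc k) - RatFunc.C α) (Pp α) - b₀) := by ring
        rw [h9]
        exact Valuation.map_sub_le _ h8 h7
      · have hPB : ∀ β ∈ B, P ≠ Pl β := by
          intro β hβ hPβ
          obtain ⟨p', he', hp'β, -⟩ := hbelow β hβ
          have hpp : p = p' := by
            rw [hPβ] at he
            exact isOver_unique ⟨e, he⟩ ⟨2, he'⟩
          rw [← hpp] at hp'β
          have hαβ : α = β := by
            by_contra hne
            rw [val_X_sub_C_other p hne hpα] at hp'β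
            exact lt_irrefl _ hp'β
          exact hPα (by rw [hPβ, hαβ])
        have h1 := hval P
        rw [hS0 P hPB] at h1
        have hh : h = -u P := eq_neg_of_add_eq_zero_right h1
        have h4 : P.1 h ≤ 1 := by
          rw [hh, Valuation.map_neg]; exact hu' P
        rw [hab] at h4
        have h5 : P.1 (algebraMap (RatFunc k) K a₀ + algebraMap (RatFunc k) K b₀ * y) ≤
            WithZero.exp (2 * (0 : ℤ)) := by
          rw [mul_zero, WithZero.exp_zero]; exact h4
        have h6 := ((as_pole_local heq hp (hodd' p hp) he2 a₀ b₀ 0).1 h5).2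
        refine h6.trans ?_
        rw [← WithZero.exp_zero, WithZero.exp_le_exp]
        omega
    · have hf := hnonpole p hp
      have he1 : e = 1 := as_unramified h2 hdeg hy heq p hf he
      subst he1
      have hP1 := hnotPl p P ⟨1, he⟩ hp
      have hP2 := hnotPl p (galPlace σ P) ⟨1, isOverWith_galPlace he σ⟩ hp
      have h1 := hval P
      rw [hS0 P hP1] at h1
      have h2' := hval (galPlace σ P)
      rw [hS0 _ hP2] at h2'
      have hz : P.1 (algebraMap (RatFunc k) K a₀ + algebraMap (RatFunc k) K b₀ * y) ≤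
          WithZero.exp (0 : ℤ) := by
        have hh : h = -u P := eq_neg_of_add_eq_zero_right h1
        rw [← hab, hh, Valuation.map_neg, WithZero.exp_zero]
        exact hu' P
      have hσz : P.1 (σ (algebraMap (RatFunc k) K a₀ + algebraMap (RatFunc k) K b₀ * y)) ≤
          WithZero.exp (0 : ℤ) := by
        have hh : h = -u (galPlace σ P) := eq_neg_of_add_eq_zero_right h2'
        have h3 := hu' (galPlace σ P)
        rw [galPlace_apply] at h3
        rw [← hab, hh, map_neg, Valuation.map_neg, WithZero.exp_zero]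
        exact h3
      have := (as_good_ge heq hf he σ hσ a₀ b₀ 0 hz hσz).2
      rwa [WithZero.exp_zero] at this
  obtain ⟨β₀, hβ₀⟩ := mem_range_of_forall_val_le_one hK₀ hb₀int
  have hQ : ∀ α ∈ B, Pp α = C β₀ := by
    intro α hα
    obtain ⟨p, he2, hpα, hord⟩ := hbelow α hα
    have hp : p.ord f < 0 := by
      rw [hord]
      have := hdpos α hα
      omega
    have h6 := hlocal α hα p he2 hp
    by_contra hne
    have hQ0 : Pp α - C β₀ ≠ 0 := sub_ne_zero.2 hne
    have hQdeg : (Pp α - C β₀).natDegree ≤ (d α - 1) / 2 := by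
      refine (natDegree_sub_le _ _).trans (max_le (hPpdeg α) ?_)
      rw [natDegree_C]; exact Nat.zero_le _
    have h7 := val_aeval_unif_ge p (val_X_sub_C_unif p hpα) _ _ hQ0 hQdeg
    have h8 : aeval ((RatFunc.X : RatFunc k) - RatFunc.C α) (Pp α - C β₀) =
        aeval ((RatFunc.X : RatFunc k) - RatFunc.C α) (Pp α) - b₀ := by
      rw [map_sub, aeval_C, hβ₀]
    rw [h8] at h7
    have h9 := h7.trans h6
    rw [WithZero.exp_le_exp, hord] at h9
    have := hdpos α hα
    obtain ⟨r, hr⟩ := hd α hα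
    omega
  have hcoeffPp : ∀ (α : k) (j : ℕ), (Pp α).coeff j =
      (∑ a : I1 B d, if (a.1.1 : k) = α ∧ j = a.1.2 then c (Sum.inl a) else 0) +
        ∑ b : I2 B, if (b.1 : k) = α ∧ j = 0 then c (Sum.inr b) else 0 := by
    intro α j
    rw [hPp' α, coeff_add, finsetSum_coeff, finsetSum_coeff]
    congr 1
    · refine Finset.sum_congr rfl (fun a _ => ?_)
      by_cases h1 : (a.1.1 : k) = α
      · rw [if_pos h1, coeff_C_mul_X_pow]
        by_cases h2' : j = a.1.2
        · rw [if_pos h2', if_pos ⟨h1, h2'⟩]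
        · rw [if_neg h2', if_neg (fun h => h2' h.2)]
      · rw [if_neg h1, coeff_zero, if_neg (fun h => h1 h.1)]
    · refine Finset.sum_congr rfl (fun b _ => ?_)
      by_cases h1 : (b.1 : k) = α
      · rw [if_pos h1, coeff_C]
        by_cases h2' : j = 0
        · rw [if_pos h2', if_pos ⟨h1, h2'⟩]
        · rw [if_neg h2', if_neg (fun h => h2' h.2)]
      · rw [if_neg h1, coeff_zero, if_neg (fun h => h1 h.1)]
  have step1 : ∀ a' : I1 B d, c (Sum.inl a') = 0 := by
    intro a'
    have hj := a'.2.1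
    have h1 : (Pp (a'.1.1 : k)).coeff a'.1.2 = (C β₀ : k[X]).coeff a'.1.2 := by
      rw [hQ _ a'.1.1.2]
    rw [hcoeffPp, coeff_C, if_neg (by omega)] at h1
    have h2' : (∑ b : I2 B, if (b.1 : k) = (a'.1.1 : k) ∧ a'.1.2 = 0 then c (Sum.inr b) else 0) =
        0 := Finset.sum_eq_zero (fun b _ => if_neg (fun h => by omega))
    have h3 : (∑ a : I1 B d, if (a.1.1 : k) = (a'.1.1 : k) ∧ a'.1.2 = a.1.2 then
        c (Sum.inl a) else 0) = c (Sum.inl a') := by
      rw [Finset.sum_eq_single a' (fun a _ hne => if_neg (fun h => hne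
        (Subtype.ext (Prod.ext (Subtype.ext h.1) h.2.symm))))
        (fun h => absurd (Finset.mem_univ _) h)]
      exact if_pos ⟨rfl, rfl⟩
    rw [h2', h3, add_zero] at h1
    exact h1
  have hzeroA : ∀ α : k, (∑ a : I1 B d, if (a.1.1 : k) = α ∧ 0 = a.1.2 then
      c (Sum.inl a) else 0) = 0 := by
    intro α
    refine Finset.sum_eq_zero (fun a _ => if_neg (fun h => ?_))
    have := a.2.1
    omega
  have step3 : β₀ = 0 := by
    have h1 : (Pp (0 : k)).coeff 0 = (C β₀ : k[X]).coeff 0 := by rw [hQ 0 h0]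
    rw [hcoeffPp, coeff_C, if_pos rfl, hzeroA, zero_add] at h1
    rw [← h1]
    exact Finset.sum_eq_zero (fun b _ => if_neg (fun h => b.2 h.1))
  have step2 : ∀ b' : I2 B, c (Sum.inr b') = 0 := by
    intro b'
    have h1 : (Pp (b'.1 : k)).coeff 0 = (C β₀ : k[X]).coeff 0 := by rw [hQ _ b'.1.2]
    rw [hcoeffPp, coeff_C, if_pos rfl, hzeroA, zero_add, step3] at h1
    have h3 : (∑ b : I2 B, if (b.1 : k) = (b'.1 : k) ∧ 0 = 0 then c (Sum.inr b) else 0) =
        c (Sum.inr b') := by
      rw [Finset.sum_eq_single b' (fun b _ hne => if_neg (fun h => hne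
        (Subtype.ext (Subtype.ext h.1))))
        (fun h => absurd (Finset.mem_univ _) h)]
      exact if_pos ⟨rfl, rfl⟩
    rw [h3] at h1
    exact h1
  intro i
  rcases i with a | b
  · exact step1 a
  · exact step2 b

set_option maxHeartbeats 1600000 in
/-- the adelic basis of `H¹` -/
theorem as_h1_basis [IsAlgClosed k] [CharP k 2] (hK : IsFunctionField k K)
    (hdeg : finrank (RatFunc k) K = 2) [Algebra.IsSeparable (RatFunc k) K]
    (y : K) (hy : y ∉ Set.range (algebraMap (RatFunc k) K)) (f : RatFunc k)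
    (heq : y ^ 2 + y = algebraMap (RatFunc k) K f)
    (B : Finset k) (h0 : (0 : k) ∈ B) (d : k → ℕ) (hd : ∀ α ∈ B, Odd (d α))
    (hpole : ∀ (p : Place k (RatFunc k)) (α : k), α ∈ B →
      p.1 ((RatFunc.X : RatFunc k) - RatFunc.C α) < 1 → p.ord f = -(d α : ℤ))
    (hint : ∀ p : Place k (RatFunc k),
      (∀ α ∈ B, 1 ≤ p.1 ((RatFunc.X : RatFunc k) - RatFunc.C α)) → p.1 f ≤ 1)
    (Pl : k → Place k K)
    (hPl : ∀ β ∈ B, (Pl β).1 ((algebraMap (RatFunc k) K RatFunc.X) - (algebraMap k K β)) < 1)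
    [DecidableEq (Place k K)] :
    (∀ i, xi y B d Pl i ∈ adele k K) ∧
    LinearIndependent k (fun i => Submodule.mkQ
      (AD (0 : Divisor k K) ⊔ LinearMap.range (diag k K)) (xi y B d Pl i)) ∧
    ∀ a : Place k K → K, a ∈ adele k K →
      a ∈ (AD (0 : Divisor k K) ⊔ LinearMap.range (diag k K)) ⊔
        Submodule.span k (Set.range (xi y B d Pl)) := by
  classical
  haveI : Fintype (I1 B d) := Fintype.ofEquiv _ (equivI1 B d).symm
  have hcard : Fintype.card (I1 B d ⊕ I2 B) = genus k K :=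
    as_card_eq_genus hK hdeg y hy f heq B h0 d hd hpole hint
  have hcore : ∀ c : I1 B d ⊕ I2 B → k, ∑ i, c i • xi y B d Pl i ∈
      AD (0 : Divisor k K) ⊔ LinearMap.range (diag k K) → ∀ i, c i = 0 :=
    fun c hc => as_h1_core hK hdeg y hy f heq B h0 d hd hpole hint Pl hPl c hc
  have hmem : ∀ i, xi y B d Pl i ∈ adele k K := by
    intro i
    rcases i with a | b
    · exact single_mem_adele _ _
    · exact single_mem_adele _ _
  refine ⟨hmem, ?_, ?_⟩
  · rw [Fintype.linearIndependent_iff]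
    intro c hc
    have h1 : Submodule.mkQ (AD (0 : Divisor k K) ⊔ LinearMap.range (diag k K))
        (∑ i, c i • xi y B d Pl i) = 0 := by
      rw [map_sum, ← hc]
      refine Finset.sum_congr rfl (fun i _ => ?_)
      rw [map_smul]
    rw [Submodule.mkQ_apply, Submodule.Quotient.mk_eq_zero] at h1
    exact hcore c h1
  · obtain ⟨ζ, hζ⟩ : ∃ ζ : I1 B d ⊕ I2 B → adele k K, ∀ i, (ζ i : Place k K → K) = xi y B d Pl i :=
      ⟨fun i => ⟨xi y B d Pl i, hmem i⟩, fun i => rfl⟩
    have hsub : ∀ (c : I1 B d ⊕ I2 B → k), (adele k K).subtype (∑ i, c i • ζ i) =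
        ∑ i, c i • xi y B d Pl i := by
      intro c
      rw [map_sum]
      refine Finset.sum_congr rfl (fun i _ => ?_)
      rw [map_smul, Submodule.subtype_apply, hζ]
    have hLIq : LinearIndependent k (fun i => (ADK (0 : Divisor k K)).mkQ (ζ i)) := by
      rw [Fintype.linearIndependent_iff]
      intro c hc
      have h1 : (ADK (0 : Divisor k K)).mkQ (∑ i, c i • ζ i) = 0 := by
        rw [map_sum, ← hc]
        refine Finset.sum_congr rfl (fun i _ => ?_)
        rw [map_smul]
      rw [Submodule.mkQ_apply, Submodule.Quotient.mk_eq_zero] at h1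
      have h3 : (adele k K).subtype (∑ i, c i • ζ i) ∈
          AD (0 : Divisor k K) ⊔ LinearMap.range (diag k K) := h1
      rw [hsub] at h3
      exact hcore c h3
    obtain ⟨hfd, hfr⟩ := finrank_adele_quotient hK (0 : Divisor k K)
    have hdelta : delta (0 : Divisor k K) = 0 := by
      unfold delta
      rw [deg_zero, ell_zero hK]
      norm_num
    rw [hdelta, sub_zero] at hfr
    have hfr' : finrank k (↥(adele k K) ⧸ ADK (0 : Divisor k K)) = genus k K := by
      exact_mod_cast hfr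
    haveI := hfd
    have hspan := hLIq.span_eq_top_of_card_eq_finrank' (by rw [hcard, hfr'])
    intro a ha
    have hmem_top : (ADK (0 : Divisor k K)).mkQ ⟨a, ha⟩ ∈
        Submodule.span k (Set.range fun i => (ADK (0 : Divisor k K)).mkQ (ζ i)) := by
      rw [hspan]; trivial
    obtain ⟨c, hc⟩ := (Submodule.mem_span_range_iff_exists_fun k).1 hmem_top
    have h1 : (ADK (0 : Divisor k K)).mkQ ((⟨a, ha⟩ : adele k K) - ∑ i, c i • ζ i) = 0 := by
      rw [map_sub, map_sum, ← hc, sub_eq_zero]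
      refine Finset.sum_congr rfl (fun i _ => ?_)
      rw [map_smul]
    rw [Submodule.mkQ_apply, Submodule.Quotient.mk_eq_zero] at h1
    have h3 : (adele k K).subtype ((⟨a, ha⟩ : adele k K) - ∑ i, c i • ζ i) ∈
        AD (0 : Divisor k K) ⊔ LinearMap.range (diag k K) := h1
    rw [map_sub, hsub] at h3
    have h4 : (a - ∑ i, c i • xi y B d Pl i) + ∑ i, c i • xi y B d Pl i ∈
        (AD (0 : Divisor k K) ⊔ LinearMap.range (diag k K)) ⊔
          Submodule.span k (Set.range (xi y B d Pl)) :=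
      Submodule.add_mem_sup h3 (Submodule.sum_mem _ (fun i _ =>
        Submodule.smul_mem _ _ (Submodule.subset_span ⟨i, rfl⟩)))
    rwa [sub_add_cancel] at h4

end ASH2

end Groth.Agent.Helper17.FF
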