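import Mathlib
import Groth.Prelude.Def_AdFn
import Groth.Agent.Lib.Helper17.FFASH
namespace Groth.Agent.Helper17.FF

open FunFld Module

universe u

variable {k K : Type u} [Field k] [Field K] [Algebra k K]

set_option maxHeartbeats 1600000 in
theorem finrank_quot_SInt (hK : IsFunctionField k K) (P : Place k K) :
    FiniteDimensional k (K ⧸ (Subalgebra.toSubmodule (AdFn.SInt ({P} : Set (Place k K))) ⊔
        Subalgebra.toSubmodule (AdFn.SInt (({P} : Set (Place k K))ᶜ)))) ∧
    finrank k (K ⧸ (Subalgebra.toSubmodule (AdFn.SInt ({P} : Set (Place k K))) ⊔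
        Subalgebra.toSubmodule (AdFn.SInt (({P} : Set (Place k K))ᶜ)))) = genus k K := by
  classical
  obtain ⟨W, hW⟩ : ∃ W : Submodule k K, W =
      Subalgebra.toSubmodule (AdFn.SInt ({P} : Set (Place k K))) ⊔
        Subalgebra.toSubmodule (AdFn.SInt (({P} : Set (Place k K))ᶜ)) := ⟨_, rfl⟩
  rw [← hW]
  have hmemW : ∀ z : K, z ∈ W ↔ ∃ h : K, (∀ Q : Place k K, Q ≠ P → Q.1 h ≤ 1) ∧ P.1 (z - h) ≤ 1 := by
    intro z
    rw [hW]
    constructor
    · intro hz
      obtain ⟨h, hh, w, hw, rfl⟩ := Submodule.mem_sup.1 hz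
      refine ⟨h, fun Q hQ => hh Q (fun hmem => hQ (Set.mem_singleton_iff.1 hmem)), ?_⟩
      rw [add_sub_cancel_left]
      exact hw P (fun hmem => hmem (Set.mem_singleton P))
    · rintro ⟨h, hh, hz⟩
      have h1 : h ∈ Subalgebra.toSubmodule (AdFn.SInt ({P} : Set (Place k K))) := by
        intro Q hQ
        exact hh Q (fun h' => hQ (Set.mem_singleton_iff.2 h'))
      have h2 : z - h ∈ Subalgebra.toSubmodule (AdFn.SInt (({P} : Set (Place k K))ᶜ)) := by
        intro Q hQ
        have hQP : Q = P := by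
          by_contra hne
          exact hQ (fun h' => hne (Set.mem_singleton_iff.1 h'))
        rw [hQP]
        exact hz
      have := Submodule.add_mem_sup h1 h2
      rwa [add_sub_cancel] at this
  let φ : K →ₗ[k] (↥(adele k K) ⧸ ADK (0 : Divisor k K)) :=
    (ADK (0 : Divisor k K)).mkQ ∘ₗ
      (LinearMap.codRestrict (adele k K) (LinearMap.single k (fun _ : Place k K => K) P)
        (fun z => single_mem_adele P z))
  have hφ : ∀ z : K, φ z =
      (ADK (0 : Divisor k K)).mkQ ⟨Pi.single P z, single_mem_adele P z⟩ := fun z => rfl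
  have hsingle : ∀ z : K, (Pi.single P z : Place k K → K) ∈
      AD (0 : Divisor k K) ⊔ LinearMap.range (diag k K) ↔ z ∈ W := by
    intro z
    rw [hmemW]
    constructor
    · intro hmem
      obtain ⟨u, hu, w, ⟨h, rfl⟩, huw⟩ := Submodule.mem_sup.1 hmem
      have hval : ∀ Q : Place k K, u Q + h = (Pi.single P z : Place k K → K) Q := by
        intro Q
        have := congrFun huw Q
        rw [Pi.add_apply] at this
        exact this
      have hu' : ∀ Q : Place k K, Q.1 (u Q) ≤ 1 := by
        intro Q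
        have := hu Q
        rwa [Finsupp.zero_apply, WithZero.exp_zero] at this
      refine ⟨h, ?_, ?_⟩
      · intro Q hQ
        have h1 := hval Q
        rw [Pi.single_eq_of_ne hQ] at h1
        have h3 : h = -u Q := eq_neg_of_add_eq_zero_right h1
        rw [h3, Valuation.map_neg]
        exact hu' Q
      · have h1 := hval P
        rw [Pi.single_eq_same] at h1
        have h3 : z - h = u P := by rw [← h1]; ring
        rw [h3]
        exact hu' P
    · rintro ⟨h, hh, hz⟩
      refine Submodule.mem_sup.2 ⟨(Pi.single P z : Place k K → K) - diag k K h, ?_, diag k K h,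
        ⟨_, rfl⟩, sub_add_cancel _ _⟩
      intro Q
      show Q.1 (((Pi.single P z : Place k K → K) - diag k K h) Q) ≤
        WithZero.exp ((0 : Divisor k K) Q)
      have hdiag : diag k K h Q = h := rfl
      rw [Finsupp.zero_apply, WithZero.exp_zero, Pi.sub_apply, hdiag]
      by_cases hQ : Q = P
      · rw [hQ, Pi.single_eq_same]
        exact hz
      · rw [Pi.single_eq_of_ne hQ, zero_sub, Valuation.map_neg]
        exact hh Q hQ
  have hker : LinearMap.ker φ = W := by
    ext z
    rw [LinearMap.mem_ker, hφ, Submodule.mkQ_apply, Submodule.Quotient.mk_eq_zero]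
    exact hsingle z
  have hsurj : Function.Surjective φ := by
    intro q
    obtain ⟨⟨a, ha⟩, rfl⟩ := Submodule.mkQ_surjective _ q
    obtain ⟨D₁, hD₁⟩ : ∃ D₁ : Divisor k K, D₁ = Finsupp.single P (2 * (genus k K : ℤ)) :=
      ⟨_, rfl⟩
    have hdeg : D₁.deg = 2 * (genus k K : ℤ) * P.deg := by rw [hD₁, deg_single]
    have hPpos : (1 : ℤ) ≤ P.deg := by exact_mod_cast deg_pos hK P
    have hdeg' : 2 * (genus k K : ℤ) - 1 ≤ D₁.deg := by
      rw [hdeg]
      have : (0 : ℤ) ≤ genus k K := Nat.cast_nonneg _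
      nlinarith
    have hdelta : delta D₁ = genus k K := by
      unfold delta
      rw [ell_eq_of_deg_ge hK D₁ hdeg']
      ring
    have hA := AD_sup_eq_adele hK hdelta
    have ha' : a ∈ AD D₁ ⊔ LinearMap.range (diag k K) := by rw [hA]; exact ha
    obtain ⟨u, hu, w, ⟨h, rfl⟩, huw⟩ := Submodule.mem_sup.1 ha'
    refine ⟨u P, ?_⟩
    rw [hφ, ← sub_eq_zero, ← map_sub, Submodule.mkQ_apply, Submodule.Quotient.mk_eq_zero]
    show (Pi.single P (u P) : Place k K → K) - a ∈
      AD (0 : Divisor k K) ⊔ LinearMap.range (diag k K)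
    refine Submodule.mem_sup.2 ⟨(Pi.single P (u P) : Place k K → K) - u, ?_, diag k K (-h),
      ⟨_, rfl⟩, ?_⟩
    · intro Q
      show Q.1 (((Pi.single P (u P) : Place k K → K) - u) Q) ≤ WithZero.exp ((0 : Divisor k K) Q)
      rw [Finsupp.zero_apply, WithZero.exp_zero, Pi.sub_apply]
      by_cases hQ : Q = P
      · rw [hQ, Pi.single_eq_same, sub_self, map_zero]
        exact zero_le_one
      · rw [Pi.single_eq_of_ne hQ, zero_sub, Valuation.map_neg]
        have := hu Q
        rwa [hD₁, Finsupp.single_eq_of_ne hQ, WithZero.exp_zero] at this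
    · rw [← huw, map_neg]
      abel
  have e : (K ⧸ W) ≃ₗ[k] (↥(adele k K) ⧸ ADK (0 : Divisor k K)) :=
    (Submodule.quotEquivOfEq _ _ hker.symm).trans (φ.quotKerEquivOfSurjective hsurj)
  obtain ⟨hfd, hfr⟩ := finrank_adele_quotient hK (0 : Divisor k K)
  have hdelta0 : delta (0 : Divisor k K) = 0 := by
    unfold delta
    rw [deg_zero, ell_zero hK]
    norm_num
  rw [hdelta0, sub_zero] at hfr
  have hfr' : finrank k (↥(adele k K) ⧸ ADK (0 : Divisor k K)) = genus k K := by
    exact_mod_cast hfr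
  haveI := hfd
  exact ⟨Module.Finite.equiv e.symm, by rw [e.finrank_eq, hfr']⟩

end Groth.Agent.Helper17.FF
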