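import Groth.Prelude.Def_AdFn
import Groth.Agent.Lib.Helper17.FFSInt

set_option autoImplicit false
universe u
open AdFn

namespace Groth.Agent.Helper17.AdKv

variable {k K : Type u} [Field k] [Field K] [Algebra k K]

/-- `O_v` as a `k`-submodule of `K_v`. -/
noncomputable def OvSub (P : FunFld.Place k K) : Submodule k (AdFn.Kv P) where
  carrier := (AdFn.Ov P : Set (AdFn.Kv P))
  add_mem' := fun {a b} ha hb => (AdFn.Ov P).add_mem a b ha hb
  zero_mem' := (AdFn.Ov P).zero_mem
  smul_mem' := by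
    intro c x hx
    have h1 : c • x = AdFn.toKv P (algebraMap k K c) * x := by
      rw [Algebra.smul_def]; rfl
    show c • x ∈ AdFn.Ov P
    rw [h1]
    exact (AdFn.Ov P).mul_mem _ _ ((AdFn.toKv_mem_Ov P _).2 (P.2.1 c)) hx

theorem mem_OvSub (P : FunFld.Place k K) (x : AdFn.Kv P) : x ∈ OvSub P ↔ x ∈ AdFn.Ov P := Iff.rfl

theorem span_Ov (P : FunFld.Place k K) :
    Submodule.span k (AdFn.Ov P : Set (AdFn.Kv P)) = OvSub P := by
  apply le_antisymm
  · exact Submodule.span_le.2 (fun x hx => hx)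
  · exact fun x hx => Submodule.subset_span hx

theorem exists_sub_mem_Ov (P : FunFld.Place k K) (x : AdFn.Kv P) :
    ∃ z : K, x - AdFn.toKv P z ∈ AdFn.Ov P := by
  have hd : DenseRange ((↑) : WithVal P.1 → P.1.Completion) :=
    UniformSpace.Completion.denseRange_coe
  have ho : IsOpen {y : AdFn.Kv P | x - y ∈ AdFn.Ov P} := by
    have hc : Continuous (fun y : AdFn.Kv P => x - y) := continuous_const.sub continuous_id
    exact (AdFn.isOpen_Ov P).preimage hc
  obtain ⟨a, ha⟩ := hd.exists_mem_open ho ⟨x, by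
    show x - x ∈ AdFn.Ov P
    rw [sub_self]; exact (AdFn.Ov P).zero_mem⟩
  exact ⟨a.ofVal, ha⟩

theorem s16100 (hK : FunFld.IsFunctionField k K) (P : FunFld.Place k K) :
    FiniteDimensional k (AdFn.Kv P ⧸
        (Subalgebra.toSubmodule ((AdFn.SInt ({P} : Set (FunFld.Place k K))).map
            (IsScalarTower.toAlgHom k K (AdFn.Kv P))) ⊔
          Submodule.span k (AdFn.Ov P : Set (AdFn.Kv P)))) ∧
    Module.finrank k (AdFn.Kv P ⧸
        (Subalgebra.toSubmodule ((AdFn.SInt ({P} : Set (FunFld.Place k K))).map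
            (IsScalarTower.toAlgHom k K (AdFn.Kv P))) ⊔
          Submodule.span k (AdFn.Ov P : Set (AdFn.Kv P)))) = FunFld.genus k K := by
  obtain ⟨W, hW⟩ : ∃ W : Submodule k (AdFn.Kv P), W =
      (Subalgebra.toSubmodule ((AdFn.SInt ({P} : Set (FunFld.Place k K))).map
            (IsScalarTower.toAlgHom k K (AdFn.Kv P))) ⊔
          Submodule.span k (AdFn.Ov P : Set (AdFn.Kv P))) := ⟨_, rfl⟩
  rw [← hW]
  let f : K →ₗ[k] (AdFn.Kv P ⧸ W) :=
    W.mkQ.comp (IsScalarTower.toAlgHom k K (AdFn.Kv P)).toLinearMap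
  have hf_apply : ∀ z, f z = W.mkQ (AdFn.toKv P z) := fun z => rfl
  have hsurj : Function.Surjective f := by
    intro y
    obtain ⟨x, rfl⟩ := W.mkQ_surjective y
    obtain ⟨z, hz⟩ := exists_sub_mem_Ov P x
    refine ⟨z, ?_⟩
    rw [hf_apply]
    symm
    rw [← sub_eq_zero, ← map_sub, Submodule.mkQ_apply, Submodule.Quotient.mk_eq_zero, hW]
    exact Submodule.mem_sup_right (Submodule.subset_span hz)
  have hker : LinearMap.ker f =
      Subalgebra.toSubmodule (AdFn.SInt ({P} : Set (FunFld.Place k K))) ⊔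
        Subalgebra.toSubmodule (AdFn.SInt (({P} : Set (FunFld.Place k K))ᶜ)) := by
    ext z
    rw [LinearMap.mem_ker, hf_apply, Submodule.mkQ_apply, Submodule.Quotient.mk_eq_zero, hW,
      span_Ov]
    constructor
    · intro h
      obtain ⟨s', hs', o, ho, hso⟩ := Submodule.mem_sup.1 h
      rw [Subalgebra.mem_toSubmodule, Subalgebra.mem_map] at hs'
      obtain ⟨s, hs, rfl⟩ := hs'
      have ho' : o = AdFn.toKv P (z - s) := by
        rw [map_sub, ← hso]
        show o = (AdFn.toKv P s + o) - AdFn.toKv P s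
        ring
      have hle : P.1 (z - s) ≤ 1 := by
        rw [← AdFn.toKv_mem_Ov, ← ho']; exact ho
      refine Submodule.mem_sup.2 ⟨s, hs, z - s, ?_, by ring⟩
      intro v hv
      have hvP : v = P := by simpa using hv
      rw [hvP]; exact hle
    · intro h
      obtain ⟨s, hs, t, ht, rfl⟩ := Submodule.mem_sup.1 h
      rw [map_add]
      refine Submodule.mem_sup.2 ⟨AdFn.toKv P s, ?_, AdFn.toKv P t, ?_, rfl⟩
      · exact ⟨s, hs, rfl⟩
      · exact (AdFn.toKv_mem_Ov P t).2 (ht P (by simp))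
  have e : (K ⧸ (Subalgebra.toSubmodule (AdFn.SInt ({P} : Set (FunFld.Place k K))) ⊔
        Subalgebra.toSubmodule (AdFn.SInt (({P} : Set (FunFld.Place k K))ᶜ)))) ≃ₗ[k]
      (AdFn.Kv P ⧸ W) :=
    (Submodule.quotEquivOfEq _ _ hker.symm).trans (f.quotKerEquivOfSurjective hsurj)
  obtain ⟨h1, h2⟩ := Groth.Agent.Helper17.FF.finrank_quot_SInt hK P
  exact ⟨Module.Finite.equiv e, by rw [← e.finrank_eq]; exact h2⟩

end Groth.Agent.Helper17.AdKv
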