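import Groth.Prelude.Def_AdFn
import Groth.Agent.Lib.Helper17.FFSInt
import Groth.Agent.Lib.Helper17.AdKv

set_option autoImplicit false
universe u
open AdFn

namespace Groth.Agent.Helper17.AdKv

open FunFld Groth.Agent.Helper17.FF

variable {k K : Type u} [Field k] [Field K] [Algebra k K]

theorem proj_sub_diag [AdFn.HasFinitePoles k K] (v : FunFld.Place k K) (a : AdFn.AdeleRing k K)
    (f : K) :
    AdFn.AdeleRing.proj v (a - AdFn.AdeleRing.diag f) = AdFn.AdeleRing.proj v a - AdFn.toKv v f := by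
  rw [map_sub, AdFn.AdeleRing.proj_diag]

theorem strong_approx (hK : FunFld.IsFunctionField k K) [AdFn.HasFinitePoles k K]
    (P₀ : FunFld.Place k K) (a : AdFn.AdeleRing k K) :
    ∃ f : K, ∀ v : FunFld.Place k K, v ≠ P₀ →
      AdFn.AdeleRing.proj v (a - AdFn.AdeleRing.diag f) ∈ AdFn.Ov v := by
  classical
  -- choose approximations
  have hex : ∀ v : FunFld.Place k K, ∃ z : K, a.1 v - AdFn.toKv v z ∈ AdFn.Ov v ∧
      (a.1 v ∈ AdFn.Ov v → z = 0) := by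
    intro v
    by_cases hv : a.1 v ∈ AdFn.Ov v
    · exact ⟨0, by rw [map_zero, sub_zero]; exact hv, fun _ => rfl⟩
    · obtain ⟨z, hz⟩ := exists_sub_mem_Ov v (a.1 v)
      exact ⟨z, hz, fun h => absurd h hv⟩
  choose ξ hξ1 hξ2 using hex
  have hξ : ξ ∈ adele k K := by
    show ∀ᶠ P : Place k K in Filter.cofinite, P.1 (ξ P) ≤ 1
    have ha := a.2
    refine ha.mono (fun v hv => ?_)
    rw [hξ2 v hv, map_zero]
    exact zero_le_one
  obtain ⟨D₁, hD₁⟩ : ∃ D₁ : Divisor k K, D₁ = Finsupp.single P₀ (2 * (genus k K : ℤ)) :=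
    ⟨_, rfl⟩
  have hdeg : D₁.deg = 2 * (genus k K : ℤ) * P₀.deg := by rw [hD₁, deg_single]
  have hPpos : (1 : ℤ) ≤ P₀.deg := by exact_mod_cast deg_pos hK P₀
  have hdeg' : 2 * (genus k K : ℤ) - 1 ≤ D₁.deg := by
    rw [hdeg]
    have : (0 : ℤ) ≤ genus k K := Nat.cast_nonneg _
    nlinarith
  have hdelta : delta D₁ = genus k K := by
    unfold delta
    rw [ell_eq_of_deg_ge hK D₁ hdeg']
    ring
  have hA := AD_sup_eq_adele hK hdelta
  have ha' : ξ ∈ AD D₁ ⊔ LinearMap.range (diag k K) := by rw [hA]; exact hξ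
  obtain ⟨u, hu, w, ⟨h, rfl⟩, huw⟩ := Submodule.mem_sup.1 ha'
  refine ⟨h, fun v hv => ?_⟩
  rw [proj_sub_diag, AdFn.AdeleRing.proj_apply]
  have h1 : ξ v = u v + h := by
    have := congrFun huw v
    rw [Pi.add_apply] at this
    exact this.symm
  have h2 : a.1 v - AdFn.toKv v h = (a.1 v - AdFn.toKv v (ξ v)) + AdFn.toKv v (u v) := by
    rw [h1, map_add]; ring
  rw [h2]
  refine (AdFn.Ov v).add_mem _ _ (hξ1 v) ((AdFn.toKv_mem_Ov v _).2 ?_)
  have := hu v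
  rwa [hD₁, Finsupp.single_eq_of_ne hv, WithZero.exp_zero] at this

theorem s16098 (hK : FunFld.IsFunctionField k K) [AdFn.HasFinitePoles k K]
    (S : Set (FunFld.Place k K)) (hS : S.Nonempty) :
    (∀ a : AdFn.AdeleRing k K, ∃ f : K, ∀ v : FunFld.Place k K, v ∉ S →
        AdFn.AdeleRing.proj v (a - AdFn.AdeleRing.diag f) ∈ AdFn.Ov v) ∧
    (∀ b : AdFn.AdeleRing k K, (∀ v : FunFld.Place k K, v ∉ S → AdFn.AdeleRing.proj v b = 0) →
        ((∃ f : K, ∀ v : FunFld.Place k K, AdFn.AdeleRing.proj v (b - AdFn.AdeleRing.diag f) ∈ AdFn.Ov v) ↔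
          ∃ f ∈ AdFn.SInt S, ∀ v ∈ S, AdFn.AdeleRing.proj v b - AdFn.toKv v f ∈ AdFn.Ov v)) := by
  obtain ⟨P₀, hP₀⟩ := hS
  refine ⟨fun a => ?_, fun b hb => ⟨?_, ?_⟩⟩
  · obtain ⟨f, hf⟩ := strong_approx hK P₀ a
    exact ⟨f, fun v hv => hf v (fun h => hv (h ▸ hP₀))⟩
  · rintro ⟨f, hf⟩
    refine ⟨f, fun v hv => ?_, fun v _ => ?_⟩
    · have h1 := hf v
      rw [proj_sub_diag, hb v hv, zero_sub] at h1
      have h2 : AdFn.toKv v f ∈ AdFn.Ov v := by
        have := (AdFn.Ov v).neg_mem _ h1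
        rwa [neg_neg] at this
      exact (AdFn.toKv_mem_Ov v f).1 h2
    · have h1 := hf v
      rwa [proj_sub_diag] at h1
  · rintro ⟨f, hfS, hf⟩
    refine ⟨f, fun v => ?_⟩
    rw [proj_sub_diag]
    by_cases hv : v ∈ S
    · exact hf v hv
    · rw [hb v hv, zero_sub]
      exact (AdFn.Ov v).neg_mem _ ((AdFn.toKv_mem_Ov v f).2 (hfS v hv))

end Groth.Agent.Helper17.AdKv
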