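import Mathlib

open Polynomial

namespace Groth.Agent.Helper17.AdjInt

universe u v

section loc

variable {R : Type u} [CommRing R] (h : R[X]) (M : Submonoid R)
  (Rₘ : Type v) [CommRing Rₘ] [Algebra R Rₘ] [IsLocalization M Rₘ]
  (Aₘ : Type v) [CommRing Aₘ] [Algebra (AdjoinRoot h) Aₘ] [Algebra R Aₘ] [Algebra Rₘ Aₘ]
  [IsScalarTower R Rₘ Aₘ] [IsScalarTower R (AdjoinRoot h) Aₘ]
  [IsLocalization (Algebra.algebraMapSubmonoid (AdjoinRoot h) M) Aₘ]

omit [IsLocalization M Rₘ] [IsLocalization (Algebra.algebraMapSubmonoid (AdjoinRoot h) M) Aₘ] in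
lemma aeval_root_map :
    aeval (algebraMap (AdjoinRoot h) Aₘ (AdjoinRoot.root h)) (h.map (algebraMap R Rₘ)) = 0 := by
  rw [aeval_map_algebraMap, aeval_algebraMap_apply, AdjoinRoot.aeval_eq, AdjoinRoot.mk_self,
    map_zero]

include M in
theorem isIntegral_of_isUnit (hu : IsUnit (algebraMap R Rₘ h.leadingCoeff)) :
    Algebra.IsIntegral Rₘ Aₘ := by
  constructor
  intro x
  rcases subsingleton_or_nontrivial Rₘ with hs | hnt
  · haveI : Subsingleton Aₘ := Module.subsingleton Rₘ Aₘ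
    exact ⟨1, monic_one, Subsingleton.elim _ _⟩
  set z := algebraMap (AdjoinRoot h) Aₘ (AdjoinRoot.root h) with hz
  have hzint : IsIntegral Rₘ z := by
    have hne : algebraMap R Rₘ h.leadingCoeff ≠ 0 := hu.ne_zero
    have hlc : (h.map (algebraMap R Rₘ)).leadingCoeff = algebraMap R Rₘ h.leadingCoeff :=
      leadingCoeff_map_of_leadingCoeff_ne_zero _ hne
    have hu' : IsUnit (h.map (algebraMap R Rₘ)).leadingCoeff := hlc ▸ hu
    refine ⟨hu'.unit⁻¹ • (h.map (algebraMap R Rₘ)), monic_of_isUnit_leadingCoeff_inv_smul hu', ?_⟩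
    rw [← aeval_def, Units.smul_def, Algebra.smul_def, map_mul, aeval_root_map, mul_zero]
  obtain ⟨a, s, rfl⟩ :=
    IsLocalization.exists_mk'_eq (Algebra.algebraMapSubmonoid (AdjoinRoot h) M) x
  obtain ⟨m, hm, hms⟩ := s.2
  set y : Aₘ := algebraMap Rₘ Aₘ (IsLocalization.mk' Rₘ (1 : R) ⟨m, hm⟩) with hy
  have hys : algebraMap (AdjoinRoot h) Aₘ s * y = 1 := by
    rw [← hms, ← IsScalarTower.algebraMap_apply R (AdjoinRoot h) Aₘ,
      IsScalarTower.algebraMap_apply R Rₘ Aₘ, hy, ← map_mul, mul_comm]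
    have := IsLocalization.mk'_spec Rₘ (1 : R) ⟨m, hm⟩
    rw [this, map_one, map_one]
  have hx : IsLocalization.mk' Aₘ a s = algebraMap (AdjoinRoot h) Aₘ a * y := by
    have := IsLocalization.mk'_spec Aₘ a s
    calc IsLocalization.mk' Aₘ a s = IsLocalization.mk' Aₘ a s * (algebraMap (AdjoinRoot h) Aₘ s * y) := by
          rw [hys, mul_one]
      _ = algebraMap (AdjoinRoot h) Aₘ a * y := by rw [← mul_assoc, this]
  rw [hx]
  refine IsIntegral.mul ?_ isIntegral_algebraMap
  obtain ⟨q, rfl⟩ := AdjoinRoot.mk_surjective a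
  rw [← AdjoinRoot.aeval_eq, ← aeval_algebraMap_apply, ← hz, ← aeval_map_algebraMap Rₘ]
  have hzmem : z ∈ integralClosure Rₘ Aₘ := hzint
  have := aeval_subalgebra_coe (q.map (algebraMap R Rₘ)) (integralClosure Rₘ Aₘ) ⟨z, hzmem⟩
  have h2 : aeval z (q.map (algebraMap R Rₘ)) ∈ integralClosure Rₘ Aₘ := by
    rw [show z = ((⟨z, hzmem⟩ : integralClosure Rₘ Aₘ) : Aₘ) from rfl, ← this]
    exact Subtype.coe_prop _
  exact h2

include M in
theorem isUnit_of_isIntegral [IsDomain R] (hint : Algebra.IsIntegral Rₘ Aₘ) :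
    IsUnit (algebraMap R Rₘ h.leadingCoeff) := by
  by_cases h0 : (0 : R) ∈ M
  · haveI : Subsingleton Rₘ := IsLocalization.subsingleton (M := M) h0
    exact isUnit_of_subsingleton _
  have hM : M ≤ nonZeroDivisors R := by
    intro m hm
    refine mem_nonZeroDivisors_of_ne_zero ?_
    rintro rfl
    exact h0 hm
  haveI : IsDomain Rₘ := IsLocalization.isDomain_of_le_nonZeroDivisors Rₘ hM
  have hinj : Function.Injective (algebraMap R Rₘ) := IsLocalization.injective Rₘ hM
  set z := algebraMap (AdjoinRoot h) Aₘ (AdjoinRoot.root h) with hz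
  obtain ⟨g, hgm, hg⟩ := hint.isIntegral z
  rw [← aeval_def] at hg
  obtain ⟨b, hb, hbg⟩ := IsLocalization.integerNormalization_spec M g
  set g₀ := IsLocalization.integerNormalization M g with hg₀
  have h1 : aeval z g₀ = 0 := by
    rw [← aeval_map_algebraMap Rₘ, hbg, ← algebraMap_smul Rₘ b g, map_smul, hg, smul_zero]
  rw [hz, aeval_algebraMap_apply, AdjoinRoot.aeval_eq] at h1
  obtain ⟨s, hs⟩ := (IsLocalization.map_eq_zero_iff
    (Algebra.algebraMapSubmonoid (AdjoinRoot h) M) Aₘ _).1 h1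
  obtain ⟨m, hm, hms⟩ := s.2
  have h2 : h ∣ C m * g₀ := by
    rw [← AdjoinRoot.mk_eq_zero, map_mul, AdjoinRoot.mk_C, ← hs, ← hms]
    rfl
  have h3 : h.map (algebraMap R Rₘ) ∣ C (algebraMap R Rₘ m * algebraMap R Rₘ b) * g := by
    have := Polynomial.map_dvd (algebraMap R Rₘ) h2
    rw [Polynomial.map_mul, map_C, hbg, Algebra.smul_def, Polynomial.algebraMap_apply, ← mul_assoc,
      ← C_mul] at this
    exact this
  have hunit : IsUnit (C (algebraMap R Rₘ m * algebraMap R Rₘ b) : Rₘ[X]) := by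
    refine Polynomial.isUnit_C.2 (IsUnit.mul ?_ ?_)
    · exact IsLocalization.map_units Rₘ (⟨m, hm⟩ : M)
    · exact IsLocalization.map_units Rₘ (⟨b, hb⟩ : M)
  rw [hunit.dvd_mul_left] at h3
  obtain ⟨q, hq⟩ := h3
  have hlc := congrArg leadingCoeff hq
  rw [hgm.leadingCoeff, leadingCoeff_mul, leadingCoeff_map_of_injective hinj] at hlc
  exact IsUnit.of_mul_eq_one _ hlc.symm

end loc

section frac

variable {R : Type u} [CommRing R] [IsDomain R] (h : R[X])

theorem finrank_tensor (hne : h ≠ 0) :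
    Module.finrank (FractionRing R) (TensorProduct R (FractionRing R) (AdjoinRoot h))
      = h.natDegree := by
  set F := FractionRing R
  set h' := h.map (algebraMap R F) with hh'
  have hinj : Function.Injective (algebraMap R F) := IsFractionRing.injective R F
  have hne' : h' ≠ 0 := by
    rw [hh', Ne, Polynomial.map_eq_zero_iff hinj]
    exact hne
  have hdeg : h'.natDegree = h.natDegree := natDegree_map_eq_of_injective hinj h
  -- maps in both directions
  have e1 : eval₂ (Algebra.ofId R (AdjoinRoot h')) (AdjoinRoot.root h') h = 0 := by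
    have : ((Algebra.ofId R (AdjoinRoot h')) : R →+* AdjoinRoot h') =
        (AdjoinRoot.of h').comp (algebraMap R F) := by
      ext r
      simp [Algebra.ofId_apply, AdjoinRoot.algebraMap_eq']
    show eval₂ ((Algebra.ofId R (AdjoinRoot h')) : R →+* AdjoinRoot h') _ _ = 0
    rw [this, ← eval₂_map, ← hh', AdjoinRoot.eval₂_root]
  let g : AdjoinRoot h →ₐ[R] AdjoinRoot h' :=
    AdjoinRoot.liftAlgHom h (Algebra.ofId R (AdjoinRoot h')) (AdjoinRoot.root h') e1
  let φ : TensorProduct R F (AdjoinRoot h) →ₐ[F] AdjoinRoot h' :=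
    Algebra.TensorProduct.lift (Algebra.ofId F (AdjoinRoot h')) g (fun _ _ => Commute.all _ _)
  have e2 : eval₂ (Algebra.ofId F (TensorProduct R F (AdjoinRoot h)))
      ((1 : F) ⊗ₜ[R] AdjoinRoot.root h) h' = 0 := by
    show eval₂ ((Algebra.ofId F (TensorProduct R F (AdjoinRoot h))) :
      F →+* TensorProduct R F (AdjoinRoot h)) _ _ = 0
    rw [hh', eval₂_map]
    have : ((Algebra.ofId F (TensorProduct R F (AdjoinRoot h))) :
        F →+* TensorProduct R F (AdjoinRoot h)).comp (algebraMap R F) =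
        (Algebra.TensorProduct.includeRight : AdjoinRoot h →ₐ[R] TensorProduct R F (AdjoinRoot h)).toRingHom.comp
          (AdjoinRoot.of h) := by
      ext r
      simp [Algebra.ofId_apply, Algebra.TensorProduct.algebraMap_apply, ← AdjoinRoot.algebraMap_eq,
        Algebra.TensorProduct.tmul_one_eq_one_tmul]
    rw [this]
    have h4 := hom_eval₂ h (AdjoinRoot.of h)
      (Algebra.TensorProduct.includeRight : AdjoinRoot h →ₐ[R] TensorProduct R F (AdjoinRoot h)).toRingHom
      (AdjoinRoot.root h)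
    rw [AdjoinRoot.eval₂_root, map_zero] at h4
    exact h4.symm
  let ψ : AdjoinRoot h' →ₐ[F] TensorProduct R F (AdjoinRoot h) :=
    AdjoinRoot.liftAlgHom h' (Algebra.ofId F _) ((1 : F) ⊗ₜ[R] AdjoinRoot.root h) e2
  have hφψ : φ.comp ψ = AlgHom.id F _ := by
    apply AdjoinRoot.algHom_ext
    simp [φ, ψ, g]
  have hψφ : ψ.comp φ = AlgHom.id F _ := by
    apply Algebra.TensorProduct.ext
    · ext
    · apply AdjoinRoot.algHom_ext
      simp [φ, ψ, g]
  let e : TensorProduct R F (AdjoinRoot h) ≃ₐ[F] AdjoinRoot h' := AlgEquiv.ofAlgHom φ ψ hφψ hψφ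
  rw [e.toLinearEquiv.finrank_eq, (AdjoinRoot.powerBasis hne').finrank, AdjoinRoot.powerBasis_dim,
    hdeg]

end frac

theorem s17410 (K : Type u) [Field K]
    (h : Polynomial (MvPolynomial (Fin 2) K)) (hdeg : h.natDegree = 2)
    (S : Submonoid (MvPolynomial (Fin 2) K)) :
    (Algebra.IsIntegral (Localization S) (Localization (Algebra.algebraMapSubmonoid (AdjoinRoot h) S))
        ↔ IsUnit (algebraMap (MvPolynomial (Fin 2) K) (Localization S) h.leadingCoeff))
      ∧ Module.finrank (FractionRing (MvPolynomial (Fin 2) K))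
          (TensorProduct (MvPolynomial (Fin 2) K) (FractionRing (MvPolynomial (Fin 2) K)) (AdjoinRoot h)) = 2 := by
  refine ⟨⟨fun hint => isUnit_of_isIntegral h S _ _ hint, fun hu => isIntegral_of_isUnit h S _ _ hu⟩, ?_⟩
  rw [finrank_tensor h, hdeg]
  rintro rfl
  simp at hdeg

end Groth.Agent.Helper17.AdjInt
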