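import Mathlib
set_option autoImplicit false
universe u
open CategoryTheory AlgebraicGeometry Limits

namespace Groth.Agent.Helper17.ArLefU

set_option backward.isDefEq.respectTransparency false in
lemma isOpenImmersion_equalizer_ι_left {S : Scheme.{u}} {X Y : Over S} [FormallyUnramified Y.hom]
    [LocallyOfFiniteType Y.hom]
    (f g : X ⟶ Y) : IsOpenImmersion (equalizer.ι f g).left := by
  refine MorphismProperty.of_isPullback
    ((Limits.isPullback_equalizer_prod f g).map (Over.forget _)).flip ?_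
  rw [← MorphismProperty.cancel_right_of_respectsIso @IsOpenImmersion _
    (Over.prodLeftIsoPullback Y Y).hom]
  convert! (inferInstance : IsOpenImmersion (pullback.diagonal Y.hom))
  ext1 <;> simp [← Over.comp_left]

/-- rigidity: two maps into an unramified separated scheme from a connected one agreeing at a point agree -/
lemma rigid {C D E : Scheme.{u}} (f : D ⟶ C) [FormallyUnramified f] [LocallyOfFiniteType f]
    [IsSeparated f] [ConnectedSpace E] (a b : E ⟶ D) (hab : a ≫ f = b ≫ f)
    (Z : Scheme.{u}) [Nonempty Z] (z : Z ⟶ E) (hz : z ≫ a = z ≫ b) : a = b := by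
  let X' : Over C := Over.mk (a ≫ f)
  let Y' : Over C := Over.mk f
  let Z' : Over C := Over.mk (z ≫ a ≫ f)
  let a' : X' ⟶ Y' := Over.homMk a
  let b' : X' ⟶ Y' := Over.homMk b hab.symm
  let z' : Z' ⟶ X' := Over.homMk z
  haveI : IsSeparated Y'.hom := ‹_›
  haveI : FormallyUnramified Y'.hom := ‹_›
  haveI : LocallyOfFiniteType Y'.hom := ‹_›
  haveI h1 : IsOpenImmersion (equalizer.ι a' b').left := isOpenImmersion_equalizer_ι_left a' b'
  haveI h2 : IsClosedImmersion (equalizer.ι a' b').left := inferInstance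
  have hz' : z' ≫ a' = z' ≫ b' := by
    ext1
    exact hz
  let l : Z' ⟶ equalizer a' b' := equalizer.lift z' hz'
  have hl : l ≫ equalizer.ι a' b' = z' := equalizer.lift_ι _ _
  let e : (equalizer a' b').left ⟶ E := (equalizer.ι a' b').left
  have hopen : IsOpen (Set.range e) := e.isOpenEmbedding.isOpen_range
  have hclosed : IsClosed (Set.range e) := e.isClosedEmbedding.isClosed_range
  have hne : (Set.range e).Nonempty := by
    obtain ⟨p⟩ := ‹Nonempty Z›
    exact ⟨e (l.left p), ⟨_, rfl⟩⟩
  have huniv : Set.range e = Set.univ :=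
    IsClopen.eq_univ ⟨hclosed, hopen⟩ hne
  haveI : IsIso e := by
    apply isIso_of_isOpenImmersion_of_opensRange_eq_top
    ext x
    simp only [Scheme.Hom.coe_opensRange, TopologicalSpace.Opens.coe_top]
    rw [huniv]
  have := congr($(equalizer.condition a' b').left)
  have h3 : e ≫ a = e ≫ b := this
  exact (cancel_epi e).mp h3

theorem main {C D : Scheme.{u}} (f : D ⟶ C) [Etale f] [IsSeparated f] [Surjective f]
    [ConnectedSpace D] (τ : C ≅ C) (σ σ' : D ≅ D)
    (hσ : σ.hom ≫ f = f ≫ τ.hom) (hσ' : σ'.hom ≫ f = f ≫ τ.hom)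
    (good : ∀ (Z : Scheme.{u}) (z : Z ⟶ D), z ≫ f ≫ τ.hom = z ≫ f → z ≫ σ.hom = z)
    (good' : ∀ (Z : Scheme.{u}) (z : Z ⟶ D), z ≫ f ≫ τ.hom = z ≫ f → z ≫ σ'.hom = z)
    (x : C) (hx : C.fromSpecResidueField x ≫ τ.hom = C.fromSpecResidueField x) :
    σ = σ' := by
  obtain ⟨d, rfl⟩ := f.surjective x
  have hz : D.fromSpecResidueField d ≫ f ≫ τ.hom = D.fromSpecResidueField d ≫ f := by
    have key : D.fromSpecResidueField d ≫ f
        = Spec.map (f.residueFieldMap d) ≫ C.fromSpecResidueField (f d) :=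
      (Scheme.Hom.SpecMap_residueFieldMap_fromSpecResidueField f d).symm
    calc D.fromSpecResidueField d ≫ f ≫ τ.hom
        = (D.fromSpecResidueField d ≫ f) ≫ τ.hom := (Category.assoc _ _ _).symm
      _ = (Spec.map (f.residueFieldMap d) ≫ C.fromSpecResidueField (f d)) ≫ τ.hom := by rw [key]
      _ = Spec.map (f.residueFieldMap d) ≫ (C.fromSpecResidueField (f d) ≫ τ.hom) :=
          Category.assoc _ _ _
      _ = Spec.map (f.residueFieldMap d) ≫ C.fromSpecResidueField (f d) := by rw [hx]
      _ = D.fromSpecResidueField d ≫ f := key.symm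
  have h1 := good _ _ hz
  have h2 := good' _ _ hz
  apply Iso.ext
  exact rigid f σ.hom σ'.hom (hσ.trans hσ'.symm) _ (D.fromSpecResidueField d) (h1.trans h2.symm)

end Groth.Agent.Helper17.ArLefU
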