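import Mathlib

set_option autoImplicit false
universe u
open CategoryTheory CategoryTheory.Limits AlgebraicGeometry TopologicalSpace Topology TensorProduct

namespace Groth.Agent.Helper17.FieldBC

/-! ### Krull dimension and integral extensions (copied from `Groth.Agent.H14Lib.KrullDim`) -/

theorem coheight_le_of_fibration {α β : Type*} [Preorder α] [Preorder β] (f : α → β)
    (hmono : Monotone f) (hfib : ∀ a b, f a ≤ b → ∃ a', a ≤ a' ∧ f a' = b) (a : α) :
    Order.coheight (f a) ≤ Order.coheight a := by
  suffices h : ∀ n : ℕ, ∀ a, (n : ℕ∞) ≤ Order.coheight (f a) → (n : ℕ∞) ≤ Order.coheight a by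
    exact ENat.forall_natCast_le_iff_le.mp (fun n => h n a)
  intro n
  induction n with
  | zero => intro a _; simp
  | succ n ih =>
    intro a ha
    have h1 : ¬ Order.coheight (f a) ≤ (n : ℕ∞) := by
      intro h
      have := ha.trans h
      norm_cast at this
      omega
    rw [Order.coheight_le_coe_iff] at h1
    push Not at h1
    obtain ⟨y, hy, hny⟩ := h1
    obtain ⟨a', haa', rfl⟩ := hfib a y hy.le
    have hlt : a < a' := lt_of_le_not_ge haa' (fun h => (hmono h).not_gt hy)
    have := ih a' hny
    calc ((n + 1 : ℕ) : ℕ∞) = (n : ℕ∞) + 1 := by norm_cast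
      _ ≤ Order.coheight a' + 1 := by gcongr
      _ ≤ Order.coheight a := Order.coheight_add_one_le hlt

theorem krullDim_le_of_fibration {α β : Type*} [Preorder α] [Preorder β] (f : α → β)
    (hmono : Monotone f) (hfib : ∀ a b, f a ≤ b → ∃ a', a ≤ a' ∧ f a' = b)
    (hsurj : Function.Surjective f) : Order.krullDim β ≤ Order.krullDim α := by
  rw [Order.krullDim_eq_iSup_coheight]
  apply iSup_le
  intro b
  obtain ⟨a, rfl⟩ := hsurj b
  exact (WithBot.coe_le_coe.mpr (coheight_le_of_fibration f hmono hfib a)).trans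
    (Order.coheight_le_krullDim a)

theorem ringKrullDim_le_of_isIntegral (A B : Type*) [CommRing A] [CommRing B] [Algebra A B]
    [Algebra.IsIntegral A B] : ringKrullDim B ≤ ringKrullDim A := by
  refine Order.krullDim_le_of_strictMono (PrimeSpectrum.comap (algebraMap A B)) ?_
  intro P Q hPQ
  have : P.asIdeal < Q.asIdeal := hPQ
  exact Ideal.IsIntegral.comap_lt_comap (R := A) this

theorem ringKrullDim_eq_of_isIntegral_of_injective (A B : Type*) [CommRing A] [CommRing B]
    [Algebra A B] [Algebra.IsIntegral A B] (hinj : Function.Injective (algebraMap A B)) :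
    ringKrullDim B = ringKrullDim A := by
  apply le_antisymm (ringKrullDim_le_of_isIntegral A B)
  refine krullDim_le_of_fibration (PrimeSpectrum.comap (algebraMap A B)) ?_ ?_ ?_
  · intro P Q hPQ
    exact Ideal.comap_mono (show P.asIdeal ≤ Q.asIdeal from hPQ)
  · intro Q p hQp
    obtain ⟨Q', hQ', hQ'prime, hQ'p⟩ :=
      Ideal.exists_ideal_over_prime_of_isIntegral_of_isPrime p.asIdeal Q.asIdeal hQp
    exact ⟨⟨Q', hQ'prime⟩, hQ', PrimeSpectrum.ext hQ'p⟩
  · intro p
    obtain ⟨Q, -, hQprime, hQp⟩ := Ideal.exists_ideal_over_prime_of_isIntegral p.asIdeal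
      (⊥ : Ideal B) (by
        rw [← RingHom.ker_eq_comap_bot, (RingHom.injective_iff_ker_eq_bot _).mp hinj]
        exact bot_le)
    exact ⟨⟨Q, hQprime⟩, PrimeSpectrum.ext hQp⟩

/-- ring hom form -/
theorem dim_eq_of_integral_injective {A B : Type*} [CommRing A] [CommRing B] (f : A →+* B)
    (hf : f.IsIntegral) (hinj : Function.Injective f) : ringKrullDim B = ringKrullDim A := by
  letI := f.toAlgebra
  haveI : Algebra.IsIntegral A B := algebraMap_isIntegral_iff.mp hf
  exact ringKrullDim_eq_of_isIntegral_of_injective A B hinj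

/-! ### dimension of a finitely generated algebra is invariant under field extension -/

section Alg
variable (k K A : Type u) [Field k] [Field K] [CommRing A] [Algebra k K] [Algebra k A]

theorem dim_mvPolynomial_field (F : Type*) [Field F] (s : ℕ) :
    ringKrullDim (MvPolynomial (Fin s) F) = (s : WithBot ℕ∞) := by
  rw [MvPolynomial.ringKrullDim_of_isNoetherianRing, ringKrullDim_eq_zero_of_field]
  simp

theorem dim_tensor_field [Algebra.FiniteType k A] :
    ringKrullDim (K ⊗[k] A) = ringKrullDim A := by
  rcases subsingleton_or_nontrivial A with hA | hA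
  · haveI : Subsingleton (K ⊗[k] A) := by
      refine ⟨fun x y => ?_⟩
      have h0 : ∀ z : K ⊗[k] A, z = 0 := by
        intro z
        induction z using TensorProduct.induction_on with
        | zero => rfl
        | tmul c a => rw [Subsingleton.elim a 0, TensorProduct.tmul_zero]
        | add x y hx hy => rw [hx, hy, add_zero]
      rw [h0 x, h0 y]
    rw [ringKrullDim_eq_bot_of_subsingleton, ringKrullDim_eq_bot_of_subsingleton]
  obtain ⟨s, g, hinj, hint⟩ := exists_integral_inj_algHom_of_fg k A
  have hA : ringKrullDim A = (s : WithBot ℕ∞) := by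
    rw [dim_eq_of_integral_injective g.toRingHom hint hinj, dim_mvPolynomial_field]
  rw [hA]
  -- the K-algebra hom θ
  let θ : MvPolynomial (Fin s) K →ₐ[K] K ⊗[k] A :=
    MvPolynomial.aeval (fun i => (1 : K) ⊗ₜ[k] g (MvPolynomial.X i))
  let ιA : A →+* K ⊗[k] A := (Algebra.TensorProduct.includeRight : A →ₐ[k] K ⊗[k] A).toRingHom
  have hsq : θ.toRingHom.comp (MvPolynomial.map (algebraMap k K)) = ιA.comp g.toRingHom := by
    apply MvPolynomial.ringHom_ext
    · intro c
      show θ (MvPolynomial.map (algebraMap k K) (MvPolynomial.C c)) =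
        (1 : K) ⊗ₜ[k] g (MvPolynomial.C c)
      have e1 : θ (MvPolynomial.C (algebraMap k K c)) = (algebraMap k K c) ⊗ₜ[k] (1 : A) := by
        rw [MvPolynomial.aeval_C, Algebra.TensorProduct.algebraMap_apply]
        rfl
      have e2 : g (MvPolynomial.C c) = algebraMap k A c := by
        rw [← MvPolynomial.algebraMap_eq, AlgHom.commutes]
      rw [MvPolynomial.map_C, e1, e2, Algebra.algebraMap_eq_smul_one,
        Algebra.algebraMap_eq_smul_one, TensorProduct.smul_tmul]
    · intro i
      show θ (MvPolynomial.map (algebraMap k K) (MvPolynomial.X i)) =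
        (1 : K) ⊗ₜ[k] g (MvPolynomial.X i)
      rw [MvPolynomial.map_X, MvPolynomial.aeval_X]
  have hsq' : ∀ p, θ (MvPolynomial.map (algebraMap k K) p) = (1 : K) ⊗ₜ[k] g p := fun p => by
    have := congrArg (fun φ => φ p) hsq
    simpa [ιA] using this
  -- integrality
  have hθint : θ.toRingHom.IsIntegral := by
    have h1 : ∀ a : A, θ.toRingHom.IsIntegralElem ((1 : K) ⊗ₜ[k] a) := by
      intro a
      obtain ⟨p, hp_monic, hp⟩ := hint a
      refine ⟨p.map (MvPolynomial.map (algebraMap k K)), hp_monic.map _, ?_⟩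
      rw [Polynomial.eval₂_map, hsq]
      have : (1 : K) ⊗ₜ[k] a = ιA a := rfl
      rw [this, ← Polynomial.hom_eval₂, hp, map_zero]
    intro x
    induction x using TensorProduct.induction_on with
    | zero => exact θ.toRingHom.isIntegralElem_zero
    | tmul c a =>
      have : c ⊗ₜ[k] a = θ.toRingHom (MvPolynomial.C c) * ((1 : K) ⊗ₜ[k] a) := by
        simp [θ, Algebra.TensorProduct.algebraMap_apply]
      rw [this]
      exact RingHom.IsIntegralElem.mul _ (θ.toRingHom.isIntegralElem_map) (h1 a)
    | add x y hx hy => exact RingHom.IsIntegralElem.add _ hx hy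
  -- injectivity
  have hθinj : Function.Injective θ := by
    let e := MvPolynomial.algebraTensorAlgEquiv (σ := Fin s) k K
    have hcomp : ∀ z : K ⊗[k] MvPolynomial (Fin s) k, θ (e z) = (g.toLinearMap.lTensor K) z := by
      intro z
      induction z using TensorProduct.induction_on with
      | zero => simp
      | tmul c p =>
        rw [MvPolynomial.algebraTensorAlgEquiv_tmul, map_smul, hsq', LinearMap.lTensor_tmul,
          TensorProduct.smul_tmul', smul_eq_mul, mul_one]
        rfl
      | add x y hx hy => rw [map_add, map_add, map_add, hx, hy]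
    have hl : Function.Injective (g.toLinearMap.lTensor K) :=
      Module.Flat.lTensor_preserves_injective_linearMap (M := K) g.toLinearMap hinj
    intro x y hxy
    have hx := hcomp (e.symm x)
    have hy := hcomp (e.symm y)
    rw [AlgEquiv.apply_symm_apply] at hx hy
    have := hl (hx.symm.trans (hxy.trans hy))
    exact e.symm.injective this
  rw [dim_eq_of_integral_injective θ.toRingHom hθint hθinj, dim_mvPolynomial_field]

theorem dim_tensor_field' [Algebra.FiniteType k A] :
    ringKrullDim (A ⊗[k] K) = ringKrullDim A := by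
  rw [ringKrullDim_eq_of_ringEquiv (Algebra.TensorProduct.comm k A K).toRingEquiv]
  exact dim_tensor_field k K A

end Alg

/-! ### schemes -/

/-- (copied from `Groth.Agent.H29.TopDim`) -/
theorem coheight_le_topologicalKrullDim_of_mem_open {X : Type*} [TopologicalSpace X]
    (Z : IrreducibleCloseds X) (U : Opens X) {x : X} (hxZ : x ∈ Z) (hxU : x ∈ U) :
    (Order.coheight Z : WithBot ℕ∞) ≤ topologicalKrullDim (U : Set X) := by
  let f : ↥(U : Set X) → X := Subtype.val
  have hf : IsOpenEmbedding f := U.isOpen.isOpenEmbedding_subtypeVal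
  let Z' := (IrreducibleCloseds.orderIsoOfIsOpenEmbedding f hf).symm ⟨Z, ⟨⟨x, hxU⟩, hxZ⟩⟩
  have h1 : IrreducibleCloseds.map f hf.continuous Z' = Z :=
    congrArg Subtype.val ((IrreducibleCloseds.orderIsoOfIsOpenEmbedding f hf).apply_symm_apply _)
  rw [← h1, hf.coheight_map]
  exact Order.coheight_le_krullDim _

/-- (copied from `Groth.Agent.H29.TopDim`) -/
theorem topologicalKrullDim_eq_iSup_of_open_cover' (X : Type u) [TopologicalSpace X] (ι : Type*)
    (U : ι → TopologicalSpace.Opens X) (hcov : ⨆ i, U i = ⊤) :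
    topologicalKrullDim X = ⨆ i, topologicalKrullDim (U i) := by
  apply le_antisymm
  · rw [topologicalKrullDim, Order.krullDim_eq_iSup_coheight]
    apply iSup_le
    intro Z
    obtain ⟨x, hx⟩ := Z.isIrreducible.nonempty
    obtain ⟨i, hi⟩ : ∃ i, x ∈ U i := Opens.mem_iSup.mp (hcov ▸ (trivial : x ∈ (⊤ : Opens X)))
    exact le_iSup_of_le i (coheight_le_topologicalKrullDim_of_mem_open Z (U i) hx hi)
  · exact iSup_le fun i => topologicalKrullDim_subspace_le X _

theorem dim_openCover {X : Scheme.{u}} (𝒰 : X.OpenCover) :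
    topologicalKrullDim X = ⨆ i, topologicalKrullDim (𝒰.X i) := by
  rw [topologicalKrullDim_eq_iSup_of_open_cover' X 𝒰.I₀ (fun i => (𝒰.f i).opensRange)
    𝒰.iSup_opensRange]
  refine iSup_congr fun i => ?_
  exact (IsHomeomorph.topologicalKrullDim_eq _
    ((𝒰.f i).isOpenEmbedding.isEmbedding.toHomeomorph).isHomeomorph).symm

theorem dim_of_iso {X Y : Scheme.{u}} (e : X ≅ Y) :
    topologicalKrullDim X = topologicalKrullDim Y :=
  IsHomeomorph.topologicalKrullDim_eq _ e.hom.homeomorph.isHomeomorph

theorem dim_Spec (R : CommRingCat.{u}) : topologicalKrullDim (Spec R) = ringKrullDim R :=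
  PrimeSpectrum.topologicalKrullDim_eq_ringKrullDim _

set_option backward.isDefEq.respectTransparency.types false in
/-- affine case -/
theorem dim_pullback_Spec {k K : Type u} [Field k] [Field K] (ψ : k →+* K) (R : CommRingCat.{u})
    (a : Spec R ⟶ Spec (CommRingCat.of k)) [LocallyOfFiniteType a] :
    topologicalKrullDim ↥(pullback a (Spec.map (CommRingCat.ofHom ψ))) =
      topologicalKrullDim ↥(Spec R) := by
  let φ : CommRingCat.of k ⟶ R := Spec.preimage a
  have hφ : Spec.map φ = a := Spec.map_preimage a
  letI : Algebra k R := φ.hom.toAlgebra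
  letI : Algebra k K := ψ.toAlgebra
  haveI : Algebra.FiniteType k R := by
    have h1 : LocallyOfFiniteType (Spec.map φ) := by rw [hφ]; infer_instance
    exact (HasRingHomProperty.Spec_iff (P := @LocallyOfFiniteType)).mp h1
  have e1 : pullback a (Spec.map (CommRingCat.ofHom ψ)) ≅
      pullback (Spec.map (CommRingCat.ofHom (algebraMap k R)))
        (Spec.map (CommRingCat.ofHom (algebraMap k K))) :=
    pullback.congrHom hφ.symm rfl
  rw [dim_of_iso (e1 ≪≫ pullbackSpecIso k R K), dim_Spec, dim_Spec]
  exact dim_tensor_field' k K R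

set_option backward.isDefEq.respectTransparency.types false in
theorem dim_pullback {k K : Type u} [Field k] [Field K] (ψ : k →+* K) {Z : Scheme.{u}}
    (h : Z ⟶ Spec (CommRingCat.of k)) [LocallyOfFiniteType h] :
    topologicalKrullDim ↥(pullback h (Spec.map (CommRingCat.ofHom ψ))) =
      topologicalKrullDim ↥Z := by
  rw [dim_openCover (Scheme.Pullback.openCoverOfLeft Z.affineCover h
    (Spec.map (CommRingCat.ofHom ψ))), dim_openCover Z.affineCover]
  refine iSup_congr fun i => ?_
  haveI : IsOpenImmersion (Z.affineCover.f i) := inferInstance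
  have inst : LocallyOfFiniteType (Z.affineCover.f i ≫ h) := inferInstance
  exact @dim_pullback_Spec k K _ _ ψ _ (Z.affineCover.f i ≫ h) inst

theorem dim_eq_of_isPullback {k K : Type u} [Field k] [Field K] (ψ : k →+* K) {Z P : Scheme.{u}}
    (h : Z ⟶ Spec (CommRingCat.of k)) [LocallyOfFiniteType h] (π : P ⟶ Z)
    (q : P ⟶ Spec (CommRingCat.of K)) (hp : IsPullback π q h (Spec.map (CommRingCat.ofHom ψ))) :
    topologicalKrullDim ↥P = topologicalKrullDim ↥Z := by
  rw [dim_of_iso hp.isoPullback]
  exact dim_pullback ψ h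

end Groth.Agent.Helper17.FieldBC
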