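import Mathlib
import Groth.Agent.Lib.Helper17.FieldBC

set_option autoImplicit false
universe u
open CategoryTheory AlgebraicGeometry

namespace Groth.Agent.Helper17.ArithPts
open Groth.Agent.Helper17.FieldBC

section Core1
variable {A : Type u} [CommRing A]

theorem ringHom_ext_of_adjoin {F : Type*} [CommRing F] (t : Finset A)
    (ht : Algebra.adjoin ℤ (t : Set A) = ⊤) (φ ψ : A →+* F) (h : ∀ a ∈ t, φ a = ψ a) : φ = ψ := by
  have h1 : φ.toIntAlgHom = ψ.toIntAlgHom := AlgHom.ext_of_adjoin_eq_top ht (fun a ha => h a ha)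
  exact RingHom.ext fun a => DFunLike.congr_fun h1 a

theorem core1 (t : Finset A) (ht : Algebra.adjoin ℤ (t : Set A) = ⊤) (s : ℕ) (b : Fin s → A)
    (Q : A → Polynomial (MvPolynomial (Fin s) ℤ)) (d : A → ℕ) (n : A → ℤ)
    (hQ : ∀ a ∈ t, (Q a).coeff (d a) = MvPolynomial.C (n a))
    (hroot : ∀ a ∈ t, Polynomial.eval₂
      (MvPolynomial.aeval b : MvPolynomial (Fin s) ℤ →ₐ[ℤ] A).toRingHom a (Q a) = 0)
    (F : Type*) [Field F] [Finite F] (hF : ∀ a ∈ t, ((n a : ℤ) : F) ≠ 0) :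
    Finite (A →+* F) ∧ Nat.card (A →+* F) ≤ (∏ a ∈ t, (Q a).natDegree) * Nat.card F ^ s := by
  classical
  have hinjΦ : Function.Injective (fun (φ : A →+* F) (a : t) => φ a.1) := by
    intro φ ψ h
    apply ringHom_ext_of_adjoin t ht
    intro a ha
    exact congrFun h ⟨a, ha⟩
  haveI : Finite (A →+* F) := Finite.of_injective _ hinjΦ
  refine ⟨inferInstance, ?_⟩
  haveI := Fintype.ofFinite (A →+* F)
  haveI := Fintype.ofFinite F
  let Ψ : (A →+* F) → (Fin s → F) := fun φ i => φ (b i)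
  have hcomp : ∀ φ : A →+* F,
      φ.comp (MvPolynomial.aeval b : MvPolynomial (Fin s) ℤ →ₐ[ℤ] A).toRingHom =
        MvPolynomial.eval₂Hom (Int.castRingHom F) (Ψ φ) := by
    intro φ
    apply MvPolynomial.ringHom_ext
    · intro z; simp
    · intro i; simp [Ψ]
  have hfib : ∀ u ∈ (Finset.univ : Finset (Fin s → F)),
      (Finset.univ.filter fun φ : A →+* F => Ψ φ = u).card ≤ ∏ a ∈ t, (Q a).natDegree := by
    intro u _
    let q : A → Polynomial F := fun a =>
      (Q a).map (MvPolynomial.eval₂Hom (Int.castRingHom F) u)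
    have hq0 : ∀ a ∈ t, q a ≠ 0 := by
      intro a ha h0
      have h1 : (q a).coeff (d a) = ((n a : ℤ) : F) := by
        simp only [q, Polynomial.coeff_map, hQ a ha]
        simp
      rw [h0, Polynomial.coeff_zero] at h1
      exact hF a ha h1.symm
    let T : Finset (t → F) := Fintype.piFinset fun a : t => (q a.1).roots.toFinset
    have hT : T.card ≤ ∏ a ∈ t, (Q a).natDegree := by
      rw [Fintype.card_piFinset, ← Finset.prod_coe_sort t (fun a => (Q a).natDegree)]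
      apply Finset.prod_le_prod (fun _ _ => Nat.zero_le _)
      intro a _
      calc ((q a.1).roots.toFinset).card ≤ Multiset.card (q a.1).roots :=
            Multiset.toFinset_card_le _
        _ ≤ (q a.1).natDegree := Polynomial.card_roots' _
        _ ≤ (Q a.1).natDegree := Polynomial.natDegree_map_le
    refine le_trans (Finset.card_le_card_of_injOn (fun φ (a : t) => φ a.1) ?_ ?_) hT
    · intro φ hφ
      have hu : Ψ φ = u := (Finset.mem_filter.mp hφ).2
      rw [Finset.mem_coe, Fintype.mem_piFinset]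
      intro a
      rw [Multiset.mem_toFinset, Polynomial.mem_roots (hq0 a.1 a.2), Polynomial.IsRoot.def,
        Polynomial.eval_map]
      have h2 : Polynomial.eval₂
          (φ.comp (MvPolynomial.aeval b : MvPolynomial (Fin s) ℤ →ₐ[ℤ] A).toRingHom)
          (φ a.1) (Q a.1) = 0 := by
        rw [← Polynomial.hom_eval₂, hroot a.1 a.2, map_zero]
      rw [hcomp φ, hu] at h2
      exact h2
    · intro φ _ ψ _ h
      exact hinjΦ h
  calc Nat.card (A →+* F) = (Finset.univ : Finset (A →+* F)).card := by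
        rw [Nat.card_eq_fintype_card]; rfl
    _ ≤ (∏ a ∈ t, (Q a).natDegree) * (Finset.univ : Finset (Fin s → F)).card :=
        Finset.card_le_mul_card_image_of_maps_to (f := Ψ) (fun _ _ => Finset.mem_univ _) _ hfib
    _ = (∏ a ∈ t, (Q a).natDegree) * Nat.card F ^ s := by
        rw [Finset.card_univ, Fintype.card_fun, Fintype.card_fin, Nat.card_eq_fintype_card]

end Core1

section Core2
open TensorProduct
attribute [local instance] Algebra.TensorProduct.rightAlgebra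
attribute [local instance] MvPolynomial.algebraMvPolynomial

variable (A : Type u) [CommRing A]

instance locB : IsLocalization (Algebra.algebraMapSubmonoid A (nonZeroDivisors ℤ)) (ℚ ⊗[ℤ] A) :=
  IsLocalization.tensorRight (R := ℤ) (S := A) ℚ (nonZeroDivisors ℤ)

example (s : ℕ) : IsLocalization ((nonZeroDivisors ℤ).map (MvPolynomial.C (σ := Fin s)))
    (MvPolynomial (Fin s) ℚ) := inferInstance

theorem F1 (z : ℚ ⊗[ℤ] A) : ∃ (a : A) (n : ℤ), n ≠ 0 ∧ z * (n : ℚ ⊗[ℤ] A) = algebraMap A (ℚ ⊗[ℤ] A) a := by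
  obtain ⟨⟨a, m⟩, h⟩ := IsLocalization.surj (Algebra.algebraMapSubmonoid A (nonZeroDivisors ℤ)) z
  obtain ⟨n, hn, hnm⟩ := m.2
  refine ⟨a, n, nonZeroDivisors.ne_zero hn, ?_⟩
  rw [← h]
  congr 1
  show (n : ℚ ⊗[ℤ] A) = algebraMap A (ℚ ⊗[ℤ] A) m.1
  rw [← hnm]
  simp

theorem F2 (a : A) (h : algebraMap A (ℚ ⊗[ℤ] A) a = 0) : ∃ n : ℤ, n ≠ 0 ∧ (n : A) * a = 0 := by
  obtain ⟨m, hm⟩ := (IsLocalization.map_eq_zero_iff (Algebra.algebraMapSubmonoid A (nonZeroDivisors ℤ)) (ℚ ⊗[ℤ] A) a).mp h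
  obtain ⟨n, hn, hnm⟩ := m.2
  refine ⟨n, nonZeroDivisors.ne_zero hn, ?_⟩
  rw [← hm, ← hnm]
  simp


theorem exists_data [Algebra.FiniteType ℤ A] [Nontrivial (ℚ ⊗[ℤ] A)] :
    ∃ (s : ℕ) (b : Fin s → A), ringKrullDim (ℚ ⊗[ℤ] A) = s ∧
      ∀ a : A, ∃ (Q : Polynomial (MvPolynomial (Fin s) ℤ)) (d : ℕ) (n : ℤ), n ≠ 0 ∧
        Q.coeff d = MvPolynomial.C n ∧
        Polynomial.eval₂ (MvPolynomial.aeval b : MvPolynomial (Fin s) ℤ →ₐ[ℤ] A).toRingHom a Q = 0 := by
  obtain ⟨s, g₀, hinj, hint⟩ := exists_integral_inj_algHom_of_fg ℚ (ℚ ⊗[ℤ] A)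
  have hdimB : ringKrullDim (ℚ ⊗[ℤ] A) = s := by
    rw [dim_eq_of_integral_injective g₀.toRingHom hint hinj, dim_mvPolynomial_field]
  have hbn : ∀ i : Fin s, ∃ (a : A) (n : ℤ), n ≠ 0 ∧
      g₀ (MvPolynomial.X i) * (n : ℚ ⊗[ℤ] A) = algebraMap A (ℚ ⊗[ℤ] A) a := fun i => F1 A _
  choose b n hn hbn using hbn
  let ι : A →+* ℚ ⊗[ℤ] A := algebraMap A (ℚ ⊗[ℤ] A)
  let g₁ : MvPolynomial (Fin s) ℚ →ₐ[ℚ] ℚ ⊗[ℤ] A := MvPolynomial.aeval (fun i => ι (b i))
  let τ : MvPolynomial (Fin s) ℚ →ₐ[ℚ] MvPolynomial (Fin s) ℚ :=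
    MvPolynomial.aeval (fun i => MvPolynomial.C ((n i : ℚ)⁻¹) * MvPolynomial.X i)
  have hcomp : g₁.comp τ = g₀ := by
    apply MvPolynomial.algHom_ext
    intro i
    have hni : ((n i : ℤ) : ℚ) ≠ 0 := by exact_mod_cast hn i
    simp only [AlgHom.comp_apply, τ, g₁, MvPolynomial.aeval_X, map_mul, MvPolynomial.aeval_C]
    rw [← hbn i]
    have h1 : ((n i : ℤ) : ℚ ⊗[ℤ] A) = algebraMap ℚ (ℚ ⊗[ℤ] A) (n i : ℚ) := by simp
    rw [h1, mul_comm (g₀ _), ← mul_assoc, ← map_mul, inv_mul_cancel₀ hni, map_one, one_mul]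
  have hint₁ : g₁.toRingHom.IsIntegral := by
    have h1 : g₁.toRingHom.comp τ.toRingHom = g₀.toRingHom := by
      rw [← hcomp]; rfl
    apply RingHom.IsIntegral.tower_top τ.toRingHom g₁.toRingHom
    rw [h1]; exact hint
  refine ⟨s, b, hdimB, fun a => ?_⟩
  obtain ⟨P, hPm, hP⟩ := hint₁ (ι a)
  let M' : Submonoid (MvPolynomial (Fin s) ℤ) := (nonZeroDivisors ℤ).map MvPolynomial.C
  obtain ⟨bb, hbb, hQ₀⟩ := IsLocalization.integerNormalization_spec M' P
  obtain ⟨n₀, hn₀, rfl⟩ := hbb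
  set Q₀ := IsLocalization.integerNormalization M' P with hQ₀def
  let alg : MvPolynomial (Fin s) ℤ →+* MvPolynomial (Fin s) ℚ := algebraMap _ _
  have halg : alg = MvPolynomial.map (Int.castRingHom ℚ) := rfl
  have halginj : Function.Injective alg := by
    rw [halg]; exact MvPolynomial.map_injective _ Int.cast_injective
  have hsm : (MvPolynomial.C n₀ : MvPolynomial (Fin s) ℤ) • P =
      Polynomial.C (alg (MvPolynomial.C n₀)) * P := by
    ext j
    simp [Polynomial.coeff_smul, Algebra.smul_def, alg]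
  have hcoeff : Q₀.coeff P.natDegree = MvPolynomial.C n₀ := by
    apply halginj
    have h1 := congrArg (fun R => R.coeff P.natDegree) hQ₀
    simp only [Polynomial.coeff_map] at h1
    rw [hsm, Polynomial.coeff_C_mul, hPm.coeff_natDegree, mul_one] at h1
    exact h1
  have hcompι : g₁.toRingHom.comp alg =
      ι.comp (MvPolynomial.aeval b : MvPolynomial (Fin s) ℤ →ₐ[ℤ] A).toRingHom := by
    apply MvPolynomial.ringHom_ext
    · intro z; simp [alg, halg, g₁]
    · intro i; simp [alg, halg, g₁]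
  have hev : ι (Polynomial.eval₂
      (MvPolynomial.aeval b : MvPolynomial (Fin s) ℤ →ₐ[ℤ] A).toRingHom a Q₀) = 0 := by
    rw [Polynomial.hom_eval₂, ← hcompι, ← Polynomial.eval₂_map]
    have h2 : Q₀.map alg = (MvPolynomial.C n₀ : MvPolynomial (Fin s) ℤ) • P := hQ₀
    rw [h2, hsm, Polynomial.eval₂_mul, hP, mul_zero]
  obtain ⟨n₁, hn₁, hz⟩ := F2 A _ hev
  refine ⟨Polynomial.C (MvPolynomial.C n₁) * Q₀, P.natDegree, n₁ * n₀,
    mul_ne_zero hn₁ (nonZeroDivisors.ne_zero hn₀), ?_, ?_⟩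
  · rw [Polynomial.coeff_C_mul, hcoeff, ← map_mul]
  · rw [Polynomial.eval₂_mul, Polynomial.eval₂_C]
    have h3 : (MvPolynomial.aeval b : MvPolynomial (Fin s) ℤ →ₐ[ℤ] A).toRingHom
        (MvPolynomial.C n₁) = (n₁ : A) := by simp
    rw [h3]; exact hz



theorem int_isJacobsonRing : IsJacobsonRing ℤ := by
  rw [isJacobsonRing_iff_prime_eq]
  intro P hP
  by_cases h0 : P = ⊥
  · subst h0
    apply le_antisymm _ Ideal.le_jacobson
    intro n hn
    rw [Ideal.mem_jacobson_bot] at hn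
    have h1 := hn n
    rw [Int.isUnit_iff] at h1
    have h2 : n = 0 := by
      rcases h1 with h | h
      · have : n * n = 0 := by linarith
        exact mul_self_eq_zero.mp this
      · nlinarith [mul_self_nonneg n]
    simp [h2]
  · haveI := hP.isMaximal h0
    exact Ideal.jacobson_eq_self_of_isMaximal

theorem dim_succ_le [Algebra.FiniteType ℤ A] [Nontrivial (ℚ ⊗[ℤ] A)] (s : ℕ)
    (hs : ringKrullDim (ℚ ⊗[ℤ] A) = s) (r : ℕ) (hr : ringKrullDim A ≤ r) : s + 1 ≤ r := by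
  haveI : FiniteRingKrullDim (ℚ ⊗[ℤ] A) := by
    rw [finiteRingKrullDim_iff_ne_bot_and_top, hs]
    refine ⟨by simp, ?_⟩
    have h : ((s : ℕ) : WithBot ℕ∞) = ((s : ℕ∞) : WithBot ℕ∞) := rfl
    rw [h]
    intro h2
    exact ENat.natCast_ne_top s (WithBot.coe_injective h2)
  obtain ⟨𝔮, h𝔮max, h𝔮⟩ := Ideal.exists_isMaximal_height (R := ℚ ⊗[ℤ] A)
  haveI : 𝔮.IsPrime := h𝔮max.isPrime
  let 𝔭 : Ideal A := 𝔮.under A
  haveI : 𝔭.IsPrime := Ideal.IsPrime.under A 𝔮
  have hht : 𝔭.height = 𝔮.height :=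
    IsLocalization.height_under (Algebra.algebraMapSubmonoid A (nonZeroDivisors ℤ)) 𝔮
  have hnotmax : ¬ 𝔭.IsMaximal := by
    intro hmax
    letI : Field (A ⧸ 𝔭) := Ideal.Quotient.field 𝔭
    haveI : Algebra.FiniteType ℤ (A ⧸ 𝔭) :=
      Algebra.FiniteType.of_surjective (Ideal.Quotient.mkₐ ℤ 𝔭)
        (Ideal.Quotient.mkₐ_surjective ℤ 𝔭)
    haveI := int_isJacobsonRing
    haveI : Module.Finite ℤ (A ⧸ 𝔭) := finite_of_finite_type_of_isJacobsonRing ℤ (A ⧸ 𝔭)
    have hinj : Function.Injective (algebraMap ℤ (A ⧸ 𝔭)) := by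
      rw [injective_iff_map_eq_zero]
      intro n hn0
      by_contra hne
      have h1 : (n : A) ∈ 𝔭 := by
        rw [← Ideal.Quotient.eq_zero_iff_mem]; simpa using hn0
      have h2 : ((n : ℤ) : ℚ ⊗[ℤ] A) ∈ 𝔮 := by
        have h3 : algebraMap A (ℚ ⊗[ℤ] A) (n : A) ∈ 𝔮 := h1
        simpa using h3
      have hunit : IsUnit ((n : ℤ) : ℚ ⊗[ℤ] A) := by
        have h4 : ((n : ℤ) : ℚ ⊗[ℤ] A) = algebraMap ℚ (ℚ ⊗[ℤ] A) (n : ℚ) := by simp
        rw [h4]
        exact (IsUnit.mk0 (n : ℚ) (by exact_mod_cast hne)).map (algebraMap ℚ (ℚ ⊗[ℤ] A))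
      exact h𝔮max.ne_top (Ideal.eq_top_of_isUnit_mem _ h2 hunit)
    haveI : Algebra.IsIntegral ℤ (A ⧸ 𝔭) := Algebra.IsIntegral.of_finite ℤ (A ⧸ 𝔭)
    have hf : IsField ℤ := isField_of_isIntegral_of_isField hinj (Field.toIsField (A ⧸ 𝔭))
    exact Int.not_isField hf
  obtain ⟨𝔪, h𝔪max, hle⟩ := Ideal.exists_le_maximal 𝔭 (Ideal.IsPrime.ne_top inferInstance)
  have hlt : 𝔭 < 𝔪 := lt_of_le_of_ne hle (fun h => hnotmax (h ▸ h𝔪max))
  haveI : 𝔪.IsPrime := h𝔪max.isPrime
  have h1 : 𝔭.height + 1 ≤ 𝔪.height := Ideal.height_add_one_le_of_lt_of_isPrime hlt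
  have h2 : (𝔪.height : WithBot ℕ∞) ≤ ringKrullDim A :=
    Ideal.height_le_ringKrullDim_of_ne_top h𝔪max.ne_top
  have h3 : (𝔮.height : WithBot ℕ∞) = s := by rw [h𝔮, hs]
  have h4 : 𝔮.height = (s : ℕ∞) := by exact_mod_cast h3
  have h5 : ((s + 1 : ℕ) : WithBot ℕ∞) ≤ r := by
    calc ((s + 1 : ℕ) : WithBot ℕ∞) = ((𝔭.height + 1 : ℕ∞) : WithBot ℕ∞) := by
          rw [hht, h4]; push_cast; rfl
      _ ≤ (𝔪.height : WithBot ℕ∞) := by exact_mod_cast h1
      _ ≤ ringKrullDim A := h2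
      _ ≤ r := hr
  exact_mod_cast h5


theorem natAbs_cast_eq_zero {F : Type*} [Ring F] (z : ℤ) (h : (z : F) = 0) :
    ((z.natAbs : ℕ) : F) = 0 := by
  have h0 : ((z.natAbs : ℕ) : F) = ((z.natAbs : ℤ) : F) := (Int.cast_natCast _).symm
  have h2 : (z.natAbs : ℤ) = z ∨ (z.natAbs : ℤ) = -z := by omega
  rcases h2 with h2 | h2
  · rw [h0, h2]; exact h
  · rw [h0, h2, Int.cast_neg, h, neg_zero]

theorem core2 [Algebra.FiniteType ℤ A] (r : ℕ) (hr : ringKrullDim A ≤ r) :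
    ∃ N : ℕ, N ≠ 0 ∧ ∃ c : ℕ, ∀ (F : Type u) [Field F] [Finite F], ((N : ℕ) : F) ≠ 0 →
      Finite (A →+* F) ∧ (r = 0 → IsEmpty (A →+* F)) ∧
        Nat.card (A →+* F) ≤ c * Nat.card F ^ (r - 1) := by
  rcases subsingleton_or_nontrivial (ℚ ⊗[ℤ] A) with hB | hB
  · have h10 : algebraMap A (ℚ ⊗[ℤ] A) 1 = 0 := Subsingleton.elim _ _
    obtain ⟨n, hn, hz⟩ := F2 A 1 h10
    rw [mul_one] at hz
    refine ⟨n.natAbs, Int.natAbs_ne_zero.mpr hn, 0, fun F _ _ hF => ?_⟩
    haveI : IsEmpty (A →+* F) := ⟨fun φ => by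
      apply hF
      have h1 : φ (n : A) = 0 := by rw [hz, map_zero]
      rw [map_intCast] at h1
      exact natAbs_cast_eq_zero n h1⟩
    exact ⟨inferInstance, fun _ => inferInstance, by simp⟩
  · obtain ⟨s, b, hdimB, hdata⟩ := exists_data A
    have hsr : s + 1 ≤ r := dim_succ_le A s hdimB r hr
    obtain ⟨t, ht⟩ := (inferInstance : Algebra.FiniteType ℤ A).out
    choose Q d n hn hQ hroot using hdata
    refine ⟨(∏ a ∈ t, n a).natAbs, ?_, ∏ a ∈ t, (Q a).natDegree, fun F _ _ hF => ?_⟩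
    · rw [Int.natAbs_ne_zero, Finset.prod_ne_zero_iff]; exact fun a _ => hn a
    · have hF' : ∀ a ∈ t, ((n a : ℤ) : F) ≠ 0 := by
        intro a ha h0
        apply hF
        apply natAbs_cast_eq_zero
        rw [Int.cast_prod]; exact Finset.prod_eq_zero ha h0
      obtain ⟨hfin, hcard⟩ := core1 t ht s b Q d n (fun a _ => hQ a) (fun a _ => hroot a) F hF'
      refine ⟨hfin, fun h0 => by omega, hcard.trans ?_⟩
      apply Nat.mul_le_mul_left
      apply Nat.pow_le_pow_right Nat.card_pos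
      omega

end Core2


section Core3
open TensorProduct

theorem card_algHom_le' (k : Type*) [Field k] [Finite k] (A : Type*) [CommRing A] [Algebra k A]
    [Algebra.FiniteType k A] (r : ℕ)
    (hr : ringKrullDim A ≤ (r : WithBot ℕ∞)) :
    ∃ c : ℕ, ∀ (k' : Type u) [Field k'] [Algebra k k'] [Finite k'],
      Finite (A →ₐ[k] k') ∧
        Nat.card (A →ₐ[k] k') ≤ c * Nat.card k ^ (r * Module.finrank k k') := by
  classical
  rcases subsingleton_or_nontrivial A with hA | hA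
  · refine ⟨0, fun k' _ _ _ => ?_⟩
    haveI : IsEmpty (A →ₐ[k] k') := ⟨fun φ => by
      have h1 : φ 1 = 1 := map_one φ
      have h0 : φ 0 = 0 := map_zero φ
      rw [Subsingleton.elim (1 : A) 0, h0] at h1
      exact zero_ne_one h1⟩
    exact ⟨inferInstance, by simp⟩
  obtain ⟨s, g, hinj, hint⟩ := exists_integral_inj_algHom_of_fg k A
  have hA : ringKrullDim A = (s : WithBot ℕ∞) := by
    rw [dim_eq_of_integral_injective g.toRingHom hint hinj, dim_mvPolynomial_field]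
  have hsr : s ≤ r := by
    rw [hA] at hr
    exact_mod_cast hr
  obtain ⟨t, ht⟩ := (inferInstance : Algebra.FiniteType k A).out
  have hint' : ∀ a : A, ∃ p : Polynomial (MvPolynomial (Fin s) k),
      p.Monic ∧ Polynomial.eval₂ g.toRingHom a p = 0 := fun a => hint a
  choose p hpm hp using hint'
  refine ⟨∏ a ∈ t, (p a).natDegree, fun k' _ _ _ => ?_⟩
  have hinjΦ : Function.Injective (fun (φ : A →ₐ[k] k') (a : t) => φ a.1) := by
    intro φ ψ h
    apply AlgHom.ext_of_adjoin_eq_top ht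
    intro a ha
    exact congrFun h ⟨a, ha⟩
  haveI : Finite (A →ₐ[k] k') := Finite.of_injective _ hinjΦ
  refine ⟨inferInstance, ?_⟩
  haveI := Fintype.ofFinite (A →ₐ[k] k')
  haveI := Fintype.ofFinite k'
  haveI := Fintype.ofFinite k
  let Ψ : (A →ₐ[k] k') → (Fin s → k') := fun φ i => φ (g (MvPolynomial.X i))
  have hcomp : ∀ φ : A →ₐ[k] k', ∀ P : MvPolynomial (Fin s) k,
      φ (g P) = MvPolynomial.aeval (Ψ φ) P := by
    intro φ P
    have h1 : (φ.comp g) = MvPolynomial.aeval (Ψ φ) := by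
      apply MvPolynomial.algHom_ext
      intro i
      simp [Ψ]
    exact DFunLike.congr_fun h1 P
  have hfib : ∀ u ∈ (Finset.univ : Finset (Fin s → k')),
      (Finset.univ.filter fun φ : A →ₐ[k] k' => Ψ φ = u).card ≤ ∏ a ∈ t, (p a).natDegree := by
    intro u _
    let q : A → Polynomial k' := fun a =>
      (p a).map (MvPolynomial.aeval u : MvPolynomial (Fin s) k →ₐ[k] k').toRingHom
    have hqm : ∀ a, (q a).Monic := fun a => (hpm a).map _
    let T : Finset (t → k') := Fintype.piFinset fun a : t => (q a.1).roots.toFinset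
    have hT : T.card ≤ ∏ a ∈ t, (p a).natDegree := by
      rw [Fintype.card_piFinset, ← Finset.prod_coe_sort t (fun a => (p a).natDegree)]
      apply Finset.prod_le_prod (fun _ _ => Nat.zero_le _)
      intro a _
      calc ((q a.1).roots.toFinset).card ≤ Multiset.card (q a.1).roots :=
            Multiset.toFinset_card_le _
        _ ≤ (q a.1).natDegree := Polynomial.card_roots' _
        _ = (p a.1).natDegree := (hpm a.1).natDegree_map _
    refine le_trans (Finset.card_le_card_of_injOn (fun φ (a : t) => φ a.1) ?_ ?_) hT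
    · intro φ hφ
      have hu : Ψ φ = u := (Finset.mem_filter.mp hφ).2
      rw [Finset.mem_coe, Fintype.mem_piFinset]
      intro a
      rw [Multiset.mem_toFinset, Polynomial.mem_roots (hqm a.1).ne_zero, Polynomial.IsRoot.def,
        Polynomial.eval_map]
      have h2 : Polynomial.eval₂ (φ.toRingHom.comp g.toRingHom) (φ.toRingHom a.1) (p a.1) = 0 := by
        rw [← Polynomial.hom_eval₂, hp a.1, map_zero]
      have h3 : φ.toRingHom.comp g.toRingHom =
          (MvPolynomial.aeval u : MvPolynomial (Fin s) k →ₐ[k] k').toRingHom := by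
        refine RingHom.ext fun P => ?_
        show φ (g P) = MvPolynomial.aeval u P
        rw [hcomp φ P, hu]
      rw [← h3]
      exact h2
    · intro φ _ ψ _ h
      exact hinjΦ h
  have hcard : Fintype.card k' = Fintype.card k ^ Module.finrank k k' :=
    Module.card_eq_pow_finrank
  have hq : 1 ≤ Fintype.card k := Fintype.card_pos
  calc Nat.card (A →ₐ[k] k') = (Finset.univ : Finset (A →ₐ[k] k')).card := by
        rw [Nat.card_eq_fintype_card]; rfl
    _ ≤ (∏ a ∈ t, (p a).natDegree) * (Finset.univ : Finset (Fin s → k')).card :=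
        Finset.card_le_mul_card_image_of_maps_to (f := Ψ) (fun _ _ => Finset.mem_univ _) _ hfib
    _ = (∏ a ∈ t, (p a).natDegree) * (Fintype.card k) ^ (Module.finrank k k' * s) := by
        rw [Finset.card_univ, Fintype.card_fun, Fintype.card_fin, hcard, ← pow_mul]
    _ ≤ (∏ a ∈ t, (p a).natDegree) * Nat.card k ^ (r * Module.finrank k k') := by
        rw [Nat.card_eq_fintype_card]
        apply Nat.mul_le_mul_left
        apply Nat.pow_le_pow_right hq
        rw [mul_comm]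
        exact Nat.mul_le_mul_right _ hsr


theorem includeRight_surjective (p : ℕ) [NeZero p] (A : Type u) [CommRing A] :
    Function.Surjective (Algebra.TensorProduct.includeRight : A →ₐ[ℤ] ZMod p ⊗[ℤ] A) := by
  intro x
  induction x using TensorProduct.induction_on with
  | zero => exact ⟨0, map_zero _⟩
  | tmul z a =>
    refine ⟨(z.val : ℤ) • a, ?_⟩
    have hz : z = (z.val : ℤ) • (1 : ZMod p) := by
      rw [zsmul_eq_mul, mul_one]
      simp
    show (1 : ZMod p) ⊗ₜ[ℤ] ((z.val : ℤ) • a) = z ⊗ₜ[ℤ] a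
    rw [← TensorProduct.smul_tmul, ← hz]
  | add x y hx hy =>
    obtain ⟨a, rfl⟩ := hx
    obtain ⟨b, rfl⟩ := hy
    exact ⟨a + b, map_add _ _ _⟩

theorem core3 (A : Type u) [CommRing A] [Algebra.FiniteType ℤ A] (r : ℕ)
    (hr : ringKrullDim A ≤ r) (p : ℕ) [Fact p.Prime] :
    ∃ c : ℕ, ∀ (F : Type u) [Field F] [Finite F] [CharP F p],
      Finite (A →+* F) ∧ Nat.card (A →+* F) ≤ c * Nat.card F ^ r := by
  haveI : NeZero p := ⟨(Fact.out : p.Prime).ne_zero⟩
  have hdim' : ringKrullDim (ZMod p ⊗[ℤ] A) ≤ r :=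
    le_trans (ringKrullDim_le_of_surjective
      (Algebra.TensorProduct.includeRight : A →ₐ[ℤ] ZMod p ⊗[ℤ] A).toRingHom
      (includeRight_surjective p A)) hr
  obtain ⟨c, hc⟩ := card_algHom_le'.{u} (ZMod p) (ZMod p ⊗[ℤ] A) r hdim'
  refine ⟨c, fun F _ _ _ => ?_⟩
  letI : Algebra (ZMod p) F := ZMod.algebra F p
  obtain ⟨hfin, hle⟩ := hc F
  let J : (A →+* F) → (ZMod p ⊗[ℤ] A →ₐ[ZMod p] F) := fun φ =>
    Algebra.TensorProduct.lift (Algebra.ofId (ZMod p) F) φ.toIntAlgHom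
      (fun _ _ => Commute.all _ _)
  have hJ : Function.Injective J := by
    intro φ ψ h
    ext a
    have h1 := DFunLike.congr_fun h ((1 : ZMod p) ⊗ₜ[ℤ] a)
    simpa [J] using h1
  refine ⟨Finite.of_injective J hJ, (Nat.card_le_card_of_injective J hJ).trans (hle.trans ?_)⟩
  rw [Module.natCard_eq_pow_finrank (K := ZMod p) (V := F), ← pow_mul, mul_comm r]

end Core3


section Sch

theorem finiteType_int_of_ulift (R : Type u) [CommRing R] (φ : ULift.{u} ℤ →+* R)
    (h : φ.FiniteType) : Algebra.FiniteType ℤ R := by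
  obtain ⟨n, f, hf⟩ := (@Algebra.FiniteType.iff_quotient_mvPolynomial'' (ULift.{u} ℤ) R _ _
    φ.toAlgebra).mp h
  let e : MvPolynomial (Fin n) ℤ →+* MvPolynomial (Fin n) (ULift.{u} ℤ) :=
    MvPolynomial.map (ULift.ringEquiv.symm : ℤ ≃+* ULift.{u} ℤ).toRingHom
  have he : Function.Surjective e :=
    MvPolynomial.map_surjective _ (ULift.ringEquiv.symm : ℤ ≃+* ULift.{u} ℤ).surjective
  let f' : MvPolynomial (Fin n) (ULift.{u} ℤ) →+* R :=
    (@AlgHom.toRingHom (ULift.{u} ℤ) (MvPolynomial (Fin n) (ULift.{u} ℤ)) R _ _ _ _ φ.toAlgebra f)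
  have hf' : Function.Surjective f' := hf
  let g : MvPolynomial (Fin n) ℤ →ₐ[ℤ] R := (f'.comp e).toIntAlgHom
  have hg : Function.Surjective g := hf'.comp he
  exact Algebra.FiniteType.of_surjective g hg

theorem card_SpecHom_le (R : CommRingCat.{u}) (F : Type u) [Field F] [Finite (R →+* F)] :
    Finite (Spec (CommRingCat.of F) ⟶ Spec R) ∧
      Nat.card (Spec (CommRingCat.of F) ⟶ Spec R) ≤ Nat.card (R →+* F) := by
  let J : (Spec (CommRingCat.of F) ⟶ Spec R) → (R →+* F) := fun g => (Spec.preimage g).hom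
  have hJ : Function.Injective J := by
    intro g g' h
    have h2 : Spec.preimage g = Spec.preimage g' := CommRingCat.hom_ext h
    rw [← Spec.map_preimage g, ← Spec.map_preimage g', h2]
  exact ⟨Finite.of_injective J hJ, Nat.card_le_card_of_injective J hJ⟩

theorem isEmpty_SpecHom (R : CommRingCat.{u}) (F : Type u) [Field F] [IsEmpty (R →+* F)] :
    IsEmpty (Spec (CommRingCat.of F) ⟶ Spec R) :=
  ⟨fun g => IsEmpty.false ((Spec.preimage g).hom : R →+* F)⟩

theorem card_hom_le_of_charts {X : Scheme.{u}}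
    (J : Type u) [Fintype J] (Z : J → Scheme.{u})
    (j : ∀ i, Z i ⟶ X) [∀ i, IsOpenImmersion (j i)]
    (hcov : ∀ x : X, ∃ i, x ∈ Set.range (j i))
    (F : Type u) [Field F] (N : J → ℕ)
    (hfin : ∀ i, Finite (Spec (CommRingCat.of F) ⟶ Z i))
    (hN : ∀ i, Nat.card (Spec (CommRingCat.of F) ⟶ Z i) ≤ N i) :
    Nat.card (Spec (CommRingCat.of F) ⟶ X) ≤ ∑ i, N i := by
  classical
  let pt : Spec (CommRingCat.of F) := (default : PrimeSpectrum F)
  have hsub : ∀ y : Spec (CommRingCat.of F), y = pt := fun y =>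
    Subsingleton.elim (α := PrimeSpectrum F) y pt
  have hidx : ∀ g : Spec (CommRingCat.of F) ⟶ X, ∃ i, Set.range g ⊆ Set.range (j i) := by
    intro g
    obtain ⟨i, hi⟩ := hcov (g pt)
    refine ⟨i, ?_⟩
    rintro _ ⟨y, rfl⟩
    rw [hsub y]; exact hi
  choose idx hidx using hidx
  let Φ : (Spec (CommRingCat.of F) ⟶ X) → Σ i, (Spec (CommRingCat.of F) ⟶ Z i) :=
    fun g => ⟨idx g, IsOpenImmersion.lift (j (idx g)) g (hidx g)⟩
  let back : (Σ i, (Spec (CommRingCat.of F) ⟶ Z i)) → (Spec (CommRingCat.of F) ⟶ X) :=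
    fun x => x.2 ≫ j x.1
  have hback : ∀ g, back (Φ g) = g := by
    intro g
    show IsOpenImmersion.lift (j (idx g)) g (hidx g) ≫ j (idx g) = g
    rw [IsOpenImmersion.lift_fac]
  have hΦinj : Function.Injective Φ := by
    intro g g' h
    rw [← hback g, ← hback g', h]
  haveI : ∀ i, Finite (Spec (CommRingCat.of F) ⟶ Z i) := hfin
  calc Nat.card (Spec (CommRingCat.of F) ⟶ X)
      ≤ Nat.card (Σ i, (Spec (CommRingCat.of F) ⟶ Z i)) :=
        Nat.card_le_card_of_injective Φ hΦinj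
    _ = ∑ i, Nat.card (Spec (CommRingCat.of F) ⟶ Z i) := Nat.card_sigma
    _ ≤ ∑ i, N i := Finset.sum_le_sum fun i _ => hN i

set_option backward.isDefEq.respectTransparency.types false in
theorem piece (R : CommRingCat.{u}) (a : Spec R ⟶ Spec (CommRingCat.of (ULift.{u} ℤ)))
    [LocallyOfFiniteType a] (r : ℕ)
    (hr : topologicalKrullDim (Spec R) ≤ (r : WithBot ℕ∞)) :
    (∃ N : ℕ, N ≠ 0 ∧ ∃ c : ℕ, ∀ (F : Type u) [Field F] [Finite F], ((N : ℕ) : F) ≠ 0 →
      Finite (Spec (CommRingCat.of F) ⟶ Spec R) ∧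
        (r = 0 → IsEmpty (Spec (CommRingCat.of F) ⟶ Spec R)) ∧
        Nat.card (Spec (CommRingCat.of F) ⟶ Spec R) ≤ c * Nat.card F ^ (r - 1)) ∧
    (∀ p : ℕ, ∃ c : ℕ, p.Prime → ∀ (F : Type u) [Field F] [Finite F], CharP F p →
      Finite (Spec (CommRingCat.of F) ⟶ Spec R) ∧
        Nat.card (Spec (CommRingCat.of F) ⟶ Spec R) ≤ c * Nat.card F ^ r) := by
  let φ : CommRingCat.of (ULift.{u} ℤ) ⟶ R := Spec.preimage a
  have hφ : Spec.map φ = a := Spec.map_preimage a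
  haveI : Algebra.FiniteType ℤ R := by
    have h1 : LocallyOfFiniteType (Spec.map φ) := by rw [hφ]; infer_instance
    exact finiteType_int_of_ulift R φ.hom
      ((HasRingHomProperty.Spec_iff (P := @LocallyOfFiniteType)).mp h1)
  have hdim : ringKrullDim R ≤ (r : WithBot ℕ∞) := by rw [← dim_Spec]; exact hr
  constructor
  · obtain ⟨N, hN0, c, hc⟩ := core2 R r hdim
    refine ⟨N, hN0, c, fun F _ _ hF => ?_⟩
    obtain ⟨hfin, hemp, hle⟩ := hc F hF
    haveI := hfin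
    refine ⟨(card_SpecHom_le R F).1, fun h0 => ?_, (card_SpecHom_le R F).2.trans hle⟩
    haveI := hemp h0
    exact isEmpty_SpecHom R F
  · intro p
    by_cases hp : p.Prime
    · haveI : Fact p.Prime := ⟨hp⟩
      obtain ⟨c, hc⟩ := core3 R r hdim p
      refine ⟨c, fun _ F _ _ hch => ?_⟩
      haveI := hch
      obtain ⟨hfin, hle⟩ := hc F
      haveI := hfin
      exact ⟨(card_SpecHom_le R F).1, (card_SpecHom_le R F).2.trans hle⟩
    · exact ⟨0, fun h => absurd h hp⟩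

end Sch


section Main

theorem real_bound (n K C p m e : ℕ) (h : n ≤ K * (p ^ m) ^ e) (hKC : K ≤ C) (x : ℝ)
    (hx : x = (m : ℝ) * (e : ℝ)) :
    (n : ℝ) ≤ (C : ℝ) * (p : ℝ) ^ x := by
  subst hx
  have h1 : (p : ℝ) ^ ((m : ℝ) * (e : ℝ)) = (((p ^ m) ^ e : ℕ) : ℝ) := by
    rw [← Nat.cast_mul, Real.rpow_natCast, ← pow_mul]
    push_cast
    rfl
  rw [h1]
  have h2 : n ≤ C * (p ^ m) ^ e := h.trans (Nat.mul_le_mul_right _ hKC)
  exact_mod_cast h2

set_option backward.isDefEq.respectTransparency.types false in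
theorem main {X : Scheme.{u}} (f : X ⟶ Spec (CommRingCat.of (ULift.{u} ℤ)))
    [LocallyOfFiniteType f] [QuasiCompact f] (r : ℕ)
    (hr : topologicalKrullDim X ≤ r) :
    ∃ (c : ℝ) (p₀ : ℕ), 0 < c ∧ ∀ (p m : ℕ), p.Prime → 1 ≤ m →
      ∀ (F : Type u) [Field F], Nat.card F = p ^ m →
        (p₀ ≤ p → (Nat.card (Spec (CommRingCat.of F) ⟶ X) : ℝ) ≤
            c * (p : ℝ) ^ ((m : ℝ) * ((r : ℝ) - 1))) ∧
        (p < p₀ → (Nat.card (Spec (CommRingCat.of F) ⟶ X) : ℝ) ≤ c * (p : ℝ) ^ ((m : ℝ) * r)) := by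
  classical
  haveI : CompactSpace X := QuasiCompact.compactSpace_of_compactSpace f
  let 𝒰 := X.affineCover.finiteSubcover
  have hpiece : ∀ i : 𝒰.I₀,
    (∃ N : ℕ, N ≠ 0 ∧ ∃ c : ℕ, ∀ (F : Type u) [Field F] [Finite F], ((N : ℕ) : F) ≠ 0 →
      Finite (Spec (CommRingCat.of F) ⟶ 𝒰.X i) ∧
        (r = 0 → IsEmpty (Spec (CommRingCat.of F) ⟶ 𝒰.X i)) ∧
        Nat.card (Spec (CommRingCat.of F) ⟶ 𝒰.X i) ≤ c * Nat.card F ^ (r - 1)) ∧
    (∀ p : ℕ, ∃ c : ℕ, p.Prime → ∀ (F : Type u) [Field F] [Finite F], CharP F p →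
      Finite (Spec (CommRingCat.of F) ⟶ 𝒰.X i) ∧
        Nat.card (Spec (CommRingCat.of F) ⟶ 𝒰.X i) ≤ c * Nat.card F ^ r) := by
    intro i
    haveI : IsOpenImmersion (𝒰.f i) := inferInstance
    have inst : LocallyOfFiniteType (𝒰.f i ≫ f) := inferInstance
    have hdim : topologicalKrullDim (𝒰.X i) ≤ (r : WithBot ℕ∞) :=
      ((𝒰.f i).isOpenEmbedding.isInducing.topologicalKrullDim_le).trans hr
    exact @piece _ (𝒰.f i ≫ f) inst r hdim
  have hA := fun i => (hpiece i).1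
  have hB := fun i => (hpiece i).2
  choose N hN0 c hc using hA
  choose c' hc' using hB
  let p₀ : ℕ := (∑ i, N i) + 1
  let C : ℕ := 1 + ∑ i, c i + ∑ q ∈ Finset.range p₀, ∑ i, c' i q
  refine ⟨(C : ℝ), p₀, by positivity, ?_⟩
  intro p m hp hm F _ hcard
  haveI : Finite F := Nat.finite_of_card_ne_zero (by rw [hcard]; exact pow_ne_zero _ hp.ne_zero)
  obtain ⟨q, hq⟩ := CharP.exists F
  have hqp : q = p := by
    haveI := hq
    haveI : Fact q.Prime := ⟨CharP.char_is_prime F q⟩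
    haveI := Fintype.ofFinite F
    obtain ⟨n, hqprime, hn⟩ := FiniteField.card F q
    rw [← Nat.card_eq_fintype_card, hcard] at hn
    have h1 : p ∣ q ^ (n : ℕ) := by rw [← hn]; exact dvd_pow_self p (by omega)
    exact ((Nat.prime_dvd_prime_iff_eq hp hqprime).mp (hp.dvd_of_dvd_pow h1)).symm
  have hchar : CharP F p := hqp ▸ hq
  have hcov : ∀ x : X, ∃ i, x ∈ Set.range (𝒰.f i) := fun x => ⟨𝒰.idx x, 𝒰.covers x⟩
  constructor
  · intro hp0
    have hNF : ∀ i, ((N i : ℕ) : F) ≠ 0 := by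
      intro i h0
      rw [CharP.cast_eq_zero_iff F p] at h0
      have h1 : N i ≤ ∑ j, N j :=
        Finset.single_le_sum (fun _ _ => Nat.zero_le _) (Finset.mem_univ i)
      have h2 : N i < p := by omega
      exact Nat.not_dvd_of_pos_of_lt (Nat.pos_of_ne_zero (hN0 i)) h2 h0
    rcases Nat.eq_zero_or_pos r with hr0 | hrpos
    · have h0 : Nat.card (Spec (CommRingCat.of F) ⟶ X) ≤ ∑ i : 𝒰.I₀, 0 :=
        card_hom_le_of_charts 𝒰.I₀ 𝒰.X 𝒰.f hcov F (fun _ => 0) (fun i => (hc i F (hNF i)).1)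
          (fun i => by haveI := (hc i F (hNF i)).2.1 hr0; simp)
      have h1 : Nat.card (Spec (CommRingCat.of F) ⟶ X) = 0 := by simpa using h0
      rw [h1]; simp only [Nat.cast_zero]; positivity
    · have h0 := card_hom_le_of_charts 𝒰.I₀ 𝒰.X 𝒰.f hcov F
        (fun i => c i * Nat.card F ^ (r - 1)) (fun i => (hc i F (hNF i)).1)
        (fun i => (hc i F (hNF i)).2.2)
      rw [← Finset.sum_mul, hcard] at h0
      refine real_bound _ (∑ i, c i) C p m (r - 1) h0 (by omega) _ ?_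
      rw [Nat.cast_sub hrpos]; simp
  · intro hp0
    have h0 := card_hom_le_of_charts 𝒰.I₀ 𝒰.X 𝒰.f hcov F
      (fun i => c' i p * Nat.card F ^ r) (fun i => (hc' i p hp F hchar).1)
      (fun i => (hc' i p hp F hchar).2)
    rw [← Finset.sum_mul, hcard] at h0
    refine real_bound _ (∑ i, c' i p) C p m r h0 ?_ _ rfl
    have h3 : ∑ i, c' i p ≤ ∑ q ∈ Finset.range p₀, ∑ i, c' i q :=
      Finset.single_le_sum (f := fun q => ∑ i, c' i q) (fun _ _ => Nat.zero_le _)
        (Finset.mem_range.mpr hp0)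
    omega

end Main

end Groth.Agent.Helper17.ArithPts
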