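import Mathlib

set_option autoImplicit false
open Finset

namespace Groth.Agent.Helper17.EulerAbs

variable {P : Type*} (N : P → ℕ)

/-- norm of an effective cycle -/
noncomputable def nu (α : P →₀ ℕ) : ℕ := α.prod (fun x m => N x ^ m)

theorem nu_zero : nu N 0 = 1 := by
  unfold nu; exact Finsupp.prod_zero_index

theorem nu_add (α β : P →₀ ℕ) : nu N (α + β) = nu N α * nu N β := by
  unfold nu
  exact Finsupp.prod_add_index' (fun _ => pow_zero _) (fun _ _ _ => pow_add _ _ _)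

theorem nu_pos (hN : ∀ x, 2 ≤ N x) (α : P →₀ ℕ) : 0 < nu N α := by
  unfold nu Finsupp.prod
  exact Finset.prod_pos fun x _ => pow_pos (by have := hN x; omega) _

theorem wr_eq_prod (σ : ℝ) (α : P →₀ ℕ) :
    ((nu N α : ℕ) : ℝ) ^ (-σ) = ∏ x ∈ α.support, (((N x : ℕ) : ℝ) ^ (-σ)) ^ (α x) := by
  unfold nu Finsupp.prod
  rw [Nat.cast_prod]
  have h := Real.finsetProd_rpow α.support (fun x => ((N x ^ α x : ℕ) : ℝ))
    (fun i _ => by positivity) (-σ)
  rw [← h]
  refine Finset.prod_congr rfl fun x _ => ?_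
  rw [Nat.cast_pow, ← Real.rpow_pow_comm (Nat.cast_nonneg _)]

theorem summable_wr (hN : ∀ x, 2 ≤ N x) (σ : ℝ) (hσ : 0 < σ)
    (hs : Summable (fun x => ((N x : ℕ) : ℝ) ^ (-σ))) :
    Summable (fun α : P →₀ ℕ => ((nu N α : ℕ) : ℝ) ^ (-σ)) := by
  classical
  set u : P → ℝ := fun x => ((N x : ℕ) : ℝ) ^ (-σ) with hu
  have hNpos : ∀ x, (0 : ℝ) < ((N x : ℕ) : ℝ) := fun x => by
    have := hN x
    exact_mod_cast (by omega : 0 < N x)
  have hu0 : ∀ x, 0 < u x := fun x => Real.rpow_pos_of_pos (hNpos x) _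
  set δ : ℝ := (2 : ℝ) ^ (-σ) with hδ
  have hδ1 : δ < 1 := Real.rpow_lt_one_of_one_lt_of_neg (by norm_num) (by linarith)
  have hδ0 : 0 < δ := Real.rpow_pos_of_pos (by norm_num) _
  have huδ : ∀ x, u x ≤ δ := fun x =>
    Real.rpow_le_rpow_of_nonpos (by norm_num) (by exact_mod_cast hN x) (by linarith)
  set c : ℝ := 1 / (1 - δ) with hc
  have h1d : 0 < 1 - δ := by linarith
  have hc0 : 0 < c := by positivity
  have hcd : c * (1 - δ) = 1 := by rw [hc]; field_simp
  have hgeo : ∀ x (M : ℕ), ∑ j ∈ Finset.range M, u x ^ j ≤ Real.exp (c * u x) := by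
    intro x M
    have hlt : u x < 1 := (huδ x).trans_lt hδ1
    have h1 : ∑ j ∈ Finset.range M, u x ^ j ≤ (1 - u x)⁻¹ := by
      have hsum := summable_geometric_of_lt_one (hu0 x).le hlt
      calc ∑ j ∈ Finset.range M, u x ^ j ≤ ∑' j, u x ^ j :=
            hsum.sum_le_tsum _ (fun j _ => pow_nonneg (hu0 x).le j)
        _ = (1 - u x)⁻¹ := tsum_geometric_of_lt_one (hu0 x).le hlt
    have h2 : (1 - u x)⁻¹ ≤ 1 + c * u x := by
      have h1u : 0 < 1 - u x := by linarith
      rw [inv_le_iff_one_le_mul₀ h1u]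
      have h3 : 0 ≤ c * u x * (δ - u x) :=
        mul_nonneg (mul_nonneg hc0.le (hu0 x).le) (sub_nonneg.mpr (huδ x))
      nlinarith [h3, hcd]
    exact h1.trans (h2.trans (by linarith [Real.add_one_le_exp (c * u x)]))
  refine summable_of_sum_le (c := Real.exp (c * ∑' x, u x)) (fun α => by positivity) ?_
  intro T
  set S : Finset P := T.biUnion (fun α => α.support) with hS
  obtain ⟨M, hM⟩ : ∃ M : ℕ, ∀ α ∈ T, ∀ x, α x < M := by
    refine ⟨(T.sup fun α => α.support.sup α) + 1, fun α hα x => ?_⟩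
    by_cases hx : x ∈ α.support
    · have h1 : α x ≤ α.support.sup α := Finset.le_sup (f := α) hx
      have h2 : α.support.sup α ≤ T.sup fun α => α.support.sup α :=
        Finset.le_sup (f := fun α : P →₀ ℕ => α.support.sup α) hα
      omega
    · rw [Finsupp.notMem_support_iff] at hx
      omega
  have hterm : ∀ α ∈ T, ((nu N α : ℕ) : ℝ) ^ (-σ) = ∏ i : S, u i ^ (α i) := by
    intro α hα
    rw [wr_eq_prod]
    have h1 : ∏ i : S, u i ^ (α i) = ∏ x ∈ S, u x ^ (α x) :=
      Finset.prod_coe_sort S (fun x => u x ^ α x)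
    rw [h1]
    exact Finset.prod_subset (Finset.subset_biUnion_of_mem (fun α : P →₀ ℕ => α.support) hα)
      (fun x _ hx => by rw [Finsupp.notMem_support_iff.mp hx, pow_zero])
  rw [Finset.sum_congr rfl hterm]
  let ι : (P →₀ ℕ) → (S → ℕ) := fun α i => α i
  have hιinj : Set.InjOn ι T := by
    intro α hα β hβ h
    ext x
    by_cases hx : x ∈ S
    · exact congrFun h ⟨x, hx⟩
    · have h1 : x ∉ α.support := fun h' => hx (Finset.mem_biUnion.mpr ⟨α, hα, h'⟩)
      have h2 : x ∉ β.support := fun h' => hx (Finset.mem_biUnion.mpr ⟨β, hβ, h'⟩)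
      rw [Finsupp.notMem_support_iff] at h1 h2
      rw [h1, h2]
  calc ∑ α ∈ T, ∏ i : S, u i ^ (α i)
      = ∑ φ ∈ T.image ι, ∏ i : S, u i ^ (φ i) := by
        rw [Finset.sum_image hιinj]
    _ ≤ ∑ φ ∈ Fintype.piFinset (fun _ : S => Finset.range M), ∏ i : S, u i ^ (φ i) := by
        apply Finset.sum_le_sum_of_subset_of_nonneg
        · intro φ hφ
          obtain ⟨α, hα, rfl⟩ := Finset.mem_image.mp hφ
          exact Fintype.mem_piFinset.mpr fun i => Finset.mem_range.mpr (hM α hα i)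
        · intro φ _ _
          exact Finset.prod_nonneg fun i _ => pow_nonneg (hu0 i).le _
    _ = ∏ i : S, ∑ j ∈ Finset.range M, u i ^ j :=
        (Finset.prod_univ_sum (fun _ : S => Finset.range M) (fun i j => u i ^ j)).symm
    _ ≤ ∏ i : S, Real.exp (c * u i) :=
        Finset.prod_le_prod (fun i _ => Finset.sum_nonneg fun j _ => pow_nonneg (hu0 i).le j)
          (fun i _ => hgeo i M)
    _ = Real.exp (∑ i : S, c * u i) := (Real.exp_sum _ _).symm
    _ ≤ Real.exp (c * ∑' x, u x) := by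
        apply Real.exp_le_exp.mpr
        rw [← Finset.mul_sum, Finset.sum_coe_sort S u]
        exact mul_le_mul_of_nonneg_left (hs.sum_le_tsum S fun x _ => (hu0 x).le) hc0.le

/-- fibre of the norm map -/
abbrev Fib (n : ℕ) : Type _ := {α : P →₀ ℕ // nu N α = n}

theorem term_eq (hN : ∀ x, 2 ≤ N x) (a : ℕ → ℂ)
    (ha : ∀ n, 1 ≤ n → a n = (Nat.card (Fib N n) : ℂ)) (s : ℂ) (n : ℕ) :
    LSeries.term a s n = ∑' c : Fib N n, ((nu N c.1 : ℕ) : ℂ) ^ (-s) := by
  rcases Nat.eq_zero_or_pos n with h0 | hpos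
  · subst h0
    haveI : IsEmpty (Fib N 0) := ⟨fun c => by
      have h1 := nu_pos N hN c.1
      have h2 := c.2
      omega⟩
    rw [tsum_empty, LSeries.term_def, if_pos rfl]
  · have h1 : ∀ c : Fib N n, ((nu N c.1 : ℕ) : ℂ) ^ (-s) = ((n : ℕ) : ℂ) ^ (-s) :=
      fun c => by rw [c.2]
    rw [tsum_congr h1, tsum_const, LSeries.term_def, if_neg (by omega), ha n hpos,
      Complex.cpow_neg, div_eq_mul_inv, nsmul_eq_mul]

theorem lseries_facts (hN : ∀ x, 2 ≤ N x) (a : ℕ → ℂ)
    (ha : ∀ n, 1 ≤ n → a n = (Nat.card (Fib N n) : ℂ)) (s : ℂ)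
    (hsum : Summable (fun α : P →₀ ℕ => ((nu N α : ℕ) : ℝ) ^ (-s.re))) :
    LSeriesSummable a s ∧ LSeries a s = ∑' α : P →₀ ℕ, ((nu N α : ℕ) : ℂ) ^ (-s) := by
  set w : (P →₀ ℕ) → ℂ := fun α => ((nu N α : ℕ) : ℂ) ^ (-s) with hwdef
  have hw : Summable w := by
    apply Summable.of_norm
    refine hsum.congr fun α => ?_
    rw [hwdef]
    simp only
    rw [Complex.norm_natCast_cpow_of_pos (nu_pos N hN α), Complex.neg_re]
  let e := Equiv.sigmaFiberEquiv (nu N)
  have hw' : Summable (w ∘ e) := (e.summable_iff).mpr hw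
  have h1 := hw'.sigma
  have h2 := hw'.tsum_sigma
  have hterm : ∀ n, LSeries.term a s n = ∑' c : Fib N n, (w ∘ e) ⟨n, c⟩ :=
    fun n => term_eq N hN a ha s n
  constructor
  · exact h1.congr fun n => (hterm n).symm
  · unfold LSeries
    rw [tsum_congr hterm, ← h2]
    exact e.tsum_eq w

section Moebius

variable [DecidableEq P]

open Classical in
/-- Möbius function on cycles -/
noncomputable def mu (β : P →₀ ℕ) : ℤ := if ∀ x, β x ≤ 1 then (-1) ^ β.support.card else 0

/-- indicator cycle of a finite set -/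
noncomputable def ind (T : Finset P) : P →₀ ℕ :=
  Finsupp.onFinset T (fun x => if x ∈ T then 1 else 0) (fun a h => by
    by_contra h'
    simp [h'] at h)

theorem ind_apply (T : Finset P) (x : P) : ind T x = if x ∈ T then 1 else 0 := rfl

theorem support_ind (T : Finset P) : (ind T).support = T := by
  ext x
  rw [Finsupp.mem_support_iff, ind_apply]
  split_ifs with h <;> simp [h]

theorem ind_le_one (T : Finset P) (x : P) : ind T x ≤ 1 := by
  rw [ind_apply]; split_ifs <;> omega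

theorem mu_ind (T : Finset P) : mu (ind T) = (-1) ^ T.card := by
  unfold mu
  rw [if_pos (ind_le_one T), support_ind]

theorem ind_support_of_le_one (β : P →₀ ℕ) (h : ∀ x, β x ≤ 1) : ind β.support = β := by
  ext x
  rw [ind_apply]
  by_cases hx : x ∈ β.support
  · rw [if_pos hx]
    have h1 := Finsupp.mem_support_iff.mp hx
    have h2 := h x
    omega
  · rw [if_neg hx]
    exact (Finsupp.notMem_support_iff.mp hx).symm

theorem ind_le (T : Finset P) (γ : P →₀ ℕ) (hT : T ⊆ γ.support) : ind T ≤ γ := by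
  intro x
  rw [ind_apply]
  split_ifs with h
  · have := Finsupp.mem_support_iff.mp (hT h)
    omega
  · exact Nat.zero_le _

open Classical in
theorem sum_mu (γ : P →₀ ℕ) :
    ∑ kl ∈ Finset.HasAntidiagonal.antidiagonal γ, mu kl.2 = if γ = 0 then 1 else 0 := by
  have h1 : ∑ kl ∈ Finset.HasAntidiagonal.antidiagonal γ, mu kl.2 =
      ∑ T ∈ γ.support.powerset, (-1 : ℤ) ^ T.card := by
    have h2 : ∑ kl ∈ Finset.HasAntidiagonal.antidiagonal γ, mu kl.2 =
        ∑ kl ∈ (Finset.HasAntidiagonal.antidiagonal γ).filter (fun kl => ∀ x, kl.2 x ≤ 1),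
          (-1 : ℤ) ^ kl.2.support.card := by
      rw [Finset.sum_filter]
      refine Finset.sum_congr rfl fun kl _ => ?_
      unfold mu
      rfl
    rw [h2]
    refine Finset.sum_nbij' (fun kl => kl.2.support) (fun T => (γ - ind T, ind T)) ?_ ?_ ?_ ?_ ?_
    · intro kl hkl
      rw [Finset.mem_filter, Finset.HasAntidiagonal.mem_antidiagonal] at hkl
      rw [Finset.mem_powerset]
      intro x hx
      rw [Finsupp.mem_support_iff] at hx ⊢
      have h3 : γ x = kl.1 x + kl.2 x := by rw [← hkl.1]; rfl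
      omega
    · intro T hT
      rw [Finset.mem_powerset] at hT
      rw [Finset.mem_filter, Finset.HasAntidiagonal.mem_antidiagonal]
      exact ⟨tsub_add_cancel_of_le (ind_le T γ hT), ind_le_one T⟩
    · intro kl hkl
      rw [Finset.mem_filter, Finset.HasAntidiagonal.mem_antidiagonal] at hkl
      have e1 : ind kl.2.support = kl.2 := ind_support_of_le_one kl.2 hkl.2
      refine Prod.ext ?_ e1
      show γ - ind kl.2.support = kl.1
      rw [e1, ← hkl.1, add_tsub_cancel_right]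
    · intro T _
      exact support_ind T
    · intro kl _
      rfl
  rw [h1, Finset.sum_powerset_neg_one_pow_card]
  simp only [Finsupp.support_eq_empty]

theorem tsum_ne_zero (hN : ∀ x, 2 ≤ N x) (s : ℂ)
    (hsum : Summable (fun α : P →₀ ℕ => ((nu N α : ℕ) : ℝ) ^ (-s.re))) :
    ∑' α : P →₀ ℕ, ((nu N α : ℕ) : ℂ) ^ (-s) ≠ 0 := by
  set w : (P →₀ ℕ) → ℂ := fun α => ((nu N α : ℕ) : ℂ) ^ (-s) with hw
  set v : (P →₀ ℕ) → ℂ := fun α => ((mu α : ℤ) : ℂ) * w α with hv
  have hnw : ∀ α, ‖w α‖ = ((nu N α : ℕ) : ℝ) ^ (-s.re) := fun α => by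
    rw [hw]
    simp only
    rw [Complex.norm_natCast_cpow_of_pos (nu_pos N hN α), Complex.neg_re]
  have hwn : Summable (fun α => ‖w α‖) := hsum.congr fun α => (hnw α).symm
  have hmu1 : ∀ α : P →₀ ℕ, ‖((mu α : ℤ) : ℂ)‖ ≤ 1 := by
    intro α
    unfold mu
    split_ifs <;> simp
  have hvn : Summable (fun α => ‖v α‖) := by
    refine Summable.of_nonneg_of_le (fun α => norm_nonneg _) (fun α => ?_) hwn
    rw [hv]
    simp only
    rw [norm_mul]
    calc ‖((mu α : ℤ) : ℂ)‖ * ‖w α‖ ≤ 1 * ‖w α‖ :=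
          mul_le_mul_of_nonneg_right (hmu1 α) (norm_nonneg _)
      _ = ‖w α‖ := one_mul _
  have hprod := Summable.tsum_mul_tsum_eq_tsum_sum_antidiagonal hwn.of_norm hvn.of_norm
    (summable_mul_of_summable_norm hwn hvn)
  have hinner : ∀ γ : P →₀ ℕ,
      ∑ kl ∈ Finset.HasAntidiagonal.antidiagonal γ, w kl.1 * v kl.2 = if γ = 0 then 1 else 0 := by
    intro γ
    have h1 : ∀ kl ∈ Finset.HasAntidiagonal.antidiagonal γ, w kl.1 * v kl.2 = ((mu kl.2 : ℤ) : ℂ) * w γ := by
      intro kl hkl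
      rw [Finset.HasAntidiagonal.mem_antidiagonal] at hkl
      have hm : w kl.1 * w kl.2 = w γ := by
        rw [← hkl, hw]
        simp only
        rw [nu_add, Nat.cast_mul, Complex.natCast_mul_natCast_cpow]
      rw [hv]
      simp only
      rw [← hm]
      ring
    rw [Finset.sum_congr rfl h1, ← Finset.sum_mul, ← Int.cast_sum, sum_mu]
    split_ifs with h0
    · subst h0
      rw [hw]
      simp [nu_zero]
    · simp
  rw [tsum_congr hinner, tsum_ite_eq] at hprod
  intro h0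
  rw [h0, zero_mul] at hprod
  exact zero_ne_one hprod

end Moebius

theorem main (hN : ∀ x, 2 ≤ N x) (a : ℕ → ℂ)
    (ha : ∀ n, 1 ≤ n → a n = (Nat.card {α : P →₀ ℕ // nu N α = n} : ℂ))
    (ρ : ℝ) (hρ : 0 ≤ ρ)
    (hsum : ∀ σ : ℝ, ρ < σ → Summable (fun x => ((N x : ℕ) : ℝ) ^ (-σ))) :
    LSeries.abscissaOfAbsConv a ≤ (ρ : EReal) ∧ ∀ s : ℂ, ρ < s.re → LSeries a s ≠ 0 := by
  classical
  have key : ∀ σ : ℝ, ρ < σ → Summable (fun α : P →₀ ℕ => ((nu N α : ℕ) : ℝ) ^ (-σ)) :=
    fun σ hσ => summable_wr N hN σ (by linarith) (hsum σ hσ)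
  constructor
  · apply LSeries.abscissaOfAbsConv_le_of_forall_lt_LSeriesSummable
    intro y hy
    exact (lseries_facts N hN a ha (y : ℂ) (by simpa using key y hy)).1
  · intro s hs
    rw [(lseries_facts N hN a ha s (key s.re hs)).2]
    exact tsum_ne_zero N hN s (key s.re hs)

end Groth.Agent.Helper17.EulerAbs
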