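import Mathlib
import Groth.Prelude.Def_W4c1zetahwZeta
import Groth.Agent.Lib.Helper17.ArithPts
import Groth.Agent.Lib.Helper17.EulerAbs

set_option autoImplicit false
universe u
open CategoryTheory AlgebraicGeometry

namespace Groth.Agent.Helper17.ArithZeta

/-- good closed points: closed with finite residue field -/
def Good (X : Scheme.{u}) (x : X) : Prop :=
  IsClosed ({x} : Set X) ∧ 2 ≤ Nat.card (X.residueField x)

abbrev Pt (X : Scheme.{u}) : Type u := {x : X // Good X x}

noncomputable def Nm (X : Scheme.{u}) (x : Pt X) : ℕ := Nat.card (X.residueField x.1)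

theorem count_eq (X : Scheme.{u}) (n : ℕ) (hn : 1 ≤ n) :
    Zeta.cycleNormCount X n = Nat.card {β : Pt X →₀ ℕ // EulerAbs.nu (Nm X) β = n} := by
  classical
  unfold Zeta.cycleNormCount
  have hsupp : ∀ α : { α : X →₀ ℕ // (∀ x ∈ α.support, IsClosed ({x} : Set X)) ∧
      α.prod (fun x m => Nat.card (X.residueField x) ^ m) = n }, ∀ x ∈ α.1.support, Good X x := by
    intro α x hx
    refine ⟨α.2.1 x hx, ?_⟩
    have h1 : α.1.prod (fun x m => Nat.card (X.residueField x) ^ m) ≠ 0 := by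
      rw [α.2.2]; omega
    rw [Finsupp.prod_ne_zero_iff] at h1
    have h2 : Nat.card (X.residueField x) ^ (α.1 x) ≠ 0 := h1 x hx
    have h3 : Nat.card (X.residueField x) ≠ 0 := by
      intro h0
      apply h2
      rw [h0, zero_pow (Finsupp.mem_support_iff.mp hx)]
    haveI : Finite (X.residueField x) := Nat.finite_of_card_ne_zero h3
    exact Finite.one_lt_card
  let Φ : { α : X →₀ ℕ // (∀ x ∈ α.support, IsClosed ({x} : Set X)) ∧
      α.prod (fun x m => Nat.card (X.residueField x) ^ m) = n } →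
      {β : Pt X →₀ ℕ // EulerAbs.nu (Nm X) β = n} := fun α =>
    ⟨Finsupp.subtypeDomain (Good X) α.1, by
      have h := Finsupp.prod_subtypeDomain_index (p := Good X) (v := α.1)
        (h := fun x m => Nat.card (X.residueField x) ^ m) (hsupp α)
      unfold EulerAbs.nu
      exact h.trans α.2.2⟩
  have hinj : Function.Injective Φ := by
    intro α α' h
    have h1 : Finsupp.subtypeDomain (Good X) α.1 = Finsupp.subtypeDomain (Good X) α'.1 :=
      congrArg Subtype.val h
    apply Subtype.ext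
    ext x
    by_cases hx : Good X x
    · have h2 := DFunLike.congr_fun h1 ⟨x, hx⟩
      simpa [Finsupp.subtypeDomain_apply] using h2
    · have h3 : x ∉ α.1.support := fun h' => hx (hsupp α x h')
      have h4 : x ∉ α'.1.support := fun h' => hx (hsupp α' x h')
      rw [Finsupp.notMem_support_iff] at h3 h4
      rw [h3, h4]
  have hsurj : Function.Surjective Φ := by
    rintro ⟨β, hβ⟩
    have hprod : (β.embDomain (Function.Embedding.subtype (Good X))).prod
        (fun x m => Nat.card (X.residueField x) ^ m) = n := by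
      rw [Finsupp.prod_embDomain]
      exact hβ
    have hcl : ∀ x ∈ (β.embDomain (Function.Embedding.subtype (Good X))).support,
        IsClosed ({x} : Set X) := by
      intro x hx
      rw [Finsupp.support_embDomain, Finset.mem_map] at hx
      obtain ⟨y, _, rfl⟩ := hx
      exact y.2.1
    refine ⟨⟨β.embDomain (Function.Embedding.subtype (Good X)), hcl, hprod⟩, ?_⟩
    apply Subtype.ext
    ext y
    show (Finsupp.subtypeDomain (Good X) (β.embDomain (Function.Embedding.subtype (Good X)))) y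
      = β y
    rw [Finsupp.subtypeDomain_apply]
    exact Finsupp.embDomain_apply_self (Function.Embedding.subtype (Good X)) β y
  exact Nat.card_congr (Equiv.ofBijective Φ ⟨hinj, hsurj⟩)

theorem finite_hom_of_charts {X : Scheme.{u}}
    (J : Type u) [Finite J] (Z : J → Scheme.{u})
    (j : ∀ i, Z i ⟶ X) [∀ i, IsOpenImmersion (j i)]
    (hcov : ∀ x : X, ∃ i, x ∈ Set.range (j i))
    (F : Type u) [Field F]
    (hfin : ∀ i, Finite (Spec (CommRingCat.of F) ⟶ Z i)) :
    Finite (Spec (CommRingCat.of F) ⟶ X) := by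
  classical
  let pt : Spec (CommRingCat.of F) := (default : PrimeSpectrum F)
  have hsub : ∀ y : Spec (CommRingCat.of F), y = pt := fun y =>
    Subsingleton.elim (α := PrimeSpectrum F) y pt
  have hidx : ∀ g : Spec (CommRingCat.of F) ⟶ X, ∃ i, Set.range g ⊆ Set.range (j i) := by
    intro g
    obtain ⟨i, hi⟩ := hcov (g pt)
    refine ⟨i, ?_⟩
    rintro _ ⟨y, rfl⟩
    rw [hsub y]; exact hi
  choose idx hidx using hidx
  let Φ : (Spec (CommRingCat.of F) ⟶ X) → Σ i, (Spec (CommRingCat.of F) ⟶ Z i) :=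
    fun g => ⟨idx g, IsOpenImmersion.lift (j (idx g)) g (hidx g)⟩
  let back : (Σ i, (Spec (CommRingCat.of F) ⟶ Z i)) → (Spec (CommRingCat.of F) ⟶ X) :=
    fun x => x.2 ≫ j x.1
  have hback : ∀ g, back (Φ g) = g := by
    intro g
    show IsOpenImmersion.lift (j (idx g)) g (hidx g) ≫ j (idx g) = g
    rw [IsOpenImmersion.lift_fac]
  have hΦinj : Function.Injective Φ := by
    intro g g' h
    rw [← hback g, ← hback g', h]
  haveI : ∀ i, Finite (Spec (CommRingCat.of F) ⟶ Z i) := hfin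
  exact Finite.of_injective Φ hΦinj

set_option backward.isDefEq.respectTransparency.types false in
theorem finite_hom {X : Scheme.{u}} (f : X ⟶ Spec (CommRingCat.of (ULift.{u} ℤ)))
    [LocallyOfFiniteType f] [QuasiCompact f] (r : ℕ) (hr : topologicalKrullDim X ≤ r)
    (F : Type u) [Field F] [Finite F] : Finite (Spec (CommRingCat.of F) ⟶ X) := by
  classical
  haveI : CompactSpace X := QuasiCompact.compactSpace_of_compactSpace f
  let 𝒰 := X.affineCover.finiteSubcover
  obtain ⟨p, hchar⟩ := CharP.exists F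
  haveI := hchar
  have hp : p.Prime := CharP.char_is_prime F p
  have hcov : ∀ x : X, ∃ i, x ∈ Set.range (𝒰.f i) := fun x => ⟨𝒰.idx x, 𝒰.covers x⟩
  refine finite_hom_of_charts 𝒰.I₀ 𝒰.X 𝒰.f hcov F (fun i => ?_)
  haveI : IsOpenImmersion (𝒰.f i) := inferInstance
  have inst : LocallyOfFiniteType (𝒰.f i ≫ f) := inferInstance
  have hdim : topologicalKrullDim (𝒰.X i) ≤ (r : WithBot ℕ∞) :=
    ((𝒰.f i).isOpenEmbedding.isInducing.topologicalKrullDim_le).trans hr
  obtain ⟨c, hc⟩ := (@ArithPts.piece _ (𝒰.f i ≫ f) inst r hdim).2 p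
  exact (hc hp F hchar).1

theorem card_fibre_le {X : Scheme.{u}} (F : Type u) [Field F] [Finite F]
    [Finite (Spec (CommRingCat.of F) ⟶ X)] :
    Finite {x : Pt X // Nm X x = Nat.card F} ∧
    Nat.card {x : Pt X // Nm X x = Nat.card F} ≤ Nat.card (Spec (CommRingCat.of F) ⟶ X) := by
  classical
  have hiso : ∀ x : {x : Pt X // Nm X x = Nat.card F},
      Nonempty (X.residueField x.1.1 ≃+* F) := by
    intro x
    haveI : Finite (X.residueField x.1.1) :=
      Nat.finite_of_card_ne_zero (by have := x.1.2.2; omega)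
    haveI := Fintype.ofFinite F
    haveI := Fintype.ofFinite (X.residueField x.1.1)
    refine ⟨FiniteField.ringEquivOfCardEq ?_⟩
    rw [← Nat.card_eq_fintype_card, ← Nat.card_eq_fintype_card]
    exact x.2
  let pt : Spec (CommRingCat.of F) := (default : PrimeSpectrum F)
  let Ψ : {x : Pt X // Nm X x = Nat.card F} → (Spec (CommRingCat.of F) ⟶ X) := fun x =>
    Spec.map (CommRingCat.ofHom ((Classical.choice (hiso x)).toRingHom)) ≫
      X.fromSpecResidueField x.1.1
  have hx : ∀ z, (Ψ z) pt = z.1.1 := by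
    intro z
    show (Spec.map (CommRingCat.ofHom ((Classical.choice (hiso z)).toRingHom)) ≫
      X.fromSpecResidueField z.1.1) pt = z.1.1
    rw [Scheme.Hom.comp_apply]
    exact Scheme.fromSpecResidueField_apply _ _
  have hΨ : Function.Injective Ψ := by
    intro x y hxy
    apply Subtype.ext
    apply Subtype.ext
    rw [← hx x, ← hx y, hxy]
  exact ⟨Finite.of_injective Ψ hΨ, Nat.card_le_card_of_injective Ψ hΨ⟩

theorem fibre_bound {X : Scheme.{u}} (f : X ⟶ Spec (CommRingCat.of (ULift.{u} ℤ)))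
    [LocallyOfFiniteType f] [QuasiCompact f] (r : ℕ) (hr : topologicalKrullDim X ≤ r)
    (c : ℝ) (p₀ : ℕ)
    (hc : ∀ (p m : ℕ), p.Prime → 1 ≤ m →
      ∀ (F : Type u) [Field F], Nat.card F = p ^ m →
        (p₀ ≤ p → (Nat.card (Spec (CommRingCat.of F) ⟶ X) : ℝ) ≤
            c * (p : ℝ) ^ ((m : ℝ) * ((r : ℝ) - 1))) ∧
        (p < p₀ → (Nat.card (Spec (CommRingCat.of F) ⟶ X) : ℝ) ≤ c * (p : ℝ) ^ ((m : ℝ) * r)))
    (n : ℕ) :
    Finite {x : Pt X // Nm X x = n} ∧
    (Nonempty {x : Pt X // Nm X x = n} → ∃ p m : ℕ, p.Prime ∧ 1 ≤ m ∧ n = p ^ m ∧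
      (p₀ ≤ p → (Nat.card {x : Pt X // Nm X x = n} : ℝ) ≤ c * (n : ℝ) ^ ((r : ℝ) - 1)) ∧
      (p < p₀ → (Nat.card {x : Pt X // Nm X x = n} : ℝ) ≤ c * (n : ℝ) ^ (r : ℝ))) := by
  classical
  by_cases hne : Nonempty {x : Pt X // Nm X x = n}
  · obtain ⟨⟨x₀, hx₀⟩⟩ := hne
    subst hx₀
    haveI : Finite (X.residueField x₀.1) :=
      Nat.finite_of_card_ne_zero (by have := x₀.2.2; omega)
    haveI := finite_hom f r hr (X.residueField x₀.1)
    obtain ⟨hfin, hle⟩ := card_fibre_le (X := X) (X.residueField x₀.1)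
    have hfin' : Finite {x : Pt X // Nm X x = Nm X x₀} := hfin
    have hle' : Nat.card {x : Pt X // Nm X x = Nm X x₀} ≤
        Nat.card (Spec (CommRingCat.of (X.residueField x₀.1)) ⟶ X) := hle
    refine ⟨hfin', fun _ => ?_⟩
    haveI := Fintype.ofFinite (X.residueField x₀.1)
    obtain ⟨p, hchar, m, hp, hcard⟩ := FiniteField.card' (X.residueField x₀.1)
    have hcard' : Nat.card (X.residueField x₀.1) = p ^ (m : ℕ) := by
      rw [Nat.card_eq_fintype_card]; exact hcard
    have hn : Nm X x₀ = p ^ (m : ℕ) := hcard'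
    obtain ⟨hA, hB⟩ := hc p m hp m.pos (X.residueField x₀.1) hcard'
    have hpow : ∀ y : ℝ, (p : ℝ) ^ (((m : ℕ) : ℝ) * y) = ((Nm X x₀ : ℕ) : ℝ) ^ y := by
      intro y
      rw [Real.rpow_mul (Nat.cast_nonneg p), Real.rpow_natCast, hn, Nat.cast_pow]
    refine ⟨p, m, hp, m.pos, hn, fun h => ?_, fun h => ?_⟩
    · calc (Nat.card {x : Pt X // Nm X x = Nm X x₀} : ℝ)
          ≤ (Nat.card (Spec (CommRingCat.of (X.residueField x₀.1)) ⟶ X) : ℝ) := by
            exact_mod_cast hle'
        _ ≤ c * (p : ℝ) ^ (((m : ℕ) : ℝ) * ((r : ℝ) - 1)) := hA h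
        _ = c * ((Nm X x₀ : ℕ) : ℝ) ^ ((r : ℝ) - 1) := by rw [hpow]
    · calc (Nat.card {x : Pt X // Nm X x = Nm X x₀} : ℝ)
          ≤ (Nat.card (Spec (CommRingCat.of (X.residueField x₀.1)) ⟶ X) : ℝ) := by
            exact_mod_cast hle'
        _ ≤ c * (p : ℝ) ^ (((m : ℕ) : ℝ) * (r : ℝ)) := hB h
        _ = c * ((Nm X x₀ : ℕ) : ℝ) ^ (r : ℝ) := by rw [hpow]
  · haveI : IsEmpty {x : Pt X // Nm X x = n} := not_nonempty_iff.mp hne
    exact ⟨inferInstance, fun h => absurd h hne⟩

open Classical in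
theorem summable_pow_prime (p : ℕ) (hp : p.Prime) (c B : ℝ) (hB : B < 0) :
    Summable (fun n : ℕ => if ∃ m : ℕ, n = p ^ m then c * (n : ℝ) ^ B else 0) := by
  classical
  have hinj : Function.Injective (fun m : ℕ => p ^ m) := Nat.pow_right_injective hp.two_le
  refine (Function.Injective.summable_iff hinj ?_).mp ?_
  · intro n hn
    rw [if_neg]
    rintro ⟨m, rfl⟩
    exact hn ⟨m, rfl⟩
  · have hp1 : (1 : ℝ) < p := by exact_mod_cast hp.one_lt
    have hlt : (p : ℝ) ^ B < 1 := Real.rpow_lt_one_of_one_lt_of_neg hp1 hB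
    have h0 : 0 ≤ (p : ℝ) ^ B := Real.rpow_nonneg (Nat.cast_nonneg p) B
    refine ((summable_geometric_of_lt_one h0 hlt).mul_left c).congr fun m => ?_
    show c * ((p : ℝ) ^ B) ^ m =
      (if ∃ m' : ℕ, p ^ m = p ^ m' then c * ((p ^ m : ℕ) : ℝ) ^ B else 0)
    rw [if_pos ⟨m, rfl⟩, Nat.cast_pow, Real.rpow_pow_comm (Nat.cast_nonneg p)]

theorem summable_pts {X : Scheme.{u}} (f : X ⟶ Spec (CommRingCat.of (ULift.{u} ℤ)))
    [LocallyOfFiniteType f] [QuasiCompact f] (r : ℕ) (hr : topologicalKrullDim X ≤ r)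
    (σ : ℝ) (hσ : (r : ℝ) < σ) :
    Summable (fun x : Pt X => ((Nm X x : ℕ) : ℝ) ^ (-σ)) := by
  classical
  obtain ⟨c, p₀, hc0, hc⟩ := ArithPts.main f r hr
  have hfb := fibre_bound f r hr c p₀ hc
  set F : Pt X → ℝ := fun x => ((Nm X x : ℕ) : ℝ) ^ (-σ) with hF
  let e := Equiv.sigmaFiberEquiv (Nm X)
  rw [← e.summable_iff]
  have hnn : ∀ x, 0 ≤ (F ∘ e) x := fun x => Real.rpow_nonneg (Nat.cast_nonneg _) _
  rw [summable_sigma_of_nonneg hnn]
  have hval : ∀ n, ∑' y : {x : Pt X // Nm X x = n}, (F ∘ e) ⟨n, y⟩ =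
      (Nat.card {x : Pt X // Nm X x = n} : ℝ) * (n : ℝ) ^ (-σ) := by
    intro n
    have h1 : ∀ y : {x : Pt X // Nm X x = n}, (F ∘ e) ⟨n, y⟩ = (n : ℝ) ^ (-σ) := fun y => by
      show ((Nm X y.1 : ℕ) : ℝ) ^ (-σ) = _
      rw [y.2]
    rw [tsum_congr h1, tsum_const, nsmul_eq_mul]
  constructor
  · intro n
    haveI := (hfb n).1
    exact Summable.of_finite
  · set A : ℝ := (r : ℝ) - 1 - σ with hA
    set B : ℝ := (r : ℝ) - σ with hB
    have hA1 : A < -1 := by rw [hA]; linarith
    have hB0 : B < 0 := by rw [hB]; linarith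
    set g : ℕ → ℝ := fun n => c * (n : ℝ) ^ A +
      ∑ p ∈ (Finset.range p₀).filter Nat.Prime,
        (if ∃ m : ℕ, n = p ^ m then c * (n : ℝ) ^ B else 0) with hg
    have hgsum : Summable g := by
      refine Summable.add ((Real.summable_nat_rpow.mpr hA1).mul_left c) ?_
      refine summable_sum fun p hp => ?_
      exact summable_pow_prime p (Finset.mem_filter.mp hp).2 c B hB0
    have hterm0 : ∀ (p n : ℕ),
        0 ≤ (if ∃ m : ℕ, n = p ^ m then c * (n : ℝ) ^ B else 0) := by
      intro p n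
      split_ifs
      · exact mul_nonneg hc0.le (Real.rpow_nonneg (Nat.cast_nonneg n) B)
      · exact le_rfl
    refine Summable.of_nonneg_of_le (fun n => ?_) (fun n => ?_) hgsum
    · rw [hval]
      exact mul_nonneg (Nat.cast_nonneg _) (Real.rpow_nonneg (Nat.cast_nonneg n) _)
    · rw [hval]
      by_cases hne : Nonempty {x : Pt X // Nm X x = n}
      · obtain ⟨p, m, hp, hm, hn, h1, h2⟩ := (hfb n).2 hne
        have hnpos : (0 : ℝ) < (n : ℝ) := by
          rw [hn]; exact_mod_cast pow_pos hp.pos m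
        have hnσ : 0 ≤ (n : ℝ) ^ (-σ) := Real.rpow_nonneg hnpos.le _
        rcases le_or_gt p₀ p with hpp | hpp
        · calc (Nat.card {x : Pt X // Nm X x = n} : ℝ) * (n : ℝ) ^ (-σ)
              ≤ (c * (n : ℝ) ^ ((r : ℝ) - 1)) * (n : ℝ) ^ (-σ) :=
                mul_le_mul_of_nonneg_right (h1 hpp) hnσ
            _ = c * (n : ℝ) ^ A := by
                rw [mul_assoc, ← Real.rpow_add hnpos]
                congr 2
            _ ≤ g n := by
                rw [hg]
                exact le_add_of_nonneg_right (Finset.sum_nonneg fun q _ => hterm0 q n)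
        · calc (Nat.card {x : Pt X // Nm X x = n} : ℝ) * (n : ℝ) ^ (-σ)
              ≤ (c * (n : ℝ) ^ (r : ℝ)) * (n : ℝ) ^ (-σ) :=
                mul_le_mul_of_nonneg_right (h2 hpp) hnσ
            _ = c * (n : ℝ) ^ B := by
                rw [mul_assoc, ← Real.rpow_add hnpos]
                congr 2
            _ = (if ∃ m' : ℕ, n = p ^ m' then c * (n : ℝ) ^ B else 0) := by
                rw [if_pos ⟨m, hn⟩]
            _ ≤ ∑ q ∈ (Finset.range p₀).filter Nat.Prime,
                  (if ∃ m : ℕ, n = q ^ m then c * (n : ℝ) ^ B else 0) :=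
                Finset.single_le_sum
                  (f := fun q => if ∃ m : ℕ, n = q ^ m then c * (n : ℝ) ^ B else 0)
                  (fun q _ => hterm0 q n)
                  (Finset.mem_filter.mpr ⟨Finset.mem_range.mpr hpp, hp⟩)
            _ ≤ g n := by
                rw [hg]
                exact le_add_of_nonneg_left
                  (mul_nonneg hc0.le (Real.rpow_nonneg (Nat.cast_nonneg n) A))
      · haveI : IsEmpty {x : Pt X // Nm X x = n} := not_nonempty_iff.mp hne
        rw [Nat.card_of_isEmpty, Nat.cast_zero, zero_mul, hg]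
        exact add_nonneg (mul_nonneg hc0.le (Real.rpow_nonneg (Nat.cast_nonneg n) A))
          (Finset.sum_nonneg fun q _ => hterm0 q n)

theorem main {X : Scheme.{u}} (f : X ⟶ Spec (CommRingCat.of (ULift.{u} ℤ)))
    [LocallyOfFiniteType f] [QuasiCompact f] (r : ℕ) (hr : topologicalKrullDim X ≤ r) :
    LSeries.abscissaOfAbsConv (Zeta.arithCoeff X) ≤ (r : ℝ) ∧
      ∀ s : ℂ, (r : ℝ) < s.re → LSeries (Zeta.arithCoeff X) s ≠ 0 :=
  EulerAbs.main (Nm X) (fun x => x.2.2) (Zeta.arithCoeff X)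
    (fun n hn => by unfold Zeta.arithCoeff; rw [count_eq X n hn]) (r : ℝ) (Nat.cast_nonneg r)
    (fun σ hσ => summable_pts f r hr σ hσ)

end Groth.Agent.Helper17.ArithZeta
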