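import Mathlib
import Groth.Agent.S12915

set_option autoImplicit false
universe u

namespace Groth.Agent.Helper17.Bez

open MvPolynomial

variable {k : Type u} [Field k]

instance instFiniteSd (σ : Type) [Finite σ] (d : ℕ) :
    Module.Finite k (homogeneousSubmodule σ k d) :=
  Module.Finite.iff_fg.mpr (homogeneousSubmodule_fg σ k d)

lemma finrank_S3 (d : ℕ) :
    Module.finrank k (homogeneousSubmodule (Fin 3) k d) = Nat.choose (d + 2) 2 :=
  Groth.Agent.S12915.finrank_homog_gen k 2 d

/-- a cofactor of a homogeneous polynomial in a homogeneous product is homogeneous -/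
lemma isHomogeneous_of_mul {σ : Type} {f c : MvPolynomial σ k} {n D : ℕ}
    (hf : f.IsHomogeneous n) (hf0 : f ≠ 0) (hfc : (f * c).IsHomogeneous D) :
    c.IsHomogeneous (D - n) := by
  have hz : ∀ j, j ≠ D - n → homogeneousComponent j c = 0 := by
    intro j hj
    have h1 := Groth.Agent.S12915.hc_mul_gen f c n (j + n) hf (Nat.le_add_left _ _)
    rw [Nat.add_sub_cancel] at h1
    have h2 : homogeneousComponent (j + n) (f * c) = 0 := by
      rw [homogeneousComponent_of_mem ((mem_homogeneousSubmodule _ _).2 hfc), if_neg (by omega)]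
    rw [h2] at h1
    exact (mul_eq_zero.1 h1.symm).resolve_left hf0
  rw [← sum_homogeneousComponent c]
  apply IsHomogeneous.sum
  intro j _
  by_cases hj : j = D - n
  · rw [hj]; exact homogeneousComponent_isHomogeneous _ _
  · rw [hz j hj]; exact isHomogeneous_zero _ _ _

/-- multiplication by a homogeneous polynomial between graded pieces -/
noncomputable def mulBy {σ : Type} (p : MvPolynomial σ k) {e : ℕ} (hp : p.IsHomogeneous e)
    (a b : ℕ) (hab : a + e = b) : homogeneousSubmodule σ k a →ₗ[k] homogeneousSubmodule σ k b :=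
  LinearMap.codRestrict (homogeneousSubmodule σ k b)
    ((LinearMap.mulRight k p).comp (homogeneousSubmodule σ k a).subtype) (by
      intro x
      have := ((mem_homogeneousSubmodule _ _).1 x.2).mul hp
      rw [hab] at this
      exact (mem_homogeneousSubmodule _ _).2 this)

lemma mulBy_val {σ : Type} (p : MvPolynomial σ k) {e : ℕ} (hp : p.IsHomogeneous e)
    (a b : ℕ) (hab : a + e = b) (x : homogeneousSubmodule σ k a) :
    ((mulBy p hp a b hab x : homogeneousSubmodule σ k b) : MvPolynomial σ k) = x.1 * p := rfl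

lemma choose_identity (n m e : ℕ) :
    Nat.choose (n + m + e + 2) 2 + Nat.choose (e + 2) 2 =
      Nat.choose (m + e + 2) 2 + Nat.choose (n + e + 2) 2 + n * m := by
  induction n with
  | zero => simp
  | succ n ih =>
    have e1 : n + 1 + m + e + 2 = (n + m + e + 2) + 1 := by ring
    have e2 : n + 1 + e + 2 = (n + e + 2) + 1 := by ring
    have c1 : Nat.choose ((n + m + e + 2) + 1) 2 =
        Nat.choose (n + m + e + 2) 1 + Nat.choose (n + m + e + 2) 2 :=
      Nat.choose_succ_succ' (n + m + e + 2) 1
    have c2 : Nat.choose ((n + e + 2) + 1) 2 =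
        Nat.choose (n + e + 2) 1 + Nat.choose (n + e + 2) 2 :=
      Nat.choose_succ_succ' (n + e + 2) 1
    rw [e1, e2, c1, c2, Nat.choose_one_right, Nat.choose_one_right]
    have : (n + 1) * m = n * m + m := by ring
    rw [this]
    omega

theorem s10824 (n m d : ℕ)
    (f g : MvPolynomial (Fin 3) k) (hf : f.IsHomogeneous n) (hg : g.IsHomogeneous m)
    (hf0 : f ≠ 0) (hg0 : g ≠ 0) (hfg : IsRelPrime f g) (hd : n + m ≤ d) :
    Module.finrank k
        (↥(MvPolynomial.homogeneousSubmodule (Fin 3) k d) ⧸
          Submodule.comap (MvPolynomial.homogeneousSubmodule (Fin 3) k d).subtype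
            ((Ideal.span ({f, g} : Set (MvPolynomial (Fin 3) k))).restrictScalars k)) = n * m := by
  obtain ⟨e, rfl⟩ : ∃ e, d = n + m + e := Nat.exists_eq_add_of_le hd
  obtain ⟨W, hW⟩ : ∃ W : Submodule k (homogeneousSubmodule (Fin 3) k (n + m + e)), W =
      Submodule.comap (MvPolynomial.homogeneousSubmodule (Fin 3) k (n + m + e)).subtype
        ((Ideal.span ({f, g} : Set (MvPolynomial (Fin 3) k))).restrictScalars k) := ⟨_, rfl⟩
  rw [← hW]
  have hmemW : ∀ x : homogeneousSubmodule (Fin 3) k (n + m + e), x ∈ W ↔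
      x.1 ∈ Ideal.span ({f, g} : Set (MvPolynomial (Fin 3) k)) := by
    intro x; rw [hW]; rfl
  -- the map φ
  obtain ⟨φ, hφ⟩ : ∃ φ : (homogeneousSubmodule (Fin 3) k (m + e) ×
      homogeneousSubmodule (Fin 3) k (n + e)) →ₗ[k] homogeneousSubmodule (Fin 3) k (n + m + e),
      φ = (mulBy f hf (m + e) (n + m + e) (by omega)).coprod
        (mulBy g hg (n + e) (n + m + e) (by omega)) := ⟨_, rfl⟩
  have hφ_val : ∀ a b, ((φ (a, b) : homogeneousSubmodule (Fin 3) k (n + m + e)) :
      MvPolynomial (Fin 3) k) = a.1 * f + b.1 * g := by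
    intro a b
    rw [hφ]
    rfl
  have hrange : LinearMap.range φ = W := by
    ext x
    rw [hmemW]
    constructor
    · rintro ⟨⟨a, b⟩, rfl⟩
      rw [hφ_val]
      exact Ideal.add_mem _ (Ideal.mul_mem_left _ _ (Ideal.subset_span (Set.mem_insert _ _)))
        (Ideal.mul_mem_left _ _ (Ideal.subset_span (Set.mem_insert_of_mem _ rfl)))
    · intro hx
      obtain ⟨A, B, hAB⟩ := Ideal.mem_span_pair.1 hx
      have hxh : x.1.IsHomogeneous (n + m + e) := (mem_homogeneousSubmodule _ _).1 x.2
      have h1 := Groth.Agent.S12915.hc_mul_gen f A n (n + m + e) hf (by omega)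
      have h2 := Groth.Agent.S12915.hc_mul_gen g B m (n + m + e) hg (by omega)
      have e1 : n + m + e - n = m + e := by omega
      have e2 : n + m + e - m = n + e := by omega
      rw [e1] at h1
      rw [e2] at h2
      refine ⟨(⟨homogeneousComponent (m + e) A, (mem_homogeneousSubmodule _ _).2
        (homogeneousComponent_isHomogeneous _ _)⟩, ⟨homogeneousComponent (n + e) B,
        (mem_homogeneousSubmodule _ _).2 (homogeneousComponent_isHomogeneous _ _)⟩), ?_⟩
      apply Subtype.ext
      rw [hφ_val]
      show homogeneousComponent (m + e) A * f + homogeneousComponent (n + e) B * g = x.1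
      rw [mul_comm _ f, mul_comm _ g, ← h1, ← h2, ← map_add, mul_comm f A, mul_comm g B, hAB,
        homogeneousComponent_eq_self hxh]
  -- the kernel
  have hgneg : (-f).IsHomogeneous n := by
    have := (isHomogeneous_C (Fin 3) (-1 : k)).mul hf
    rw [zero_add] at this
    convert this using 1
    simp
  obtain ⟨ψ, hψ⟩ : ∃ ψ : homogeneousSubmodule (Fin 3) k e →ₗ[k]
      (homogeneousSubmodule (Fin 3) k (m + e) × homogeneousSubmodule (Fin 3) k (n + e)),
      ψ = (mulBy g hg e (m + e) (by omega)).prod (mulBy (-f) hgneg e (n + e) (by omega)) :=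
    ⟨_, rfl⟩
  have hψ_val : ∀ c, ((ψ c).1 : MvPolynomial (Fin 3) k) = c.1 * g ∧
      ((ψ c).2 : MvPolynomial (Fin 3) k) = c.1 * (-f) := by
    intro c
    rw [hψ]
    exact ⟨rfl, rfl⟩
  have hψinj : Function.Injective ψ := by
    rw [← LinearMap.ker_eq_bot, LinearMap.ker_eq_bot']
    intro c hc
    have h1 := (hψ_val c).1
    rw [hc] at h1
    have h2 : c.1 * g = 0 := h1.symm
    exact Subtype.ext ((mul_eq_zero.1 h2).resolve_right hg0)
  have hker : LinearMap.ker φ = LinearMap.range ψ := by
    ext ⟨a, b⟩
    rw [LinearMap.mem_ker]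
    constructor
    · intro h0
      have h1 : a.1 * f + b.1 * g = 0 := by
        rw [← hφ_val, h0]; rfl
      have hdvd : f ∣ b.1 * g := ⟨-a.1, by linear_combination h1⟩
      obtain ⟨c', hc'⟩ := hfg.dvd_of_dvd_mul_right hdvd
      have hc'hom : c'.IsHomogeneous (n + e - n) :=
        isHomogeneous_of_mul hf hf0 (hc' ▸ (mem_homogeneousSubmodule _ _).1 b.2)
      rw [Nat.add_sub_cancel_left] at hc'hom
      have ha : a.1 = -c' * g := by
        have : f * (a.1 + c' * g) = 0 := by rw [hc'] at h1; linear_combination h1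
        have := (mul_eq_zero.1 this).resolve_left hf0
        linear_combination this
      refine ⟨⟨-c', (mem_homogeneousSubmodule _ _).2 (by
        have := (isHomogeneous_C (Fin 3) (-1 : k)).mul hc'hom
        rw [zero_add] at this
        convert this using 1
        simp)⟩, ?_⟩
      apply Prod.ext
      · apply Subtype.ext
        rw [(hψ_val _).1]
        exact ha.symm
      · apply Subtype.ext
        rw [(hψ_val _).2]
        show -c' * -f = b.1
        rw [hc']; ring
    · rintro ⟨c, hc⟩
      apply Subtype.ext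
      rw [hφ_val]
      have h1 := (hψ_val c).1
      have h2 := (hψ_val c).2
      rw [hc] at h1 h2
      show a.1 * f + b.1 * g = 0
      rw [h1, h2]; ring
  have hfrker : Module.finrank k (LinearMap.ker φ) = Nat.choose (e + 2) 2 := by
    rw [hker, LinearMap.finrank_range_of_inj hψinj, finrank_S3]
  have hfrW : Module.finrank k W + Nat.choose (e + 2) 2 =
      Nat.choose (m + e + 2) 2 + Nat.choose (n + e + 2) 2 := by
    have := LinearMap.finrank_range_add_finrank_ker φ
    rw [hrange, hfrker, Module.finrank_prod, finrank_S3, finrank_S3] at this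
    exact this
  have hq := Submodule.finrank_quotient_add_finrank W
  rw [finrank_S3] at hq
  have hid := choose_identity n m e
  omega

end Groth.Agent.Helper17.Bez
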