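import Mathlib
import Groth.Agent.Lib.Helper17.Bez1

set_option autoImplicit false
universe u

namespace Groth.Agent.Helper17.Bez

open MvPolynomial

variable {k : Type u} [Field k]

/-- dehomogenisation point `(X, Y, 1)` -/
noncomputable def vD (k : Type u) [Field k] : Fin 3 → MvPolynomial (Fin 2) k :=
  Fin.cons (X 0) (Fin.cons (X 1) (Fin.cons 1 Fin.elim0))

/-- restriction to the line at infinity `(X, Y, 0)` -/
noncomputable def vZ (k : Type u) [Field k] : Fin 3 → MvPolynomial (Fin 2) k :=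
  Fin.cons (X 0) (Fin.cons (X 1) (Fin.cons 0 Fin.elim0))

lemma vD_0 : (vD k) 0 = X 0 := rfl
lemma vD_1 : (vD k) 1 = X 1 := rfl
lemma vD_2 : (vD k) 2 = 1 := rfl
lemma vZ_0 : (vZ k) 0 = X 0 := rfl
lemma vZ_1 : (vZ k) 1 = X 1 := rfl
lemma vZ_2 : (vZ k) 2 = 0 := rfl

/-- the inclusion `k[X,Y] → k[X,Y,T]` -/
noncomputable def eps : MvPolynomial (Fin 2) k →ₐ[k] MvPolynomial (Fin 3) k :=
  rename Fin.castSucc

lemma eps_X0 : eps (X 0 : MvPolynomial (Fin 2) k) = X 0 := by
  unfold eps; rw [rename_X]; rfl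

lemma eps_X1 : eps (X 1 : MvPolynomial (Fin 2) k) = X 1 := by
  unfold eps; rw [rename_X]; rfl

lemma eps_C (c : k) : eps (C c : MvPolynomial (Fin 2) k) = C c := by
  unfold eps; rw [rename_C]

lemma D_eps (p : MvPolynomial (Fin 2) k) : aeval (vD k) (eps p) = p := by
  have h : (aeval (vD k)).comp eps = AlgHom.id k _ := by
    apply MvPolynomial.algHom_ext
    intro i
    fin_cases i
    · show aeval (vD k) (eps (X 0)) = X 0
      rw [eps_X0, aeval_X, vD_0]
    · show aeval (vD k) (eps (X 1)) = X 1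
      rw [eps_X1, aeval_X, vD_1]
  exact congrArg (fun φ : MvPolynomial (Fin 2) k →ₐ[k] MvPolynomial (Fin 2) k => φ p) h

lemma Z_eps (p : MvPolynomial (Fin 2) k) : aeval (vZ k) (eps p) = p := by
  have h : (aeval (vZ k)).comp eps = AlgHom.id k _ := by
    apply MvPolynomial.algHom_ext
    intro i
    fin_cases i
    · show aeval (vZ k) (eps (X 0)) = X 0
      rw [eps_X0, aeval_X, vZ_0]
    · show aeval (vZ k) (eps (X 1)) = X 1
      rw [eps_X1, aeval_X, vZ_1]
  exact congrArg (fun φ : MvPolynomial (Fin 2) k →ₐ[k] MvPolynomial (Fin 2) k => φ p) h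

lemma eps_isHomogeneous {p : MvPolynomial (Fin 2) k} {n : ℕ} (hp : p.IsHomogeneous n) :
    (eps p).IsHomogeneous n := hp.rename_isHomogeneous

/-- homogenisation to degree `N` -/
noncomputable def homN (N : ℕ) : MvPolynomial (Fin 2) k →ₗ[k] MvPolynomial (Fin 3) k :=
  ∑ j ∈ Finset.range (N + 1),
    (LinearMap.mulRight k ((X 2 : MvPolynomial (Fin 3) k) ^ (N - j))).comp
      (eps.toLinearMap.comp (homogeneousComponent j))

lemma homN_apply (N : ℕ) (h : MvPolynomial (Fin 2) k) :
    homN N h = ∑ j ∈ Finset.range (N + 1), eps (homogeneousComponent j h) * X 2 ^ (N - j) := by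
  unfold homN
  rw [LinearMap.sum_apply]
  rfl

lemma homN_isHomogeneous (N : ℕ) (h : MvPolynomial (Fin 2) k) : (homN N h).IsHomogeneous N := by
  rw [homN_apply]
  apply IsHomogeneous.sum
  intro j hj
  have hj' : j ≤ N := by
    have := Finset.mem_range.1 hj; omega
  have h1 := (eps_isHomogeneous (homogeneousComponent_isHomogeneous j h)).mul
    (isHomogeneous_X_pow (R := k) (2 : Fin 3) (N - j))
  rw [Nat.add_sub_cancel' hj'] at h1
  exact h1

lemma D_homN {N : ℕ} {h : MvPolynomial (Fin 2) k} (hN : h.totalDegree ≤ N) :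
    aeval (vD k) (homN N h) = h := by
  rw [homN_apply, map_sum]
  have h1 : ∀ j ∈ Finset.range (N + 1),
      aeval (vD k) (eps (homogeneousComponent j h) * X 2 ^ (N - j)) = homogeneousComponent j h := by
    intro j _
    rw [map_mul, map_pow, aeval_X, vD_2, one_pow, mul_one, D_eps]
  rw [Finset.sum_congr rfl h1]
  conv_rhs => rw [← sum_homogeneousComponent h]
  symm
  apply Finset.sum_subset
  · intro j hj
    rw [Finset.mem_range] at hj ⊢
    omega
  · intro j _ hj
    rw [Finset.mem_range, not_lt] at hj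
    exact homogeneousComponent_eq_zero _ _ (by omega)

lemma monomial3 (s : Fin 3 →₀ ℕ) (c : k) :
    monomial s c = C c * X 0 ^ s 0 * X 1 ^ s 1 * X 2 ^ s 2 := by
  rw [monomial_eq, Finsupp.prod_fintype _ _ (fun i => pow_zero _), Fin.prod_univ_three]
  ring

lemma degree3 (s : Fin 3 →₀ ℕ) : s.degree = s 0 + s 1 + s 2 := by
  rw [Finsupp.degree_eq_sum, Fin.sum_univ_three]

lemma homN_D_monomial {N : ℕ} (s : Fin 3 →₀ ℕ) (hs : s 0 + s 1 + s 2 = N) (c : k) :
    homN N (aeval (vD k) (monomial s c)) = monomial s c := by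
  rw [monomial3]
  have hD : aeval (vD k) (C c * X 0 ^ s 0 * X 1 ^ s 1 * X 2 ^ s 2 : MvPolynomial (Fin 3) k) =
      C c * X 0 ^ s 0 * X 1 ^ s 1 := by
    simp only [map_mul, map_pow, aeval_X, aeval_C, vD_0, vD_1, vD_2, one_pow, mul_one]
    rfl
  rw [hD]
  have hq : (C c * X 0 ^ s 0 * X 1 ^ s 1 : MvPolynomial (Fin 2) k).IsHomogeneous (s 0 + s 1) := by
    have := ((isHomogeneous_C (Fin 2) c).mul (isHomogeneous_X_pow (R := k) (0 : Fin 2) (s 0))).mul
      (isHomogeneous_X_pow (R := k) (1 : Fin 2) (s 1))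
    rw [zero_add] at this
    exact this
  rw [homN_apply]
  have h1 : ∀ j ∈ Finset.range (N + 1),
      eps (homogeneousComponent j (C c * X 0 ^ s 0 * X 1 ^ s 1 : MvPolynomial (Fin 2) k)) *
        X 2 ^ (N - j) =
      if j = s 0 + s 1 then eps (C c * X 0 ^ s 0 * X 1 ^ s 1 : MvPolynomial (Fin 2) k) *
        X 2 ^ (N - j) else 0 := by
    intro j _
    rw [homogeneousComponent_of_mem ((mem_homogeneousSubmodule _ _).2 hq)]
    split_ifs
    · rfl
    · rw [map_zero, zero_mul]
  rw [Finset.sum_congr rfl h1, Finset.sum_ite_eq', if_pos (Finset.mem_range.2 (by omega))]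
  have e1 : N - (s 0 + s 1) = s 2 := by omega
  rw [e1, map_mul, map_mul, map_pow, map_pow, eps_C, eps_X0, eps_X1]

lemma homN_D {N : ℕ} {F : MvPolynomial (Fin 3) k} (hF : F.IsHomogeneous N) :
    homN N (aeval (vD k) F) = F := by
  calc homN N (aeval (vD k) F)
      = homN N (aeval (vD k) (∑ s ∈ F.support, monomial s (coeff s F))) := by
        rw [support_sum_monomial_coeff]
    _ = ∑ s ∈ F.support, homN N (aeval (vD k) (monomial s (coeff s F))) := by
        rw [map_sum, map_sum]
    _ = ∑ s ∈ F.support, monomial s (coeff s F) := by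
        refine Finset.sum_congr rfl (fun s hs => ?_)
        have h1 : s.degree = N := by
          have := hF (mem_support_iff.1 hs)
          rw [Finsupp.degree_eq_weight_one]
          exact this
        rw [degree3] at h1
        exact homN_D_monomial s h1 _
    _ = F := support_sum_monomial_coeff F

lemma eq_zero_of_D_eq_zero {N : ℕ} {F : MvPolynomial (Fin 3) k} (hF : F.IsHomogeneous N)
    (h0 : aeval (vD k) F = 0) : F = 0 := by
  rw [← homN_D hF, h0, map_zero]

/-- division by `T` -/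
lemma exists_eq_eps_Z_add (p : MvPolynomial (Fin 3) k) :
    ∃ q, p = eps (aeval (vZ k) p) + X 2 * q := by
  have h : (Ideal.Quotient.mkₐ k (Ideal.span {(X 2 : MvPolynomial (Fin 3) k)})).comp
      (eps.comp (aeval (vZ k))) =
      Ideal.Quotient.mkₐ k (Ideal.span {(X 2 : MvPolynomial (Fin 3) k)}) := by
    apply MvPolynomial.algHom_ext
    intro i
    fin_cases i
    · show Ideal.Quotient.mk _ (eps (aeval (vZ k) (X 0))) = Ideal.Quotient.mk _ (X 0)
      rw [aeval_X, vZ_0, eps_X0]
    · show Ideal.Quotient.mk _ (eps (aeval (vZ k) (X 1))) = Ideal.Quotient.mk _ (X 1)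
      rw [aeval_X, vZ_1, eps_X1]
    · show Ideal.Quotient.mk _ (eps (aeval (vZ k) (X 2))) = Ideal.Quotient.mk _ (X 2)
      rw [aeval_X, vZ_2, map_zero, map_zero]
      symm
      rw [Ideal.Quotient.eq_zero_iff_mem]
      exact Ideal.subset_span rfl
  have h2 := congrArg (fun φ : MvPolynomial (Fin 3) k →ₐ[k] _ => φ p) h
  have h3 : Ideal.Quotient.mk (Ideal.span {(X 2 : MvPolynomial (Fin 3) k)})
      (eps (aeval (vZ k) p)) = Ideal.Quotient.mk _ p := h2
  rw [Ideal.Quotient.eq, Ideal.mem_span_singleton'] at h3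
  obtain ⟨q, hq⟩ := h3
  exact ⟨-q, by linear_combination hq⟩

lemma not_isUnit_of_isHomogeneous {p : MvPolynomial (Fin 2) k} {m : ℕ} (hm : 0 < m)
    (hp : p.IsHomogeneous m) : ¬ IsUnit p := by
  intro hu
  have h1 := (isUnit_iff_totalDegree_of_isReduced.1 hu).2
  have hp0 : p ≠ 0 := hu.ne_zero
  rw [hp.totalDegree hp0] at h1
  omega

/-- `T` is a nonzerodivisor modulo `(f, g)` when there is no common point at infinity -/
lemma T_cancel {n m : ℕ} {f g : MvPolynomial (Fin 3) k} (hf : f.IsHomogeneous n)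
    (hg : g.IsHomogeneous m) (hn : 0 < n) (hm : 0 < m)
    (hT : IsRelPrime (aeval (vZ k) f) (aeval (vZ k) g)) {h : MvPolynomial (Fin 3) k}
    (hh : X 2 * h ∈ Ideal.span ({f, g} : Set (MvPolynomial (Fin 3) k))) :
    h ∈ Ideal.span ({f, g} : Set (MvPolynomial (Fin 3) k)) := by
  have hf₀hom : (aeval (vZ k) f : MvPolynomial (Fin 2) k).IsHomogeneous n := by
    have := hf.aeval (vZ k) (n := 1) (by
      intro i
      fin_cases i
      · exact isHomogeneous_X _ _
      · exact isHomogeneous_X _ _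
      · exact isHomogeneous_zero _ _ _)
    rwa [one_mul] at this
  have hg₀hom : (aeval (vZ k) g : MvPolynomial (Fin 2) k).IsHomogeneous m := by
    have := hg.aeval (vZ k) (n := 1) (by
      intro i
      fin_cases i
      · exact isHomogeneous_X _ _
      · exact isHomogeneous_X _ _
      · exact isHomogeneous_zero _ _ _)
    rwa [one_mul] at this
  have hf₀ : (aeval (vZ k) f : MvPolynomial (Fin 2) k) ≠ 0 := by
    intro h0
    rw [h0, isRelPrime_zero_left] at hT
    exact not_isUnit_of_isHomogeneous hm hg₀hom hT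
  obtain ⟨a, b, hab⟩ := Ideal.mem_span_pair.1 hh
  have hZ : aeval (vZ k) a * aeval (vZ k) f + aeval (vZ k) b * aeval (vZ k) g = 0 := by
    have := congrArg (aeval (vZ k)) hab
    rw [map_add, map_mul, map_mul, map_mul, aeval_X, vZ_2, zero_mul] at this
    exact this
  have hdvd : aeval (vZ k) f ∣ aeval (vZ k) b * aeval (vZ k) g := ⟨-aeval (vZ k) a, by linear_combination hZ⟩
  obtain ⟨c, hc⟩ := hT.dvd_of_dvd_mul_right hdvd
  have ha : aeval (vZ k) a = -c * aeval (vZ k) g := by
    have : aeval (vZ k) f * (aeval (vZ k) a + c * aeval (vZ k) g) = 0 := by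
      rw [hc] at hZ; linear_combination hZ
    have := (mul_eq_zero.1 this).resolve_left hf₀
    linear_combination this
  obtain ⟨a', ha'⟩ := exists_eq_eps_Z_add (a + eps c * g)
  obtain ⟨b', hb'⟩ := exists_eq_eps_Z_add (b - eps c * f)
  have hza : aeval (vZ k) (a + eps c * g) = 0 := by
    rw [map_add, map_mul, Z_eps, ha]; ring
  have hzb : aeval (vZ k) (b - eps c * f) = 0 := by
    rw [map_sub, map_mul, Z_eps, hc]; ring
  rw [hza, map_zero, zero_add] at ha'
  rw [hzb, map_zero, zero_add] at hb'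
  have hX : (X 2 : MvPolynomial (Fin 3) k) ≠ 0 := X_ne_zero _
  have hfin : h = a' * f + b' * g := by
    apply mul_left_cancel₀ hX
    have e1 : X 2 * (a' * f + b' * g) = (X 2 * a') * f + (X 2 * b') * g := by ring
    rw [e1, ← ha', ← hb', ← hab]
    ring
  rw [hfin]
  exact Ideal.add_mem _ (Ideal.mul_mem_left _ _ (Ideal.subset_span (Set.mem_insert _ _)))
    (Ideal.mul_mem_left _ _ (Ideal.subset_span (Set.mem_insert_of_mem _ rfl)))

lemma T_pow_cancel {n m : ℕ} {f g : MvPolynomial (Fin 3) k} (hf : f.IsHomogeneous n)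
    (hg : g.IsHomogeneous m) (hn : 0 < n) (hm : 0 < m)
    (hT : IsRelPrime (aeval (vZ k) f) (aeval (vZ k) g)) (r : ℕ) {h : MvPolynomial (Fin 3) k}
    (hh : X 2 ^ r * h ∈ Ideal.span ({f, g} : Set (MvPolynomial (Fin 3) k))) :
    h ∈ Ideal.span ({f, g} : Set (MvPolynomial (Fin 3) k)) := by
  induction r with
  | zero => rwa [pow_zero, one_mul] at hh
  | succ r ih =>
    apply ih
    apply T_cancel hf hg hn hm hT
    rw [← mul_assoc, ← pow_succ']
    exact hh

end Groth.Agent.Helper17.Bez
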