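import Mathlib
import Groth.Agent.Lib.Helper17.Bez2

set_option autoImplicit false
universe u

namespace Groth.Agent.Helper17.Bez

open MvPolynomial

variable {k : Type u} [Field k]

/-- the degree-`d` part of the ideal `(f, g)` -/
noncomputable def Wd (f g : MvPolynomial (Fin 3) k) (d : ℕ) :
    Submodule k (homogeneousSubmodule (Fin 3) k d) :=
  Submodule.comap (homogeneousSubmodule (Fin 3) k d).subtype
    ((Ideal.span ({f, g} : Set (MvPolynomial (Fin 3) k))).restrictScalars k)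

lemma mem_Wd (f g : MvPolynomial (Fin 3) k) (d : ℕ) (x : homogeneousSubmodule (Fin 3) k d) :
    x ∈ Wd f g d ↔ x.1 ∈ Ideal.span ({f, g} : Set (MvPolynomial (Fin 3) k)) := Iff.rfl

noncomputable def mulT (d : ℕ) :
    homogeneousSubmodule (Fin 3) k d →ₗ[k] homogeneousSubmodule (Fin 3) k (d + 1) :=
  mulBy (X 2) (isHomogeneous_X k (2 : Fin 3)) d (d + 1) rfl

lemma mulT_val (d : ℕ) (x : homogeneousSubmodule (Fin 3) k d) :
    ((mulT d x : homogeneousSubmodule (Fin 3) k (d + 1)) : MvPolynomial (Fin 3) k) = x.1 * X 2 :=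
  rfl

noncomputable def mulTQ (f g : MvPolynomial (Fin 3) k) (d : ℕ) :
    (homogeneousSubmodule (Fin 3) k d ⧸ Wd f g d) →ₗ[k]
      (homogeneousSubmodule (Fin 3) k (d + 1) ⧸ Wd f g (d + 1)) :=
  Submodule.mapQ (Wd f g d) (Wd f g (d + 1)) (mulT d) (by
    intro x hx
    rw [Submodule.mem_comap, mem_Wd, mulT_val]
    exact Ideal.mul_mem_right _ _ hx)

section main

variable {n m : ℕ} {f g : MvPolynomial (Fin 3) k} (hf : f.IsHomogeneous n)
  (hg : g.IsHomogeneous m) (hn : 0 < n) (hm : 0 < m) (hf0 : f ≠ 0) (hg0 : g ≠ 0)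
  (hfg : IsRelPrime f g) (hT : IsRelPrime (aeval (vZ k) f) (aeval (vZ k) g))

include hf hg hn hm hT in
lemma mulTQ_injective (d : ℕ) : Function.Injective (mulTQ f g d) := by
  rw [← LinearMap.ker_eq_bot, LinearMap.ker_eq_bot']
  intro q hq
  obtain ⟨x, rfl⟩ := Submodule.Quotient.mk_surjective _ q
  unfold mulTQ at hq
  rw [Submodule.mapQ_apply, Submodule.Quotient.mk_eq_zero, mem_Wd, mulT_val] at hq
  rw [Submodule.Quotient.mk_eq_zero, mem_Wd]
  have : X 2 * x.1 ∈ Ideal.span ({f, g} : Set (MvPolynomial (Fin 3) k)) := by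
    rw [mul_comm]; exact hq
  exact T_cancel hf hg hn hm hT this

include hf hg hn hm hf0 hg0 hfg hT in
lemma mulTQ_surjective (d : ℕ) (hd : n + m ≤ d) : Function.Surjective (mulTQ f g d) := by
  have h1 : Module.finrank k (homogeneousSubmodule (Fin 3) k d ⧸ Wd f g d) = n * m :=
    s10824 n m d f g hf hg hf0 hg0 hfg hd
  have h2 : Module.finrank k (homogeneousSubmodule (Fin 3) k (d + 1) ⧸ Wd f g (d + 1)) = n * m :=
    s10824 n m (d + 1) f g hf hg hf0 hg0 hfg (by omega)
  exact (LinearMap.injective_iff_surjective_of_finrank_eq_finrank (h1.trans h2.symm)).1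
    (mulTQ_injective hf hg hn hm hT d)

include hf hg hn hm hf0 hg0 hfg hT in
lemma exists_lift (d : ℕ) (hd : n + m ≤ d) (r : ℕ) :
    ∀ x : MvPolynomial (Fin 3) k, x.IsHomogeneous (d + r) →
      ∃ y : MvPolynomial (Fin 3) k, y.IsHomogeneous d ∧
        x - X 2 ^ r * y ∈ Ideal.span ({f, g} : Set (MvPolynomial (Fin 3) k)) := by
  induction r with
  | zero =>
    intro x hx
    exact ⟨x, hx, by rw [pow_zero, one_mul, sub_self]; exact Submodule.zero_mem _⟩
  | succ r ih =>
    intro x hx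
    have hx' : x ∈ homogeneousSubmodule (Fin 3) k (d + r + 1) :=
      (mem_homogeneousSubmodule _ _).2 hx
    obtain ⟨q', hq'⟩ := mulTQ_surjective hf hg hn hm hf0 hg0 hfg hT (d + r) (by omega)
      (Submodule.Quotient.mk ⟨x, hx'⟩)
    obtain ⟨x', rfl⟩ := Submodule.Quotient.mk_surjective _ q'
    unfold mulTQ at hq'
    rw [Submodule.mapQ_apply, Submodule.Quotient.eq, mem_Wd] at hq'
    have hq'' : x'.1 * X 2 - x ∈ Ideal.span ({f, g} : Set (MvPolynomial (Fin 3) k)) := hq'
    obtain ⟨y, hy, hxy⟩ := ih x'.1 ((mem_homogeneousSubmodule _ _).1 x'.2)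
    refine ⟨y, hy, ?_⟩
    have e1 : x - X 2 ^ (r + 1) * y = -(x'.1 * X 2 - x) + X 2 * (x'.1 - X 2 ^ r * y) := by
      rw [pow_succ]; ring
    rw [e1]
    exact Ideal.add_mem _ (Ideal.neg_mem_iff _ |>.2 hq'') (Ideal.mul_mem_left _ _ hxy)

lemma D_mem {z : MvPolynomial (Fin 3) k}
    (hz : z ∈ Ideal.span ({f, g} : Set (MvPolynomial (Fin 3) k))) :
    aeval (vD k) z ∈ Ideal.span ({aeval (vD k) f, aeval (vD k) g} :
      Set (MvPolynomial (Fin 2) k)) := by
  obtain ⟨a, b, rfl⟩ := Ideal.mem_span_pair.1 hz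
  rw [map_add, map_mul, map_mul]
  exact Ideal.add_mem _ (Ideal.mul_mem_left _ _ (Ideal.subset_span (Set.mem_insert _ _)))
    (Ideal.mul_mem_left _ _ (Ideal.subset_span (Set.mem_insert_of_mem _ rfl)))

include hf hg hn hm hf0 hg0 hfg hT in
theorem s10827 :
    Module.finrank k (MvPolynomial (Fin 2) k ⧸ Ideal.span
      ({aeval (vD k) f, aeval (vD k) g} : Set (MvPolynomial (Fin 2) k))) = n * m := by
  obtain ⟨Istar, hIstar⟩ : ∃ Istar : Ideal (MvPolynomial (Fin 2) k), Istar = Ideal.span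
      ({aeval (vD k) f, aeval (vD k) g} : Set (MvPolynomial (Fin 2) k)) := ⟨_, rfl⟩
  rw [← hIstar]
  obtain ⟨θ, hθ⟩ : ∃ θ : homogeneousSubmodule (Fin 3) k (n + m) →ₗ[k]
      (MvPolynomial (Fin 2) k ⧸ Istar), θ = (Ideal.Quotient.mkₐ k Istar).toLinearMap ∘ₗ
        (aeval (vD k)).toLinearMap ∘ₗ (homogeneousSubmodule (Fin 3) k (n + m)).subtype :=
    ⟨_, rfl⟩
  have hθ_apply : ∀ x, θ x = Ideal.Quotient.mk Istar (aeval (vD k) x.1) := by
    intro x; rw [hθ]; rfl
  have hsurj : Function.Surjective θ := by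
    intro q
    obtain ⟨h, rfl⟩ := Ideal.Quotient.mk_surjective q
    obtain ⟨y, hy, hxy⟩ := exists_lift hf hg hn hm hf0 hg0 hfg hT (n + m) le_rfl h.totalDegree
      (homN (n + m + h.totalDegree) h) (homN_isHomogeneous _ _)
    refine ⟨⟨y, (mem_homogeneousSubmodule _ _).2 hy⟩, ?_⟩
    rw [hθ_apply, Ideal.Quotient.eq, hIstar]
    have h1 := D_mem (k := k) hxy
    rw [map_sub, map_mul, map_pow, aeval_X, vD_2, one_pow, one_mul,
      D_homN (by omega : h.totalDegree ≤ n + m + h.totalDegree)] at h1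
    have := Ideal.neg_mem_iff _ |>.2 h1
    rwa [neg_sub] at this
  have hker : LinearMap.ker θ = Wd f g (n + m) := by
    ext x
    rw [LinearMap.mem_ker, hθ_apply, Ideal.Quotient.eq_zero_iff_mem, mem_Wd]
    constructor
    · intro hx
      rw [hIstar] at hx
      obtain ⟨a, b, hab⟩ := Ideal.mem_span_pair.1 hx
      obtain ⟨r, hr⟩ : ∃ r, r = a.totalDegree + b.totalDegree + n + m := ⟨_, rfl⟩
      obtain ⟨N, hN⟩ : ∃ N, N = n + m + r := ⟨_, rfl⟩
      obtain ⟨G, hG⟩ : ∃ G, G = X 2 ^ r * x.1 - homN (N - n) a * f - homN (N - m) b * g :=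
        ⟨_, rfl⟩
      have hxh : x.1.IsHomogeneous (n + m) := (mem_homogeneousSubmodule _ _).1 x.2
      have hGhom : G.IsHomogeneous N := by
        rw [hG]
        refine IsHomogeneous.sub (IsHomogeneous.sub ?_ ?_) ?_
        · have := (isHomogeneous_X_pow (R := k) (2 : Fin 3) r).mul hxh
          rw [hN, add_comm (n + m) r]; exact this
        · have := (homN_isHomogeneous (N - n) a).mul hf
          rwa [Nat.sub_add_cancel (by omega)] at this
        · have := (homN_isHomogeneous (N - m) b).mul hg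
          rwa [Nat.sub_add_cancel (by omega)] at this
      have hDG : aeval (vD k) G = 0 := by
        rw [hG, map_sub, map_sub, map_mul, map_mul, map_mul, map_pow, aeval_X, vD_2, one_pow,
          one_mul, D_homN (by omega : a.totalDegree ≤ N - n),
          D_homN (by omega : b.totalDegree ≤ N - m), ← hab]
        ring
      have hG0 := eq_zero_of_D_eq_zero hGhom hDG
      apply T_pow_cancel hf hg hn hm hT r
      have : X 2 ^ r * x.1 = homN (N - n) a * f + homN (N - m) b * g := by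
        rw [hG] at hG0; linear_combination hG0
      rw [this]
      exact Ideal.add_mem _ (Ideal.mul_mem_left _ _ (Ideal.subset_span (Set.mem_insert _ _)))
        (Ideal.mul_mem_left _ _ (Ideal.subset_span (Set.mem_insert_of_mem _ rfl)))
    · intro hx
      rw [hIstar]
      exact D_mem hx
  have e : (homogeneousSubmodule (Fin 3) k (n + m) ⧸ Wd f g (n + m)) ≃ₗ[k]
      (MvPolynomial (Fin 2) k ⧸ Istar) :=
    (Submodule.quotEquivOfEq _ _ hker.symm).trans (θ.quotKerEquivOfSurjective hsurj)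
  rw [← e.finrank_eq]
  exact s10824 n m (n + m) f g hf hg hf0 hg0 hfg le_rfl

end main

end Groth.Agent.Helper17.Bez
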