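import Mathlib
import Groth.Agent.Lib.Helper17.Bez1

set_option autoImplicit false
universe u

namespace Groth.Agent.Helper17.Cat

open MvPolynomial

variable {K : Type u} [Field K]

instance instFin (d : ℕ) : Module.Finite K (homogeneousSubmodule (Fin 2) K d) :=
  Module.Finite.iff_fg.mpr (homogeneousSubmodule_fg (Fin 2) K d)

lemma finrank_S (d : ℕ) :
    Module.finrank K (homogeneousSubmodule (Fin 2) K d) = d + 1 := by
  have := Groth.Agent.S12915.finrank_homog_gen K 1 d
  rw [this, Nat.choose_one_right]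

/-- the pairing `(g, h) ↦ lam (g * h)` on forms of degrees `a`, `b` -/
noncomputable def cat (lam : MvPolynomial (Fin 2) K →ₗ[K] K) (a b : ℕ) :
    homogeneousSubmodule (Fin 2) K a →ₗ[K] Module.Dual K (homogeneousSubmodule (Fin 2) K b) :=
  ((LinearMap.mul K (MvPolynomial (Fin 2) K)).compr₂ lam).domRestrict₁₂ _ _

lemma cat_apply (lam : MvPolynomial (Fin 2) K →ₗ[K] K) (a b : ℕ)
    (g : homogeneousSubmodule (Fin 2) K a) (h : homogeneousSubmodule (Fin 2) K b) :
    cat lam a b g h = lam (g.1 * h.1) := rfl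

lemma exists_cat_ker (lam : MvPolynomial (Fin 2) K →ₗ[K] K) :
    ∃ g ∈ homogeneousSubmodule (Fin 2) K 3, g ≠ 0 ∧
      ∀ h ∈ homogeneousSubmodule (Fin 2) K 2, lam (g * h) = 0 := by
  have hni : ¬ Function.Injective (cat lam 3 2) := by
    intro hinj
    have := LinearMap.finrank_le_finrank_of_injective hinj
    rw [Subspace.dual_finrank_eq, finrank_S, finrank_S] at this
    omega
  rw [← LinearMap.ker_eq_bot] at hni
  obtain ⟨g, hg, hg0⟩ := Submodule.exists_mem_ne_zero_of_ne_bot hni
  refine ⟨g.1, g.2, fun h => hg0 (Subtype.ext h), fun h hh => ?_⟩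
  have := LinearMap.congr_fun (LinearMap.mem_ker.1 hg) ⟨h, hh⟩
  rw [cat_apply] at this
  exact this

/-- functionals cutting out a subspace of a finite-dimensional subspace -/
lemma exists_functionals {P : Type u} [AddCommGroup P] [Module K P]
    (W V : Submodule K P) [Module.Finite K W] (hV : V ≤ W) (r : ℕ)
    (hr : Module.finrank K V + r = Module.finrank K W) :
    ∃ lam : Fin r → (P →ₗ[K] K), ∀ F ∈ W, (F ∈ V ↔ ∀ i, lam i F = 0) := by
  obtain ⟨V', hV'⟩ : ∃ V' : Submodule K W, V' = V.comap W.subtype := ⟨_, rfl⟩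
  have h1 : Module.finrank K V' = Module.finrank K V := by
    rw [hV']
    exact (Submodule.comapSubtypeEquivOfLe hV).finrank_eq
  have h2 := Submodule.finrank_quotient_add_finrank V'
  have hQ : Module.finrank K (W ⧸ V') = r := by omega
  let b := Module.finBasisOfFinrankEq K (W ⧸ V') hQ
  have hext : ∀ i : Fin r, ∃ l : P →ₗ[K] K, l ∘ₗ W.subtype = (b.coord i) ∘ₗ V'.mkQ :=
    fun i => LinearMap.exists_extend _
  choose lam hlam using hext
  refine ⟨lam, fun F hF => ?_⟩
  have h3 : F ∈ V ↔ (⟨F, hF⟩ : W) ∈ V' := by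
    rw [hV', Submodule.mem_comap]
    rfl
  have h4 : ∀ i, lam i F = b.coord i (V'.mkQ ⟨F, hF⟩) := by
    intro i
    have := LinearMap.congr_fun (hlam i) ⟨F, hF⟩
    exact this
  rw [h3, ← Submodule.Quotient.mk_eq_zero, ← b.forall_coord_eq_zero_iff]
  constructor
  · intro h i
    rw [h4]
    exact h i
  · intro h i
    have := h i
    rw [h4] at this
    exact this

lemma natDegree_aeval_le {g : MvPolynomial (Fin 2) K} {d : ℕ} (hg : g.IsHomogeneous d) :
    (aeval ![(Polynomial.X : Polynomial K), 1] g).natDegree ≤ d := by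
  rw [aeval_def, eval₂_eq']
  apply Polynomial.natDegree_sum_le_of_forall_le
  intro m hm
  have hdeg : m 0 + m 1 = d := by
    have h1 := hg (mem_support_iff.1 hm)
    have h2 : m.degree = d := by
      rw [Finsupp.degree_eq_weight_one]
      exact h1
    rw [Finsupp.degree_eq_sum, Fin.sum_univ_two] at h2
    exact h2
  rw [Fin.prod_univ_two]
  simp only [Matrix.cons_val_zero, Matrix.cons_val_one, one_pow, mul_one]
  refine le_trans (Polynomial.natDegree_mul_le) ?_
  refine le_trans (add_le_add (Polynomial.natDegree_C _).le (Polynomial.natDegree_X_pow_le _)) ?_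
  omega

lemma exists_factor [IsAlgClosed K] {g : MvPolynomial (Fin 2) K} (hg : g.IsHomogeneous 3)
    (hg0 : g ≠ 0) :
    ∃ l q : MvPolynomial (Fin 2) K, l.IsHomogeneous 1 ∧ q.IsHomogeneous 2 ∧ g = l * q := by
  obtain ⟨p, hp⟩ : ∃ p : Polynomial K, p = aeval ![(Polynomial.X : Polynomial K), 1] g :=
    ⟨_, rfl⟩
  have hgp : p.homogenize 3 = g := Polynomial.homogenize_eq_of_isHomogeneous hg hp.symm
  have hdeg : p.natDegree ≤ 3 := by
    rw [hp]
    exact natDegree_aeval_le hg
  have hp0 : p ≠ 0 := by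
    rintro rfl
    rw [Polynomial.homogenize_zero] at hgp
    exact hg0 hgp.symm
  by_cases h2 : p.natDegree ≤ 2
  · refine ⟨(1 : Polynomial K).homogenize 1, p.homogenize 2,
      Polynomial.isHomogeneous_homogenize _, Polynomial.isHomogeneous_homogenize _, ?_⟩
    rw [← Polynomial.homogenize_mul 1 p (by simp) h2, one_mul]
    exact hgp.symm
  · have h3 : p.natDegree = 3 := by omega
    have hd : p.degree ≠ 0 := by
      rw [Polynomial.degree_eq_natDegree hp0, h3]
      norm_num
    obtain ⟨a, ha⟩ := IsAlgClosed.exists_root p hd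
    obtain ⟨q', hq'⟩ := Polynomial.dvd_iff_isRoot.2 ha
    have hq0 : q' ≠ 0 := by
      rintro rfl
      rw [mul_zero] at hq'
      exact hp0 hq'
    have hdq : q'.natDegree = 2 := by
      have := Polynomial.natDegree_mul (Polynomial.X_sub_C_ne_zero a) hq0
      rw [← hq', h3, Polynomial.natDegree_X_sub_C] at this
      omega
    refine ⟨(Polynomial.X - Polynomial.C a).homogenize 1, q'.homogenize 2,
      Polynomial.isHomogeneous_homogenize _, Polynomial.isHomogeneous_homogenize _, ?_⟩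
    rw [← Polynomial.homogenize_mul _ _ (by rw [Polynomial.natDegree_X_sub_C]) hdq.le, ← hq']
    exact hgp.symm

lemma mulLeft_inj {g : MvPolynomial (Fin 2) K} (hg0 : g ≠ 0) :
    Function.Injective (LinearMap.mulLeft K g) := by
  intro a b hab
  exact mul_left_cancel₀ hg0 hab

lemma finrank_mul_S {g : MvPolynomial (Fin 2) K} (hg0 : g ≠ 0) (d : ℕ) :
    Module.finrank K ((homogeneousSubmodule (Fin 2) K d).map (LinearMap.mulLeft K g)) = d + 1 := by
  rw [← finrank_S (K := K) d]
  exact (Submodule.equivMapOfInjective _ (mulLeft_inj hg0) _).finrank_eq.symm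

theorem s16516 [IsAlgClosed K] [CharZero K] (V : Submodule K (MvPolynomial (Fin 2) K))
    (hV : V ≤ homogeneousSubmodule (Fin 2) K 5) (hdim : Module.finrank K ↥V = 5)
    (hsep : ∀ e ∈ homogeneousSubmodule (Fin 2) K 2, e ≠ 0 →
      ∀ F ∈ homogeneousSubmodule (Fin 2) K 5, ∃ v ∈ V,
        ∃ h ∈ homogeneousSubmodule (Fin 2) K 3, F = v + e * h) :
    ∃ g ∈ homogeneousSubmodule (Fin 2) K 3, g ≠ 0 ∧
      (∀ h ∈ homogeneousSubmodule (Fin 2) K 2, g * h ∈ V) ∧
      ∀ g' ∈ homogeneousSubmodule (Fin 2) K 3,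
        (∀ h ∈ homogeneousSubmodule (Fin 2) K 2, g' * h ∈ V) → ∃ c : K, g' = c • g := by
  obtain ⟨lam', hlam'⟩ := exists_functionals (homogeneousSubmodule (Fin 2) K 5) V hV 1
    (by rw [hdim, finrank_S])
  obtain ⟨lam, hlam⟩ : ∃ lam : MvPolynomial (Fin 2) K →ₗ[K] K,
      ∀ F ∈ homogeneousSubmodule (Fin 2) K 5, (F ∈ V ↔ lam F = 0) := by
    refine ⟨lam' 0, fun F hF => ?_⟩
    rw [hlam' F hF]
    constructor
    · intro h
      exact h 0
    · intro h i
      rw [Subsingleton.elim i 0]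
      exact h
  -- lam is nonzero on S5
  have hne : ∃ F ∈ homogeneousSubmodule (Fin 2) K 5, lam F ≠ 0 := by
    by_contra hcon
    push Not at hcon
    have hle : homogeneousSubmodule (Fin 2) K 5 ≤ V := fun F hF => (hlam F hF).2 (hcon F hF)
    have heq : V = homogeneousSubmodule (Fin 2) K 5 := le_antisymm hV hle
    rw [heq, finrank_S] at hdim
    omega
  have hmul : ∀ (a b : ℕ) (x y : MvPolynomial (Fin 2) K), x ∈ homogeneousSubmodule (Fin 2) K a →
      y ∈ homogeneousSubmodule (Fin 2) K b → x * y ∈ homogeneousSubmodule (Fin 2) K (a + b) := by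
    intro a b x y hx hy
    exact IsHomogeneous.mul hx hy
  -- right kernel trivial
  have hright : ∀ e ∈ homogeneousSubmodule (Fin 2) K 2,
      (∀ g ∈ homogeneousSubmodule (Fin 2) K 3, lam (e * g) = 0) → e = 0 := by
    intro e he hker
    by_contra he0
    obtain ⟨F, hF, hlF⟩ := hne
    obtain ⟨v, hv, h, hh, rfl⟩ := hsep e he he0 F hF
    apply hlF
    rw [map_add, (hlam v (hV hv)).1 hv, hker h hh, add_zero]
  -- C' injective
  have hinj : Function.Injective (cat lam 2 3) := by
    rw [← LinearMap.ker_eq_bot, Submodule.eq_bot_iff]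
    intro e he
    apply Subtype.ext
    apply hright e.1 e.2
    intro g hg
    have := LinearMap.congr_fun (LinearMap.mem_ker.1 he) ⟨g, hg⟩
    rw [cat_apply] at this
    exact this
  -- C surjective
  have hsurj : Function.Surjective (cat lam 3 2) := by
    intro φ
    obtain ⟨ψ, hψ⟩ := (LinearMap.dualMap_surjective_iff.2 hinj) φ
    obtain ⟨g, hg⟩ := (Module.evalEquiv K (homogeneousSubmodule (Fin 2) K 3)).surjective ψ
    refine ⟨g, ?_⟩
    apply LinearMap.ext
    intro e
    rw [← hψ, ← hg, LinearMap.dualMap_apply, Module.evalEquiv_apply, Module.Dual.eval_apply,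
      cat_apply, cat_apply, mul_comm]
  have hker1 : Module.finrank K (LinearMap.ker (cat lam 3 2)) = 1 := by
    have h1 := LinearMap.finrank_range_add_finrank_ker (cat lam 3 2)
    rw [LinearMap.range_eq_top.2 hsurj, finrank_top, Subspace.dual_finrank_eq, finrank_S,
      finrank_S] at h1
    omega
  haveI : Module.Free K ↥(LinearMap.ker (cat lam 3 2)) := Module.Free.of_divisionRing K ↥(LinearMap.ker (cat lam 3 2))
  obtain ⟨g₀, hg₀, hspan⟩ :=
    (finrank_eq_one_iff' (K := K) (V := ↥(LinearMap.ker (cat lam 3 2)))).1 hker1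
  have hker_iff : ∀ g (hg : g ∈ homogeneousSubmodule (Fin 2) K 3),
      (⟨g, hg⟩ : homogeneousSubmodule (Fin 2) K 3) ∈ LinearMap.ker (cat lam 3 2) ↔
        ∀ h ∈ homogeneousSubmodule (Fin 2) K 2, g * h ∈ V := by
    intro g hg
    rw [LinearMap.mem_ker]
    constructor
    · intro h0 h hh
      rw [hlam _ (hmul 3 2 g h hg hh)]
      have := LinearMap.congr_fun h0 ⟨h, hh⟩
      rw [cat_apply] at this
      exact this
    · intro h0
      apply LinearMap.ext
      intro h
      rw [cat_apply]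
      exact (hlam _ (hmul 3 2 g h.1 hg h.2)).1 (h0 h.1 h.2)
  refine ⟨g₀.1.1, g₀.1.2, ?_, ?_, ?_⟩
  · intro h
    apply hg₀
    apply Subtype.ext
    apply Subtype.ext
    exact h
  · exact (hker_iff g₀.1.1 g₀.1.2).1 g₀.2
  · intro g' hg' hg'V
    obtain ⟨c, hc⟩ := hspan ⟨⟨g', hg'⟩, (hker_iff g' hg').2 hg'V⟩
    refine ⟨c, ?_⟩
    have := congrArg (fun x : LinearMap.ker (cat lam 3 2) => x.1.1) hc
    exact this.symm

theorem s19809 [IsAlgClosed K] [CharZero K] (V : Submodule K (MvPolynomial (Fin 2) K))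
    (hV : V ≤ homogeneousSubmodule (Fin 2) K 5) (hdim : Module.finrank K ↥V = 4)
    (hsep : ∀ e ∈ homogeneousSubmodule (Fin 2) K 2, e ≠ 0 →
      ∀ F ∈ homogeneousSubmodule (Fin 2) K 5, ∃ v ∈ V,
        ∃ h ∈ homogeneousSubmodule (Fin 2) K 3, F = v + e * h)
    (F : Finset (MvPolynomial (Fin 2) K)) :
    ∃ g ∈ homogeneousSubmodule (Fin 2) K 3, g ≠ 0 ∧
      2 ≤ Module.finrank K ↥(V ⊓ (homogeneousSubmodule (Fin 2) K 2).map (LinearMap.mulLeft K g)) ∧
      ∀ g' ∈ F, ∀ c : K, g ≠ c • g' := by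
  haveI : FiniteDimensional K V := Module.finite_of_finrank_pos (by omega)
  obtain ⟨lam, hlam⟩ := exists_functionals (homogeneousSubmodule (Fin 2) K 5) V hV 2
    (by rw [hdim, finrank_S])
  have hmul : ∀ (a b : ℕ) (x y : MvPolynomial (Fin 2) K), x ∈ homogeneousSubmodule (Fin 2) K a →
      y ∈ homogeneousSubmodule (Fin 2) K b → x * y ∈ homogeneousSubmodule (Fin 2) K (a + b) := by
    intro a b x y hx hy
    exact IsHomogeneous.mul hx hy
  have hVmem : ∀ x ∈ homogeneousSubmodule (Fin 2) K 5, lam 0 x = 0 → lam 1 x = 0 → x ∈ V := by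
    intro x hx h0 h1
    rw [hlam x hx]
    intro i
    fin_cases i
    · exact h0
    · exact h1
  -- Claim B
  have hB : ∀ g ∈ homogeneousSubmodule (Fin 2) K 3, g ≠ 0 →
      (∀ h ∈ homogeneousSubmodule (Fin 2) K 2, g * h ∈ V) → False := by
    intro g hg hg0 hgV
    obtain ⟨l, q, hl, hq, hglq⟩ := exists_factor hg hg0
    have hq0 : q ≠ 0 := by
      rintro rfl
      rw [mul_zero] at hglq
      exact hg0 hglq
    have hsup : homogeneousSubmodule (Fin 2) K 5 ≤
        V ⊔ (homogeneousSubmodule (Fin 2) K 3).map (LinearMap.mulLeft K q) := by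
      intro x hx
      obtain ⟨v, hv, h, hh, rfl⟩ := hsep q hq hq0 x hx
      exact Submodule.add_mem_sup hv (Submodule.mem_map.2 ⟨h, hh, rfl⟩)
    have h1 := Submodule.finrank_sup_add_finrank_inf_eq V
      ((homogeneousSubmodule (Fin 2) K 3).map (LinearMap.mulLeft K q))
    have h2 := Submodule.finrank_mono hsup
    rw [finrank_S] at h2
    rw [finrank_mul_S hq0, hdim] at h1
    have h3 : (homogeneousSubmodule (Fin 2) K 2).map (LinearMap.mulLeft K g) ≤
        V ⊓ (homogeneousSubmodule (Fin 2) K 3).map (LinearMap.mulLeft K q) := by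
      rintro x ⟨h, hh, rfl⟩
      refine ⟨hgV h hh, Submodule.mem_map.2 ⟨l * h, hmul 1 2 l h hl hh, ?_⟩⟩
      simp only [LinearMap.mulLeft_apply]
      rw [hglq]
      ring
    have h4 := Submodule.finrank_mono h3
    rw [finrank_mul_S hg0] at h4
    omega
  -- the family g_c
  have hfam : ∀ c : K, ∃ g ∈ homogeneousSubmodule (Fin 2) K 3, g ≠ 0 ∧
      ∀ h ∈ homogeneousSubmodule (Fin 2) K 2, (lam 0 + c • lam 1) (g * h) = 0 :=
    fun c => exists_cat_ker _
  choose G hG3 hG0 hGk using hfam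
  -- Claim A
  have hA : ∀ c : K, 2 ≤ Module.finrank K
      ↥(V ⊓ (homogeneousSubmodule (Fin 2) K 2).map (LinearMap.mulLeft K (G c))) := by
    intro c
    obtain ⟨N, hN⟩ : ∃ N : Submodule K (homogeneousSubmodule (Fin 2) K 2),
      N = LinearMap.ker (cat (lam 1) 3 2 ⟨G c, hG3 c⟩) := ⟨_, rfl⟩
    have hN2 : 2 ≤ Module.finrank K N := by
      have h1 := LinearMap.finrank_range_add_finrank_ker (cat (lam 1) 3 2 ⟨G c, hG3 c⟩)
      have h2 : Module.finrank K (LinearMap.range (cat (lam 1) 3 2 ⟨G c, hG3 c⟩)) ≤ 1 := by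
        have := Submodule.finrank_le (LinearMap.range (cat (lam 1) 3 2 ⟨G c, hG3 c⟩))
        simpa using this
      rw [finrank_S] at h1
      rw [hN]
      omega
    have h3 : Module.finrank K ((N.map (homogeneousSubmodule (Fin 2) K 2).subtype).map
        (LinearMap.mulLeft K (G c))) = Module.finrank K N := by
      rw [← Submodule.finrank_map_subtype_eq (homogeneousSubmodule (Fin 2) K 2) N]
      exact (Submodule.equivMapOfInjective _ (mulLeft_inj (hG0 c)) _).finrank_eq.symm
    have h4 : (N.map (homogeneousSubmodule (Fin 2) K 2).subtype).map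
        (LinearMap.mulLeft K (G c)) ≤
        V ⊓ (homogeneousSubmodule (Fin 2) K 2).map (LinearMap.mulLeft K (G c)) := by
      rintro x ⟨y, ⟨h, hhN, rfl⟩, rfl⟩
      have hh1 : lam 1 (G c * h.1) = 0 := by
        rw [hN, SetLike.mem_coe, LinearMap.mem_ker, cat_apply] at hhN
        exact hhN
      have hh0 : lam 0 (G c * h.1) = 0 := by
        have := hGk c h.1 h.2
        rw [LinearMap.add_apply, LinearMap.smul_apply, hh1, smul_zero, add_zero] at this
        exact this
      refine ⟨?_, Submodule.mem_map.2 ⟨h.1, h.2, rfl⟩⟩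
      exact hVmem _ (hmul 3 2 _ _ (hG3 c) h.2) hh0 hh1
    have h5 := Submodule.finrank_mono h4
    omega
  by_contra hcon
  push Not at hcon
  have hbad : ∀ c : K, ∃ g' ∈ F, ∃ a : K, G c = a • g' := fun c => hcon (G c) (hG3 c) (hG0 c) (hA c)
  choose φ hφF a ha using hbad
  haveI : Infinite K := Infinite.of_injective (Nat.cast : ℕ → K) Nat.cast_injective
  obtain ⟨c, c', hcc', hφ⟩ := Finite.exists_ne_map_eq_of_infinite
    (fun c : K => (⟨φ c, hφF c⟩ : F))
  have hφ' : φ c = φ c' := congrArg Subtype.val hφ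
  have ha' : a c' ≠ 0 := by
    intro h0
    apply hG0 c'
    rw [ha c', h0, zero_smul]
  have hprop : G c = (a c * (a c')⁻¹) • G c' := by
    rw [ha c', smul_smul, mul_assoc, inv_mul_cancel₀ ha', mul_one, ← hφ']
    exact ha c
  apply hB (G c) (hG3 c) (hG0 c)
  intro h hh
  have e1 := hGk c h hh
  have e2 : (lam 0 + c' • lam 1) (G c * h) = 0 := by
    rw [hprop, smul_mul_assoc, map_smul, hGk c' h hh, smul_zero]
  rw [LinearMap.add_apply, LinearMap.smul_apply, smul_eq_mul] at e1 e2
  have e3 : (c - c') * lam 1 (G c * h) = 0 := by linear_combination e1 - e2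
  have e4 : lam 1 (G c * h) = 0 := by
    rcases mul_eq_zero.1 e3 with h0 | h0
    · exact absurd (sub_eq_zero.1 h0) hcc'
    · exact h0
  have e5 : lam 0 (G c * h) = 0 := by
    rw [e4, mul_zero, add_zero] at e1
    exact e1
  exact hVmem _ (hmul 3 2 _ _ (hG3 c) hh) e5 e4

end Groth.Agent.Helper17.Cat
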