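import Mathlib
import Groth.Agent.Lib.Helper17.Cat

set_option autoImplicit false
universe u

namespace Groth.Agent.Helper17.BinF

open MvPolynomial

variable {k : Type u} [Field k]

lemma not_isUnit_of_hom {p : MvPolynomial (Fin 2) k} {m : ℕ} (hm : 0 < m)
    (hp : p.IsHomogeneous m) (hp0 : p ≠ 0) : ¬ IsUnit p := by
  intro hu
  have h1 := (isUnit_iff_totalDegree_of_isReduced.1 hu).2
  rw [hp.totalDegree hp0] at h1
  omega

lemma linear_factor_aux (x : Fin 2 → k) (hx1 : x 1 ≠ 0) :
    ∃ L : MvPolynomial (Fin 2) k, L.IsHomogeneous 1 ∧ L ≠ 0 ∧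
      ∀ (F : MvPolynomial (Fin 2) k) (d : ℕ), F.IsHomogeneous d → eval x F = 0 → L ∣ F := by
  refine ⟨(Polynomial.X - Polynomial.C (x 0 / x 1)).homogenize 1,
    Polynomial.isHomogeneous_homogenize _, ?_, ?_⟩
  · intro h
    rw [Polynomial.homogenize_eq_zero_iff (by rw [Polynomial.natDegree_X_sub_C])] at h
    exact Polynomial.X_sub_C_ne_zero _ h
  intro F d hF h0
  obtain ⟨p, hp⟩ : ∃ p : Polynomial k, p = aeval ![(Polynomial.X : Polynomial k), 1] F :=
    ⟨_, rfl⟩
  have hFp : p.homogenize d = F := Polynomial.homogenize_eq_of_isHomogeneous hF hp.symm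
  have hdeg : p.natDegree ≤ d := by
    rw [hp]
    exact Cat.natDegree_aeval_le hF
  have hroot : p.eval (x 0 / x 1) = 0 := by
    have := Polynomial.eval_homogenize hdeg x hx1
    rw [hFp, h0] at this
    rcases mul_eq_zero.1 this.symm with h | h
    · exact h
    · exact absurd h (pow_ne_zero d hx1)
  by_cases hp0 : p = 0
  · rw [← hFp, hp0, Polynomial.homogenize_zero]
    exact dvd_zero _
  obtain ⟨q, hq⟩ := Polynomial.dvd_iff_isRoot.2 hroot
  have hq0 : q ≠ 0 := by
    rintro rfl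
    rw [mul_zero] at hq
    exact hp0 hq
  have hdq : p.natDegree = 1 + q.natDegree := by
    have := Polynomial.natDegree_mul (Polynomial.X_sub_C_ne_zero (x 0 / x 1)) hq0
    rw [← hq, Polynomial.natDegree_X_sub_C] at this
    exact this
  have hd1 : d = 1 + (d - 1) := by omega
  rw [← hFp, hq, hd1, Polynomial.homogenize_mul _ _ (by rw [Polynomial.natDegree_X_sub_C])
    (by omega : q.natDegree ≤ d - 1)]
  exact dvd_mul_right _ _

lemma linear_factor (x : Fin 2 → k) (hx : x ≠ 0) :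
    ∃ L : MvPolynomial (Fin 2) k, L.IsHomogeneous 1 ∧ L ≠ 0 ∧
      ∀ (F : MvPolynomial (Fin 2) k) (d : ℕ), F.IsHomogeneous d → eval x F = 0 → L ∣ F := by
  by_cases hx1 : x 1 ≠ 0
  · exact linear_factor_aux x hx1
  rw [not_not] at hx1
  have hx0 : x 0 ≠ 0 := by
    intro h
    apply hx
    funext i
    fin_cases i
    · exact h
    · exact hx1
  obtain ⟨σ, hσ⟩ : ∃ σ : Fin 2 ≃ Fin 2, σ = Equiv.swap 0 1 := ⟨_, rfl⟩
  have hσσ : ∀ i, σ (σ i) = i := by
    intro i
    rw [hσ]
    exact Equiv.swap_apply_self _ _ _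
  have hx1' : (x ∘ σ) 1 ≠ 0 := by
    rw [Function.comp_apply, hσ, Equiv.swap_apply_right]
    exact hx0
  obtain ⟨L', hL', hL'0, hdvd⟩ := linear_factor_aux (x ∘ σ) hx1'
  have hrr : ∀ p : MvPolynomial (Fin 2) k, rename σ (rename σ p) = p := by
    intro p
    rw [rename_rename]
    have : (σ ∘ σ : Fin 2 → Fin 2) = id := by
      funext i
      exact hσσ i
    rw [this, rename_id_apply]
  refine ⟨rename σ L', hL'.rename_isHomogeneous, ?_, ?_⟩
  · intro h
    apply hL'0
    have := congrArg (rename σ) h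
    rw [hrr, map_zero] at this
    exact this
  · intro F d hF h0
    have hF' : (rename σ F).IsHomogeneous d := hF.rename_isHomogeneous
    have h0' : eval (x ∘ σ) (rename σ F) = 0 := by
      rw [eval_rename]
      have : (x ∘ σ) ∘ σ = x := by
        funext i
        simp [hσσ]
      rw [this]
      exact h0
    obtain ⟨c, hc⟩ := hdvd _ d hF' h0'
    refine ⟨rename σ c, ?_⟩
    rw [← map_mul, ← hc, hrr]

lemma monomial_mem {I : Ideal (MvPolynomial (Fin 2) k)} {a b : ℕ}
    (ha : (X 0 : MvPolynomial (Fin 2) k) ^ a ∈ I) (hb : (X 1 : MvPolynomial (Fin 2) k) ^ b ∈ I)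
    {P : MvPolynomial (Fin 2) k} {m : ℕ} (hP : P.IsHomogeneous m) (hm : a + b ≤ m) : P ∈ I := by
  rw [P.as_sum]
  apply Ideal.sum_mem
  intro e he
  have hdeg : e 0 + e 1 = m := by
    have h1 := hP (mem_support_iff.1 he)
    have h2 : e.degree = m := by
      rw [Finsupp.degree_eq_weight_one]
      exact h1
    rw [Finsupp.degree_eq_sum, Fin.sum_univ_two] at h2
    exact h2
  have hmon : monomial e (coeff e P) = C (coeff e P) * (X 0 ^ e 0 * X 1 ^ e 1) := by
    rw [monomial_eq, Finsupp.prod_fintype _ _ (fun i => pow_zero _), Fin.prod_univ_two]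
  rw [hmon]
  by_cases h : a ≤ e 0
  · have : (X 0 : MvPolynomial (Fin 2) k) ^ e 0 = X 0 ^ a * X 0 ^ (e 0 - a) := by
      rw [← pow_add]
      congr 1
      omega
    rw [this]
    convert I.mul_mem_left (C (coeff e P) * X 0 ^ (e 0 - a) * X 1 ^ e 1) ha using 1
    ring
  · have hb' : b ≤ e 1 := by omega
    have : (X 1 : MvPolynomial (Fin 2) k) ^ e 1 = X 1 ^ b * X 1 ^ (e 1 - b) := by
      rw [← pow_add]
      congr 1
      omega
    rw [this]
    convert I.mul_mem_left (C (coeff e P) * X 0 ^ e 0 * X 1 ^ (e 1 - b)) hb using 1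
    ring

theorem s17078 [IsAlgClosed k] {n : ℕ} (F : Fin n → MvPolynomial (Fin 2) k)
    (d : ℕ) (hF : ∀ i, (F i).IsHomogeneous d) :
    (¬ ∃ H : MvPolynomial (Fin 2) k, ¬ IsUnit H ∧ ∀ i, H ∣ F i) ↔
      ∃ m : ℕ, d ≤ m ∧ ∀ P : MvPolynomial (Fin 2) k, P.IsHomogeneous m →
        ∃ G : Fin n → MvPolynomial (Fin 2) k, (∀ i, (G i).IsHomogeneous (m - d)) ∧
          P = ∑ i, F i * G i := by
  constructor
  · intro hno
    obtain ⟨I, hI⟩ : ∃ I : Ideal (MvPolynomial (Fin 2) k), I = Ideal.span (Set.range F) :=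
      ⟨_, rfl⟩
    -- common zeros are trivial
    have hzero : ∀ x : Fin 2 → k, x ∈ zeroLocus k I → x = 0 := by
      intro x hx
      by_contra hx0
      have hall : ∀ i, eval x (F i) = 0 := by
        intro i
        have := hx (F i) (by rw [hI]; exact Ideal.subset_span ⟨i, rfl⟩)
        rw [aeval_eq_eval] at this
        exact this
      obtain ⟨L, hL1, hL0, hLd⟩ := linear_factor x hx0
      exact hno ⟨L, not_isUnit_of_hom one_pos hL1 hL0, fun i => hLd (F i) d (hF i) (hall i)⟩
    have hrad : ∀ j : Fin 2, (X j : MvPolynomial (Fin 2) k) ∈ I.radical := by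
      intro j
      rw [← vanishingIdeal_zeroLocus_eq_radical (K := k), mem_vanishingIdeal_iff]
      intro x hx
      rw [hzero x hx, aeval_X]
      rfl
    obtain ⟨a, ha⟩ := hrad 0
    obtain ⟨b, hb⟩ := hrad 1
    refine ⟨max d (a + b), le_max_left _ _, fun P hP => ?_⟩
    have hPI : P ∈ I := monomial_mem ha hb hP (le_max_right _ _)
    rw [hI] at hPI
    obtain ⟨c, hc⟩ := (Ideal.mem_span_range_iff_exists_fun).1 hPI
    refine ⟨fun i => homogeneousComponent (max d (a + b) - d) (c i),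
      fun i => homogeneousComponent_isHomogeneous _ _, ?_⟩
    have h1 : homogeneousComponent (max d (a + b)) P = P :=
      homogeneousComponent_eq_self ((mem_homogeneousSubmodule _ _).2 hP)
    rw [← h1, ← hc, map_sum]
    apply Finset.sum_congr rfl
    intro i _
    rw [mul_comm (c i) (F i)]
    exact Groth.Agent.S12915.hc_mul_gen (F i) (c i) d _ (hF i) (le_max_left _ _)
  · rintro ⟨m, hdm, hsurj⟩ ⟨H, hHu, hHd⟩
    apply hHu
    have hdvd : ∀ P : MvPolynomial (Fin 2) k, P.IsHomogeneous m → H ∣ P := by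
      intro P hP
      obtain ⟨G, _, hG⟩ := hsurj P hP
      rw [hG]
      exact Finset.dvd_sum (fun i _ => Dvd.dvd.mul_right (hHd i) _)
    have h0 := hdvd (X 0 ^ m) (isHomogeneous_X_pow _ _)
    have h1 := hdvd (X 1 ^ m) (isHomogeneous_X_pow _ _)
    have hrel : IsRelPrime (X 0 : MvPolynomial (Fin 2) k) (X 1) := by
      rw [Irreducible.isRelPrime_iff_not_dvd (X_prime (i := (0 : Fin 2))).irreducible]
      rintro ⟨q, hq⟩
      have := congrArg (eval ![(0 : k), 1]) hq
      simp at this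
    exact (hrel.pow (m := m) (n := m)) h0 h1

end Groth.Agent.Helper17.BinF
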