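import Groth.Prelude.Def_W4c2arithlefschetzGraph
import Mathlib

set_option autoImplicit false

namespace Groth.Agent.Helper17.BG

open ArLef ArLef.BlowupGraph Matrix

variable {n : ℕ} (G : BlowupGraph n)

theorem tt_rec (k m : Fin n) :
    G.tt k m = if m < k then 0 else if m = k then 1 else ∑ p ∈ G.par m, G.tt k p := by
  show G.ttN k.1 m.1 = _
  rw [BlowupGraph.ttN]
  by_cases h1 : m < k
  · have h1' : m.1 < k.1 := h1
    rw [if_pos h1, if_pos h1']
  · have h1' : ¬ m.1 < k.1 := h1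
    rw [if_neg h1, if_neg h1']
    by_cases h2 : m = k
    · have h2' : m.1 = k.1 := by rw [h2]
      rw [if_pos h2, if_pos h2']
    · have h2' : ¬ m.1 = k.1 := fun h => h2 (Fin.ext h)
      rw [if_neg h2, if_neg h2']
      rw [Finset.sum_attach (G.parN m.1) (fun p => G.ttN k.1 p)]
      unfold BlowupGraph.parN
      rw [dif_pos m.2, Finset.sum_map]
      rfl

/-- stage-`s` adjacency -/
def AdjS (s : ℕ) (p q : Fin n) : Prop :=
  (p ∈ G.par q ∧ ∀ m : Fin n, q < m → m.1 < s → G.par m ≠ {p, q}) ∨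
  (q ∈ G.par p ∧ ∀ m : Fin n, p < m → m.1 < s → G.par m ≠ {q, p})

instance (s : ℕ) (p q : Fin n) : Decidable (AdjS G s p q) := by
  unfold AdjS; infer_instance

/-- stage-`s` intersection matrix -/
def matS (s : ℕ) : Matrix (Fin n) (Fin n) ℚ := fun p q =>
  if p = q then -1 - ((Finset.univ.filter fun m : Fin n => m.1 < s ∧ p ∈ G.par m).card : ℚ)
  else if AdjS G s p q then 1 else 0

def chi (e p : Fin n) : ℚ := if p ∈ G.par e then 1 else 0

theorem adjS_n (p q : Fin n) : AdjS G n p q ↔ G.Adj p q := by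
  unfold AdjS BlowupGraph.Adj
  constructor
  · rintro (⟨h1, h2⟩ | ⟨h1, h2⟩)
    · exact Or.inl ⟨h1, fun m hm => h2 m hm m.2⟩
    · exact Or.inr ⟨h1, fun m hm => h2 m hm m.2⟩
  · rintro (⟨h1, h2⟩ | ⟨h1, h2⟩)
    · exact Or.inl ⟨h1, fun m hm _ => h2 m hm⟩
    · exact Or.inr ⟨h1, fun m hm _ => h2 m hm⟩

theorem par_eq_pair_iff (e p q : Fin n) (hpq : p ≠ q) :
    G.par e = {p, q} ↔ (p ∈ G.par e ∧ q ∈ G.par e) := by
  constructor
  · intro h; rw [h]; simp
  · rintro ⟨hp, hq⟩
    symm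
    apply Finset.eq_of_subset_of_card_le
    · intro x hx
      rw [Finset.mem_insert, Finset.mem_singleton] at hx
      rcases hx with rfl | rfl <;> assumption
    · rw [Finset.card_pair hpq]; exact G.card_le_two e

theorem adjS_of_pair (e p q : Fin n) (hpair : G.par e = {p, q}) (hpq : p ≠ q) :
    AdjS G e.1 p q := by
  obtain ⟨hp, hq⟩ := (par_eq_pair_iff G e p q hpq).1 hpair
  rcases lt_or_gt_of_ne hpq with hlt | hlt
  · obtain ⟨h1, h2⟩ := G.meet_of_two e p q hp hq hlt
    exact Or.inl ⟨h1, fun m hqm hms => h2 m hqm hms⟩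
  · obtain ⟨h1, h2⟩ := G.meet_of_two e q p hq hp hlt
    exact Or.inr ⟨h1, fun m hqm hms => h2 m hqm hms⟩

theorem adjS_succ (e p q : Fin n) (hp : p < e) (hq : q < e) :
    AdjS G (e.1 + 1) p q ↔ AdjS G e.1 p q ∧ G.par e ≠ {p, q} := by
  constructor
  · rintro (⟨h1, h2⟩ | ⟨h1, h2⟩)
    · exact ⟨Or.inl ⟨h1, fun m hm hms => h2 m hm (Nat.lt_succ_of_lt hms)⟩,
        h2 e hq (Nat.lt_succ_self _)⟩
    · refine ⟨Or.inr ⟨h1, fun m hm hms => h2 m hm (Nat.lt_succ_of_lt hms)⟩, ?_⟩
      rw [Finset.pair_comm]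
      exact h2 e hp (Nat.lt_succ_self _)
  · rintro ⟨(⟨h1, h2⟩ | ⟨h1, h2⟩), h3⟩
    · refine Or.inl ⟨h1, fun m hm hms => ?_⟩
      rcases Nat.lt_succ_iff_lt_or_eq.mp hms with h | h
      · exact h2 m hm h
      · have hme : m = e := Fin.ext h
        rw [hme]; exact h3
    · refine Or.inr ⟨h1, fun m hm hms => ?_⟩
      rcases Nat.lt_succ_iff_lt_or_eq.mp hms with h | h
      · exact h2 m hm h
      · have hme : m = e := Fin.ext h
        rw [hme, Finset.pair_comm]; exact h3

theorem filter_succ (e p : Fin n) :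
    (Finset.univ.filter fun m : Fin n => m.1 < e.1 + 1 ∧ p ∈ G.par m) =
      if p ∈ G.par e then
        insert e (Finset.univ.filter fun m : Fin n => m.1 < e.1 ∧ p ∈ G.par m)
      else (Finset.univ.filter fun m : Fin n => m.1 < e.1 ∧ p ∈ G.par m) := by
  split_ifs with h
  · ext m
    simp only [Finset.mem_filter, Finset.mem_univ, true_and, Finset.mem_insert]
    constructor
    · rintro ⟨h1, h2⟩
      rcases Nat.lt_succ_iff_lt_or_eq.mp h1 with h1 | h1
      · exact Or.inr ⟨h1, h2⟩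
      · exact Or.inl (Fin.ext h1)
    · rintro (hme | ⟨h1, h2⟩)
      · rw [hme]; exact ⟨Nat.lt_succ_self _, h⟩
      · exact ⟨Nat.lt_succ_of_lt h1, h2⟩
  · ext m
    simp only [Finset.mem_filter, Finset.mem_univ, true_and]
    constructor
    · rintro ⟨h1, h2⟩
      rcases Nat.lt_succ_iff_lt_or_eq.mp h1 with h1 | h1
      · exact ⟨h1, h2⟩
      · have hme : m = e := Fin.ext h1
        rw [hme] at h2
        exact absurd h2 h
    · rintro ⟨h1, h2⟩
      exact ⟨Nat.lt_succ_of_lt h1, h2⟩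

theorem matS_succ_lt (e p q : Fin n) (hp : p < e) (hq : q < e) :
    matS G (e.1 + 1) p q = matS G e.1 p q - chi G e p * chi G e q := by
  unfold matS chi
  by_cases hpq : p = q
  · subst hpq
    rw [if_pos rfl, if_pos rfl, filter_succ]
    by_cases h : p ∈ G.par e
    · rw [if_pos h, if_pos h, Finset.card_insert_of_notMem]
      · push_cast; ring
      · simp
    · rw [if_neg h, if_neg h]; ring
  · rw [if_neg hpq, if_neg hpq]
    by_cases hpair : G.par e = {p, q}
    · have h1 : ¬ AdjS G (e.1 + 1) p q := fun h => ((adjS_succ G e p q hp hq).1 h).2 hpair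
      have h2 : AdjS G e.1 p q := adjS_of_pair G e p q hpair hpq
      obtain ⟨h3, h4⟩ := (par_eq_pair_iff G e p q hpq).1 hpair
      rw [if_neg h1, if_pos h2, if_pos h3, if_pos h4]; ring
    · have h1 : AdjS G (e.1 + 1) p q ↔ AdjS G e.1 p q := by
        rw [adjS_succ G e p q hp hq]; exact and_iff_left hpair
      have h5 : ¬ (p ∈ G.par e ∧ q ∈ G.par e) :=
        fun h => hpair ((par_eq_pair_iff G e p q hpq).2 h)
      have h6 : (if p ∈ G.par e then (1:ℚ) else 0) * (if q ∈ G.par e then (1:ℚ) else 0) = 0 := by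
        by_cases h7 : p ∈ G.par e
        · have h8 : q ∉ G.par e := fun h => h5 ⟨h7, h⟩
          rw [if_neg h8, mul_zero]
        · rw [if_neg h7, zero_mul]
      rw [h6, sub_zero]
      by_cases h9 : AdjS G e.1 p q
      · rw [if_pos h9, if_pos (h1.2 h9)]
      · rw [if_neg h9, if_neg (fun h => h9 (h1.1 h))]

theorem matS_succ_right (e p : Fin n) (hp : p < e) : matS G (e.1 + 1) p e = chi G e p := by
  unfold matS chi
  rw [if_neg (ne_of_lt hp)]
  have h : AdjS G (e.1 + 1) p e ↔ p ∈ G.par e := by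
    constructor
    · rintro (⟨h1, _⟩ | ⟨h1, _⟩)
      · exact h1
      · exact absurd (G.par_lt p e h1) (not_lt.mpr hp.le)
    · intro h1
      refine Or.inl ⟨h1, fun m hm hms => ?_⟩
      have : e.1 < m.1 := hm
      omega
  by_cases h1 : p ∈ G.par e
  · rw [if_pos h1, if_pos (h.2 h1)]
  · rw [if_neg h1, if_neg (fun h' => h1 (h.1 h'))]

theorem matS_succ_left (e q : Fin n) (hq : q < e) : matS G (e.1 + 1) e q = chi G e q := by
  unfold matS chi
  rw [if_neg (ne_of_gt hq)]
  have h : AdjS G (e.1 + 1) e q ↔ q ∈ G.par e := by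
    constructor
    · rintro (⟨h1, _⟩ | ⟨h1, _⟩)
      · exact absurd (G.par_lt q e h1) (not_lt.mpr hq.le)
      · exact h1
    · intro h1
      refine Or.inr ⟨h1, fun m hm hms => ?_⟩
      have : e.1 < m.1 := hm
      omega
  by_cases h1 : q ∈ G.par e
  · rw [if_pos h1, if_pos (h.2 h1)]
  · rw [if_neg h1, if_neg (fun h' => h1 (h.1 h'))]

theorem matS_succ_self (e : Fin n) : matS G (e.1 + 1) e e = -1 := by
  unfold matS
  rw [if_pos rfl]
  have : (Finset.univ.filter fun m : Fin n => m.1 < e.1 + 1 ∧ e ∈ G.par m) = ∅ := by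
    rw [Finset.filter_eq_empty_iff]
    rintro m _ ⟨h1, h2⟩
    have : e.1 < m.1 := G.par_lt m e h2
    omega
  rw [this]; simp

def cvec (s : ℕ) (k : Fin n) : Fin n → ℚ := fun m => if m.1 < s then (G.tt k m : ℚ) else 0

def SuppLt (s : ℕ) (v : Fin n → ℚ) : Prop := ∀ m : Fin n, s ≤ m.1 → v m = 0

theorem suppLt_cvec (s : ℕ) (k : Fin n) : SuppLt s (cvec G s k) :=
  fun m hm => if_neg (not_lt.mpr hm)

theorem sum_mul_chi (e : Fin n) (f : Fin n → ℚ) :
    ∑ p, f p * chi G e p = ∑ p ∈ G.par e, f p := by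
  unfold chi
  simp only [mul_ite, mul_one, mul_zero]
  rw [Fintype.sum_ite_mem]

theorem cvec_succ_lt (e k : Fin n) (hk : k < e) :
    cvec G (e.1 + 1) k =
      cvec G e.1 k + (∑ p, cvec G e.1 k p * chi G e p) • (Pi.single e (1:ℚ)) := by
  have hmu : (∑ p, cvec G e.1 k p * chi G e p) = (G.tt k e : ℚ) := by
    rw [sum_mul_chi, tt_rec G k e, if_neg (not_lt.mpr hk.le), if_neg (ne_of_gt hk)]
    push_cast
    refine Finset.sum_congr rfl (fun p hp => ?_)
    unfold cvec
    have hp' : p.1 < e.1 := G.par_lt e p hp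
    rw [if_pos hp']
  rw [hmu]
  funext m
  simp only [Pi.add_apply, Pi.smul_apply, smul_eq_mul, Pi.single_apply]
  unfold cvec
  by_cases h1 : m.1 < e.1
  · have h3 : m ≠ e := fun h => by rw [h] at h1; exact lt_irrefl _ h1
    rw [if_pos h1, if_pos (Nat.lt_succ_of_lt h1), if_neg h3]; ring
  · by_cases h2 : m = e
    · subst h2
      rw [if_neg h1, if_pos (Nat.lt_succ_self _), if_pos rfl]; ring
    · have h3 : ¬ m.1 < e.1 + 1 := by
        intro h; rcases Nat.lt_succ_iff_lt_or_eq.mp h with h | h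
        · exact h1 h
        · exact h2 (Fin.ext h)
      rw [if_neg h1, if_neg h3, if_neg h2]; ring

theorem cvec_succ_self (e : Fin n) : cvec G (e.1 + 1) e = Pi.single e (1:ℚ) := by
  funext m
  unfold cvec
  rw [Pi.single_apply]
  by_cases h2 : m = e
  · subst h2
    rw [if_pos (Nat.lt_succ_self _), if_pos rfl, tt_rec, if_neg (lt_irrefl _), if_pos rfl]; simp
  · rw [if_neg h2]
    by_cases h1 : m.1 < e.1 + 1
    · have h3 : m < e := by
        rcases Nat.lt_succ_iff_lt_or_eq.mp h1 with h | h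
        · exact h
        · exact absurd (Fin.ext h) h2
      rw [if_pos h1, tt_rec, if_pos h3]; simp
    · rw [if_neg h1]

def Bf (s : ℕ) (v w : Fin n → ℚ) : ℚ := v ⬝ᵥ (matS G s *ᵥ w)

theorem Bf_eq_sum (s : ℕ) (v w : Fin n → ℚ) :
    Bf G s v w = ∑ p, ∑ q, v p * matS G s p q * w q := by
  unfold Bf dotProduct mulVec dotProduct
  refine Finset.sum_congr rfl (fun p _ => ?_)
  rw [Finset.mul_sum]
  refine Finset.sum_congr rfl (fun q _ => ?_)
  ring

theorem Bf_succ (e : Fin n) (v w : Fin n → ℚ) (hv : SuppLt e.1 v) (hw : SuppLt e.1 w) :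
    Bf G (e.1 + 1) v w =
      Bf G e.1 v w - (∑ p, v p * chi G e p) * (∑ q, w q * chi G e q) := by
  rw [Bf_eq_sum, Bf_eq_sum, Finset.sum_mul_sum, ← Finset.sum_sub_distrib]
  refine Finset.sum_congr rfl (fun p _ => ?_)
  rw [← Finset.sum_sub_distrib]
  refine Finset.sum_congr rfl (fun q _ => ?_)
  by_cases hp : p.1 < e.1
  · by_cases hq : q.1 < e.1
    · rw [matS_succ_lt G e p q hp hq]; ring
    · rw [hw q (not_lt.mp hq)]; ring
  · rw [hv p (not_lt.mp hp)]; ring

theorem Bf_single_left (e : Fin n) (w : Fin n → ℚ) (hw : SuppLt e.1 w) :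
    Bf G (e.1 + 1) (Pi.single e 1) w = ∑ q, w q * chi G e q := by
  rw [Bf_eq_sum, Finset.sum_eq_single e]
  · refine Finset.sum_congr rfl (fun q _ => ?_)
    by_cases hq : q.1 < e.1
    · rw [matS_succ_left G e q hq, Pi.single_eq_same]; ring
    · rw [hw q (not_lt.mp hq)]; ring
  · intro p _ hp
    refine Finset.sum_eq_zero (fun q _ => ?_)
    rw [Pi.single_eq_of_ne hp]; ring
  · intro h; exact absurd (Finset.mem_univ e) h

theorem Bf_single_right (e : Fin n) (v : Fin n → ℚ) (hv : SuppLt e.1 v) :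
    Bf G (e.1 + 1) v (Pi.single e 1) = ∑ p, v p * chi G e p := by
  rw [Bf_eq_sum]
  refine Finset.sum_congr rfl (fun p _ => ?_)
  rw [Finset.sum_eq_single e]
  · by_cases hp : p.1 < e.1
    · rw [matS_succ_right G e p hp, Pi.single_eq_same]; ring
    · rw [hv p (not_lt.mp hp)]; ring
  · intro q _ hq
    rw [Pi.single_eq_of_ne hq]; ring
  · intro h; exact absurd (Finset.mem_univ e) h

theorem Bf_single_single (e : Fin n) :
    Bf G (e.1 + 1) (Pi.single e 1) (Pi.single e 1) = -1 := by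
  rw [Bf_eq_sum, Finset.sum_eq_single e]
  · rw [Finset.sum_eq_single e]
    · rw [matS_succ_self, Pi.single_eq_same]; ring
    · intro q _ hq
      rw [Pi.single_eq_of_ne hq]; ring
    · intro h; exact absurd (Finset.mem_univ e) h
  · intro p _ hp
    refine Finset.sum_eq_zero (fun q _ => ?_)
    rw [Pi.single_eq_of_ne hp]; ring
  · intro h; exact absurd (Finset.mem_univ e) h

theorem Bf_add_smul_left (s : ℕ) (v x w : Fin n → ℚ) (a : ℚ) :
    Bf G s (v + a • x) w = Bf G s v w + a * Bf G s x w := by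
  unfold Bf
  rw [add_dotProduct, smul_dotProduct, smul_eq_mul]

theorem Bf_add_smul_right (s : ℕ) (v w y : Fin n → ℚ) (b : ℚ) :
    Bf G s v (w + b • y) = Bf G s v w + b * Bf G s v y := by
  unfold Bf
  rw [mulVec_add, mulVec_smul, dotProduct_add, dotProduct_smul, smul_eq_mul]

theorem key (s : ℕ) (hs : s ≤ n) : ∀ k l : Fin n, k.1 < s → l.1 < s →
    Bf G s (cvec G s k) (cvec G s l) = if k = l then -1 else 0 := by
  induction s with
  | zero => intro k l hk; exact absurd hk (Nat.not_lt_zero _)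
  | succ s ih =>
    have ih' := ih (Nat.le_of_succ_le hs)
    intro k l hk hl
    obtain ⟨e, he⟩ : ∃ e : Fin n, e.1 = s := ⟨⟨s, hs⟩, rfl⟩
    subst he
    rcases Nat.lt_succ_iff_lt_or_eq.mp hk with hk' | hk'
    · rcases Nat.lt_succ_iff_lt_or_eq.mp hl with hl' | hl'
      · rw [cvec_succ_lt G e k hk', cvec_succ_lt G e l hl', Bf_add_smul_left,
          Bf_add_smul_right, Bf_add_smul_right,
          Bf_succ G e _ _ (suppLt_cvec G _ _) (suppLt_cvec G _ _),
          Bf_single_right G e _ (suppLt_cvec G _ _), Bf_single_left G e _ (suppLt_cvec G _ _),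
          Bf_single_single, ih' k l hk' hl']
        ring
      · have hle : l = e := Fin.ext hl'
        have hne : k ≠ e := fun h => by rw [h] at hk'; exact lt_irrefl _ hk'
        rw [hle, cvec_succ_lt G e k hk', cvec_succ_self G e, Bf_add_smul_left,
          Bf_single_right G e _ (suppLt_cvec G _ _), Bf_single_single, if_neg hne]
        ring
    · have hke : k = e := Fin.ext hk'
      rcases Nat.lt_succ_iff_lt_or_eq.mp hl with hl' | hl'
      · have hne : e ≠ l := fun h => by rw [← h] at hl'; exact lt_irrefl _ hl'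
        rw [hke, cvec_succ_lt G e l hl', cvec_succ_self G e, Bf_add_smul_right,
          Bf_single_left G e _ (suppLt_cvec G _ _), Bf_single_single, if_neg hne]
        ring
      · have hle : l = e := Fin.ext hl'
        rw [hke, hle, cvec_succ_self G e, Bf_single_single, if_pos rfl]

theorem cvec_n (k : Fin n) : cvec G n k = fun m => (G.tt k m : ℚ) := by
  funext m; unfold cvec; rw [if_pos m.2]

theorem matS_n : matS G n = G.mat := by
  funext p q
  unfold matS BlowupGraph.mat BlowupGraph.selfInt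
  by_cases hpq : p = q
  · subst hpq
    rw [if_pos rfl, if_pos rfl]
    have : (Finset.univ.filter fun m : Fin n => m.1 < n ∧ p ∈ G.par m) =
        Finset.univ.filter fun m : Fin n => p ∈ G.par m := by
      ext m; simp [m.2]
    rw [this]; push_cast; ring
  · rw [if_neg hpq, if_neg hpq]
    by_cases h : G.Adj p q
    · rw [if_pos h, if_pos ((adjS_n G p q).2 h)]
    · rw [if_neg h, if_neg (fun h' => h ((adjS_n G p q).1 h'))]

/-- The matrix of total transforms. -/
def Tm : Matrix (Fin n) (Fin n) ℚ := fun k m => (G.tt k m : ℚ)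

theorem Tm_mul : Tm G * G.mat * (Tm G)ᵀ = -1 := by
  ext k l
  have h := key G n le_rfl k l k.2 l.2
  rw [cvec_n, cvec_n, Bf_eq_sum, matS_n] at h
  rw [Matrix.neg_apply, Matrix.one_apply]
  simp only [Matrix.mul_apply, Matrix.transpose_apply, Finset.sum_mul]
  rw [Finset.sum_comm]
  refine Eq.trans ?_ (h.trans ?_)
  · rfl
  · split_ifs <;> simp

def Nm : Matrix (Fin n) (Fin n) ℚ := -((Tm G)ᵀ * Tm G)

theorem Nm_apply (i j : Fin n) : Nm G i j = -(G.mult i j : ℚ) := by
  unfold Nm BlowupGraph.mult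
  rw [Matrix.neg_apply, Matrix.mul_apply]
  push_cast
  rfl

theorem mat_mul_Nm : G.mat * Nm G = 1 := by
  have h := Tm_mul G
  have h1 : Tm G * (-(G.mat * (Tm G)ᵀ)) = 1 := by
    rw [Matrix.mul_neg, ← Matrix.mul_assoc, h, neg_neg]
  have h2 : (-(G.mat * (Tm G)ᵀ)) * Tm G = 1 := mul_eq_one_comm.1 h1
  unfold Nm
  rw [Matrix.mul_neg, ← Matrix.mul_assoc, ← Matrix.neg_mul]
  exact h2

theorem Nm_mul_mat : Nm G * G.mat = 1 := mul_eq_one_comm.1 (mat_mul_Nm G)

theorem Nm_symm (i j : Fin n) : Nm G i j = Nm G j i := by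
  rw [Nm_apply, Nm_apply]
  congr 2
  unfold BlowupGraph.mult
  exact Finset.sum_congr rfl (fun k _ => mul_comm _ _)

theorem eq_zero_of_form (w : Fin n → ℚ) (hw : w ⬝ᵥ (G.mat *ᵥ w) = 0) : w = 0 := by
  have h1 : (Tm G)ᵀ * (-(Tm G * G.mat)) = 1 := by
    have := Nm_mul_mat G
    unfold Nm at this
    rw [Matrix.neg_mul, Matrix.mul_assoc] at this
    rw [Matrix.mul_neg]; exact this
  obtain ⟨u, hu⟩ : ∃ u, w = (Tm G)ᵀ *ᵥ u :=
    ⟨(-(Tm G * G.mat)) *ᵥ w, by rw [Matrix.mulVec_mulVec, h1, Matrix.one_mulVec]⟩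
  subst hu
  have h3 : ((Tm G)ᵀ *ᵥ u) ⬝ᵥ (G.mat *ᵥ ((Tm G)ᵀ *ᵥ u)) = -(u ⬝ᵥ u) := by
    calc ((Tm G)ᵀ *ᵥ u) ⬝ᵥ (G.mat *ᵥ ((Tm G)ᵀ *ᵥ u))
        = (u ᵥ* Tm G) ⬝ᵥ ((G.mat * (Tm G)ᵀ) *ᵥ u) := by
          rw [Matrix.mulVec_mulVec, Matrix.mulVec_transpose]
      _ = u ⬝ᵥ (Tm G *ᵥ ((G.mat * (Tm G)ᵀ) *ᵥ u)) := (Matrix.dotProduct_mulVec _ _ _).symm
      _ = u ⬝ᵥ ((Tm G * G.mat * (Tm G)ᵀ) *ᵥ u) := by
          rw [Matrix.mulVec_mulVec, Matrix.mul_assoc]
      _ = -(u ⬝ᵥ u) := by
          rw [Tm_mul, Matrix.neg_mulVec, Matrix.one_mulVec, dotProduct_neg]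
  rw [h3, neg_eq_zero, dotProduct_self_eq_zero] at hw
  rw [hw, Matrix.mulVec_zero]

theorem isUnit_sub (I : Finset (Fin n)) :
    IsUnit (G.mat.submatrix (fun x : I => x.1) (fun x : I => x.1)) := by
  rw [← Matrix.mulVec_injective_iff_isUnit]
  have key : ∀ v : I → ℚ,
      (G.mat.submatrix (fun x : I => x.1) (fun x : I => x.1)) *ᵥ v = 0 → v = 0 := by
    intro v hv
    let w : Fin n → ℚ := fun x => if h : x ∈ I then v ⟨x, h⟩ else 0
    have hw1 : ∀ a : I, w a.1 = v a := fun a => by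
      show (if h : a.1 ∈ I then v ⟨a.1, h⟩ else 0) = v a
      rw [dif_pos a.2]
    have hw2 : ∀ x : Fin n, x ∉ I → w x = 0 := fun x hx => by
      show (if h : x ∈ I then v ⟨x, h⟩ else 0) = 0
      rw [dif_neg hx]
    have hsum : ∀ f : Fin n → ℚ, ∑ x, w x * f x = ∑ a : I, v a * f a.1 := by
      intro f
      calc ∑ x, w x * f x = ∑ x ∈ I, w x * f x :=
            (Finset.sum_subset (Finset.subset_univ I)
              (fun x _ hx => by rw [hw2 x hx, zero_mul])).symm
        _ = ∑ a : I, w a.1 * f a.1 := (Finset.sum_coe_sort I (fun x => w x * f x)).symm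
        _ = ∑ a : I, v a * f a.1 := Finset.sum_congr rfl (fun a _ => by rw [hw1 a])
    have hw : w ⬝ᵥ (G.mat *ᵥ w) = 0 := by
      unfold dotProduct
      rw [hsum]
      refine Finset.sum_eq_zero (fun a _ => ?_)
      have h4 : (G.mat *ᵥ w) a.1 =
          (G.mat.submatrix (fun x : I => x.1) (fun x : I => x.1) *ᵥ v) a := by
        unfold Matrix.mulVec dotProduct
        have h5 := hsum (fun y => G.mat a.1 y)
        simp only [Matrix.submatrix_apply]
        rw [Finset.sum_congr rfl (fun y _ => mul_comm (G.mat a.1 y) (w y)), h5]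
        exact Finset.sum_congr rfl (fun b _ => mul_comm _ _)
      rw [h4, hv]; simp
    have hw0 := eq_zero_of_form G w hw
    funext a
    rw [← hw1 a, hw0]; rfl
  intro v v' h
  have := key (v - v') (by rw [Matrix.mulVec_sub, h, sub_self])
  exact sub_eq_zero.mp this

theorem submatrix_mul_split (I : Finset (Fin n)) {α β : Type*}
    (X Y : Matrix (Fin n) (Fin n) ℚ) (f : α → Fin n) (g : β → Fin n) :
    (X * Y).submatrix f g =
      X.submatrix f (fun x : {x // x ∈ I} => x.1) * Y.submatrix (fun x : {x // x ∈ I} => x.1) g +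
      X.submatrix f (fun x : {x // x ∉ I} => x.1) *
        Y.submatrix (fun x : {x // x ∉ I} => x.1) g := by
  ext a b
  simp only [Matrix.submatrix_apply, Matrix.mul_apply, Matrix.add_apply]
  rw [Finset.sum_coe_sort I (fun k => X (f a) k * Y k (g b)),
    ← Finset.sum_subtype Iᶜ (fun x => Finset.mem_compl) (fun k => X (f a) k * Y k (g b)),
    Finset.sum_add_sum_compl]

theorem schur_mul (I : Finset (Fin n)) :
    (G.mat.submatrix (fun x : {x // x ∉ I} => x.1) (fun x : {x // x ∉ I} => x.1) -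
      G.mat.submatrix (fun x : {x // x ∉ I} => x.1) (fun x : I => x.1) *
        (G.mat.submatrix (fun x : I => x.1) (fun x : I => x.1))⁻¹ *
        G.mat.submatrix (fun x : I => x.1) (fun x : {x // x ∉ I} => x.1)) *
      (Nm G).submatrix (fun x : {x // x ∉ I} => x.1) (fun x : {x // x ∉ I} => x.1) = 1 := by
  have hMN := mat_mul_Nm G
  have h1 := submatrix_mul_split I G.mat (Nm G) (fun x : {x // x ∉ I} => x.1)
    (fun x : {x // x ∉ I} => x.1)
  rw [hMN, Matrix.submatrix_one _ Subtype.val_injective] at h1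
  have h2 := submatrix_mul_split I G.mat (Nm G) (fun x : I => x.1)
    (fun x : {x // x ∉ I} => x.1)
  rw [hMN] at h2
  have h2' : (1 : Matrix (Fin n) (Fin n) ℚ).submatrix (fun x : I => x.1)
      (fun x : {x // x ∉ I} => x.1) = 0 := by
    ext a b
    rw [Matrix.submatrix_apply, Matrix.zero_apply]
    apply Matrix.one_apply_ne
    intro h; exact b.2 (h ▸ a.2)
  rw [h2'] at h2
  have hA : (G.mat.submatrix (fun x : I => x.1) (fun x : I => x.1))⁻¹ *
      G.mat.submatrix (fun x : I => x.1) (fun x : I => x.1) = 1 :=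
    Matrix.nonsing_inv_mul _ ((Matrix.isUnit_iff_isUnit_det _).1 (isUnit_sub G I))
  have h3 : G.mat.submatrix (fun x : I => x.1) (fun x : {x // x ∉ I} => x.1) *
      (Nm G).submatrix (fun x : {x // x ∉ I} => x.1) (fun x : {x // x ∉ I} => x.1) =
      -(G.mat.submatrix (fun x : I => x.1) (fun x : I => x.1) *
        (Nm G).submatrix (fun x : I => x.1) (fun x : {x // x ∉ I} => x.1)) := by
    rw [eq_neg_iff_add_eq_zero, add_comm]; exact h2.symm
  rw [Matrix.sub_mul]
  simp only [Matrix.mul_assoc]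
  rw [h3, Matrix.mul_neg, Matrix.mul_neg, sub_neg_eq_add, ← Matrix.mul_assoc _ _ ((Nm G).submatrix _ _),
    hA, Matrix.one_mul, add_comm]
  exact h1.symm

theorem pairing_eq (I : Finset (Fin n)) (i j : Fin n) :
    G.pairing I i j = G.mat i j -
      ((G.mat.submatrix (fun _ : Unit => i) (fun x : I => x.1)) *
        (G.mat.submatrix (fun x : I => x.1) (fun x : I => x.1))⁻¹ *
        G.mat.submatrix (fun x : I => x.1) (fun _ : Unit => j)) () () := by
  unfold BlowupGraph.pairing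
  congr 1
  simp only [Matrix.mul_apply, Matrix.submatrix_apply, Finset.sum_mul]
  rw [Finset.sum_comm]

theorem final (I : Finset (Fin n)) (σ : Equiv.Perm (Fin n))
    (hσI : ∀ i : Fin n, σ i ∈ I ↔ i ∈ I) :
    G.lNum I σ = BlowupGraph.rNum I σ := by
  have hS : ∀ (i' j : {x // x ∉ I}), G.pairing I i'.1 j.1 =
      (G.mat.submatrix (fun x : {x // x ∉ I} => x.1) (fun x : {x // x ∉ I} => x.1) -
      G.mat.submatrix (fun x : {x // x ∉ I} => x.1) (fun x : I => x.1) *
        (G.mat.submatrix (fun x : I => x.1) (fun x : I => x.1))⁻¹ *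
        G.mat.submatrix (fun x : I => x.1) (fun x : {x // x ∉ I} => x.1)) i' j := by
    intro i' j
    unfold BlowupGraph.pairing
    rw [Matrix.sub_apply, Matrix.submatrix_apply]
    congr 1
    simp only [Matrix.mul_apply, Matrix.submatrix_apply, Finset.sum_mul]
    rw [Finset.sum_comm]
  have hkey : ∀ (i' i : {x // x ∉ I}),
      ∑ j : {x // x ∉ I}, G.pairing I i'.1 j.1 * Nm G j.1 i.1 = if i' = i then 1 else 0 := by
    intro i' i
    have h := congrFun (congrFun (schur_mul G I) i') i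
    rw [Matrix.mul_apply, Matrix.one_apply] at h
    rw [← h]
    exact Finset.sum_congr rfl (fun j _ => by rw [hS i' j, Matrix.submatrix_apply])
  unfold BlowupGraph.lNum BlowupGraph.rNum
  have hinner : ∀ i ∈ Finset.univ.filter (fun i : Fin n => i ∉ I),
      ∑ j ∈ Finset.univ.filter (fun j : Fin n => j ∉ I),
        (G.mult i j : ℚ) * G.pairing I (σ i) j = -(if σ i = i then (1:ℚ) else 0) := by
    intro i hi
    have hi' : i ∉ I := (Finset.mem_filter.1 hi).2
    have hσi : σ i ∉ I := fun h => hi' ((hσI i).1 h)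
    have h := hkey ⟨σ i, hσi⟩ ⟨i, hi'⟩
    rw [← Finset.sum_subtype (Finset.univ.filter (fun j : Fin n => j ∉ I)) (fun x => by simp)
      (fun j => G.pairing I (σ i) j * Nm G j i)] at h
    have h' : (∑ j ∈ Finset.univ.filter (fun j : Fin n => j ∉ I),
        (G.mult i j : ℚ) * G.pairing I (σ i) j) =
        -(∑ j ∈ Finset.univ.filter (fun j : Fin n => j ∉ I),
          G.pairing I (σ i) j * Nm G j i) := by
      rw [← Finset.sum_neg_distrib]
      refine Finset.sum_congr rfl (fun j _ => ?_)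
      rw [Nm_symm G j i, Nm_apply]; ring
    rw [h', h]
    simp [Subtype.ext_iff]
  rw [Finset.sum_congr rfl hinner, Finset.sum_neg_distrib, Finset.sum_boole, Finset.filter_filter]

end Groth.Agent.Helper17.BG
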