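import Mathlib

set_option autoImplicit false
universe u

namespace Groth.Agent.Helper17.CB

open MvPolynomial

theorem s18040 (k : Type u) [Field k] [IsAlgClosed k] [CharZero k]
    (Z : Finset (Projectivization k (Fin 4 → k))) (n : ℕ)
    (hCB : (∀ z ∈ Z, ∀ p : MvPolynomial (Fin 4) k, p.IsHomogeneous n →
      (∀ z' ∈ Z, z' ≠ z → MvPolynomial.eval z'.rep p = 0) → MvPolynomial.eval z.rep p = 0))
    (m : ℕ) (hm : m ≤ n) :
    (∃ s : MvPolynomial (Fin 4) k, s.IsHomogeneous (n - m) ∧ s ≠ 0 ∧ ∀ z ∈ Z, MvPolynomial.eval z.rep s = 0) ∨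
      Module.finrank k (LinearMap.range
          ((LinearMap.pi fun z : ↥Z => (MvPolynomial.aeval (R := k) z.1.rep).toLinearMap) ∘ₗ
            (MvPolynomial.homogeneousSubmodule (Fin 4) k m).subtype)) +
        Module.finrank k ↥(MvPolynomial.homogeneousSubmodule (Fin 4) k (n - m)) ≤ Z.card := by
  classical
  by_cases hex : ∃ s : MvPolynomial (Fin 4) k, s.IsHomogeneous (n - m) ∧ s ≠ 0 ∧
      ∀ z ∈ Z, eval z.rep s = 0
  · exact Or.inl hex
  right
  push Not at hex
  obtain ⟨ev, hev⟩ : ∃ ev : ∀ j : ℕ, homogeneousSubmodule (Fin 4) k j →ₗ[k] (↥Z → k),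
      ∀ j, ev j = (LinearMap.pi fun z : ↥Z => (aeval (R := k) z.1.rep).toLinearMap) ∘ₗ
        (homogeneousSubmodule (Fin 4) k j).subtype := ⟨fun j => _, fun j => rfl⟩
  have hev_apply : ∀ (j : ℕ) (p : homogeneousSubmodule (Fin 4) k j) (z : ↥Z),
      ev j p z = eval z.1.rep p.1 := by
    intro j p z
    rw [hev]
    rfl
  rw [← hev m]
  have hnot : ∀ z : ↥Z, (Pi.single z (1 : k) : ↥Z → k) ∉ LinearMap.range (ev n) := by
    rintro z ⟨p, hp⟩
    have h1 : eval z.1.rep p.1 = 1 := by
      rw [← hev_apply, hp, Pi.single_eq_same]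
    have h0 := hCB z.1 z.2 p.1 ((mem_homogeneousSubmodule _ _).1 p.2) (fun z' hz' hne => by
      have := hev_apply n p ⟨z', hz'⟩
      rw [hp, Pi.single_eq_of_ne (by intro h; exact hne (congrArg Subtype.val h))] at this
      exact this.symm)
    rw [h1] at h0
    exact one_ne_zero h0
  obtain ⟨A, hA⟩ : ∃ A : Submodule k (Module.Dual k (↥Z → k)),
      A = (LinearMap.range (ev n)).dualAnnihilator := ⟨_, rfl⟩
  have hAw : ∀ z : ↥Z, ∃ φ ∈ A, φ (Pi.single z 1) ≠ 0 := by
    intro z
    obtain ⟨f, hf, hf'⟩ := Submodule.exists_dual_map_eq_bot_of_notMem (hnot z) inferInstance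
    refine ⟨f, ?_, hf⟩
    rw [hA, Submodule.mem_dualAnnihilator]
    intro v hv
    have : f v ∈ (LinearMap.range (ev n)).map f := Submodule.mem_map_of_mem hv
    rw [hf'] at this
    exact (Submodule.mem_bot k).1 this
  haveI : Infinite k := Infinite.of_injective (Nat.cast : ℕ → k) Nat.cast_injective
  obtain ⟨φ, hφA, hφ⟩ : ∃ φ ∈ A, ∀ z : ↥Z, φ (Pi.single z 1) ≠ 0 := by
    by_contra hcon
    push Not at hcon
    obtain ⟨p, hp⟩ : ∃ p : ↥Z → Subspace k ↥A, ∀ z, p z = LinearMap.ker
        ((Module.Dual.eval k (↥Z → k) (Pi.single z 1)) ∘ₗ A.subtype) := ⟨fun z => _, fun z => rfl⟩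
    have hmem : ∀ (z : ↥Z) (ψ : ↥A), ψ ∈ p z ↔ ψ.1 (Pi.single z 1) = 0 := by
      intro z ψ
      rw [hp, LinearMap.mem_ker]
      rfl
    have hcov : ⋃ z, (p z : Set ↥A) = Set.univ := by
      apply Set.eq_univ_of_forall
      intro ψ
      obtain ⟨z, hz⟩ := hcon ψ.1 ψ.2
      exact Set.mem_iUnion.2 ⟨z, (hmem z ψ).2 hz⟩
    obtain ⟨z, hz⟩ := Subspace.exists_eq_top_of_iUnion_eq_univ hcov
    obtain ⟨ψ, hψA, hψ⟩ := hAw z
    have : (⟨ψ, hψA⟩ : ↥A) ∈ p z := by
      rw [hz]
      exact Submodule.mem_top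
    exact hψ ((hmem z _).1 this)
  obtain ⟨lam, hlam⟩ : ∃ lam : ↥Z → k, lam = fun z => φ (Pi.single z 1) := ⟨_, rfl⟩
  have hlam0 : ∀ z, lam z ≠ 0 := by
    intro z
    rw [hlam]
    exact hφ z
  have hφsum : ∀ e : ↥Z → k, φ e = ∑ z, e z * lam z := by
    intro e
    rw [LinearMap.pi_apply_eq_sum_univ φ e]
    apply Finset.sum_congr rfl
    intro z _
    rw [hlam, smul_eq_mul]
    congr 2
    funext j
    rw [Pi.single_apply]
    by_cases h : j = z
    · rw [if_pos h, if_pos h.symm]
    · rw [if_neg h, if_neg (fun h' => h h'.symm)]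
  have hortho : ∀ (a : homogeneousSubmodule (Fin 4) k m)
      (b : homogeneousSubmodule (Fin 4) k (n - m)),
      ∑ z, lam z * ev m a z * ev (n - m) b z = 0 := by
    intro a b
    have hab : a.1 * b.1 ∈ homogeneousSubmodule (Fin 4) k n := by
      have := IsHomogeneous.mul ((mem_homogeneousSubmodule _ _).1 a.2)
        ((mem_homogeneousSubmodule _ _).1 b.2)
      rw [Nat.add_sub_cancel' hm] at this
      exact this
    have h1 : φ (ev n ⟨a.1 * b.1, hab⟩) = 0 := by
      rw [hA, Submodule.mem_dualAnnihilator] at hφA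
      exact hφA _ ⟨_, rfl⟩
    rw [hφsum] at h1
    rw [← h1]
    apply Finset.sum_congr rfl
    intro z _
    rw [hev_apply, hev_apply, hev_apply, map_mul]
    ring
  obtain ⟨θ, hθ⟩ : ∃ θ : (↥Z → k) →ₗ[k] Module.Dual k (↥Z → k),
      ∀ e e', θ e e' = ∑ z, lam z * e z * e' z := by
    refine ⟨LinearMap.mk₂ k (fun e e' => ∑ z, lam z * e z * e' z) ?_ ?_ ?_ ?_, fun e e' => rfl⟩
    · intro e₁ e₂ e'
      simp only [Pi.add_apply, mul_add, add_mul, Finset.sum_add_distrib]
    · intro c e e'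
      simp only [Pi.smul_apply, smul_eq_mul, Finset.mul_sum]
      apply Finset.sum_congr rfl
      intro z _
      ring
    · intro e e₁ e₂
      simp only [Pi.add_apply, mul_add, Finset.sum_add_distrib]
    · intro c e e'
      simp only [Pi.smul_apply, smul_eq_mul, Finset.mul_sum]
      apply Finset.sum_congr rfl
      intro z _
      ring
  have hθinj : Function.Injective θ := by
    rw [← LinearMap.ker_eq_bot, Submodule.eq_bot_iff]
    intro e he
    funext z
    have h1 := LinearMap.congr_fun (LinearMap.mem_ker.1 he) (Pi.single z 1)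
    rw [hθ, Finset.sum_eq_single z] at h1
    · rw [Pi.single_eq_same, mul_one, LinearMap.zero_apply] at h1
      rcases mul_eq_zero.1 h1 with h | h
      · exact absurd h (hlam0 z)
      · exact h
    · intro w _ hw
      rw [Pi.single_eq_of_ne hw, mul_zero]
    · intro h
      exact absurd (Finset.mem_univ z) h
  have hle : (LinearMap.range (ev m)).map θ ≤
      (LinearMap.range (ev (n - m))).dualAnnihilator := by
    rintro _ ⟨_, ⟨a, rfl⟩, rfl⟩
    rw [Submodule.mem_dualAnnihilator]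
    rintro _ ⟨b, rfl⟩
    rw [hθ]
    exact hortho a b
  have h1 := Submodule.finrank_mono hle
  have h2 : Module.finrank k ((LinearMap.range (ev m)).map θ) =
      Module.finrank k (LinearMap.range (ev m)) :=
    (Submodule.equivMapOfInjective θ hθinj _).finrank_eq.symm
  have h3 := Subspace.finrank_add_finrank_dualAnnihilator_eq (LinearMap.range (ev (n - m)))
  have h4 : Module.finrank k (LinearMap.range (ev (n - m))) =
      Module.finrank k (homogeneousSubmodule (Fin 4) k (n - m)) := by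
    apply LinearMap.finrank_range_of_inj
    rw [← LinearMap.ker_eq_bot, Submodule.eq_bot_iff]
    intro s hs
    by_contra hs0
    obtain ⟨z, hz, hne⟩ := hex s.1 ((mem_homogeneousSubmodule _ _).1 s.2)
      (fun h => hs0 (Subtype.ext h))
    apply hne
    have := congrFun (LinearMap.mem_ker.1 hs) ⟨z, hz⟩
    rw [hev_apply] at this
    exact this
  have h5 : Module.finrank k (↥Z → k) = Z.card := by
    rw [Module.finrank_fintype_fun_eq_card, Fintype.card_coe]
  omega

end Groth.Agent.Helper17.CB
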