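import Mathlib

open MvPolynomial

namespace Groth.Agent.Helper17.CBLine

universe u
variable {k : Type u} [Field k]

open scoped Classical

/-- polynomial of a functional -/
noncomputable def lp (φ : (Fin 4 → k) →ₗ[k] k) : MvPolynomial (Fin 4) k :=
  ∑ i, C (φ (Pi.single i 1)) * X i

lemma eval_lp (φ : (Fin 4 → k) →ₗ[k] k) (v : Fin 4 → k) : eval v (lp φ) = φ v := by
  unfold lp
  rw [map_sum]
  simp only [map_mul, eval_C, eval_X]
  have hv : v = ∑ i, v i • (Pi.single i 1 : Fin 4 → k) := by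
    ext j
    simp [Finset.sum_apply, Pi.single_apply]
  conv_rhs => rw [hv, map_sum]
  apply Finset.sum_congr rfl
  intro i _
  rw [map_smul, smul_eq_mul, mul_comm]

lemma lp_hom (φ : (Fin 4 → k) →ₗ[k] k) : (lp φ).IsHomogeneous 1 := by
  unfold lp
  apply IsHomogeneous.sum
  intro i _
  exact (isHomogeneous_X _ i).C_mul _

/-- Cayley–Bacharach property -/
def CB (n : ℕ) (Z : Finset (Projectivization k (Fin 4 → k))) : Prop :=
  ∀ z ∈ Z, ∀ p : MvPolynomial (Fin 4) k, p.IsHomogeneous n →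
    (∀ z' ∈ Z, z' ≠ z → eval z'.rep p = 0) → eval z.rep p = 0

/-- residual set with respect to the hyperplane `φ = 0` -/
noncomputable def res (Z : Finset (Projectivization k (Fin 4 → k)))
    (φ : (Fin 4 → k) →ₗ[k] k) : Finset (Projectivization k (Fin 4 → k)) :=
  Z.filter (fun z => φ z.rep ≠ 0)

lemma mem_res {Z : Finset (Projectivization k (Fin 4 → k))} {φ : (Fin 4 → k) →ₗ[k] k}
    {z : Projectivization k (Fin 4 → k)} : z ∈ res Z φ ↔ z ∈ Z ∧ φ z.rep ≠ 0 := by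
  unfold res
  rw [Finset.mem_filter]

lemma res_subset (Z : Finset (Projectivization k (Fin 4 → k))) (φ : (Fin 4 → k) →ₗ[k] k) :
    res Z φ ⊆ Z := fun _ hz => (mem_res.1 hz).1

lemma cb_res {n : ℕ} {Z : Finset (Projectivization k (Fin 4 → k))} (h : CB (n + 1) Z)
    (φ : (Fin 4 → k) →ₗ[k] k) : CB n (res Z φ) := by
  intro z hz p hp hvan
  obtain ⟨hzZ, hφz⟩ := mem_res.1 hz
  have := h z hzZ (p * lp φ) (hp.mul (lp_hom φ)) (by
    intro z' hz' hne
    rw [map_mul, eval_lp]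
    by_cases h0 : φ z'.rep = 0
    · rw [h0, mul_zero]
    · rw [hvan z' (mem_res.2 ⟨hz', h0⟩) hne, zero_mul])
  rw [map_mul, eval_lp] at this
  exact (mul_eq_zero.1 this).resolve_right hφz

lemma sepW (W : Submodule k (Fin 4 → k)) (v : Fin 4 → k) (hv : v ∉ W) :
    ∃ φ : (Fin 4 → k) →ₗ[k] k, φ v ≠ 0 ∧ ∀ y ∈ W, φ y = 0 := by
  obtain ⟨φ, hφ, hφ0⟩ := Submodule.exists_dual_map_eq_bot_of_notMem hv inferInstance
  refine ⟨φ, hφ, fun y hy => ?_⟩
  have : φ y ∈ W.map φ := ⟨y, hy, rfl⟩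
  rw [hφ0, Submodule.mem_bot] at this
  exact this

lemma rep_mem_iff (z : Projectivization k (Fin 4 → k)) (W : Submodule k (Fin 4 → k)) :
    z.submodule ≤ W ↔ z.rep ∈ W := by
  rw [Projectivization.submodule_eq, Submodule.span_singleton_le_iff_mem]

lemma two_le_card {n : ℕ} {Z : Finset (Projectivization k (Fin 4 → k))} (hne : Z.Nonempty)
    (h : CB n Z) : 2 ≤ Z.card := by
  by_contra hlt
  have h1 : Z.card = 1 := by
    have := Finset.card_pos.2 hne
    omega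
  obtain ⟨z, rfl⟩ := Finset.card_eq_one.1 h1
  obtain ⟨φ, hφ, -⟩ := sepW ⊥ z.rep (by
    rw [Submodule.mem_bot]
    exact z.rep_nonzero)
  have := h z (Finset.mem_singleton_self z) ((lp φ) ^ n) (by simpa using (lp_hom φ).pow n)
    (fun z' hz' hne => absurd (Finset.mem_singleton.1 hz') hne)
  rw [map_pow, eval_lp] at this
  exact pow_ne_zero n hφ this

lemma lower {n : ℕ} : ∀ {Z : Finset (Projectivization k (Fin 4 → k))}, Z.Nonempty → CB n Z →
    n + 2 ≤ Z.card := by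
  induction n with
  | zero =>
    intro Z hne h
    exact two_le_card hne h
  | succ n ih =>
    intro Z hne h
    have h2 := two_le_card hne h
    obtain ⟨z₁, hz₁, z₂, hz₂, h12⟩ := Finset.one_lt_card.1 h2
    have hnot : z₂.rep ∉ z₁.submodule := by
      intro hmem
      apply h12
      rw [Projectivization.submodule_eq, Submodule.mem_span_singleton] at hmem
      obtain ⟨c, hc⟩ := hmem
      rw [← z₁.mk_rep, ← z₂.mk_rep, Projectivization.mk_eq_mk_iff']
      exact ⟨c⁻¹, by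
        have hc0 : c ≠ 0 := by
          rintro rfl
          rw [zero_smul] at hc
          exact z₂.rep_nonzero hc.symm
        rw [← hc, smul_smul, inv_mul_cancel₀ hc0, one_smul]⟩
    obtain ⟨φ, hφ, hφ0⟩ := sepW z₁.submodule z₂.rep hnot
    have hφ1 : φ z₁.rep = 0 := hφ0 _ ((rep_mem_iff z₁ _).1 le_rfl)
    have hres := cb_res h φ
    have hne' : (res Z φ).Nonempty := ⟨z₂, mem_res.2 ⟨hz₂, hφ⟩⟩
    have h3 := ih hne' hres
    have hsub : res Z φ ⊆ Z.erase z₁ := by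
      intro z hz
      obtain ⟨hzZ, hφz⟩ := mem_res.1 hz
      refine Finset.mem_erase.2 ⟨?_, hzZ⟩
      rintro rfl
      exact hφz hφ1
    have h4 := Finset.card_le_card hsub
    rw [Finset.card_erase_of_mem hz₁] at h4
    omega

/-- collinearity -/
def Col (Z : Finset (Projectivization k (Fin 4 → k))) : Prop :=
  ∃ W : Submodule k (Fin 4 → k), Module.finrank k W = 2 ∧ ∀ z ∈ Z, z.submodule ≤ W

lemma step0 {m : ℕ} {Z : Finset (Projectivization k (Fin 4 → k))} (hne : Z.Nonempty)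
    (h : CB (m + 1) Z) (hnc : ¬ Col Z) :
    ∃ Z' : Finset (Projectivization k (Fin 4 → k)), Z' ⊆ Z ∧ Z'.Nonempty ∧ CB m Z' ∧
      Z'.card + 2 ≤ Z.card := by
  have h2 := two_le_card hne h
  obtain ⟨z₁, hz₁, z₂, hz₂, h12⟩ := Finset.one_lt_card.1 h2
  have hli : LinearIndependent k (Projectivization.rep ∘ ![z₁, z₂]) :=
    Projectivization.independent_iff.1 ((Projectivization.independent_pair_iff_ne z₁ z₂).2 h12)
  set W₀ : Submodule k (Fin 4 → k) :=
    Submodule.span k (Set.range (Projectivization.rep ∘ ![z₁, z₂])) with hW₀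
  have hfin : Module.finrank k W₀ = 2 := by
    rw [hW₀, finrank_span_eq_card hli]
    simp
  have hm1 : z₁.rep ∈ W₀ := Submodule.subset_span ⟨0, rfl⟩
  have hm2 : z₂.rep ∈ W₀ := Submodule.subset_span ⟨1, rfl⟩
  have hex : ∃ z₃ ∈ Z, ¬ z₃.submodule ≤ W₀ := by
    by_contra hall
    push Not at hall
    exact hnc ⟨W₀, hfin, hall⟩
  obtain ⟨z₃, hz₃, hz₃W⟩ := hex
  rw [rep_mem_iff] at hz₃W
  obtain ⟨φ, hφ, hφ0⟩ := sepW W₀ z₃.rep hz₃W
  refine ⟨res Z φ, res_subset Z φ, ⟨z₃, mem_res.2 ⟨hz₃, hφ⟩⟩, cb_res h φ, ?_⟩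
  have hsub : res Z φ ⊆ (Z.erase z₁).erase z₂ := by
    intro z hz
    obtain ⟨hzZ, hφz⟩ := mem_res.1 hz
    refine Finset.mem_erase.2 ⟨?_, Finset.mem_erase.2 ⟨?_, hzZ⟩⟩
    · rintro rfl
      exact hφz (hφ0 _ hm2)
    · rintro rfl
      exact hφz (hφ0 _ hm1)
  have h4 := Finset.card_le_card hsub
  rw [Finset.card_erase_of_mem (Finset.mem_erase.2 ⟨h12.symm, hz₂⟩),
    Finset.card_erase_of_mem hz₁] at h4
  omega

lemma step2 {m : ℕ} {Z : Finset (Projectivization k (Fin 4 → k))}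
    (h : CB (m + 1) Z) (hnc : ¬ Col Z) (W : Submodule k (Fin 4 → k))
    (hW : Module.finrank k W = 2) :
    ∃ Z' : Finset (Projectivization k (Fin 4 → k)), Z' ⊆ Z ∧ Z'.Nonempty ∧ CB m Z' ∧
      ∀ z ∈ Z', ¬ z.submodule ≤ W := by
  have hex : ∃ z₀ ∈ Z, ¬ z₀.submodule ≤ W := by
    by_contra hall
    push Not at hall
    exact hnc ⟨W, hW, hall⟩
  obtain ⟨z₀, hz₀, hz₀W⟩ := hex
  rw [rep_mem_iff] at hz₀W
  obtain ⟨φ, hφ, hφ0⟩ := sepW W z₀.rep hz₀W
  refine ⟨res Z φ, res_subset Z φ, ⟨z₀, mem_res.2 ⟨hz₀, hφ⟩⟩, cb_res h φ, ?_⟩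
  intro z hz hzW
  rw [rep_mem_iff] at hzW
  exact (mem_res.1 hz).2 (hφ0 _ hzW)

theorem collinear : ∀ (m : ℕ) (Z : Finset (Projectivization k (Fin 4 → k))), Z.Nonempty →
    CB (m + 1) Z → Z.card ≤ 2 * (m + 1) + 1 → Col Z := by
  intro m
  induction m with
  | zero =>
    intro Z hne h hcard
    by_contra hnc
    obtain ⟨Z', -, hne', hCB', hc'⟩ := step0 hne h hnc
    have := two_le_card hne' hCB'
    omega
  | succ m ih =>
    intro Z hne h hcard
    by_contra hnc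
    obtain ⟨Z', hsub', hne', hCB', hc'⟩ := step0 hne h hnc
    obtain ⟨W, hW, hZ'W⟩ := ih Z' hne' hCB' (by omega)
    have hl' := lower hne' hCB'
    obtain ⟨Z'', hsub'', hne'', hCB'', hZ''W⟩ := step2 h hnc W hW
    have hl'' := lower hne'' hCB''
    have hdisj : Disjoint Z' Z'' := by
      rw [Finset.disjoint_left]
      intro z hz hz2
      exact hZ''W z hz2 (hZ'W z hz)
    have hun : (Z' ∪ Z'').card ≤ Z.card := Finset.card_le_card (Finset.union_subset hsub' hsub'')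
    rw [Finset.card_union_of_disjoint hdisj] at hun
    omega

theorem s18041 (k : Type u) [Field k]
    (Z : Finset (Projectivization k (Fin 4 → k))) (hZ : Z.Nonempty) (n : ℕ) (hn : 1 ≤ n)
    (hCB : (∀ z ∈ Z, ∀ p : MvPolynomial (Fin 4) k, p.IsHomogeneous n →
      (∀ z' ∈ Z, z' ≠ z → MvPolynomial.eval z'.rep p = 0) → MvPolynomial.eval z.rep p = 0)) :
    n + 2 ≤ Z.card ∧
      (Z.card ≤ 2 * n + 1 → ∃ W : Submodule k (Fin 4 → k), Module.finrank k ↥W = 2 ∧
        ∀ z ∈ Z, z.submodule ≤ W) := by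
  obtain ⟨m, rfl⟩ := Nat.exists_eq_succ_of_ne_zero (by omega : n ≠ 0)
  exact ⟨lower hZ hCB, fun hc => collinear m Z hZ hCB hc⟩

end Groth.Agent.Helper17.CBLine
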