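import Mathlib
import Groth.Agent.Lib.Helper17.FieldBC
import Groth.Agent.S2680

set_option autoImplicit false
universe u
open TensorProduct

namespace Groth.Agent.Helper17.CompBC

variable {k A K : Type u} [Field k] [Field K] [CommRing A] [Algebra k A] [Algebra k K]

/-- going down: a minimal prime over `P T` contracts to `P`. -/
theorem comap_eq_of_minimal (P : Ideal A) [P.IsPrime] (Q : Ideal (A ⊗[k] K))
    (hQ : Q ∈ (P.map (algebraMap A (A ⊗[k] K))).minimalPrimes) :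
    Q.comap (algebraMap A (A ⊗[k] K)) = P := by
  haveI : Q.IsPrime := hQ.1.1
  have hle : P ≤ Q.under A := Ideal.map_le_iff_le_comap.mp hQ.1.2
  haveI : Q.LiesOver (Q.under A) := ⟨rfl⟩
  haveI : (Q.under A).IsPrime := Ideal.IsPrime.under A Q
  obtain ⟨Q', hQ'le, hQ'prime, hQ'over⟩ :=
    Ideal.exists_ideal_le_liesOver_of_le (p := P) (q := Q.under A) Q hle
  have h1 : P.map (algebraMap A (A ⊗[k] K)) ≤ Q' := by
    rw [Ideal.map_le_iff_le_comap]
    exact le_of_eq hQ'over.over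
  have h2 : Q ≤ Q' := hQ.2 ⟨hQ'prime, h1⟩ hQ'le
  have h3 : Q = Q' := le_antisymm h2 hQ'le
  rw [h3]
  exact hQ'over.over.symm

theorem dim_quot_le [Algebra.FiniteType k A] (P : Ideal A) [P.IsPrime] (Q : Ideal (A ⊗[k] K))
    [Q.IsPrime] (hPQ : P.map (algebraMap A (A ⊗[k] K)) ≤ Q) :
    ringKrullDim ((A ⊗[k] K) ⧸ Q) ≤ ringKrullDim (A ⧸ P) := by
  have hPQ' : ∀ a ∈ P, ((Ideal.Quotient.mkₐ k Q).comp
      (Algebra.TensorProduct.includeLeft : A →ₐ[k] A ⊗[k] K)) a = 0 := by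
    intro a ha
    show Ideal.Quotient.mk Q (algebraMap A (A ⊗[k] K) a) = 0
    rw [Ideal.Quotient.eq_zero_iff_mem]
    exact hPQ (Ideal.mem_map_of_mem _ ha)
  let f1 : A ⧸ P →ₐ[k] (A ⊗[k] K) ⧸ Q := Ideal.Quotient.liftₐ P _ hPQ'
  let f2 : K →ₐ[k] (A ⊗[k] K) ⧸ Q := (Ideal.Quotient.mkₐ k Q).comp
      (Algebra.TensorProduct.includeRight : K →ₐ[k] A ⊗[k] K)
  let F : (A ⧸ P) ⊗[k] K →ₐ[k] (A ⊗[k] K) ⧸ Q := Algebra.TensorProduct.productMap f1 f2
  have hF : Function.Surjective F := by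
    intro y
    obtain ⟨t, rfl⟩ := Ideal.Quotient.mk_surjective y
    induction t using TensorProduct.induction_on with
    | zero => exact ⟨0, by simp⟩
    | tmul a c =>
      refine ⟨(Ideal.Quotient.mk P a) ⊗ₜ[k] c, ?_⟩
      show F ((Ideal.Quotient.mk P a) ⊗ₜ[k] c) = _
      rw [Algebra.TensorProduct.productMap_apply_tmul]
      show Ideal.Quotient.mk Q (a ⊗ₜ[k] (1 : K)) * Ideal.Quotient.mk Q ((1 : A) ⊗ₜ[k] c) = _
      rw [← map_mul, Algebra.TensorProduct.tmul_mul_tmul, mul_one, one_mul]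
    | add x y hx hy =>
      obtain ⟨x', hx'⟩ := hx
      obtain ⟨y', hy'⟩ := hy
      exact ⟨x' + y', by rw [map_add, hx', hy', map_add]⟩
  calc ringKrullDim ((A ⊗[k] K) ⧸ Q) ≤ ringKrullDim ((A ⧸ P) ⊗[k] K) :=
        ringKrullDim_le_of_surjective F.toRingHom hF
    _ = ringKrullDim (A ⧸ P) := FieldBC.dim_tensor_field' k K (A ⧸ P)

theorem head_comap {R S : Type*} [CommRing R] [CommRing S] (φ : R →+* S)
    (L : LTSeries (PrimeSpectrum S)) (l : LTSeries (PrimeSpectrum R))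
    (spec : List.map (PrimeSpectrum.comap φ) L.toList = l.toList) :
    PrimeSpectrum.comap φ L.head = l.head := by
  have h1 := congrArg List.head? spec
  simpa [RelSeries.toList, List.ofFn_succ, RelSeries.head] using h1

theorem dim_quot_ge [Algebra.FiniteType k A] (P : Ideal A) [P.IsPrime] (Q : Ideal (A ⊗[k] K))
    (hQ : Q ∈ (P.map (algebraMap A (A ⊗[k] K))).minimalPrimes) :
    ringKrullDim (A ⧸ P) ≤ ringKrullDim ((A ⊗[k] K) ⧸ Q) := by
  classical
  haveI : Q.IsPrime := hQ.1.1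
  haveI : IsNoetherianRing (K ⊗[k] A) := Algebra.FiniteType.isNoetherianRing K (K ⊗[k] A)
  haveI : IsNoetherianRing (A ⊗[k] K) :=
    isNoetherianRing_of_ringEquiv (K ⊗[k] A) (Algebra.TensorProduct.comm k K A).toRingEquiv
  haveI : IsNoetherianRing A := Algebra.FiniteType.isNoetherianRing k A
  haveI : IsJacobsonRing (A ⧸ P) := isJacobsonRing_of_finiteType (A := k) (B := A ⧸ P)
  set φ := algebraMap A (A ⊗[k] K) with hφ
  have hcomapQ : Q.comap φ = P := comap_eq_of_minimal P Q hQ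
  -- the closed set of the other components
  have hfin : ((P.map φ).minimalPrimes).Finite :=
    Ideal.finite_minimalPrimes_of_isNoetherianRing _ _
  have hFcl : IsClosed (⋃ Q' ∈ {Q' ∈ (P.map φ).minimalPrimes | Q' ≠ Q},
      PrimeSpectrum.zeroLocus (Q' : Set (A ⊗[k] K))) :=
    (hfin.subset (Set.sep_subset _ _)).isClosed_biUnion
      (fun Q' _ => PrimeSpectrum.isClosed_zeroLocus _)
  set F := ⋃ Q' ∈ {Q' ∈ (P.map φ).minimalPrimes | Q' ≠ Q},
      PrimeSpectrum.zeroLocus (Q' : Set (A ⊗[k] K)) with hF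
  have hQF : (⟨Q, inferInstance⟩ : PrimeSpectrum (A ⊗[k] K)) ∉ F := by
    intro hx
    obtain ⟨Q', ⟨hQ'min, hQ'ne⟩, hle⟩ := Set.mem_iUnion₂.mp hx
    have hle' : Q' ≤ Q := hle
    exact hQ'ne (le_antisymm hle' (hQ.2 hQ'min.1 hle'))
  have hopen : IsOpen (PrimeSpectrum.comap φ '' Fᶜ) :=
    PrimeSpectrum.isOpenMap_comap_algebraMap_tensorProduct_of_field _ hFcl.isOpen_compl
  have hopen2 : IsOpen (PrimeSpectrum.comap (Ideal.Quotient.mk P) ⁻¹'
      (PrimeSpectrum.comap φ '' Fᶜ)) :=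
    hopen.preimage (PrimeSpectrum.continuous_comap (Ideal.Quotient.mk P))
  have hbot : (⟨⊥, Ideal.isPrime_bot⟩ : PrimeSpectrum (A ⧸ P)) ∈
      PrimeSpectrum.comap (Ideal.Quotient.mk P) ⁻¹' (PrimeSpectrum.comap φ '' Fᶜ) := by
    refine ⟨⟨Q, inferInstance⟩, hQF, ?_⟩
    apply PrimeSpectrum.ext
    show Q.comap φ = (⊥ : Ideal (A ⧸ P)).comap (Ideal.Quotient.mk P)
    rw [hcomapQ, ← RingHom.ker_eq_comap_bot, Ideal.mk_ker]
  -- a maximal ideal in the open set
  obtain ⟨mbar, hmbarmax, hmbarmem⟩ : ∃ mbar : Ideal (A ⧸ P), ∃ hm : mbar.IsMaximal,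
      (⟨mbar, hm.isPrime⟩ : PrimeSpectrum (A ⧸ P)) ∈
        PrimeSpectrum.comap (Ideal.Quotient.mk P) ⁻¹' (PrimeSpectrum.comap φ '' Fᶜ) := by
    obtain ⟨_, ⟨_, ⟨g, rfl⟩, rfl⟩, hgmem, hgsub⟩ :=
      PrimeSpectrum.isBasis_basic_opens.exists_subset_of_mem_open hbot hopen2
    have hg0 : g ≠ 0 := by
      intro h0
      have : g ∉ (⊥ : Ideal (A ⧸ P)) := hgmem
      exact this (by rw [h0]; exact Ideal.zero_mem _)
    have hjac : (⊥ : Ideal (A ⧸ P)).jacobson = ⊥ :=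
      (isJacobsonRing_iff.mp inferInstance) ⊥ (Ideal.isPrime_bot.isRadical)
    have hgj : g ∉ (⊥ : Ideal (A ⧸ P)).jacobson := by
      rw [hjac]; simpa using hg0
    rw [Ideal.jacobson, Ideal.mem_sInf] at hgj
    push Not at hgj
    obtain ⟨J, ⟨-, hJmax⟩, hgJ⟩ := hgj
    exact ⟨J, hJmax, hgsub (show (⟨J, hJmax.isPrime⟩ : PrimeSpectrum (A ⧸ P)) ∈
      (PrimeSpectrum.basicOpen g : Set _) from hgJ)⟩
  obtain ⟨Qm, hQmF, hQm⟩ := hmbarmem
  -- the height of mbar
  haveI := hmbarmax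
  have hht : (mbar.height : WithBot ℕ∞) = ringKrullDim (A ⧸ P) :=
    Groth.Agent.S2680.height_eq_of_isMaximal k (A ⧸ P) mbar
  haveI : mbar.IsPrime := hmbarmax.isPrime
  have hne : mbar.height ≠ ⊤ := Ideal.height_ne_top hmbarmax.ne_top
  obtain ⟨n, hn⟩ := ENat.ne_top_iff_exists.mp hne
  have hh : Order.height (⟨mbar, inferInstance⟩ : PrimeSpectrum (A ⧸ P)) = n := by
    rw [← PrimeSpectrum.height_eq_orderHeight]; exact hn.symm
  obtain ⟨lbar, hlast, hlen⟩ := Order.exists_series_of_height_eq_coe _ hh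
  -- the chain in A
  have hsm : StrictMono (PrimeSpectrum.comap (Ideal.Quotient.mk P)) := by
    intro p q hpq
    have hle : p.asIdeal ≤ q.asIdeal := (show p ≤ q from hpq.le)
    refine lt_of_le_not_ge (Ideal.comap_mono hle) ?_
    intro hge
    have hge' : q.asIdeal.comap (Ideal.Quotient.mk P) ≤ p.asIdeal.comap (Ideal.Quotient.mk P) :=
      hge
    have := (Ideal.comap_le_comap_iff_of_surjective _ Ideal.Quotient.mk_surjective _ _).mp hge'
    exact (not_le_of_gt hpq) this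
  set l : LTSeries (PrimeSpectrum A) := lbar.map _ hsm with hl
  have hllast : l.last = PrimeSpectrum.comap φ Qm := by
    rw [hl, LTSeries.last_map, hlast]; exact hQm.symm
  haveI : Qm.asIdeal.LiesOver l.last.asIdeal := ⟨by rw [hllast]; rfl⟩
  obtain ⟨L, hLlen, hLlast, hLspec⟩ := Ideal.exists_ltSeries_of_hasGoingDown l Qm.asIdeal
  have hhead : PrimeSpectrum.comap φ L.head = l.head := head_comap φ L l hLspec
  -- the head of L contains P T, hence Q
  have hPhead : P.map φ ≤ L.head.asIdeal := by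
    rw [Ideal.map_le_iff_le_comap]
    have h1 : (PrimeSpectrum.comap φ L.head).asIdeal = l.head.asIdeal := by rw [hhead]
    have h2 : l.head = PrimeSpectrum.comap (Ideal.Quotient.mk P) lbar.head := by
      rw [hl, LTSeries.head_map]
    intro a ha
    show a ∈ (PrimeSpectrum.comap φ L.head).asIdeal
    rw [h1, h2]
    show Ideal.Quotient.mk P a ∈ lbar.head.asIdeal
    rw [Ideal.Quotient.eq_zero_iff_mem.mpr ha]
    exact Ideal.zero_mem _
  obtain ⟨Q', hQ'min, hQ'le⟩ := Ideal.exists_minimalPrimes_le hPhead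
  have hheadle : L.head ≤ Qm := by
    have : L.head ≤ L.last := LTSeries.head_le_last L
    rw [hLlast] at this
    exact this
  have hQ'Q : Q' = Q := by
    by_contra hne'
    apply hQmF
    refine Set.mem_biUnion (show Q' ∈ {Q' ∈ (P.map φ).minimalPrimes | Q' ≠ Q} from
      ⟨hQ'min, hne'⟩) ?_
    show Q' ≤ Qm.asIdeal
    exact hQ'le.trans hheadle
  have hmem : ∀ i, L i ∈ PrimeSpectrum.zeroLocus (Q : Set (A ⊗[k] K)) := by
    intro i
    show Q ≤ (L i).asIdeal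
    rw [← hQ'Q]
    exact hQ'le.trans (show L.head ≤ L i from L.monotone (Fin.zero_le i))
  have hlenle : (L.length : WithBot ℕ∞) ≤
      Order.krullDim ↥(PrimeSpectrum.zeroLocus (Q : Set (A ⊗[k] K))) :=
    Order.LTSeries.length_le_krullDim
      ({ length := L.length
         toFun := fun i => ⟨L i, hmem i⟩
         step := fun i => L.step i } :
        LTSeries ↥(PrimeSpectrum.zeroLocus (Q : Set (A ⊗[k] K))))
  rw [← hht, ← hn, ringKrullDim_quotient]
  rw [hLlen, hl, LTSeries.map_length, hlen] at hlenle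
  exact hlenle

theorem dim_quot_eq [Algebra.FiniteType k A] (P : Ideal A) [P.IsPrime] (Q : Ideal (A ⊗[k] K))
    (hQ : Q ∈ (P.map (algebraMap A (A ⊗[k] K))).minimalPrimes) :
    ringKrullDim ((A ⊗[k] K) ⧸ Q) = ringKrullDim (A ⧸ P) := by
  haveI : Q.IsPrime := hQ.1.1
  exact le_antisymm (dim_quot_le P Q hQ.1.2) (dim_quot_ge P Q hQ)

end Groth.Agent.Helper17.CompBC
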