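import Mathlib
import Groth.Prelude.Def_FDesc
import Groth.Agent.Lib.Helper17.CompBC
import Groth.Agent.S10840
import Groth.Agent.S2143
import Groth.Agent.S1617

set_option autoImplicit false
universe u
open CategoryTheory CategoryTheory.Limits AlgebraicGeometry TopologicalSpace Topology TensorProduct

namespace Groth.Agent.Helper17.CompBCS

/-! ### dimension of the closure of a point via affine charts -/

theorem dim_quot_le_dim_closure {X : Scheme.{u}} {T : CommRingCat.{u}} (j : Spec T ⟶ X)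
    [IsOpenImmersion j] (Q : PrimeSpectrum T) :
    ringKrullDim (T ⧸ Q.asIdeal) ≤ topologicalKrullDim ↥(closure ({j Q} : Set X)) := by
  have hj : Topology.IsOpenEmbedding ⇑j := j.isOpenEmbedding
  have hsub : ⇑j '' (PrimeSpectrum.zeroLocus (Q.asIdeal : Set T)) ⊆ closure ({j Q} : Set X) := by
    rintro _ ⟨P, hP, rfl⟩
    apply specializes_iff_mem_closure.mp
    exact ((PrimeSpectrum.le_iff_specializes Q P).mp hP).map hj.continuous
  have e := hj.isEmbedding.homeomorphImage (PrimeSpectrum.zeroLocus (Q.asIdeal : Set T))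
  haveI : QuasiSober ↥(PrimeSpectrum.zeroLocus (Q.asIdeal : Set T)) :=
    (PrimeSpectrum.isClosed_zeroLocus _).isClosedEmbedding_subtypeVal.quasiSober
  calc ringKrullDim (T ⧸ Q.asIdeal)
      = Order.krullDim ↥(PrimeSpectrum.zeroLocus (Q.asIdeal : Set T)) := ringKrullDim_quotient _
    _ = topologicalKrullDim ↥(PrimeSpectrum.zeroLocus (Q.asIdeal : Set T)) :=
        (Groth.Agent.S2143.topDim_sub _).symm
    _ = topologicalKrullDim ↥(⇑j '' (PrimeSpectrum.zeroLocus (Q.asIdeal : Set T))) :=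
        IsHomeomorph.topologicalKrullDim_eq _ e.isHomeomorph
    _ ≤ topologicalKrullDim ↥(closure ({j Q} : Set X)) :=
        Groth.Agent.S1617.dim_subset_mono hsub

theorem dim_closure_le {X : Scheme.{u}} (x : X) (B : WithBot ℕ∞)
    (h : ∀ y : X, x ⤳ y → ∃ (T : CommRingCat.{u}) (j : Spec T ⟶ X) (_ : IsOpenImmersion j)
      (Q : PrimeSpectrum T), y ∈ Set.range ⇑j ∧ j Q = x ∧ ringKrullDim (T ⧸ Q.asIdeal) ≤ B) :
    topologicalKrullDim ↥(closure ({x} : Set X)) ≤ B := by
  haveI : QuasiSober ↥(closure ({x} : Set X)) :=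
    isClosed_closure.isClosedEmbedding_subtypeVal.quasiSober
  rw [Groth.Agent.S10840.topDim_eq]
  unfold Order.krullDim
  apply iSup_le
  intro l
  have hsp : ∀ i, (l i).1 ⤳ (l 0).1 := by
    intro i
    have h1 : (l i) ⤳ (l 0) :=
      (@LTSeries.monotone _ (specializationPreorder _) l) (Fin.zero_le i)
    exact (subtype_specializes_iff _ _).mp h1
  have hxsp : ∀ i, x ⤳ (l i).1 := fun i => specializes_iff_mem_closure.mpr (l i).2
  obtain ⟨T, j, hjo, Q, hy, hjQ, hB⟩ := h (l 0).1 (hxsp 0)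
  have hj : Topology.IsOpenEmbedding ⇑j := j.isOpenEmbedding
  have hmem : ∀ i, (l i).1 ∈ Set.range ⇑j := fun i => (hsp i).mem_open hj.isOpen_range hy
  choose p0 hp0 using hmem
  let p : Fin (l.length + 1) → PrimeSpectrum T := p0
  have hp : ∀ i, j (p i) = (l i).1 := hp0
  have hQle : ∀ i, p i ∈ PrimeSpectrum.zeroLocus (Q.asIdeal : Set T) := by
    intro i
    show Q.asIdeal ≤ (p i).asIdeal
    have : Q ≤ p i := by
      rw [PrimeSpectrum.le_iff_specializes]
      apply hj.isInducing.specializes_iff.mp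
      rw [hjQ, hp i]
      exact hxsp i
    exact this
  have hPlt : ∀ i i', i < i' → p i' < p i := by
    intro i i' hij
    have hlt : ((l i') ⤳ (l i)) ∧ ¬ ((l i) ⤳ (l i')) :=
      (@LTSeries.strictMono _ (specializationPreorder _) l) hij
    have h1 : (l i').1 ⤳ (l i).1 := (subtype_specializes_iff _ _).mp hlt.1
    have h2 : ¬ (l i).1 ⤳ (l i').1 := fun h => hlt.2 ((subtype_specializes_iff _ _).mpr h)
    refine lt_of_le_not_ge ?_ ?_
    · rw [PrimeSpectrum.le_iff_specializes]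
      apply hj.isInducing.specializes_iff.mp
      rw [hp i, hp i']
      exact h1
    · intro hle
      apply h2
      rw [PrimeSpectrum.le_iff_specializes] at hle
      have := hle.map hj.continuous
      rw [hp i, hp i'] at this
      exact this
  have hlen : (l.length : WithBot ℕ∞) ≤
      Order.krullDim ↥(PrimeSpectrum.zeroLocus (Q.asIdeal : Set T)) :=
    Order.LTSeries.length_le_krullDim
      ({ length := l.length
         toFun := fun i => ⟨p (Fin.rev i), hQle _⟩
         step := fun i => hPlt _ _ (Fin.rev_lt_rev.mpr (Fin.castSucc_lt_succ (i := i))) } :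
        LTSeries ↥(PrimeSpectrum.zeroLocus (Q.asIdeal : Set T)))
  rw [← ringKrullDim_quotient] at hlen
  exact hlen.trans hB

/-! ### charts of a base change -/

section chart
variable {k K : Type u} [Field k] [Field K] [Algebra k K] {X : Scheme.{u}}

set_option backward.isDefEq.respectTransparency.types false in
theorem chart (f : X ⟶ Spec (CommRingCat.of k)) (R : CommRingCat.{u}) [Algebra k R]
    (c : Spec R ⟶ X) [IsOpenImmersion c]
    (hc : c ≫ f = Spec.map (CommRingCat.ofHom (algebraMap k R))) :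
    ∃ j : Spec (CommRingCat.of (R ⊗[k] K)) ⟶ FBase.bc f K, IsOpenImmersion j ∧
      j ≫ FBase.bcπ f K = Spec.map (CommRingCat.ofHom (algebraMap R (R ⊗[k] K))) ≫ c ∧
      (∀ (η : ↥(FBase.bc f K)) (P : ↥(Spec R)), (FBase.bcπ f K) η = c P → ∃ Q, j Q = η) := by
  let g : Spec (CommRingCat.of K) ⟶ Spec (CommRingCat.of k) :=
    Spec.map (CommRingCat.ofHom (algebraMap k K))
  let J : pullback (c ≫ f) g ⟶ pullback f g :=
    pullback.map (c ≫ f) g f g c (𝟙 _) (𝟙 _) (by simp) (by simp)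
  have hJsnd : J ≫ pullback.snd f g = pullback.snd (c ≫ f) g :=
    (pullback.lift_snd _ _ _).trans (Category.comp_id _)
  have hJfst : J ≫ pullback.fst f g = pullback.fst (c ≫ f) g ≫ c :=
    pullback.lift_fst _ _ _
  have sq' : IsPullback J (pullback.fst (c ≫ f) g) (pullback.fst f g) c := by
    apply IsPullback.of_right (h₁₂ := pullback.snd f g) (v₁₃ := g) (h₂₂ := f) ?_ hJfst
      (IsPullback.of_hasPullback f g).flip
    rw [hJsnd]
    exact (IsPullback.of_hasPullback (c ≫ f) g).flip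
  have sq : IsPullback (pullback.fst (c ≫ f) g) J c (pullback.fst f g) := sq'.flip
  haveI : IsOpenImmersion J :=
    MorphismProperty.of_isPullback (P := @IsOpenImmersion) sq inferInstance
  let e1 : pullback (c ≫ f) g ≅ pullback (Spec.map (CommRingCat.ofHom (algebraMap k R)))
      (Spec.map (CommRingCat.ofHom (algebraMap k K))) := pullback.congrHom hc rfl
  let e : pullback (c ≫ f) g ≅ Spec (CommRingCat.of (R ⊗[k] K)) := e1 ≪≫ pullbackSpecIso k R K
  haveI : IsIso e.inv := inferInstance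
  haveI : IsOpenImmersion e.inv := IsOpenImmersion.of_isIso _
  have hjo : IsOpenImmersion (e.inv ≫ J) := IsOpenImmersion.comp _ _
  refine ⟨e.inv ≫ J, hjo, ?_, ?_⟩
  · have h1 : e.inv ≫ pullback.fst (c ≫ f) g =
        Spec.map (CommRingCat.ofHom (algebraMap R (R ⊗[k] K))) := by
      simp only [e, e1, Iso.trans_inv, Category.assoc, pullback.congrHom_inv, pullback.lift_fst,
        Category.comp_id]
      exact pullbackSpecIso_inv_fst' k R K
    show (e.inv ≫ J) ≫ pullback.fst f g = _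
    rw [Category.assoc, ← sq.w, ← Category.assoc, h1]
  · intro η P hηP
    obtain ⟨z, hz1, hz2⟩ := Scheme.Pullback.exists_preimage_pullback (f := c)
      (g := pullback.fst f g) P η hηP.symm
    refine ⟨e.hom (sq.isoPullback.inv z), ?_⟩
    have h2 : sq.isoPullback.inv ≫ e.hom ≫ e.inv ≫ J = pullback.snd c (pullback.fst f g) := by
      rw [Iso.hom_inv_id_assoc]
      exact sq.isoPullback_inv_snd
    have h3 := congrArg (fun m : pullback c (pullback.fst f g) ⟶ pullback f g => m z) h2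
    exact h3.trans hz2

end chart

/-! ### generic points of irreducible components -/

theorem comp_generic {Y : Type*} [TopologicalSpace Y] [QuasiSober Y] [T0Space Y] (W : Set Y)
    (hW : W ∈ irreducibleComponents Y) :
    ∃ η : Y, closure {η} = W ∧ ∀ η' : Y, η' ⤳ η → η' = η := by
  have hWcl : IsClosed W := isClosed_of_mem_irreducibleComponents W hW
  obtain ⟨η, hη⟩ := QuasiSober.sober hW.1 hWcl
  have hηW : closure {η} = W := hη.def
  refine ⟨η, hηW, ?_⟩
  intro y hy
  have h1 : W ⊆ closure {y} := by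
    rw [← hηW]
    exact closure_minimal (Set.singleton_subset_iff.mpr (specializes_iff_mem_closure.mp hy))
      isClosed_closure
  have h2 : closure {y} ⊆ W := hW.2 isIrreducible_singleton.closure h1
  have h3 : η ⤳ y := by
    apply specializes_iff_mem_closure.mpr
    rw [hηW]
    exact h2 (subset_closure rfl)
  exact (hy.antisymm h3).eq

/-! ### the core theorem -/

section core
variable {k K : Type u} [Field k] [Field K] [Algebra k K] {X : Scheme.{u}}

/-- existence of a chart around a point -/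
theorem exists_chart (f : X ⟶ Spec (CommRingCat.of k)) [LocallyOfFiniteType f] (x : X) :
    ∃ (R : CommRingCat.{u}) (_ : Algebra k R) (_ : Algebra.FiniteType k R) (c : Spec R ⟶ X)
      (_ : IsOpenImmersion c), x ∈ Set.range ⇑c ∧
      c ≫ f = Spec.map (CommRingCat.ofHom (algebraMap k R)) := by
  obtain ⟨V, hV, hxV⟩ : ∃ V : X.Opens, IsAffineOpen V ∧ x ∈ V := by
    obtain ⟨_, ⟨V, hV : IsAffineOpen V, rfl⟩, hxV, -⟩ :=
      X.isBasis_affineOpens.exists_subset_of_mem_open (Set.mem_univ x) isOpen_univ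
    exact ⟨V, hV, hxV⟩
  haveI := hV.isOpenImmersion_fromSpec
  let a : Spec Γ(X, V) ⟶ Spec (CommRingCat.of k) := hV.fromSpec ≫ f
  let φ : CommRingCat.of k ⟶ Γ(X, V) := Spec.preimage a
  have hφ : Spec.map φ = a := Spec.map_preimage a
  letI alg : Algebra k Γ(X, V) := φ.hom.toAlgebra
  have hft : Algebra.FiniteType k Γ(X, V) := by
    have h1 : LocallyOfFiniteType (Spec.map φ) := by rw [hφ]; infer_instance
    exact (HasRingHomProperty.Spec_iff (P := @LocallyOfFiniteType)).mp h1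
  refine ⟨Γ(X, V), alg, hft, hV.fromSpec, inferInstance, ?_, hφ.symm⟩
  rw [hV.range_fromSpec]
  exact hxV

theorem core (f : X ⟶ Spec (CommRingCat.of k)) [LocallyOfFiniteType f]
    (ξ : X) (η : ↥(FBase.bc f K))
    (hη : ξ ⤳ (FBase.bcπ f K) η)
    (hmax : ∀ η' : ↥(FBase.bc f K), η' ⤳ η → ξ ⤳ (FBase.bcπ f K) η' → η' = η) :
    (FBase.bcπ f K) η = ξ ∧
      topologicalKrullDim ↥(closure ({η} : Set ↥(FBase.bc f K))) =
        topologicalKrullDim ↥(closure ({ξ} : Set X)) := by
  -- Claim A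
  have claimA : ∀ (R : CommRingCat.{u}) [Algebra k R] [Algebra.FiniteType k R]
      (c : Spec R ⟶ X) [IsOpenImmersion c]
      (j : Spec (CommRingCat.of (R ⊗[k] K)) ⟶ FBase.bc f K) [IsOpenImmersion j]
      (_ : j ≫ FBase.bcπ f K = Spec.map (CommRingCat.ofHom (algebraMap R (R ⊗[k] K))) ≫ c)
      (Q : PrimeSpectrum (R ⊗[k] K)) (_ : j Q = η),
      c (PrimeSpectrum.comap (algebraMap R (R ⊗[k] K)) Q) = ξ ∧
      Q.asIdeal ∈ ((PrimeSpectrum.comap (algebraMap R (R ⊗[k] K)) Q).asIdeal.map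
        (algebraMap R (R ⊗[k] K))).minimalPrimes := by
    intro R _ _ c _ j _ hjc Q hQ
    set φ := algebraMap R (R ⊗[k] K) with hφ
    have hπj : ∀ q : PrimeSpectrum (R ⊗[k] K),
        (FBase.bcπ f K) (j q) = c (PrimeSpectrum.comap φ q) := by
      intro q
      have := congrArg (fun m : Spec (CommRingCat.of (R ⊗[k] K)) ⟶ X => m q) hjc
      exact this
    have hc : Topology.IsOpenEmbedding ⇑c := c.isOpenEmbedding
    have hj : Topology.IsOpenEmbedding ⇑j := j.isOpenEmbedding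
    have h1 : (FBase.bcπ f K) η = c (PrimeSpectrum.comap φ Q) := by rw [← hQ]; exact hπj Q
    have hξr : ξ ∈ Set.range ⇑c := by
      rw [h1] at hη
      exact hη.mem_open hc.isOpen_range ⟨_, rfl⟩
    obtain ⟨P₀', hP₀'⟩ := hξr
    let P₀ : PrimeSpectrum R := P₀'
    have hP₀ : c P₀ = ξ := hP₀'
    have hP₀le : P₀ ≤ PrimeSpectrum.comap φ Q := by
      rw [PrimeSpectrum.le_iff_specializes]
      apply hc.isInducing.specializes_iff.mp
      rw [hP₀, ← h1]
      exact hη
    haveI := Q.isPrime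
    haveI := P₀.isPrime
    have hmaple : P₀.asIdeal.map φ ≤ Q.asIdeal := Ideal.map_le_iff_le_comap.mpr hP₀le
    obtain ⟨Q₀, hQ₀min, hQ₀le⟩ := Ideal.exists_minimalPrimes_le hmaple
    haveI : Q₀.IsPrime := hQ₀min.1.1
    have hcomap : Q₀.comap φ = P₀.asIdeal :=
      Groth.Agent.Helper17.CompBC.comap_eq_of_minimal P₀.asIdeal Q₀ hQ₀min
    let q₀ : PrimeSpectrum (R ⊗[k] K) := ⟨Q₀, inferInstance⟩
    have hq₀ : PrimeSpectrum.comap φ q₀ = P₀ := PrimeSpectrum.ext hcomap
    have hsp : j q₀ ⤳ η := by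
      rw [← hQ]
      exact ((PrimeSpectrum.le_iff_specializes q₀ Q).mp hQ₀le).map hj.continuous
    have hπ0 : (FBase.bcπ f K) (j q₀) = ξ := by rw [hπj q₀, hq₀, hP₀]
    have heq : j q₀ = η := hmax (j q₀) hsp (by rw [hπ0])
    have hqQ : q₀ = Q := hj.injective (heq.trans hQ.symm)
    have hPP : PrimeSpectrum.comap φ Q = P₀ := by rw [← hqQ]; exact hq₀
    rw [hPP]
    refine ⟨hP₀, ?_⟩
    rw [← hqQ]
    exact hQ₀min
  -- chart data at a point of X'
  have charts : ∀ y : ↥(FBase.bc f K), ∃ (R : CommRingCat.{u}) (_ : Algebra k R)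
      (_ : Algebra.FiniteType k R) (c : Spec R ⟶ X) (_ : IsOpenImmersion c)
      (j : Spec (CommRingCat.of (R ⊗[k] K)) ⟶ FBase.bc f K) (_ : IsOpenImmersion j),
      j ≫ FBase.bcπ f K = Spec.map (CommRingCat.ofHom (algebraMap R (R ⊗[k] K))) ≫ c ∧
      y ∈ Set.range ⇑j := by
    intro y
    obtain ⟨R, alg, hft, c, hco, ⟨P, hP⟩, hcf⟩ := exists_chart f ((FBase.bcπ f K) y)
    obtain ⟨j, hjo, hjc, hsurj⟩ := chart (K := K) f R c hcf
    obtain ⟨Q, hQ⟩ := hsurj y P hP.symm
    exact ⟨R, alg, hft, c, hco, j, hjo, hjc, ⟨Q, hQ⟩⟩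
  -- Step 1
  have hπη : (FBase.bcπ f K) η = ξ := by
    obtain ⟨R, alg, hft, c, hco, j, hjo, hjc, ⟨Q, hQ⟩⟩ := charts η
    have hA := (claimA R c j hjc Q hQ).1
    rw [← hA, ← hQ]
    have := congrArg (fun m : Spec (CommRingCat.of (R ⊗[k] K)) ⟶ X => m Q) hjc
    exact this
  refine ⟨hπη, le_antisymm ?_ ?_⟩
  · -- ≤
    apply dim_closure_le
    intro y hy
    obtain ⟨R, alg, hft, c, hco, j, hjo, hjc, hyr⟩ := charts y
    have hj : Topology.IsOpenEmbedding ⇑j := j.isOpenEmbedding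
    obtain ⟨Q', hQ'⟩ : η ∈ Set.range ⇑j := hy.mem_open hj.isOpen_range hyr
    let Q : PrimeSpectrum (R ⊗[k] K) := Q'
    have hQ : j Q = η := hQ'
    obtain ⟨hA1, hA2⟩ := claimA R c j hjc Q hQ
    refine ⟨CommRingCat.of (R ⊗[k] K), j, hjo, Q, hyr, hQ, ?_⟩
    haveI := (PrimeSpectrum.comap (algebraMap R (R ⊗[k] K)) Q).isPrime
    have h1 : ringKrullDim ((R ⊗[k] K) ⧸ Q.asIdeal) =
        ringKrullDim (R ⧸ (PrimeSpectrum.comap (algebraMap R (R ⊗[k] K)) Q).asIdeal) :=
      Groth.Agent.Helper17.CompBC.dim_quot_eq _ _ hA2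
    have h2 := dim_quot_le_dim_closure c (PrimeSpectrum.comap (algebraMap R (R ⊗[k] K)) Q)
    rw [hA1] at h2
    exact h1.le.trans h2
  · -- ≥
    apply dim_closure_le
    intro y hy
    obtain ⟨R, alg, hft, c, hco, ⟨py, hpy⟩, hcf⟩ := exists_chart f y
    obtain ⟨j, hjo, hjc, hsurj⟩ := chart (K := K) f R c hcf
    have hc : Topology.IsOpenEmbedding ⇑c := c.isOpenEmbedding
    obtain ⟨P', hP'⟩ : ξ ∈ Set.range ⇑c := hy.mem_open hc.isOpen_range ⟨py, hpy⟩
    let P : PrimeSpectrum R := P'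
    have hP : c P = ξ := hP'
    obtain ⟨Q', hQ'⟩ := hsurj η P' (hπη.trans hP'.symm)
    let Q : PrimeSpectrum (R ⊗[k] K) := Q'
    have hQ : j Q = η := hQ'
    obtain ⟨hA1, hA2⟩ := claimA R c j hjc Q hQ
    have hPP : PrimeSpectrum.comap (algebraMap R (R ⊗[k] K)) Q = P :=
      hc.injective (hA1.trans hP.symm)
    refine ⟨R, c, hco, P, ⟨py, hpy⟩, hP, ?_⟩
    haveI := P.isPrime
    rw [hPP] at hA2
    have h1 : ringKrullDim ((R ⊗[k] K) ⧸ Q.asIdeal) = ringKrullDim (R ⧸ P.asIdeal) :=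
      Groth.Agent.Helper17.CompBC.dim_quot_eq _ _ hA2
    have h2 := dim_quot_le_dim_closure j Q
    rw [hQ] at h2
    exact h1.symm.le.trans h2

end core

end Groth.Agent.Helper17.CompBCS
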