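import Mathlib

set_option autoImplicit false
universe u

namespace Groth.Agent.Helper17.Cub

open MvPolynomial

variable {k : Type u} [Field k]

/-- the substitution -/
noncomputable def Phi (A : Matrix (Fin 4) (Fin 3) k) :
    MvPolynomial (Fin 4) k →ₐ[k] MvPolynomial (Fin 3) k :=
  aeval (fun i : Fin 4 => ∑ j : Fin 3, C (A i j) * X j)

lemma Phi_X (A : Matrix (Fin 4) (Fin 3) k) (i : Fin 4) :
    Phi A (X i) = ∑ j : Fin 3, C (A i j) * X j := by
  simp [Phi]

lemma eval_Phi (A : Matrix (Fin 4) (Fin 3) k) (w : Fin 3 → k) (p : MvPolynomial (Fin 4) k) :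
    eval w (Phi A p) = eval (A.mulVec w) p := by
  induction p using MvPolynomial.induction_on with
  | C a => simp [Phi]
  | add p q hp hq => simp [hp, hq]
  | mul_X p i hp =>
    rw [map_mul, map_mul, map_mul, hp, Phi_X]
    congr 1
    simp [Matrix.mulVec, dotProduct]

lemma pderiv_L (A : Matrix (Fin 4) (Fin 3) k) (i : Fin 4) (j : Fin 3) :
    pderiv j (∑ j' : Fin 3, C (A i j') * X j' : MvPolynomial (Fin 3) k) = C (A i j) := by
  rw [map_sum]
  simp only [pderiv_C_mul, pderiv_X]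
  rw [Finset.sum_eq_single j]
  · simp
  · intro b _ hb
    simp [Pi.single_apply, hb]
  · simp

lemma pderiv_Phi (A : Matrix (Fin 4) (Fin 3) k) (j : Fin 3) (p : MvPolynomial (Fin 4) k) :
    pderiv j (Phi A p) = ∑ i : Fin 4, C (A i j) * Phi A (pderiv i p) := by
  induction p using MvPolynomial.induction_on with
  | C a => simp [Phi]
  | add p q hp hq => simp only [map_add, hp, hq, mul_add, Finset.sum_add_distrib]
  | mul_X p i' hp =>
    have h1 : ∀ i : Fin 4, Phi A (pderiv i (p * X i')) =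
        Phi A (pderiv i p) * (∑ j' : Fin 3, C (A i' j') * X j')
          + Phi A p * (if i = i' then 1 else 0) := by
      intro i
      rw [Derivation.leibniz, pderiv_X]
      simp only [smul_eq_mul, map_add, map_mul, Phi_X]
      rw [add_comm, mul_comm]
      congr 2
      by_cases h : i = i'
      · subst h; simp
      · rw [if_neg h, Pi.single_apply, if_neg (fun h' => h h'.symm), map_zero]
    rw [map_mul, Phi_X, Derivation.leibniz, pderiv_L, hp]
    obtain ⟨L, hL⟩ : ∃ L, L = ∑ j' : Fin 3, C (A i' j') * (X j' : MvPolynomial (Fin 3) k) := ⟨_, rfl⟩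
    rw [← hL] at h1 ⊢
    simp_rw [h1, mul_add, Finset.sum_add_distrib]
    simp only [smul_eq_mul, mul_ite, mul_one, mul_zero, Finset.sum_ite_eq', Finset.mem_univ,
      if_true]
    rw [add_comm, Finset.mul_sum]
    congr 1
    · apply Finset.sum_congr rfl
      intro i _
      ring
    · ring

lemma exists_ker_pair (φ : (Fin 3 → k) →ₗ[k] k) :
    ∃ u₁ u₂ : Fin 3 → k, φ u₁ = 0 ∧ φ u₂ = 0 ∧
      ∀ s t : k, s • u₁ + t • u₂ = 0 → s = 0 ∧ t = 0 := by
  have h1 := LinearMap.finrank_range_add_finrank_ker φ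
  have h2 : Module.finrank k (LinearMap.range φ) ≤ 1 := by
    have := Submodule.finrank_le (LinearMap.range φ)
    simpa using this
  have h3 : Module.finrank k (Fin 3 → k) = 3 := by simp
  have h4 : 1 < Module.finrank k (LinearMap.ker φ) := by omega
  obtain ⟨x, hx⟩ : ∃ x : LinearMap.ker φ, x ≠ 0 := by
    have : 0 < Module.finrank k (LinearMap.ker φ) := by omega
    exact Module.finrank_pos_iff_exists_ne_zero.1 this
  obtain ⟨y, hy⟩ := exists_linearIndependent_pair_of_one_lt_finrank h4 hx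
  refine ⟨x.1, y.1, LinearMap.mem_ker.1 x.2, LinearMap.mem_ker.1 y.2, ?_⟩
  intro s t hst
  rw [LinearIndependent.pair_iff] at hy
  apply hy s t
  apply Subtype.ext
  simpa using hst

lemma mulVec_injective (A : Matrix (Fin 4) (Fin 3) k) (hA : A.rank = 3) :
    Function.Injective A.mulVec := by
  have h1 := LinearMap.finrank_range_add_finrank_ker A.mulVecLin
  have h2 : Module.finrank k (LinearMap.range A.mulVecLin) = 3 := hA
  have h3 : Module.finrank k (Fin 3 → k) = 3 := by simp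
  have h4 : Module.finrank k (LinearMap.ker A.mulVecLin) = 0 := by omega
  have h5 : LinearMap.ker A.mulVecLin = ⊥ := Submodule.finrank_eq_zero.1 h4
  exact LinearMap.ker_eq_bot.1 h5

lemma exists_coord (A : Matrix (Fin 4) (Fin 3) k) (hA : A.rank = 3) :
    ∃ i₀ : Fin 4, ∀ y : Fin 4 → k, A.transpose.mulVec y = 0 → y i₀ = 0 → y = 0 := by
  have h1 := LinearMap.finrank_range_add_finrank_ker A.transpose.mulVecLin
  have h2 : Module.finrank k (LinearMap.range A.transpose.mulVecLin) = 3 := by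
    have := Matrix.rank_transpose A
    rw [hA] at this
    exact this
  have h3 : Module.finrank k (Fin 4 → k) = 4 := by simp
  have h4 : Module.finrank k (LinearMap.ker A.transpose.mulVecLin) = 1 := by omega
  obtain ⟨n, hn0, hn⟩ := finrank_eq_one_iff'.1 h4
  have hn1 : (n : Fin 4 → k) ≠ 0 := fun h => hn0 (Subtype.ext h)
  obtain ⟨i₀, hi₀⟩ := Function.ne_iff.1 hn1
  refine ⟨i₀, fun y hy hy0 => ?_⟩
  obtain ⟨c, hc⟩ := hn ⟨y, by rw [LinearMap.mem_ker]; exact hy⟩
  have hc' : c • (n : Fin 4 → k) = y := congrArg Subtype.val hc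
  have h5 : c * (n : Fin 4 → k) i₀ = 0 := by
    rw [← hy0, ← hc']
    rfl
  have hc0 : c = 0 := by
    rcases mul_eq_zero.1 h5 with h | h
    · exact h
    · exact absurd h hi₀
  rw [← hc', hc0, zero_smul]

lemma eval_smul_of_isHomogeneous {σ : Type} [Fintype σ] {Q : MvPolynomial σ k} {d : ℕ}
    (hQ : Q.IsHomogeneous d) (s : k) (w : σ → k) :
    eval (s • w) Q = s ^ d * eval w Q := by
  rw [eval_eq', eval_eq', Finset.mul_sum]
  apply Finset.sum_congr rfl
  intro m hm
  have hdeg : ∑ i, m i = d := by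
    have h1 := hQ (mem_support_iff.1 hm)
    rw [← Finsupp.degree_eq_sum, Finsupp.degree_eq_weight_one]
    exact h1
  simp only [Pi.smul_apply, smul_eq_mul, mul_pow, Finset.prod_mul_distrib,
    Finset.prod_pow_eq_pow_sum, hdeg]
  ring

lemma poly_eval_aeval {σ : Type} (h : σ → Polynomial k) (s : k) (Q : MvPolynomial σ k) :
    (aeval h Q).eval s = eval (fun j => (h j).eval s) Q := by
  induction Q using MvPolynomial.induction_on with
  | C a => simp
  | add p q hp hq => simp [hp, hq]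
  | mul_X p i hp => simp [hp]

lemma exists_zero_on_pair [IsAlgClosed k] [CharZero k] {Q : MvPolynomial (Fin 3) k}
    (hQ : Q.IsHomogeneous 2) (u₁ u₂ : Fin 3 → k) :
    ∃ s t : k, (s ≠ 0 ∨ t ≠ 0) ∧ eval (s • u₁ + t • u₂) Q = 0 := by
  obtain ⟨P₁, hP₁⟩ : ∃ P₁ : Polynomial k, P₁ =
    aeval (fun j => Polynomial.C (u₁ j) * Polynomial.X + Polynomial.C (u₂ j)) Q := ⟨_, rfl⟩
  obtain ⟨P₂, hP₂⟩ : ∃ P₂ : Polynomial k, P₂ =
    aeval (fun j => Polynomial.C (u₁ j) + Polynomial.C (u₂ j) * Polynomial.X) Q := ⟨_, rfl⟩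
  have e₁ : ∀ s, P₁.eval s = eval (s • u₁ + u₂) Q := by
    intro s
    rw [hP₁, poly_eval_aeval]
    have hfun : (fun j => Polynomial.eval s
        (Polynomial.C (u₁ j) * Polynomial.X + Polynomial.C (u₂ j))) = s • u₁ + u₂ := by
      funext j
      simp only [Polynomial.eval_add, Polynomial.eval_mul, Polynomial.eval_C, Polynomial.eval_X,
        Pi.add_apply, Pi.smul_apply, smul_eq_mul]
      ring
    rw [hfun]
  have e₂ : ∀ t, P₂.eval t = eval (u₁ + t • u₂) Q := by
    intro t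
    rw [hP₂, poly_eval_aeval]
    have hfun : (fun j => Polynomial.eval t
        (Polynomial.C (u₁ j) + Polynomial.C (u₂ j) * Polynomial.X)) = u₁ + t • u₂ := by
      funext j
      simp only [Polynomial.eval_add, Polynomial.eval_mul, Polynomial.eval_C, Polynomial.eval_X,
        Pi.add_apply, Pi.smul_apply, smul_eq_mul]
      ring
    rw [hfun]
  by_cases h1 : P₁.degree ≠ 0
  · obtain ⟨s₀, hs₀⟩ := IsAlgClosed.exists_root P₁ h1
    refine ⟨s₀, 1, Or.inr one_ne_zero, ?_⟩
    rw [one_smul, ← e₁]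
    exact hs₀
  by_cases h2 : P₂.degree ≠ 0
  · obtain ⟨t₀, ht₀⟩ := IsAlgClosed.exists_root P₂ h2
    refine ⟨1, t₀, Or.inl one_ne_zero, ?_⟩
    rw [one_smul, ← e₂]
    exact ht₀
  rw [not_not] at h1 h2
  obtain ⟨c₁, hc₁⟩ : ∃ c, P₁ = Polynomial.C c := ⟨_, Polynomial.eq_C_of_degree_eq_zero h1⟩
  obtain ⟨c₂, hc₂⟩ : ∃ c, P₂ = Polynomial.C c := ⟨_, Polynomial.eq_C_of_degree_eq_zero h2⟩
  have hsc : ∀ s : k, s ≠ 0 → P₁.eval s = s ^ 2 * P₂.eval s⁻¹ := by
    intro s hs
    rw [e₁, e₂, ← eval_smul_of_isHomogeneous hQ]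
    congr 1
    rw [smul_add, smul_smul, mul_inv_cancel₀ hs, one_smul]
  have hA := hsc 1 one_ne_zero
  have hB := hsc 2 two_ne_zero
  rw [hc₁, hc₂] at hA hB
  simp only [Polynomial.eval_C] at hA hB
  have h3 : (3 : k) * c₂ = 0 := by linear_combination hA - hB
  have hc0 : c₂ = 0 := by
    rcases mul_eq_zero.1 h3 with h | h
    · exact absurd h (by norm_num)
    · exact h
  refine ⟨1, 0, Or.inl one_ne_zero, ?_⟩
  have h4 := e₂ 0
  rw [hc₂, hc0] at h4
  simp only [Polynomial.eval_C] at h4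
  rw [one_smul]
  exact h4.symm

lemma linear_form {ℓ : MvPolynomial (Fin 3) k} (hℓ : ℓ.IsHomogeneous 1) :
    ∃ a : Fin 3 → k, ∀ w, eval w ℓ = ∑ i, w i * a i := by
  have hE := hℓ.sum_X_mul_pderiv
  have hC : ∀ i, ∃ c : k, pderiv i ℓ = C c := by
    intro i
    have h0 : (pderiv i ℓ).IsHomogeneous 0 := hℓ.pderiv
    exact ⟨_, totalDegree_eq_zero_iff_eq_C.1 ((totalDegree_zero_iff_isHomogeneous _).2 h0)⟩
  choose a ha using hC
  refine ⟨a, fun w => ?_⟩
  have h1 : ℓ = ∑ i, X i * pderiv i ℓ := by rw [hE, one_smul]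
  conv_lhs => rw [h1]
  rw [map_sum]
  apply Finset.sum_congr rfl
  intro i _
  rw [map_mul, eval_X, ha i, eval_C]

lemma top_component (a b : k) (ℓ m g : MvPolynomial (Fin 3) k) (hℓ : ℓ.IsHomogeneous 1)
    (hm : m.IsHomogeneous 1) (hg : g.IsHomogeneous 3)
    (h : g = (C a + ℓ) * (C a + ℓ) * (C b + m)) : g = ℓ * ℓ * m := by
  have hexp : g = ℓ * ℓ * m + (C (2 * a) * (ℓ * m) + C b * (ℓ * ℓ))
      + (C (a * a) * m + C (2 * a * b) * ℓ) + C (a * a * b) := by
    rw [h]
    simp only [map_mul, map_ofNat]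
    ring
  have t1 : (ℓ * ℓ * m) ∈ homogeneousSubmodule (Fin 3) k 3 := (hℓ.mul hℓ).mul hm
  have t2 : (C (2 * a) * (ℓ * m) + C b * (ℓ * ℓ)) ∈ homogeneousSubmodule (Fin 3) k 2 :=
    (((isHomogeneous_C _ _).mul (hℓ.mul hm)).add ((isHomogeneous_C _ _).mul (hℓ.mul hℓ)) :
      IsHomogeneous _ (0 + (1 + 1)))
  have t3 : (C (a * a) * m + C (2 * a * b) * ℓ) ∈ homogeneousSubmodule (Fin 3) k 1 :=
    (((isHomogeneous_C _ _).mul hm).add ((isHomogeneous_C _ _).mul hℓ) :
      IsHomogeneous _ (0 + 1))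
  have t4 : (C (a * a * b) : MvPolynomial (Fin 3) k) ∈ homogeneousSubmodule (Fin 3) k 0 :=
    isHomogeneous_C _ _
  have h3 := congrArg (homogeneousComponent 3) hexp
  rw [map_add, map_add, map_add, homogeneousComponent_of_mem t1, homogeneousComponent_of_mem t2,
    homogeneousComponent_of_mem t3, homogeneousComponent_of_mem t4,
    homogeneousComponent_of_mem ((mem_homogeneousSubmodule _ _).2 hg)] at h3
  simpa using h3

lemma exists_linear_factor {g x q : MvPolynomial (Fin 3) k} (hg : g.IsHomogeneous 3)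
    (hgx : g = x * x * q) (hx : ¬ IsUnit x) :
    ∃ ℓ m : MvPolynomial (Fin 3) k, ℓ.IsHomogeneous 1 ∧ g = ℓ * ℓ * m := by
  by_cases hg0 : g = 0
  · exact ⟨0, 0, isHomogeneous_zero _ _ _, by simp [hg0]⟩
  have hx0 : x ≠ 0 := by
    rintro rfl
    simp at hgx
    exact hg0 hgx
  have hq0 : q ≠ 0 := by
    rintro rfl
    simp at hgx
    exact hg0 hgx
  have hd : g.totalDegree = 3 := hg.totalDegree hg0
  have hd2 : g.totalDegree = x.totalDegree + x.totalDegree + q.totalDegree := by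
    rw [hgx, totalDegree_mul_of_isDomain (mul_ne_zero hx0 hx0) hq0,
      totalDegree_mul_of_isDomain hx0 hx0]
  have hx1 : x.totalDegree ≠ 0 := by
    intro h0
    rw [totalDegree_eq_zero_iff_eq_C] at h0
    apply hx
    rw [h0]
    have : coeff 0 x ≠ 0 := by
      intro h
      rw [h, C_0] at h0
      exact hx0 h0
    exact (isUnit_iff_ne_zero.2 this).map C
  have hxd : x.totalDegree = 1 := by omega
  have hqd : q.totalDegree = 1 := by omega
  have hxs : x = C (coeff 0 x) + homogeneousComponent 1 x := by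
    have := sum_homogeneousComponent x
    rw [hxd, Finset.sum_range_succ, Finset.sum_range_one, homogeneousComponent_zero] at this
    exact this.symm
  have hqs : q = C (coeff 0 q) + homogeneousComponent 1 q := by
    have := sum_homogeneousComponent q
    rw [hqd, Finset.sum_range_succ, Finset.sum_range_one, homogeneousComponent_zero] at this
    exact this.symm
  refine ⟨homogeneousComponent 1 x, homogeneousComponent 1 q,
    homogeneousComponent_isHomogeneous 1 x, ?_⟩
  apply top_component (coeff 0 x) (coeff 0 q) _ _ g (homogeneousComponent_isHomogeneous 1 x)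
    (homogeneousComponent_isHomogeneous 1 q) hg
  rw [← hxs, ← hqs]
  exact hgx

theorem s12424 (k : Type u) [Field k] [IsAlgClosed k] [CharZero k]
    (f : MvPolynomial (Fin 4) k) (hf : f.IsHomogeneous 3)
    (hsm : ∀ v : Fin 4 → k, v ≠ 0 → eval v f = 0 →
      ∃ i : Fin 4, eval v (pderiv i f) ≠ 0)
    (A : Matrix (Fin 4) (Fin 3) k) (hA : A.rank = 3) :
    Squarefree (Phi A f) := by
  intro x hx
  by_contra hxu
  obtain ⟨q, hq⟩ := hx
  have hhom : ∀ (p : MvPolynomial (Fin 4) k) (d : ℕ), p.IsHomogeneous d →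
      (Phi A p).IsHomogeneous d := by
    intro p d hp
    have := hp.aeval (fun i : Fin 4 => ∑ j : Fin 3, C (A i j) * (X j : MvPolynomial (Fin 3) k))
      (n := 1) (fun i => IsHomogeneous.sum _ _ _ (fun j _ => isHomogeneous_C_mul_X _ _))
    rw [one_mul] at this
    exact this
  have hg : (Phi A f).IsHomogeneous 3 := hhom f 3 hf
  obtain ⟨ℓ, m, hℓ, hgl⟩ := exists_linear_factor hg hq hxu
  obtain ⟨a, ha⟩ := linear_form hℓ
  obtain ⟨φ, hφ⟩ : ∃ φ : (Fin 3 → k) →ₗ[k] k, ∀ w, φ w = ∑ i, w i * a i :=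
    ⟨∑ i, a i • LinearMap.proj i, fun w => by simp [mul_comm]⟩
  obtain ⟨u₁, u₂, h1, h2, hind⟩ := exists_ker_pair φ
  obtain ⟨i₀, hi₀⟩ := exists_coord A hA
  have hQ : (Phi A (pderiv i₀ f)).IsHomogeneous 2 := hhom _ 2 hf.pderiv
  obtain ⟨s, t, hst, hQ0⟩ := exists_zero_on_pair hQ u₁ u₂
  obtain ⟨w, hw⟩ : ∃ w, w = s • u₁ + t • u₂ := ⟨_, rfl⟩
  rw [← hw] at hQ0
  have hw0 : w ≠ 0 := by
    intro h
    rw [hw] at h
    obtain ⟨hs, ht⟩ := hind s t h
    rcases hst with h | h
    · exact h hs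
    · exact h ht
  have hφw : eval w ℓ = 0 := by
    rw [ha, ← hφ, hw, map_add, map_smul, map_smul, h1, h2]
    simp
  have hgw : eval w (Phi A f) = 0 := by
    rw [hgl]
    simp [hφw]
  have hdgw : ∀ j, eval w (pderiv j (Phi A f)) = 0 := by
    intro j
    rw [hgl]
    simp only [Derivation.leibniz, smul_eq_mul, map_add, map_mul, hφw]
    ring
  have hv0 : A.mulVec w ≠ 0 := by
    intro h
    apply hw0
    apply mulVec_injective A hA
    rw [h, Matrix.mulVec_zero]
  have hfv : eval (A.mulVec w) f = 0 := by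
    rw [← eval_Phi]
    exact hgw
  obtain ⟨i, hi⟩ := hsm _ hv0 hfv
  have hy : (fun i => eval (A.mulVec w) (pderiv i f)) = 0 := by
    apply hi₀
    · ext j
      simp only [Matrix.mulVec, dotProduct, Matrix.transpose_apply, Pi.zero_apply]
      have := hdgw j
      rw [pderiv_Phi, map_sum] at this
      simp only [map_mul, eval_C, eval_Phi] at this
      exact this
    · show eval (A.mulVec w) (pderiv i₀ f) = 0
      rw [← eval_Phi]
      exact hQ0
  exact hi (congrFun hy i)

end Groth.Agent.Helper17.Cub
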