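import Mathlib
import Groth.Agent.Lib.Helper17.Cub

open MvPolynomial Matrix

namespace Groth.Agent.Helper17.Conic

universe u
variable {k : Type u} [Field k]

lemma bil_symm {Q : Matrix (Fin 3) (Fin 3) k} (hQ : Q.IsSymm) (x y : Fin 3 → k) :
    x ⬝ᵥ Q *ᵥ y = y ⬝ᵥ Q *ᵥ x := by
  rw [dotProduct_mulVec, ← mulVec_transpose, hQ.eq, dotProduct_comm]

lemma vmv (p q x : Fin 3 → k) : vecMulVec p q *ᵥ x = (q ⬝ᵥ x) • p := by
  ext i
  simp only [mulVec, dotProduct, vecMulVec_apply, Pi.smul_apply, smul_eq_mul, Finset.sum_mul]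
  apply Finset.sum_congr rfl
  intro j _
  ring

lemma eq_zero_of_qf (h2 : (2 : k) ≠ 0) {A : Matrix (Fin 3) (Fin 3) k} (hA : A.IsSymm)
    (h : ∀ w : Fin 3 → k, w ⬝ᵥ A *ᵥ w = 0) : A = 0 := by
  have hd : ∀ i, A i i = 0 := by
    intro i
    have := h (Pi.single i 1)
    rwa [mulVec_single_one, single_one_dotProduct] at this
  ext i j
  have := h (Pi.single i 1 + Pi.single j 1)
  rw [mulVec_add, dotProduct_add, add_dotProduct, add_dotProduct, mulVec_single_one,
    mulVec_single_one, single_one_dotProduct, single_one_dotProduct, single_one_dotProduct,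
    single_one_dotProduct] at this
  have hs : A j i = A i j := hA.apply i j
  simp only [Matrix.col_apply] at this
  rw [hd i, hd j, hs] at this
  have h3 : 2 * A i j = 0 := by linear_combination this
  simpa using (mul_eq_zero.1 h3).resolve_left h2

lemma lagrange_step {Q : Matrix (Fin 3) (Fin 3) k} (hQ : Q.IsSymm) (w : Fin 3 → k)
    (hc : w ⬝ᵥ Q *ᵥ w ≠ 0) :
    (Q - (w ⬝ᵥ Q *ᵥ w)⁻¹ • vecMulVec (Q *ᵥ w) (Q *ᵥ w)).IsSymm ∧
    (Q - (w ⬝ᵥ Q *ᵥ w)⁻¹ • vecMulVec (Q *ᵥ w) (Q *ᵥ w)) *ᵥ w = 0 ∧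
    (∀ u, Q *ᵥ u = 0 → (Q - (w ⬝ᵥ Q *ᵥ w)⁻¹ • vecMulVec (Q *ᵥ w) (Q *ᵥ w)) *ᵥ u = 0) ∧
    (∀ x, (Q - (w ⬝ᵥ Q *ᵥ w)⁻¹ • vecMulVec (Q *ᵥ w) (Q *ᵥ w)) *ᵥ x =
      Q *ᵥ x - ((w ⬝ᵥ Q *ᵥ w)⁻¹ * ((Q *ᵥ w) ⬝ᵥ x)) • (Q *ᵥ w)) := by
  have hx : ∀ x, (Q - (w ⬝ᵥ Q *ᵥ w)⁻¹ • vecMulVec (Q *ᵥ w) (Q *ᵥ w)) *ᵥ x =
      Q *ᵥ x - ((w ⬝ᵥ Q *ᵥ w)⁻¹ * ((Q *ᵥ w) ⬝ᵥ x)) • (Q *ᵥ w) := by
    intro x
    rw [sub_mulVec, smul_mulVec, vmv, smul_smul]
  refine ⟨?_, ?_, ?_, hx⟩
  · unfold Matrix.IsSymm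
    rw [transpose_sub, transpose_smul, transpose_vecMulVec, hQ.eq]
  · rw [hx, dotProduct_comm (Q *ᵥ w) w, inv_mul_cancel₀ hc, one_smul, sub_self]
  · intro u hu
    rw [hx, hu, dotProduct_comm (Q *ᵥ w) u, bil_symm hQ u w, hu, dotProduct_zero, mul_zero, zero_smul,
      sub_zero]


lemma lagrange_step' {Q : Matrix (Fin 3) (Fin 3) k} (hQ : Q.IsSymm) (w : Fin 3 → k)
    (hc : w ⬝ᵥ Q *ᵥ w ≠ 0) :
    ∃ (c : k) (Q' : Matrix (Fin 3) (Fin 3) k),
      Q = c • vecMulVec (Q *ᵥ w) (Q *ᵥ w) + Q' ∧ Q'.IsSymm ∧ Q' *ᵥ w = 0 ∧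
      ∀ u, Q *ᵥ u = 0 → Q' *ᵥ u = 0 := by
  obtain ⟨h1, h2, h3, -⟩ := lagrange_step hQ w hc
  exact ⟨(w ⬝ᵥ Q *ᵥ w)⁻¹, _, by abel, h1, h2, h3⟩

lemma two_squares [IsAlgClosed k] (c c₁ : k) (p p₁ : Fin 3 → k) :
    ∃ a b : Fin 3 → k, vecMulVec a b + vecMulVec b a =
      (2 * c) • vecMulVec p p + (2 * c₁) • vecMulVec p₁ p₁ := by
  obtain ⟨α, hα⟩ := IsAlgClosed.exists_pow_nat_eq c (n := 2) two_pos
  obtain ⟨β, hβ⟩ := IsAlgClosed.exists_pow_nat_eq c₁ (n := 2) two_pos
  obtain ⟨ι, hι⟩ := IsAlgClosed.exists_pow_nat_eq (-1 : k) (n := 2) two_pos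
  refine ⟨α • p + (ι * β) • p₁, α • p - (ι * β) • p₁, ?_⟩
  ext i j
  simp only [Matrix.add_apply, Matrix.smul_apply, vecMulVec_apply, Pi.add_apply, Pi.sub_apply,
    Pi.smul_apply, smul_eq_mul]
  linear_combination (2 * p i * p j) * hα + (2 * p₁ i * p₁ j) * hβ
    - (2 * p₁ i * p₁ j * β ^ 2) * hι

theorem exists_factor_of_det_zero [IsAlgClosed k] (h2 : (2 : k) ≠ 0)
    {Q : Matrix (Fin 3) (Fin 3) k} (hQ : Q.IsSymm) (hdet : Q.det = 0) :
    ∃ a b : Fin 3 → k, Q + Q = vecMulVec a b + vecMulVec b a := by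
  obtain ⟨u, hu0, hu⟩ := (exists_mulVec_eq_zero_iff (M := Q)).2 hdet
  by_cases h0 : ∀ w : Fin 3 → k, w ⬝ᵥ Q *ᵥ w = 0
  · refine ⟨0, 0, ?_⟩
    rw [eq_zero_of_qf h2 hQ h0]
    simp
  push Not at h0
  obtain ⟨w₀, hc⟩ := h0
  obtain ⟨c, Q₁, hQ1eq, hQ₁, hQ₁w₀, hQ₁ker⟩ := lagrange_step' hQ w₀ hc
  have hQ₁u := hQ₁ker u hu
  by_cases h1 : ∀ w : Fin 3 → k, w ⬝ᵥ Q₁ *ᵥ w = 0
  · have hz := eq_zero_of_qf h2 hQ₁ h1
    obtain ⟨a, b, hab⟩ := two_squares c 0 (Q *ᵥ w₀) 0
    refine ⟨a, b, ?_⟩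
    rw [hab]
    conv_lhs => rw [hQ1eq, hz]
    simp only [add_zero, mul_zero, zero_smul]
    rw [two_mul, add_smul]
  push Not at h1
  obtain ⟨w₁, hc₁⟩ := h1
  obtain ⟨c₁, Q₂, hQ2eq, hQ₂, hQ₂w₁, hQ₂ker⟩ := lagrange_step' hQ₁ w₁ hc₁
  have hQ₂w₀ := hQ₂ker w₀ hQ₁w₀
  have hQ₂u := hQ₂ker u hQ₁u
  have hp₁ : Q₁ *ᵥ w₁ ≠ 0 := by
    intro h
    apply hc₁
    rw [h, dotProduct_zero]
  have hp : Q *ᵥ w₀ ≠ 0 := by
    intro h
    apply hc
    rw [h, dotProduct_zero]
  have hli : LinearIndependent k ![w₀, w₁, u] := by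
    rw [Fintype.linearIndependent_iff]
    intro g hg0
    have hg : g 0 • w₀ + g 1 • w₁ + g 2 • u = 0 := by
      simpa [Fin.sum_univ_three] using hg0
    have e1 := congrArg (fun v => Q₁ *ᵥ v) hg
    simp only [mulVec_add, mulVec_smul, hQ₁w₀, hQ₁u, smul_zero, add_zero, zero_add,
      mulVec_zero] at e1
    have g1 : g 1 = 0 := (smul_eq_zero.1 e1).resolve_right hp₁
    rw [g1, zero_smul, add_zero] at hg
    have e2 := congrArg (fun v => Q *ᵥ v) hg
    simp only [mulVec_add, mulVec_smul, hu, smul_zero, add_zero, mulVec_zero] at e2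
    have g0 : g 0 = 0 := (smul_eq_zero.1 e2).resolve_right hp
    rw [g0, zero_smul, zero_add] at hg
    have g2 : g 2 = 0 := (smul_eq_zero.1 hg).resolve_right hu0
    intro i
    fin_cases i
    · exact g0
    · exact g1
    · exact g2
  have hspan : Submodule.span k (Set.range ![w₀, w₁, u]) = ⊤ :=
    hli.span_eq_top_of_card_eq_finrank' (by simp)
  have hall : ∀ x, Q₂ *ᵥ x = 0 := by
    intro x
    have hx : x ∈ Submodule.span k (Set.range ![w₀, w₁, u]) := by
      rw [hspan]; trivial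
    induction hx using Submodule.span_induction with
    | mem y hy =>
      obtain ⟨i, rfl⟩ := hy
      fin_cases i
      · exact hQ₂w₀
      · exact hQ₂w₁
      · exact hQ₂u
    | zero => exact mulVec_zero _
    | add y z _ _ hy hz => rw [mulVec_add, hy, hz, add_zero]
    | smul r y _ hy => rw [mulVec_smul, hy, smul_zero]
  have hz : Q₂ = 0 := eq_zero_of_qf h2 hQ₂ (fun w => by rw [hall w, dotProduct_zero])
  obtain ⟨a, b, hab⟩ := two_squares c c₁ (Q *ᵥ w₀) (Q₁ *ᵥ w₁)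
  refine ⟨a, b, ?_⟩
  rw [hab]
  conv_lhs => rw [hQ1eq]
  conv_lhs => rw [hQ2eq, hz]
  simp only [add_zero]
  rw [two_mul, two_mul, add_smul, add_smul]
  abel


/-- the linear form with coefficient vector `a` -/
noncomputable def lf (a : Fin 3 → k) : MvPolynomial (Fin 3) k := ∑ i : Fin 3, a i • X i

lemma eval_lf (a w : Fin 3 → k) : eval w (lf a) = a ⬝ᵥ w := by
  simp [lf, dotProduct, smul_eval]

lemma lf_hom (a : Fin 3 → k) : (lf a).IsHomogeneous 1 := by
  unfold lf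
  apply IsHomogeneous.sum
  intro i _
  rw [smul_eq_C_mul]
  exact (isHomogeneous_X _ i).C_mul _

lemma eval_f {Q : Matrix (Fin 3) (Fin 3) k} {f : MvPolynomial (Fin 3) k}
    (hf : f = ∑ i : Fin 3, ∑ j : Fin 3, Q i j • (X i * X j)) (w : Fin 3 → k) :
    eval w f = w ⬝ᵥ Q *ᵥ w := by
  rw [hf]
  simp only [map_sum, smul_eval, map_mul, eval_X, dotProduct, mulVec]
  apply Finset.sum_congr rfl
  intro i _
  rw [Finset.mul_sum]
  apply Finset.sum_congr rfl
  intro j _
  ring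

lemma f_hom {Q : Matrix (Fin 3) (Fin 3) k} {f : MvPolynomial (Fin 3) k}
    (hf : f = ∑ i : Fin 3, ∑ j : Fin 3, Q i j • (X i * X j)) : f.IsHomogeneous 2 := by
  rw [hf]
  apply IsHomogeneous.sum
  intro i _
  apply IsHomogeneous.sum
  intro j _
  rw [smul_eq_C_mul]
  exact ((isHomogeneous_X _ i).mul (isHomogeneous_X _ j)).C_mul _

lemma eval_pderiv_f {Q : Matrix (Fin 3) (Fin 3) k} (hQ : Q.IsSymm) {f : MvPolynomial (Fin 3) k}
    (hf : f = ∑ i : Fin 3, ∑ j : Fin 3, Q i j • (X i * X j)) (w : Fin 3 → k) (i : Fin 3) :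
    eval w (pderiv i f) = 2 * (Q *ᵥ w) i := by
  have h01 : Q 1 0 = Q 0 1 := hQ.apply 0 1
  have h02 : Q 2 0 = Q 0 2 := hQ.apply 0 2
  have h12 : Q 2 1 = Q 1 2 := hQ.apply 1 2
  rw [hf]
  fin_cases i <;>
  simp [Fin.sum_univ_three, mulVec, dotProduct, pderiv_X, Pi.single_apply, smul_eval,
    Derivation.leibniz, h01, h02, h12] <;> ring

lemma qf_factor_iff (h2 : (2 : k) ≠ 0) {Q : Matrix (Fin 3) (Fin 3) k} (hQ : Q.IsSymm)
    (a b : Fin 3 → k) :
    (∀ w, w ⬝ᵥ Q *ᵥ w = (a ⬝ᵥ w) * (b ⬝ᵥ w)) ↔ Q + Q = vecMulVec a b + vecMulVec b a := by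
  have key : ∀ w : Fin 3 → k, w ⬝ᵥ (vecMulVec a b + vecMulVec b a) *ᵥ w =
      2 * ((a ⬝ᵥ w) * (b ⬝ᵥ w)) := by
    intro w
    rw [add_mulVec, vmv, vmv, dotProduct_add, dotProduct_smul, dotProduct_smul, smul_eq_mul,
      smul_eq_mul, dotProduct_comm w a, dotProduct_comm w b]
    ring
  constructor
  · intro h
    have hz : Q + Q - (vecMulVec a b + vecMulVec b a) = 0 := by
      apply eq_zero_of_qf h2
      · unfold Matrix.IsSymm
        rw [transpose_sub, transpose_add, transpose_add, transpose_vecMulVec,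
          transpose_vecMulVec, hQ.eq, add_comm (vecMulVec b a)]
      · intro w
        rw [sub_mulVec, dotProduct_sub, key, add_mulVec, dotProduct_add, h]
        ring
    exact sub_eq_zero.1 hz
  · intro h w
    have := key w
    rw [← h, add_mulVec, dotProduct_add] at this
    have h3 : 2 * (w ⬝ᵥ Q *ᵥ w) = 2 * ((a ⬝ᵥ w) * (b ⬝ᵥ w)) := by linear_combination this
    exact mul_left_cancel₀ h2 h3

lemma f_eq_iff [Infinite k] (h2 : (2 : k) ≠ 0) {Q : Matrix (Fin 3) (Fin 3) k} (hQ : Q.IsSymm)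
    {f : MvPolynomial (Fin 3) k}
    (hf : f = ∑ i : Fin 3, ∑ j : Fin 3, Q i j • (X i * X j)) (a b : Fin 3 → k) :
    f = lf a * lf b ↔ Q + Q = vecMulVec a b + vecMulVec b a := by
  rw [← qf_factor_iff h2 hQ]
  constructor
  · intro h w
    rw [← eval_f hf, h, map_mul, eval_lf, eval_lf]
  · intro h
    apply MvPolynomial.funext
    intro w
    rw [eval_f hf, h, map_mul, eval_lf, eval_lf]

lemma det_zero_of_factor (h2 : (2 : k) ≠ 0) {Q : Matrix (Fin 3) (Fin 3) k} (a b : Fin 3 → k)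
    (h : Q + Q = vecMulVec a b + vecMulVec b a) : Q.det = 0 := by
  have h1 : (Q + Q).det = 0 := by
    rw [h, det_fin_three]
    simp only [Matrix.add_apply, vecMulVec_apply]
    ring
  have h3 : Q + Q = (2 : k) • Q := (two_smul k Q).symm
  rw [h3, det_smul, Fintype.card_fin] at h1
  rcases mul_eq_zero.1 h1 with h | h
  · exact absurd ((pow_eq_zero_iff (n := 3) (by norm_num)).1 h) h2
  · exact h

lemma rank_add_ker {m : ℕ} (Q : Matrix (Fin m) (Fin 3) k) :
    Q.rank + Module.finrank k (LinearMap.ker Q.mulVecLin) = 3 := by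
  have := LinearMap.finrank_range_add_finrank_ker Q.mulVecLin
  simpa [Matrix.rank] using this

lemma two_mulVec (h2 : (2 : k) ≠ 0) {Q : Matrix (Fin 3) (Fin 3) k} {a b : Fin 3 → k}
    (h : Q + Q = vecMulVec a b + vecMulVec b a) (w : Fin 3 → k) :
    (2 : k) • (Q *ᵥ w) = (b ⬝ᵥ w) • a + (a ⬝ᵥ w) • b := by
  rw [two_smul, ← add_mulVec, h, add_mulVec, vmv, vmv]

lemma rank_two (h2 : (2 : k) ≠ 0) {Q : Matrix (Fin 3) (Fin 3) k} {a b : Fin 3 → k}
    (hab : LinearIndependent k ![a, b]) (h : Q + Q = vecMulVec a b + vecMulVec b a) :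
    Q.rank = 2 := by
  let T : Matrix (Fin 2) (Fin 3) k := Matrix.of ![a, b]
  have hT : T.rank = 2 := by
    have : LinearIndependent k T.row := hab
    simpa using this.rank_matrix
  have hTw : ∀ w, T *ᵥ w = ![a ⬝ᵥ w, b ⬝ᵥ w] := by
    intro w
    ext i
    fin_cases i <;> simp [T, mulVec]
  have hker : LinearMap.ker Q.mulVecLin = LinearMap.ker T.mulVecLin := by
    ext w
    simp only [LinearMap.mem_ker, mulVecLin_apply]
    have hQw := two_mulVec h2 h w
    constructor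
    · intro hw
      rw [hw, smul_zero] at hQw
      have := (LinearIndependent.pair_iff.1 hab) (b ⬝ᵥ w) (a ⬝ᵥ w) hQw.symm
      rw [hTw, this.1, this.2]
      simp
    · intro hw
      rw [hTw] at hw
      have ha : a ⬝ᵥ w = 0 := by simpa using congrFun hw 0
      have hb : b ⬝ᵥ w = 0 := by simpa using congrFun hw 1
      rw [ha, hb, zero_smul, zero_smul, add_zero] at hQw
      exact (smul_eq_zero.1 hQw).resolve_left h2
  have h1 := rank_add_ker Q
  have h3 := rank_add_ker T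
  rw [hker] at h1
  omega

lemma rank_le_one (h2 : (2 : k) ≠ 0) {Q : Matrix (Fin 3) (Fin 3) k} {a b : Fin 3 → k}
    (hab : ¬ LinearIndependent k ![a, b]) (h : Q + Q = vecMulVec a b + vecMulVec b a) :
    Q.rank ≤ 1 := by
  rw [LinearIndependent.pair_iff] at hab
  push Not at hab
  obtain ⟨s, t, hst, hne⟩ := hab
  have hmem : ∀ w, Q *ᵥ w ∈ Submodule.span k ({a, b} : Set (Fin 3 → k)) := by
    intro w
    rw [← Submodule.smul_mem_iff _ h2, two_mulVec h2 h w]
    refine Submodule.add_mem _ (Submodule.smul_mem _ _ ?_) (Submodule.smul_mem _ _ ?_)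
    · exact Submodule.subset_span (by simp)
    · exact Submodule.subset_span (by simp)
  have hd : ∃ d : Fin 3 → k, Submodule.span k ({a, b} : Set (Fin 3 → k)) = Submodule.span k {d} := by
    by_cases ht : t = 0
    · have hs : s ≠ 0 := fun h => hne h ht
      have ha : a = 0 := by
        rw [ht, zero_smul, add_zero] at hst
        exact (smul_eq_zero.1 hst).resolve_left hs
      refine ⟨b, Submodule.span_insert_eq_span ?_⟩
      rw [ha]
      exact zero_mem _
    · refine ⟨a, ?_⟩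
      rw [Set.pair_comm]
      refine Submodule.span_insert_eq_span ?_
      rw [Submodule.mem_span_singleton]
      refine ⟨-(s / t), ?_⟩
      have : t • b = -(s • a) := eq_neg_of_add_eq_zero_right hst
      have h4 : b = t⁻¹ • (t • b) := by rw [smul_smul, inv_mul_cancel₀ ht, one_smul]
      rw [h4, this, smul_neg, smul_smul, neg_smul, div_eq_inv_mul]
  obtain ⟨d, hd⟩ := hd
  have hle : LinearMap.range Q.mulVecLin ≤ Submodule.span k {d} := by
    rintro _ ⟨w, rfl⟩
    rw [← hd]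
    exact hmem w
  have h5 : Module.finrank k (Submodule.span k ({d} : Set (Fin 3 → k))) ≤ 1 :=
    (finrank_span_le_card ({d} : Set (Fin 3 → k))).trans (by simp)
  exact (Submodule.finrank_mono hle).trans h5

lemma rank_pos (h2 : (2 : k) ≠ 0) {Q : Matrix (Fin 3) (Fin 3) k} (hQ : Q.IsSymm) (hQ0 : Q ≠ 0) :
    1 ≤ Q.rank := by
  by_contra hlt
  have h0 : Module.finrank k (LinearMap.range Q.mulVecLin) = 0 := by
    have : Q.rank = 0 := by omega
    exact this
  have hbot : LinearMap.range Q.mulVecLin = ⊥ := Submodule.finrank_eq_zero.1 h0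
  apply hQ0
  apply eq_zero_of_qf h2 hQ
  intro w
  have : Q *ᵥ w ∈ LinearMap.range Q.mulVecLin := ⟨w, rfl⟩
  rw [hbot, Submodule.mem_bot] at this
  rw [this, dotProduct_zero]

lemma det_zero_of_rank_lt {Q : Matrix (Fin 3) (Fin 3) k} (h : Q.rank < 3) : Q.det = 0 := by
  by_contra hdet
  have hu : IsUnit Q := (Matrix.isUnit_iff_isUnit_det _).2 (IsUnit.mk0 _ hdet)
  have := rank_of_isUnit Q hu
  simp at this
  omega

lemma not_isUnit_of_hom3 {p : MvPolynomial (Fin 3) k} {m : ℕ} (hm : 0 < m)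
    (hp : p.IsHomogeneous m) (hp0 : p ≠ 0) : ¬ IsUnit p := by
  intro hu
  have h1 := (isUnit_iff_totalDegree_of_isReduced.1 hu).2
  rw [hp.totalDegree hp0] at h1
  omega

lemma top_component2 (a b : k) (ℓ m g : MvPolynomial (Fin 3) k) (hℓ : ℓ.IsHomogeneous 1)
    (hm : m.IsHomogeneous 1) (hg : g.IsHomogeneous 2)
    (h : g = (C a + ℓ) * (C b + m)) : g = ℓ * m := by
  have hexp : g = ℓ * m + (C a * m + C b * ℓ) + C (a * b) := by
    rw [h]
    simp only [map_mul]
    ring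
  have t1 : (ℓ * m) ∈ homogeneousSubmodule (Fin 3) k 2 := hℓ.mul hm
  have t2 : (C a * m + C b * ℓ) ∈ homogeneousSubmodule (Fin 3) k 1 :=
    (((isHomogeneous_C _ _).mul hm).add ((isHomogeneous_C _ _).mul hℓ) :
      IsHomogeneous _ (0 + 1))
  have t3 : (C (a * b) : MvPolynomial (Fin 3) k) ∈ homogeneousSubmodule (Fin 3) k 0 :=
    isHomogeneous_C _ _
  have h3 := congrArg (homogeneousComponent 2) hexp
  rw [map_add, map_add, homogeneousComponent_of_mem t1, homogeneousComponent_of_mem t2,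
    homogeneousComponent_of_mem t3,
    homogeneousComponent_of_mem ((mem_homogeneousSubmodule _ _).2 hg)] at h3
  simpa using h3


theorem irreducible_of_det_ne_zero [IsAlgClosed k] [CharZero k]
    {Q : Matrix (Fin 3) (Fin 3) k} (hQ : Q.IsSymm) (hQ0 : Q ≠ 0) {f : MvPolynomial (Fin 3) k}
    (hf : f = ∑ i : Fin 3, ∑ j : Fin 3, Q i j • (X i * X j)) (hdet : Q.det ≠ 0) :
    Irreducible f := by
  have h2 : (2 : k) ≠ 0 := two_ne_zero
  have hfh := f_hom hf
  have hf0 : f ≠ 0 := by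
    intro h0
    apply hQ0
    apply eq_zero_of_qf h2 hQ
    intro w
    rw [← eval_f hf, h0, map_zero]
  refine ⟨not_isUnit_of_hom3 two_pos hfh hf0, ?_⟩
  intro g h hgh
  have hg0 : g ≠ 0 := by
    rintro rfl
    rw [zero_mul] at hgh
    exact hf0 hgh
  have hh0 : h ≠ 0 := by
    rintro rfl
    rw [mul_zero] at hgh
    exact hf0 hgh
  have hd : f.totalDegree = 2 := hfh.totalDegree hf0
  have hd2 : f.totalDegree = g.totalDegree + h.totalDegree := by
    rw [hgh, totalDegree_mul_of_isDomain hg0 hh0]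
  have hunit : ∀ x : MvPolynomial (Fin 3) k, x ≠ 0 → x.totalDegree = 0 → IsUnit x := by
    intro x hx0 h0
    rw [totalDegree_eq_zero_iff_eq_C] at h0
    rw [h0]
    have : coeff 0 x ≠ 0 := by
      intro h
      rw [h, C_0] at h0
      exact hx0 h0
    exact (isUnit_iff_ne_zero.2 this).map C
  by_cases hgd : g.totalDegree = 0
  · exact Or.inl (hunit g hg0 hgd)
  by_cases hhd : h.totalDegree = 0
  · exact Or.inr (hunit h hh0 hhd)
  exfalso
  have hgd1 : g.totalDegree = 1 := by omega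
  have hhd1 : h.totalDegree = 1 := by omega
  have hgs : g = C (coeff 0 g) + homogeneousComponent 1 g := by
    have := sum_homogeneousComponent g
    rw [hgd1, Finset.sum_range_succ, Finset.sum_range_one, homogeneousComponent_zero] at this
    exact this.symm
  have hhs : h = C (coeff 0 h) + homogeneousComponent 1 h := by
    have := sum_homogeneousComponent h
    rw [hhd1, Finset.sum_range_succ, Finset.sum_range_one, homogeneousComponent_zero] at this
    exact this.symm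
  have hℓg := homogeneousComponent_isHomogeneous 1 g
  have hℓh := homogeneousComponent_isHomogeneous 1 h
  have htop : f = homogeneousComponent 1 g * homogeneousComponent 1 h := by
    apply top_component2 (coeff 0 g) (coeff 0 h) _ _ f hℓg hℓh hfh
    rw [← hgs, ← hhs]
    exact hgh
  obtain ⟨a, ha⟩ := Cub.linear_form hℓg
  obtain ⟨b, hb⟩ := Cub.linear_form hℓh
  apply hdet
  apply det_zero_of_factor h2 a b
  rw [← qf_factor_iff h2 hQ]
  intro w
  rw [← eval_f hf, htop, map_mul, ha, hb]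
  simp only [dotProduct]
  congr 1
  · apply Finset.sum_congr rfl
    intro i _
    ring
  · apply Finset.sum_congr rfl
    intro i _
    ring

theorem s13911 (k : Type u) [Field k] [IsAlgClosed k] [CharZero k]
    (Q : Matrix (Fin 3) (Fin 3) k) (hQ : Q.IsSymm) (hQ0 : Q ≠ 0) (f : MvPolynomial (Fin 3) k)
    (hf : f = ∑ i : Fin 3, ∑ j : Fin 3, Q i j • (MvPolynomial.X i * MvPolynomial.X j)) :
    (Irreducible f ↔ Q.det ≠ 0) ∧
    ((∃ u : Fin 3 → k, u ≠ 0 ∧ ∀ i : Fin 3, MvPolynomial.eval u (MvPolynomial.pderiv i f) = 0) ↔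
      Q.det = 0) ∧
    ((∃ a b : Fin 3 → k, LinearIndependent k ![a, b] ∧
        f = (∑ i : Fin 3, a i • MvPolynomial.X i) * (∑ i : Fin 3, b i • MvPolynomial.X i)) ↔
      Q.rank = 2) ∧
    ((∃ a : Fin 3 → k, f = (∑ i : Fin 3, a i • MvPolynomial.X i) ^ 2) ↔ Q.rank = 1) := by
  have h2 : (2 : k) ≠ 0 := two_ne_zero
  have hf0 : f ≠ 0 := by
    intro h0
    apply hQ0
    apply eq_zero_of_qf h2 hQ
    intro w
    rw [← eval_f hf, h0, map_zero]
  refine ⟨⟨?_, irreducible_of_det_ne_zero hQ hQ0 hf⟩, ?_, ?_, ?_⟩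
  · intro hirr hdet
    obtain ⟨a, b, hab⟩ := exists_factor_of_det_zero h2 hQ hdet
    have hfab := (f_eq_iff h2 hQ hf a b).2 hab
    have ha0 : lf a ≠ 0 := by
      intro h
      rw [h, zero_mul] at hfab
      exact hf0 hfab
    have hb0 : lf b ≠ 0 := by
      intro h
      rw [h, mul_zero] at hfab
      exact hf0 hfab
    rcases hirr.isUnit_or_isUnit hfab with hu | hu
    · exact not_isUnit_of_hom3 one_pos (lf_hom a) ha0 hu
    · exact not_isUnit_of_hom3 one_pos (lf_hom b) hb0 hu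
  · rw [← exists_mulVec_eq_zero_iff]
    constructor
    · rintro ⟨u, hu, h⟩
      refine ⟨u, hu, funext fun i => ?_⟩
      have := h i
      rw [eval_pderiv_f hQ hf] at this
      exact (mul_eq_zero.1 this).resolve_left h2
    · rintro ⟨u, hu, h⟩
      refine ⟨u, hu, fun i => ?_⟩
      rw [eval_pderiv_f hQ hf, h]
      simp
  · constructor
    · rintro ⟨a, b, hab, hfab⟩
      exact rank_two h2 hab ((f_eq_iff h2 hQ hf a b).1 hfab)
    · intro hr
      have hdet : Q.det = 0 := det_zero_of_rank_lt (by omega)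
      obtain ⟨a, b, hab⟩ := exists_factor_of_det_zero h2 hQ hdet
      refine ⟨a, b, ?_, (f_eq_iff h2 hQ hf a b).2 hab⟩
      by_contra hli
      have := rank_le_one h2 hli hab
      omega
  · constructor
    · rintro ⟨a, hfa⟩
      have hfa' : f = lf a * lf a := by rw [hfa, sq]; rfl
      have hab := (f_eq_iff h2 hQ hf a a).1 hfa'
      have hli : ¬ LinearIndependent k ![a, a] := by
        rw [LinearIndependent.pair_iff]
        push Not
        exact ⟨1, -1, by simp, fun h => absurd h one_ne_zero⟩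
      have h1 := rank_le_one h2 hli hab
      have h3 := rank_pos h2 hQ hQ0
      omega
    · intro hr
      have hdet : Q.det = 0 := det_zero_of_rank_lt (by omega)
      obtain ⟨a, b, hab⟩ := exists_factor_of_det_zero h2 hQ hdet
      have hli : ¬ LinearIndependent k ![a, b] := by
        intro hli
        have := rank_two h2 hli hab
        omega
      rw [LinearIndependent.pair_iff] at hli
      push Not at hli
      obtain ⟨s, t, hst, hne⟩ := hli
      have hQQ : Q + Q ≠ 0 := by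
        intro h
        apply hQ0
        have : (2 : k) • Q = 0 := by rw [two_smul]; exact h
        exact (smul_eq_zero.1 this).resolve_left h2
      -- obtain a vector d and scalar c with Q + Q = (2 c) • d dᵀ
      have hcd : ∃ (c : k) (d : Fin 3 → k), Q + Q = (2 * c) • vecMulVec d d := by
        by_cases ht : t = 0
        · have hs : s ≠ 0 := fun h => hne h ht
          have ha : a = 0 := by
            rw [ht, zero_smul, add_zero] at hst
            exact (smul_eq_zero.1 hst).resolve_left hs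
          exfalso
          apply hQQ
          rw [hab, ha]
          simp
        · have htb : t • b = -(s • a) := eq_neg_of_add_eq_zero_right hst
          have h4 : b = (-(s / t)) • a := by
            have h5 : b = t⁻¹ • (t • b) := by rw [smul_smul, inv_mul_cancel₀ ht, one_smul]
            rw [h5, htb, smul_neg, smul_smul, neg_smul, div_eq_inv_mul]
          refine ⟨-(s / t), a, ?_⟩
          rw [hab, h4, vecMulVec_smul, smul_vecMulVec, two_mul, add_smul]
      obtain ⟨c, d, hcd⟩ := hcd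
      obtain ⟨γ, hγ⟩ := IsAlgClosed.exists_pow_nat_eq c (n := 2) two_pos
      refine ⟨γ • d, ?_⟩
      have : f = lf (γ • d) * lf (γ • d) := by
        rw [f_eq_iff h2 hQ hf, hcd, vecMulVec_smul, smul_vecMulVec, smul_smul, ← two_smul k, smul_smul,
          ← hγ]
        congr 1
        ring
      rw [this, sq]
      rfl

end Groth.Agent.Helper17.Conic

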