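import Mathlib

set_option autoImplicit false
open Polynomial Module

namespace Groth.Agent.Helper17.Crimp2

section Abs
variable {R : Type*} [CommRing R]

theorem trace_eq {A : Type*} [CommRing A] [Algebra R A] (b : Basis (Fin 2) R A) (x : A) :
    Algebra.trace R A x = b.repr (x * b 0) 0 + b.repr (x * b 1) 1 := by
  rw [Algebra.trace_eq_matrix_trace b, Matrix.trace_fin_two, Algebra.leftMulMatrix_eq_repr_mul,
    Algebra.leftMulMatrix_eq_repr_mul]

theorem discr_two {A : Type*} [CommRing A] [Algebra R A] (b : Basis (Fin 2) R A) (h0 : b 0 = 1)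
    (d : R) (h1 : b 1 * b 1 = d • (1 : A)) : Algebra.discr R b = 4 * d := by
  have e0 : b.repr (1 : A) = Finsupp.single 0 1 := by rw [← h0, Basis.repr_self]
  have e1 : b.repr (b 1) = Finsupp.single 1 1 := Basis.repr_self _ _
  have t1 : Algebra.trace R A 1 = 2 := by
    rw [trace_eq b, one_mul, one_mul, h0, e0, e1]
    simp only [Finsupp.single_eq_same]
    norm_num
  have tz : Algebra.trace R A (b 1) = 0 := by
    rw [trace_eq b, h1, h0, mul_one, e1, map_smul, e0]
    simp
  have m00 : Algebra.trace R A (b 0 * b 0) = 2 := by rw [h0, one_mul]; exact t1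
  have m01 : Algebra.trace R A (b 0 * b 1) = 0 := by rw [h0, one_mul]; exact tz
  have m10 : Algebra.trace R A (b 1 * b 0) = 0 := by rw [h0, mul_one]; exact tz
  have m11 : Algebra.trace R A (b 1 * b 1) = d * 2 := by
    rw [h1, map_smul, t1, smul_eq_mul]
  rw [Algebra.discr_def, Matrix.det_fin_two]
  simp only [Algebra.traceMatrix_apply, Algebra.traceForm_apply, m00, m01, m10, m11]
  ring

noncomputable def equivOfBases {A A' : Type*} [CommRing A] [Algebra R A] [CommRing A']
    [Algebra R A'] (b : Basis (Fin 2) R A) (b' : Basis (Fin 2) R A') (h0 : b 0 = 1)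
    (h0' : b' 0 = 1) (d : R) (h1 : b 1 * b 1 = d • (1 : A)) (h1' : b' 1 * b' 1 = d • (1 : A')) :
    A ≃ₐ[R] A' :=
  have lb : ∀ i, (b.equiv b' (Equiv.refl _)) (b i) = b' i := fun i => by
    rw [Basis.equiv_apply]; rfl
  have l1 : (b.equiv b' (Equiv.refl _)) 1 = 1 := by rw [← h0, lb, h0']
  AlgEquiv.ofLinearEquiv (b.equiv b' (Equiv.refl _)) l1 (by
    intro x y
    have key : (LinearMap.mul R A).compr₂ (b.equiv b' (Equiv.refl _)).toLinearMap =
        (LinearMap.mul R A').compl₁₂ (b.equiv b' (Equiv.refl _)).toLinearMap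
          (b.equiv b' (Equiv.refl _)).toLinearMap := by
      apply b.ext
      rw [Fin.forall_fin_two]
      constructor <;> (apply b.ext; rw [Fin.forall_fin_two]; constructor)
      · simp only [LinearMap.compr₂_apply, LinearMap.mul_apply', LinearMap.compl₁₂_apply,
          LinearEquiv.coe_coe, lb]
        rw [h0, h0', one_mul, one_mul, l1]
      · simp only [LinearMap.compr₂_apply, LinearMap.mul_apply', LinearMap.compl₁₂_apply,
          LinearEquiv.coe_coe, lb]
        rw [h0, h0', one_mul, one_mul, lb]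
      · simp only [LinearMap.compr₂_apply, LinearMap.mul_apply', LinearMap.compl₁₂_apply,
          LinearEquiv.coe_coe, lb]
        rw [h0, h0', mul_one, mul_one, lb]
      · simp only [LinearMap.compr₂_apply, LinearMap.mul_apply', LinearMap.compl₁₂_apply,
          LinearEquiv.coe_coe, lb]
        rw [h1, h1', map_smul, l1]
    exact LinearMap.congr_fun₂ key x y)

theorem monic_q [Nontrivial R] (d : R) : (X ^ 2 - C d : R[X]).Monic :=
  monic_X_pow_sub_C d (by norm_num)

theorem natDegree_q [Nontrivial R] (d : R) : (X ^ 2 - C d : R[X]).natDegree = 2 :=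
  natDegree_X_pow_sub_C

noncomputable def pbasis [Nontrivial R] (d : R) :
    Basis (Fin 2) R (AdjoinRoot (X ^ 2 - C d : R[X])) :=
  (AdjoinRoot.powerBasis' (monic_q d)).basis.reindex (finCongr (natDegree_q d))

theorem pbasis_apply [Nontrivial R] (d : R) (i : Fin 2) :
    pbasis d i = AdjoinRoot.root (X ^ 2 - C d : R[X]) ^ (i : ℕ) := by
  simp [pbasis, PowerBasis.coe_basis] <;> rfl

theorem pbasis_zero [Nontrivial R] (d : R) : pbasis d 0 = 1 := by
  rw [pbasis_apply]; simp

theorem pbasis_one [Nontrivial R] (d : R) : pbasis d 1 = AdjoinRoot.root (X ^ 2 - C d : R[X]) := by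
  rw [pbasis_apply]; simp

theorem root_sq (d : R) : AdjoinRoot.root (X ^ 2 - C d : R[X]) * AdjoinRoot.root _ =
    d • (1 : AdjoinRoot (X ^ 2 - C d : R[X])) := by
  have h := AdjoinRoot.eval₂_root (X ^ 2 - C d : R[X])
  rw [eval₂_sub, eval₂_pow, eval₂_X, eval₂_C, sub_eq_zero] at h
  rw [← sq, h, Algebra.smul_def, mul_one, AdjoinRoot.algebraMap_eq]

end Abs

section Sub
variable {R : Type*} [CommRing R] [IsDomain R] {S' : Type*} [CommRing S'] [Algebra R S']
variable (t : R) (B : Basis (Fin 2) R S')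

/-- the submodule of the statements -/
abbrev stmtM (S' : Type*) [CommRing S'] [Algebra R S'] (n : ℕ) : Submodule R S' :=
  Submodule.span R {(1 : S')} ⊔ Ideal.span {t ^ n} • (⊤ : Submodule R S')

noncomputable def M (n : ℕ) : Submodule R S' := Submodule.comap (B.coord 1) (Ideal.span {t ^ n})

theorem mem_M (n : ℕ) (x : S') : x ∈ M t B n ↔ B.coord 1 x ∈ Ideal.span {t ^ n} := Iff.rfl

variable {B}

theorem decomp (hB0 : B 0 = 1) (x : S') :
    x = B.coord 0 x • (1 : S') + B.coord 1 x • B 1 := by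
  have := B.sum_repr x
  rw [Fin.sum_univ_two, hB0] at this
  rw [Basis.coord_apply, Basis.coord_apply]
  exact this.symm

theorem c01 (hB0 : B 0 = 1) : B.coord 0 (1 : S') = 1 := by
  rw [← hB0, Basis.coord_apply, Basis.repr_self]; simp

theorem c11 (hB0 : B 0 = 1) : B.coord 1 (1 : S') = 0 := by
  rw [← hB0, Basis.coord_apply, Basis.repr_self]; simp

theorem c0B1 : B.coord 0 (B 1) = 0 := by
  rw [Basis.coord_apply, Basis.repr_self]; simp

theorem c1B1 : B.coord 1 (B 1) = 1 := by
  rw [Basis.coord_apply, Basis.repr_self]; simp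

theorem stmtM_eq (hB0 : B 0 = 1) (n : ℕ) : stmtM t S' n = M t B n := by
  apply le_antisymm
  · refine sup_le ?_ ?_
    · rw [Submodule.span_le, Set.singleton_subset_iff]
      show B.coord 1 1 ∈ Ideal.span {t ^ n}
      rw [c11 hB0]; exact zero_mem _
    · rw [Submodule.smul_le]
      intro r hr x _
      show B.coord 1 (r • x) ∈ Ideal.span {t ^ n}
      rw [map_smul, smul_eq_mul]
      exact Ideal.mul_mem_right _ _ hr
  · intro x hx
    have hx' : B.coord 1 x ∈ Ideal.span {t ^ n} := hx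
    rw [decomp hB0 x]
    refine Submodule.add_mem_sup (Submodule.smul_mem _ _ (Submodule.subset_span rfl)) ?_
    exact Submodule.smul_mem_smul hx' Submodule.mem_top

theorem structure_lemma (hpid : ∀ I : Ideal R, I ≠ ⊥ → ∃ n : ℕ, I = Ideal.span {t ^ n})
    (hB0 : B 0 = 1) (S : Subalgebra R S') (bS : Basis (Fin 2) R S) :
    ∃ n, Subalgebra.toSubmodule S = M t B n := by
  set I : Ideal R := Submodule.map (B.coord 1) (Subalgebra.toSubmodule S) with hI
  have hIne : I ≠ ⊥ := by
    intro h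
    have hz : ∀ s : S, B.coord 1 (s : S') = 0 := by
      intro s
      have : B.coord 1 (s : S') ∈ I := Submodule.mem_map_of_mem s.2
      rw [h] at this; exact this
    have hs : ∀ s : S, ∃ a : R, (s : S') = a • (1 : S') := by
      intro s
      have := decomp hB0 (s : S')
      rw [hz s, zero_smul, add_zero] at this
      exact ⟨_, this⟩
    obtain ⟨a0, e0⟩ := hs (bS 0)
    obtain ⟨a1, e1⟩ := hs (bS 1)
    have hli := Fintype.linearIndependent_iff.mp bS.linearIndependent ![a1, -a0] (by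
      rw [Fin.sum_univ_two]
      apply Subtype.ext
      show a1 • (bS 0 : S') + (-a0) • (bS 1 : S') = 0
      rw [e0, e1, smul_smul, smul_smul, mul_comm a1 a0, neg_mul, neg_smul, add_neg_cancel])
    have ha0 : a0 = 0 := by
      have := hli 1
      simpa using this
    have : bS 0 = 0 := by
      apply Subtype.ext
      rw [e0, ha0, zero_smul]; rfl
    exact bS.ne_zero 0 this
  obtain ⟨n, hn⟩ := hpid I hIne
  refine ⟨n, le_antisymm ?_ ?_⟩
  · intro x hx
    show B.coord 1 x ∈ Ideal.span {t ^ n}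
    rw [← hn]; exact Submodule.mem_map_of_mem hx
  · intro x hx
    have hx' : B.coord 1 x ∈ I := by rw [hn]; exact hx
    obtain ⟨s, hs, hsx⟩ := hx'
    have dx := decomp hB0 x
    have ds := decomp hB0 s
    have : x = s + (B.coord 0 x - B.coord 0 s) • (1 : S') := by
      rw [sub_smul]
      calc x = B.coord 0 x • (1 : S') + B.coord 1 x • B 1 := dx
        _ = (B.coord 0 s • (1 : S') + B.coord 1 s • B 1) +
            (B.coord 0 x • (1 : S') - B.coord 0 s • (1 : S')) := by rw [hsx]; abel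
        _ = s + (B.coord 0 x • (1 : S') - B.coord 0 s • (1 : S')) := by rw [← ds]
    rw [this]
    exact (Subalgebra.toSubmodule S).add_mem hs
      (Submodule.smul_mem _ _ (S.one_mem : (1 : S') ∈ Subalgebra.toSubmodule S))

theorem exists_basis (ht : t ≠ 0) (hB0 : B 0 = 1) (S : Subalgebra R S') (n : ℕ)
    (hS : Subalgebra.toSubmodule S = M t B n) :
    ∃ b0 : Basis (Fin 2) R S, b0 0 = 1 ∧ ((b0 1 : S) : S') = t ^ n • B 1 := by
  have hz : t ^ n • B 1 ∈ S := by
    rw [← Subalgebra.mem_toSubmodule, hS, mem_M, map_smul, c1B1, smul_eq_mul, mul_one]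
    exact Ideal.subset_span rfl
  have hli : LinearIndependent R ![(1 : S), ⟨t ^ n • B 1, hz⟩] := by
    rw [LinearIndependent.pair_iff]
    intro a b' h
    have h' : a • (1 : S') + b' • (t ^ n • B 1) = 0 := congrArg Subtype.val h
    have h0 := congrArg (B.coord 0) h'
    have h1 := congrArg (B.coord 1) h'
    rw [map_add, map_smul, map_smul, map_smul, c01 hB0, c0B1, map_zero] at h0
    rw [map_add, map_smul, map_smul, map_smul, c11 hB0, c1B1, map_zero] at h1
    simp only [smul_eq_mul, mul_one, mul_zero, add_zero, zero_add] at h0 h1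
    refine ⟨h0, ?_⟩
    rcases mul_eq_zero.mp h1 with h | h
    · exact h
    · exact absurd h (pow_ne_zero n ht)
  have hsp : ⊤ ≤ Submodule.span R (Set.range ![(1 : S), ⟨t ^ n • B 1, hz⟩]) := by
    rintro s -
    have hs' : B.coord 1 (s : S') ∈ Ideal.span {t ^ n} := by
      have : (s : S') ∈ Subalgebra.toSubmodule S := s.2
      rw [hS] at this; exact this
    obtain ⟨r, hr⟩ := Ideal.mem_span_singleton'.mp hs'
    have : s = B.coord 0 (s : S') • (1 : S) + r • (⟨t ^ n • B 1, hz⟩ : S) := by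
      apply Subtype.ext
      show (s : S') = B.coord 0 (s : S') • (1 : S') + r • (t ^ n • B 1)
      rw [smul_smul, hr]; exact decomp hB0 _
    rw [this]
    exact Submodule.add_mem _
      (Submodule.smul_mem _ _ (Submodule.subset_span ⟨0, rfl⟩))
      (Submodule.smul_mem _ _ (Submodule.subset_span ⟨1, rfl⟩))
  refine ⟨Basis.mk hli hsp, ?_, ?_⟩
  · rw [Basis.mk_apply]; rfl
  · rw [Basis.mk_apply]; rfl

theorem span_discr_eq {A : Type*} [CommRing A] [Algebra R A] (b0 bS : Basis (Fin 2) R A) :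
    Ideal.span {Algebra.discr R ⇑bS} = Ideal.span {Algebra.discr R ⇑b0} := by
  have h := Algebra.discr_of_matrix_vecMul (A := R) (⇑b0) (b0.toMatrix ⇑bS)
  rw [Basis.toMatrix_map_vecMul] at h
  rw [h]
  have hu : IsUnit (b0.toMatrix ⇑bS).det :=
    Matrix.isUnit_det_of_right_inverse (Basis.toMatrix_mul_toMatrix_flip b0 bS)
  exact Ideal.span_singleton_mul_left_unit (hu.pow 2) _

theorem main_abs (ht : t ≠ 0)
    (hpid : ∀ I : Ideal R, I ≠ ⊥ → ∃ n : ℕ, I = Ideal.span {t ^ n})
    (hinj : ∀ a b : ℕ, Ideal.span {t ^ a} = Ideal.span {t ^ b} → a = b)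
    (h4 : IsUnit (4 : R)) (hB0 : B 0 = 1) (c : R) (hB1 : B 1 * B 1 = c • (1 : S'))
    (N : ℕ → ℕ) (hN : ∀ n, t ^ (N n) = t ^ (2 * n) * c) (b : ℕ) (S : Subalgebra R S') :
    ((∃ bS : Basis (Fin 2) R S,
        Ideal.span {Algebra.discr R ⇑bS} = Ideal.span {t ^ b}) ↔
      ∃ n, b = N n ∧ Subalgebra.toSubmodule S = stmtM t S' n) ∧
    (∀ n, Subalgebra.toSubmodule S = stmtM t S' n →
      Nonempty (S ≃ₐ[R] AdjoinRoot (X ^ 2 - C (t ^ (N n)) : R[X]))) := by
  -- key facts for S with toSubmodule = M n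
  have key : ∀ n, Subalgebra.toSubmodule S = M t B n →
      ∃ b0 : Basis (Fin 2) R S, b0 0 = 1 ∧ b0 1 * b0 1 = (t ^ (N n)) • (1 : S) := by
    intro n hS
    obtain ⟨b0, h0, h1⟩ := exists_basis t ht hB0 S n hS
    refine ⟨b0, h0, ?_⟩
    apply Subtype.ext
    show ((b0 1 : S) : S') * ((b0 1 : S) : S') = (t ^ (N n)) • (1 : S')
    rw [h1, smul_mul_smul_comm, hB1, smul_smul, hN n, two_mul, pow_add]
  have hdisc : ∀ n, Subalgebra.toSubmodule S = M t B n → ∀ bS : Basis (Fin 2) R S,
      Ideal.span {Algebra.discr R ⇑bS} = Ideal.span {t ^ (N n)} := by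
    intro n hS bS
    obtain ⟨b0, h0, h1⟩ := key n hS
    rw [span_discr_eq b0 bS, discr_two b0 h0 _ h1]
    exact Ideal.span_singleton_mul_left_unit h4 _
  refine ⟨⟨?_, ?_⟩, ?_⟩
  · rintro ⟨bS, hbS⟩
    obtain ⟨n, hn⟩ := structure_lemma t hpid hB0 S bS
    refine ⟨n, ?_, ?_⟩
    · have := hdisc n hn bS
      rw [hbS] at this
      exact hinj _ _ this
    · rw [stmtM_eq t hB0]; exact hn
  · rintro ⟨n, hb, hS⟩
    rw [stmtM_eq t hB0] at hS
    obtain ⟨b0, h0, h1⟩ := key n hS
    exact ⟨b0, by rw [hdisc n hS b0, hb]⟩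
  · intro n hS
    rw [stmtM_eq t hB0] at hS
    obtain ⟨b0, h0, h1⟩ := key n hS
    exact ⟨equivOfBases b0 (pbasis (t ^ (N n))) h0 (pbasis_zero _) (t ^ (N n)) h1
      (by rw [pbasis_one]; exact root_sq _)⟩

end Sub

section PS
variable {k : Type*} [Field k]

theorem ps_pid (I : Ideal (PowerSeries k)) (hI : I ≠ ⊥) :
    ∃ n : ℕ, I = Ideal.span {(PowerSeries.X : PowerSeries k) ^ n} :=
  IsDiscreteValuationRing.ideal_eq_span_pow_irreducible hI PowerSeries.X_irreducible

theorem X_pow_le {a b : ℕ} (h : (PowerSeries.X : PowerSeries k) ^ a ∣ PowerSeries.X ^ b) :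
    a ≤ b := by
  by_contra hlt
  push Not at hlt
  have := PowerSeries.X_pow_dvd_iff.mp h b hlt
  rw [PowerSeries.coeff_X_pow_self] at this
  exact one_ne_zero this

theorem ps_inj (a b : ℕ) (h : Ideal.span {(PowerSeries.X : PowerSeries k) ^ a} =
    Ideal.span {(PowerSeries.X : PowerSeries k) ^ b}) : a = b := by
  apply le_antisymm
  · exact X_pow_le (Ideal.span_singleton_le_span_singleton.mp h.ge)
  · exact X_pow_le (Ideal.span_singleton_le_span_singleton.mp h.le)

theorem ps_four [CharZero k] : IsUnit (4 : PowerSeries k) := by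
  rw [← map_ofNat (algebraMap k (PowerSeries k)) 4]
  exact (IsUnit.mk0 (4 : k) (by norm_num)).map _

theorem ps_half [CharZero k] : (2 : PowerSeries k) * (PowerSeries.C (2⁻¹ : k)) = 1 := by
  rw [← map_ofNat (PowerSeries.C (R := k)) 2, ← map_mul, mul_inv_cancel₀ two_ne_zero, map_one]

end PS

section Split
variable {R : Type*} [CommRing R] [IsDomain R]

/-- basis (1, (1,-1)) of R × R when 2 is invertible -/
theorem exists_split_basis (h2 : R) (hh : 2 * h2 = 1) :
    ∃ B : Basis (Fin 2) R (Fin 2 → R), B 0 = 1 ∧ B 1 * B 1 = (1 : R) • (1 : Fin 2 → R) := by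
  have hli : LinearIndependent R ![(1 : Fin 2 → R), ![1, -1]] := by
    rw [LinearIndependent.pair_iff]
    intro a b h
    have h0 := congrFun h 0
    have h1 := congrFun h 1
    simp at h0 h1
    constructor
    · linear_combination h2 * h0 + h2 * h1 - a * hh
    · linear_combination h2 * h0 - h2 * h1 - b * hh
  have hsp : ⊤ ≤ Submodule.span R (Set.range ![(1 : Fin 2 → R), ![1, -1]]) := by
    rintro u -
    have : u = ((u 0 + u 1) * h2) • (1 : Fin 2 → R) + ((u 0 - u 1) * h2) • ![1, -1] := by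
      ext i
      fin_cases i
      · simp
        linear_combination (-(u 0)) * hh
      · simp
        linear_combination (-(u 1)) * hh
    rw [this]
    exact Submodule.add_mem _
      (Submodule.smul_mem _ _ (Submodule.subset_span ⟨0, rfl⟩))
      (Submodule.smul_mem _ _ (Submodule.subset_span ⟨1, rfl⟩))
  refine ⟨Basis.mk hli hsp, ?_, ?_⟩
  · rw [Basis.mk_apply]; rfl
  · rw [Basis.mk_apply]
    ext i
    fin_cases i <;> simp

end Split

theorem s13880 {k : Type*} [Field k] [CharZero k] (b : ℕ)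
    (S : Subalgebra (PowerSeries k) (Fin 2 → PowerSeries k)) :
    ((∃ bS : Module.Basis (Fin 2) (PowerSeries k) S,
      Ideal.span {Algebra.discr (PowerSeries k) ⇑bS} = Ideal.span {(PowerSeries.X : PowerSeries k) ^ b}) ↔
    ∃ n : ℕ, b = 2 * n ∧
      Subalgebra.toSubmodule S = Submodule.span (PowerSeries k) {(1 : (Fin 2 → PowerSeries k))} ⊔
        Ideal.span {(PowerSeries.X : PowerSeries k) ^ n} • (⊤ : Submodule (PowerSeries k) (Fin 2 → PowerSeries k))) ∧
    (∀ n : ℕ, Subalgebra.toSubmodule S = Submodule.span (PowerSeries k) {(1 : (Fin 2 → PowerSeries k))} ⊔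
        Ideal.span {(PowerSeries.X : PowerSeries k) ^ n} • (⊤ : Submodule (PowerSeries k) (Fin 2 → PowerSeries k)) →
      Nonempty (S ≃ₐ[PowerSeries k] AdjoinRoot (Polynomial.X ^ 2 - Polynomial.C ((PowerSeries.X : PowerSeries k) ^ (2 * n))))) := by
  obtain ⟨B, hB0, hB1⟩ := exists_split_basis (R := PowerSeries k) _ ps_half
  exact main_abs (PowerSeries.X : PowerSeries k) PowerSeries.X_ne_zero ps_pid ps_inj ps_four hB0 1 hB1
    (fun n => 2 * n) (fun n => (mul_one _).symm) b S

theorem s13881 {k : Type*} [Field k] [CharZero k] (b : ℕ)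
    (S : Subalgebra (PowerSeries k) (AdjoinRoot (Polynomial.X ^ 2 - Polynomial.C (PowerSeries.X : PowerSeries k)))) :
    ((∃ bS : Module.Basis (Fin 2) (PowerSeries k) S,
      Ideal.span {Algebra.discr (PowerSeries k) ⇑bS} = Ideal.span {(PowerSeries.X : PowerSeries k) ^ b}) ↔
    ∃ n : ℕ, b = 2 * n + 1 ∧
      Subalgebra.toSubmodule S = Submodule.span (PowerSeries k) {(1 : (AdjoinRoot (Polynomial.X ^ 2 - Polynomial.C (PowerSeries.X : PowerSeries k))))} ⊔
        Ideal.span {(PowerSeries.X : PowerSeries k) ^ n} • (⊤ : Submodule (PowerSeries k) (AdjoinRoot (Polynomial.X ^ 2 - Polynomial.C (PowerSeries.X : PowerSeries k))))) ∧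
    (∀ n : ℕ, Subalgebra.toSubmodule S = Submodule.span (PowerSeries k) {(1 : (AdjoinRoot (Polynomial.X ^ 2 - Polynomial.C (PowerSeries.X : PowerSeries k))))} ⊔
        Ideal.span {(PowerSeries.X : PowerSeries k) ^ n} • (⊤ : Submodule (PowerSeries k) (AdjoinRoot (Polynomial.X ^ 2 - Polynomial.C (PowerSeries.X : PowerSeries k)))) →
      Nonempty (S ≃ₐ[PowerSeries k] AdjoinRoot (Polynomial.X ^ 2 - Polynomial.C ((PowerSeries.X : PowerSeries k) ^ (2 * n + 1))))) := by
  exact main_abs (PowerSeries.X : PowerSeries k) PowerSeries.X_ne_zero ps_pid ps_inj ps_four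
    (B := pbasis (PowerSeries.X : PowerSeries k)) (pbasis_zero _) PowerSeries.X
    (by rw [pbasis_one]; exact root_sq _)
    (fun n => 2 * n + 1) (fun n => pow_succ _ _) b S

end Groth.Agent.Helper17.Crimp2
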