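import Mathlib
import Groth.Prelude.Def_W4bk4goldsch23FF

/-! Basic lemmas on places, `L(D)`, `A(D)` for function fields (helper17). -/

namespace Groth.Agent.Helper17.FF

open FunFld

variable {k K : Type*} [Field k] [Field K] [Algebra k K]

lemma mem_AD {D : Divisor k K} {a : Place k K → K} :
    a ∈ AD D ↔ ∀ P : Place k K, P.1 (a P) ≤ WithZero.exp (D P) := Iff.rfl

lemma mem_L {D : Divisor k K} {x : K} :
    x ∈ L D ↔ ∀ P : Place k K, P.1 x ≤ WithZero.exp (D P) := Iff.rfl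

lemma mem_adele {a : Place k K → K} :
    a ∈ adele k K ↔ ∀ᶠ P : Place k K in Filter.cofinite, P.1 (a P) ≤ 1 := Iff.rfl

lemma AD_mono {D₁ D₂ : Divisor k K} (h : D₁ ≤ D₂) : AD D₁ ≤ AD D₂ := fun a ha P =>
  (ha P).trans (WithZero.exp_le_exp.2 (h P))

lemma L_mono {D₁ D₂ : Divisor k K} (h : D₁ ≤ D₂) : L D₁ ≤ L D₂ := fun a ha P =>
  (ha P).trans (WithZero.exp_le_exp.2 (h P))

@[simp] lemma diag_apply (x : K) (P : Place k K) : diag k K x P = x := rfl

lemma mem_WD {D : Divisor k K} {ω : Module.Dual k (adele k K)} :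
    ω ∈ WD D ↔ ∀ a ∈ ADK D, ω a = 0 := by
  unfold WD
  exact Submodule.mem_dualAnnihilator _

lemma mem_ADK {D : Divisor k K} {a : adele k K} :
    a ∈ ADK D ↔ (a : Place k K → K) ∈ AD D ⊔ LinearMap.range (diag k K) := Iff.rfl

lemma mulW_apply (x : K) (hx : ∀ a ∈ adele k K, x • a ∈ adele k K)
    (ω : Module.Dual k (adele k K)) (a : adele k K) :
    mulW x hx ω a = ω ⟨x • (a : Place k K → K), hx _ a.2⟩ := rfl

/-- the valuation of a nonzero constant is `1`. -/
lemma val_const (P : Place k K) {c : k} (hc : c ≠ 0) : P.1 (algebraMap k K c) = 1 := by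
  apply le_antisymm (P.2.1 c)
  have h1 : P.1 (algebraMap k K c) * P.1 (algebraMap k K c⁻¹) = 1 := by
    rw [← map_mul, ← map_mul, mul_inv_cancel₀ hc, map_one, map_one]
  have h2 := P.2.1 c⁻¹
  by_contra hlt
  push Not at hlt
  have h3 : P.1 (algebraMap k K c) * P.1 (algebraMap k K c⁻¹) < 1 := by
    calc _ ≤ P.1 (algebraMap k K c) * 1 := mul_le_mul' le_rfl h2
      _ = P.1 (algebraMap k K c) := mul_one _
      _ < 1 := hlt
  rw [h1] at h3
  exact lt_irrefl _ h3

end Groth.Agent.Helper17.FF
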