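import Groth.Agent.Lib.Helper17.FF0

/-! Key independence lemma for valuations trivial on `k`, and finiteness of `K / k(x)`. -/

namespace Groth.Agent.Helper17.FF

open FunFld Polynomial

section KL

variable {k K : Type*} [Field k] [Field K] [Algebra k K]
variable {Γ₀ : Type*} [LinearOrderedCommGroupWithZero Γ₀] (v : Valuation K Γ₀)

lemma val_aeval_le_one (hv : ∀ c : k, v (algebraMap k K c) ≤ 1) {x : K} (hx : v x ≤ 1)
    (p : k[X]) : v (aeval x p) ≤ 1 := by
  rw [aeval_eq_sum_range]
  apply Valuation.map_sum_le
  intro i _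
  rw [Algebra.smul_def, map_mul, map_pow]
  exact mul_le_one' (hv _) (pow_le_one' hx i)

/-- Key lemma: independence over `k[x]`. -/
theorem KL (hv : ∀ c : k, v (algebraMap k K c) ≤ 1) {x : K} (hx0 : x ≠ 0) (hx1 : v x ≤ 1)
    {ι : Type*} [Fintype ι] (y : ι → K)
    (H : ∀ a : ι → k, a ≠ 0 → ∀ i, v x * v (y i) < v (∑ i, a i • y i))
    (φ : ι → k[X]) (hφ : ∑ i, aeval x (φ i) * y i = 0) : φ = 0 := by
  classical
  have key : ∀ φ : ι → k[X], (¬ ∀ i, (φ i).coeff 0 = 0) → ∑ i, aeval x (φ i) * y i ≠ 0 := by
    intro φ h0 hrel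
    have ha0 : (fun i => (φ i).coeff 0) ≠ 0 := fun h => h0 fun i => congrFun h i
    obtain ⟨i₀⟩ : Nonempty ι := by
      by_contra hne
      rw [not_nonempty_iff] at hne
      exact ha0 (Subsingleton.elim _ _)
    have hSpos : v (∑ i, (φ i).coeff 0 • y i) ≠ 0 :=
      (lt_of_le_of_lt zero_le' (H _ ha0 i₀)).ne'
    have hdecomp : ∀ i, aeval x (φ i) * y i =
        x * aeval x (divX (φ i)) * y i + (φ i).coeff 0 • y i := by
      intro i
      conv_lhs => rw [← divX_mul_X_add (φ i)]
      rw [map_add, map_mul, aeval_X, aeval_C, Algebra.smul_def]; ring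
    have hsum : (∑ i, (φ i).coeff 0 • y i) = - ∑ i, x * aeval x (divX (φ i)) * y i := by
      have h1 : ∑ i, (x * aeval x (divX (φ i)) * y i + (φ i).coeff 0 • y i) = 0 := by
        rw [← hrel]; exact Finset.sum_congr rfl fun i _ => (hdecomp i).symm
      rw [Finset.sum_add_distrib] at h1
      linear_combination h1
    have hlt : v (∑ i, x * aeval x (divX (φ i)) * y i) < v (∑ i, (φ i).coeff 0 • y i) := by
      apply Valuation.map_sum_lt v hSpos
      intro i _
      rw [map_mul, map_mul]
      calc v x * v (aeval x (divX (φ i))) * v (y i) ≤ v x * 1 * v (y i) :=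
            mul_le_mul' (mul_le_mul' le_rfl (val_aeval_le_one v hv hx1 _)) le_rfl
        _ = v x * v (y i) := by rw [mul_one]
        _ < _ := H _ ha0 i
    rw [hsum, Valuation.map_neg] at hlt
    exact lt_irrefl _ hlt
  suffices h : ∀ n : ℕ, ∀ φ : ι → k[X], (∀ i, (φ i).natDegree ≤ n) →
      ∑ i, aeval x (φ i) * y i = 0 → φ = 0 from
    h (Finset.univ.sup fun i => (φ i).natDegree) φ
      (fun i => Finset.le_sup (f := fun i => (φ i).natDegree) (Finset.mem_univ i)) hφ
  intro n
  induction n with
  | zero =>
    intro φ hdeg hrel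
    by_cases h0 : ∀ i, (φ i).coeff 0 = 0
    · funext i
      have h1 := eq_C_of_natDegree_le_zero (hdeg i)
      rw [h1, h0 i, map_zero]; rfl
    · exact absurd hrel (key φ h0)
  | succ n ih =>
    intro φ hdeg hrel
    by_cases h0 : ∀ i, (φ i).coeff 0 = 0
    · have hdiv : ∀ i, φ i = divX (φ i) * X := fun i => by
        have h1 := divX_mul_X_add (φ i)
        rw [h0 i, map_zero, add_zero] at h1
        exact h1.symm
      have hrel' : ∑ i, aeval x (divX (φ i)) * y i = 0 := by
        have h1 : x * ∑ i, aeval x (divX (φ i)) * y i = 0 := by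
          rw [Finset.mul_sum, ← hrel]
          refine Finset.sum_congr rfl fun i _ => ?_
          conv_rhs => rw [hdiv i]
          rw [map_mul, aeval_X]; ring
        exact (mul_eq_zero.1 h1).resolve_left hx0
      have h2 := ih (fun i => divX (φ i)) (fun i => by
        have h3 := natDegree_divX_eq_natDegree_tsub_one (p := φ i)
        have h4 := hdeg i
        omega) hrel'
      funext i
      rw [hdiv i, congrFun h2 i]; simp
    · exact absurd hrel (key φ h0)

open scoped IntermediateField.algebraAdjoinAdjoin in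
/-- Cardinality bound deduced from the key lemma. -/
theorem KL_card (hv : ∀ c : k, v (algebraMap k K c) ≤ 1) {x : K} (hx0 : x ≠ 0) (hx1 : v x ≤ 1)
    [FiniteDimensional (IntermediateField.adjoin k ({x} : Set K)) K]
    {ι : Type*} [Fintype ι] (y : ι → K)
    (H : ∀ a : ι → k, a ≠ 0 → ∀ i, v x * v (y i) < v (∑ i, a i • y i)) :
    Fintype.card ι ≤ Module.finrank (IntermediateField.adjoin k ({x} : Set K)) K := by
  classical
  have hli : LinearIndependent (Algebra.adjoin k ({x} : Set K)) y := by
    rw [Fintype.linearIndependent_iff]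
    intro g hg
    have hmem : ∀ i, ∃ p : k[X], aeval x p = (g i : K) := fun i => by
      have h1 : (g i : K) ∈ (aeval x : k[X] →ₐ[k] K).range := by
        rw [← Algebra.adjoin_singleton_eq_range_aeval]; exact (g i).2
      exact h1
    choose φ hφ using hmem
    have h2 := KL v hv hx0 hx1 y H φ (by
      rw [← hg]
      refine Finset.sum_congr rfl fun i _ => ?_
      rw [hφ i]; rfl)
    intro i
    apply Subtype.ext
    rw [← hφ i, congrFun h2 i]; simp
  have hli' : LinearIndependent (IntermediateField.adjoin k ({x} : Set K)) y :=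
    (LinearIndependent.iff_fractionRing (Algebra.adjoin k ({x} : Set K))
      (IntermediateField.adjoin k ({x} : Set K))).1 hli
  exact hli'.fintype_card_le_finrank

end KL

section FIN

variable {k K : Type*} [Field k] [Field K] [Algebra k K]

lemma transcendental_of_not_mem (hK : IsFunctionField k K) {x : K}
    (hx : x ∉ Set.range (algebraMap k K)) : Transcendental k x :=
  fun h => hx (hK.2 x h)

open scoped IntermediateField.algebraAdjoinAdjoin in
theorem finite_of_transcendental (hK : IsFunctionField k K) {x : K} (hx : Transcendental k x) :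
    FiniteDimensional (IntermediateField.adjoin k ({x} : Set K)) K := by
  obtain ⟨⟨x₀, hx₀, hfin⟩, -⟩ := hK
  have : Algebra.IsAlgebraic (IntermediateField.adjoin k ({x₀} : Set K)) K :=
    Algebra.IsAlgebraic.of_finite _ _
  have : Algebra.IsAlgebraic (Algebra.adjoin k ({x₀} : Set K)) K :=
    Algebra.IsAlgebraic.trans (Algebra.adjoin k ({x₀} : Set K))
      (IntermediateField.adjoin k ({x₀} : Set K)) K
  have htr : Algebra.trdeg k K ≤ 1 := by
    have h1 := Algebra.IsAlgebraic.trdeg_le_cardinalMk k ({x₀} : Set K)
    simpa using h1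
  have hai : AlgebraicIndependent k (fun _ : PUnit => x) :=
    algebraicIndependent_unique_type_iff.2 hx
  have htb : IsTranscendenceBasis k (fun _ : PUnit => x) :=
    hai.isTranscendenceBasis_of_trdeg_le_of_finite (by simpa using htr)
  have halg := htb.isAlgebraic_field
  rw [Set.range_const] at halg
  have : Algebra.EssFiniteType k K := by
    have h1 : Algebra.FiniteType k (Algebra.adjoin k ({x₀} : Set K)) :=
      .adjoin_of_finite (Set.finite_singleton x₀)
    have h2 : Algebra.EssFiniteType (Algebra.adjoin k ({x₀} : Set K))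
        (IntermediateField.adjoin k ({x₀} : Set K)) := .of_isLocalization _ (nonZeroDivisors _)
    have h3 : Algebra.EssFiniteType k (IntermediateField.adjoin k ({x₀} : Set K)) :=
      .comp _ (Algebra.adjoin k ({x₀} : Set K)) _
    exact Algebra.EssFiniteType.comp k (IntermediateField.adjoin k ({x₀} : Set K)) K
  have : Algebra.EssFiniteType (IntermediateField.adjoin k ({x} : Set K)) K :=
    Algebra.EssFiniteType.of_comp k _ K
  exact Algebra.finite_of_essFiniteType_of_isAlgebraic

end FIN

end Groth.Agent.Helper17.FF
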