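import Groth.Agent.Lib.Helper17.FF9

/-! `deg (x)_0 = [K : k(x)]`, `deg (x) = 0`, `L(D) = 0` for `deg D < 0`. -/

namespace Groth.Agent.Helper17.FF

open FunFld Polynomial Module

variable {k K : Type*} [Field k] [Field K] [Algebra k K]

lemma posPart_apply (hK : IsFunctionField k K) (x : K) (P : Place k K) :
    ((FunFld.div k x) ⊔ 0 : Divisor k K) P = max (P.ord x) 0 := by
  rw [Finsupp.sup_apply, div_apply hK, Finsupp.zero_apply]

lemma deg_eq_sum_of_support_subset (D : Divisor k K) (F : Finset (Place k K))
    (hF : D.support ⊆ F) : D.deg = ∑ P ∈ F, D P * (P.deg : ℤ) := by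
  unfold Divisor.deg
  exact Finsupp.sum_of_support_subset D hF _ (fun _ _ => by simp)

theorem deg_posPart (hK : IsFunctionField k K) {x : K} (hxt : Transcendental k x) :
    ((FunFld.div k x) ⊔ 0 : Divisor k K).deg =
      finrank (IntermediateField.adjoin k ({x} : Set K)) K := by
  classical
  have hx := not_mem_range_of_transcendental hxt
  have hx0 := ne_zero_of_not_mem_range hx
  apply le_antisymm
  · -- via the zeros bound
    have hsub : ((FunFld.div k x) ⊔ 0 : Divisor k K).support ⊆
        ((FunFld.div k x) ⊔ 0 : Divisor k K).support := le_rfl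
    rw [deg_eq_sum_of_support_subset _ _ hsub]
    have hs : ∀ P ∈ ((FunFld.div k x) ⊔ 0 : Divisor k K).support, P.1 x < 1 := by
      intro P hP
      rw [Finsupp.mem_support_iff, posPart_apply hK] at hP
      have : 0 < P.ord x := by
        rcases le_or_gt (P.ord x) 0 with h | h
        · exact absurd (max_eq_right h) hP
        · exact h
      exact (ord_pos_iff P hx0).1 this
    have h1 := zeros_bound hK hx _ hs
    have h2 : ∑ P ∈ ((FunFld.div k x) ⊔ 0 : Divisor k K).support,
        ((FunFld.div k x) ⊔ 0 : Divisor k K) P * (P.deg : ℤ) =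
        ((∑ P ∈ ((FunFld.div k x) ⊔ 0 : Divisor k K).support,
          (P.ord x).toNat * P.deg : ℕ) : ℤ) := by
      push_cast
      refine Finset.sum_congr rfl fun P hP => ?_
      have h3 := (ord_pos_iff P hx0).2 (hs P hP)
      rw [posPart_apply hK, max_eq_left h3.le, Int.toNat_of_nonneg h3.le]
    rw [h2]
    exact_mod_cast h1
  · exact deg_zeros_ge hK hxt _ (posPart_apply hK x)

theorem sum_zeros_eq (hK : IsFunctionField k K) {x : K} (hxt : Transcendental k x) :
    (∑ P ∈ (FunFld.div k x).support with 0 < FunFld.div k x P,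
        FunFld.div k x P * (P.deg : ℤ)) =
      finrank (IntermediateField.adjoin k ({x} : Set K)) K := by
  classical
  rw [← deg_posPart hK hxt]
  have hsub : ((FunFld.div k x) ⊔ 0 : Divisor k K).support ⊆
      (FunFld.div k x).support.filter (fun P => 0 < FunFld.div k x P) := by
    intro P hP
    rw [Finsupp.mem_support_iff, posPart_apply hK] at hP
    have h1 : 0 < P.ord x := by
      rcases le_or_gt (P.ord x) 0 with h | h
      · exact absurd (max_eq_right h) hP
      · exact h
    rw [Finset.mem_filter, Finsupp.mem_support_iff, div_apply hK]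
    exact ⟨h1.ne', h1⟩
  rw [deg_eq_sum_of_support_subset _ _ hsub]
  refine Finset.sum_congr rfl fun P hP => ?_
  have h1 := (Finset.mem_filter.1 hP).2
  rw [posPart_apply hK, ← div_apply hK x P, max_eq_left h1.le]

lemma div_of_mem_range (hK : IsFunctionField k K) (c : k) :
    FunFld.div k (algebraMap k K c) = 0 := by
  ext P
  rw [div_apply hK, ord_const, Finsupp.zero_apply]

lemma div_inv (hK : IsFunctionField k K) (x : K) : FunFld.div k x⁻¹ = -FunFld.div k x := by
  ext P
  rw [div_apply hK, ord_inv, Finsupp.neg_apply, div_apply hK]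

lemma adjoin_inv (x : K) :
    IntermediateField.adjoin k ({x⁻¹} : Set K) = IntermediateField.adjoin k ({x} : Set K) := by
  apply le_antisymm
  · rw [IntermediateField.adjoin_simple_le_iff]
    exact inv_mem (IntermediateField.mem_adjoin_simple_self k x)
  · rw [IntermediateField.adjoin_simple_le_iff]
    have := inv_mem (IntermediateField.mem_adjoin_simple_self k x⁻¹)
    rwa [inv_inv] at this

theorem deg_div (hK : IsFunctionField k K) (x : K) : (FunFld.div k x).deg = 0 := by
  by_cases hx : x ∈ Set.range (algebraMap k K)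
  · obtain ⟨c, rfl⟩ := hx
    rw [div_of_mem_range hK, deg_zero]
  · have hxt := transcendental_of_not_mem hK hx
    have hxt' := transcendental_of_not_mem hK (inv_not_mem_range hx)
    have hdec : FunFld.div k x = ((FunFld.div k x) ⊔ 0 : Divisor k K) -
        ((FunFld.div k x⁻¹) ⊔ 0 : Divisor k K) := by
      ext P
      rw [Finsupp.sub_apply, posPart_apply hK, posPart_apply hK, div_apply hK, ord_inv]
      rcases le_total (P.ord x) 0 with h | h
      · rw [max_eq_right h, max_eq_left (by omega : (0 : ℤ) ≤ -P.ord x)]; ring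
      · rw [max_eq_left h, max_eq_right (by omega : -P.ord x ≤ (0 : ℤ))]; ring
    rw [hdec, deg_sub, deg_posPart hK hxt, deg_posPart hK hxt', adjoin_inv, sub_self]

theorem L_eq_bot_of_deg_neg (hK : IsFunctionField k K) (D : Divisor k K) (h : D.deg < 0) :
    L D = ⊥ := by
  rw [eq_bot_iff]
  intro x hx
  rw [Submodule.mem_bot]
  by_contra hx0
  have h1 : 0 ≤ FunFld.div k x + D := by
    intro P
    rw [Finsupp.zero_apply, Finsupp.add_apply, div_apply hK]
    have := (val_le_exp_iff P hx0 (D P)).1 (hx P)
    linarith
  have h2 := deg_nonneg h1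
  rw [deg_add, deg_div hK] at h2
  linarith

end Groth.Agent.Helper17.FF
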