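import Groth.Agent.Lib.Helper17.FF11

/-! Relative quotients of submodules; `dim A(D₂)/A(D₁) = deg D₂ - deg D₁`. -/

namespace Groth.Agent.Helper17.FF

open FunFld Polynomial Module

section LinAlg

variable {k M : Type*} [Field k] [AddCommGroup M] [Module k M]

/-- relative quotient `N₂ / N₁` -/
abbrev RelQ (N₁ N₂ : Submodule k M) : Type _ := ↥N₂ ⧸ Submodule.comap N₂.subtype N₁

theorem relQ_chain {N₁ N₂ N₃ : Submodule k M} (h₁₂ : N₁ ≤ N₂) (h₂₃ : N₂ ≤ N₃)
    (hf₁ : FiniteDimensional k (RelQ N₁ N₂)) (hf₂ : FiniteDimensional k (RelQ N₂ N₃)) :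
    FiniteDimensional k (RelQ N₁ N₃) ∧
      finrank k (RelQ N₁ N₃) = finrank k (RelQ N₁ N₂) + finrank k (RelQ N₂ N₃) := by
  have hS : Submodule.comap N₃.subtype N₁ ≤ Submodule.comap N₃.subtype N₂ :=
    Submodule.comap_mono h₁₂
  let e₁ := Submodule.quotientQuotientEquivQuotient (Submodule.comap N₃.subtype N₁)
    (Submodule.comap N₃.subtype N₂) hS
  let φ : ↥N₂ →ₗ[k] (↥N₃ ⧸ Submodule.comap N₃.subtype N₁) :=
    (Submodule.comap N₃.subtype N₁).mkQ ∘ₗ Submodule.inclusion h₂₃
  have hker : LinearMap.ker φ = Submodule.comap N₂.subtype N₁ := by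
    ext y
    rw [LinearMap.mem_ker, LinearMap.comp_apply, Submodule.mkQ_apply,
      Submodule.Quotient.mk_eq_zero]
    rfl
  have hrange : LinearMap.range φ =
      (Submodule.comap N₃.subtype N₂).map (Submodule.comap N₃.subtype N₁).mkQ := by
    ext q
    constructor
    · rintro ⟨y, rfl⟩
      exact ⟨Submodule.inclusion h₂₃ y, y.2, rfl⟩
    · rintro ⟨w, hw, rfl⟩
      exact ⟨⟨w.1, hw⟩, rfl⟩
  let e₂ : RelQ N₁ N₂ ≃ₗ[k]
      ↥((Submodule.comap N₃.subtype N₂).map (Submodule.comap N₃.subtype N₁).mkQ) :=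
    (Submodule.quotEquivOfEq _ _ hker.symm) ≪≫ₗ φ.quotKerEquivRange ≪≫ₗ
      LinearEquiv.ofEq _ _ hrange
  have hfS : FiniteDimensional k
      ↥((Submodule.comap N₃.subtype N₂).map (Submodule.comap N₃.subtype N₁).mkQ) :=
    Module.Finite.equiv e₂
  have hfQ : FiniteDimensional k ((↥N₃ ⧸ Submodule.comap N₃.subtype N₁) ⧸
      (Submodule.comap N₃.subtype N₂).map (Submodule.comap N₃.subtype N₁).mkQ) :=
    Module.Finite.equiv e₁.symm
  have hfd : FiniteDimensional k (↥N₃ ⧸ Submodule.comap N₃.subtype N₁) :=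
    Module.Finite.of_submodule_quotient
      ((Submodule.comap N₃.subtype N₂).map (Submodule.comap N₃.subtype N₁).mkQ)
  refine ⟨hfd, ?_⟩
  have h1 := Submodule.finrank_quotient_add_finrank
    ((Submodule.comap N₃.subtype N₂).map (Submodule.comap N₃.subtype N₁).mkQ)
  rw [e₁.finrank_eq, ← e₂.finrank_eq] at h1
  show finrank k (↥N₃ ⧸ Submodule.comap N₃.subtype N₁) =
    finrank k (↥N₂ ⧸ Submodule.comap N₂.subtype N₁) +
      finrank k (↥N₃ ⧸ Submodule.comap N₃.subtype N₂)
  change finrank k (↥N₃ ⧸ Submodule.comap N₃.subtype N₂) +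
    finrank k (↥N₂ ⧸ Submodule.comap N₂.subtype N₁) =
      finrank k (↥N₃ ⧸ Submodule.comap N₃.subtype N₁) at h1
  omega

theorem relQ_self (N : Submodule k M) :
    FiniteDimensional k (RelQ N N) ∧ finrank k (RelQ N N) = 0 := by
  have : Subsingleton (RelQ N N) := by
    refine ⟨fun a b => ?_⟩
    obtain ⟨a, rfl⟩ := Submodule.Quotient.mk_surjective _ a
    obtain ⟨b, rfl⟩ := Submodule.Quotient.mk_surjective _ b
    rw [Submodule.Quotient.eq]
    exact N.sub_mem a.2 b.2
  exact ⟨inferInstance, Module.finrank_zero_of_subsingleton⟩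

/-- a surjective map with the right kernel computes the relative quotient -/
noncomputable def relQEquivOfSurjective {N₁ N₂ : Submodule k M} {V : Type*} [AddCommGroup V]
    [Module k V] (ψ : ↥N₂ →ₗ[k] V) (hs : Function.Surjective ψ)
    (hk : LinearMap.ker ψ = Submodule.comap N₂.subtype N₁) : RelQ N₁ N₂ ≃ₗ[k] V :=
  (Submodule.quotEquivOfEq _ _ hk.symm) ≪≫ₗ ψ.quotKerEquivOfSurjective hs

end LinAlg

variable {k K : Type*} [Field k] [Field K] [Algebra k K]

/-- evaluation `A(B) → κ(P)`, `a ↦ (t a_P) mod P`, with `ord_P t = B(P)` -/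
noncomputable def evalMapA (P : Place k K) (B : Divisor k K) (t : K)
    (ht : P.1 t = WithZero.exp (-(B P))) : AD B →ₗ[k] IsLocalRing.ResidueField P.O where
  toFun a := IsLocalRing.residue P.O ⟨t * a.1 P, by
    show P.1 (t * a.1 P) ≤ 1
    rw [map_mul, ht]
    calc WithZero.exp (-(B P)) * P.1 (a.1 P) ≤ WithZero.exp (-(B P)) * WithZero.exp (B P) :=
          mul_le_mul' le_rfl (a.2 P)
      _ = 1 := by rw [← WithZero.exp_add, neg_add_cancel, WithZero.exp_zero]⟩
  map_add' y z := by
    rw [← map_add]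
    congr 1
    apply Subtype.ext
    show t * (y.1 P + z.1 P) = t * y.1 P + t * z.1 P
    ring
  map_smul' c y := by
    simp only [RingHom.id_apply]
    refine Eq.trans ?_ (Algebra.smul_def c _).symm
    show _ = (IsLocalRing.residue P.O) (algebraMap k P.O c) * _
    refine Eq.trans (congrArg (IsLocalRing.residue P.O) (Subtype.ext ?_))
      (map_mul (IsLocalRing.residue P.O) (algebraMap k P.O c) _)
    show t * (c • y.1 P) = algebraMap k K c * (t * y.1 P)
    rw [Algebra.smul_def]; ring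

lemma evalMapA_apply (P : Place k K) (B : Divisor k K) (t : K)
    (ht : P.1 t = WithZero.exp (-(B P))) (a : AD B) (h : t * a.1 P ∈ P.O) :
    evalMapA P B t ht a = IsLocalRing.residue P.O ⟨t * a.1 P, h⟩ := rfl

lemma ker_evalMapA (P : Place k K) (A : Divisor k K) (t : K)
    (ht : P.1 t = WithZero.exp (-((A + Finsupp.single P 1 : Divisor k K) P))) :
    LinearMap.ker (evalMapA P (A + Finsupp.single P 1) t ht) =
      Submodule.comap (AD (A + Finsupp.single P 1 : Divisor k K)).subtype (AD A) := by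
  classical
  ext y
  rw [LinearMap.mem_ker, Submodule.mem_comap, Submodule.subtype_apply]
  have hmem : t * y.1 P ∈ P.O := by
    show P.1 (t * y.1 P) ≤ 1
    rw [map_mul, ht]
    calc _ ≤ WithZero.exp (-((A + Finsupp.single P 1 : Divisor k K) P)) *
            WithZero.exp ((A + Finsupp.single P 1 : Divisor k K) P) :=
          mul_le_mul' le_rfl (y.2 P)
      _ = 1 := by rw [← WithZero.exp_add, neg_add_cancel, WithZero.exp_zero]
  rw [evalMapA_apply P _ t ht y hmem, IsLocalRing.residue_eq_zero_iff, mem_maximalIdeal_iff]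
  have hBP : (A + Finsupp.single P 1 : Divisor k K) P = A P + 1 := by
    rw [Finsupp.add_apply, Finsupp.single_eq_same]
  show P.1 (t * y.1 P) < 1 ↔ _
  rw [map_mul, ht, hBP]
  have key : WithZero.exp (-(A P + 1)) * P.1 (y.1 P) < 1 ↔ P.1 (y.1 P) ≤ WithZero.exp (A P) := by
    rw [WithZero.exp_neg, inv_mul_lt_iff₀ WithZero.exp_pos, mul_one, val_lt_exp_iff_le,
      add_sub_cancel_right]
  rw [key]
  constructor
  · intro h Q
    by_cases hQ : Q = P
    · subst hQ; exact h
    · have := y.2 Q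
      rwa [Finsupp.add_apply, Finsupp.single_eq_of_ne hQ, add_zero] at this
  · intro h
    exact h P

lemma surjective_evalMapA (P : Place k K) (B : Divisor k K) (t : K)
    (ht : P.1 t = WithZero.exp (-(B P))) : Function.Surjective (evalMapA P B t ht) := by
  classical
  intro r
  obtain ⟨σ, rfl⟩ := IsLocalRing.residue_surjective r
  have ht0 : t ≠ 0 := fun h => by
    rw [h, map_zero] at ht; exact WithZero.exp_ne_zero ht.symm
  have ha : (fun Q : Place k K => if Q = P then t⁻¹ * (σ : K) else 0) ∈ AD B := by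
    intro Q
    show Q.1 (if Q = P then t⁻¹ * (σ : K) else 0) ≤ _
    split_ifs with hQ
    · subst hQ
      rw [map_mul, map_inv₀, ht, ← WithZero.exp_neg, neg_neg]
      calc _ ≤ WithZero.exp (B Q) * 1 := mul_le_mul' le_rfl σ.2
        _ = _ := mul_one _
    · simp
  refine ⟨⟨_, ha⟩, ?_⟩
  have hmem : t * (if P = P then t⁻¹ * (σ : K) else 0) ∈ P.O := by
    rw [if_pos rfl, ← mul_assoc, mul_inv_cancel₀ ht0, one_mul]; exact σ.2
  rw [evalMapA_apply P B t ht ⟨_, ha⟩ hmem]
  congr 1
  apply Subtype.ext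
  show t * (if P = P then t⁻¹ * (σ : K) else 0) = σ
  rw [if_pos rfl, ← mul_assoc, mul_inv_cancel₀ ht0, one_mul]

theorem A_step (hK : IsFunctionField k K) (A : Divisor k K) (P : Place k K) :
    FiniteDimensional k (RelQ (AD A) (AD (A + Finsupp.single P 1 : Divisor k K))) ∧
      finrank k (RelQ (AD A) (AD (A + Finsupp.single P 1 : Divisor k K))) = P.deg := by
  obtain ⟨t, ht⟩ := P.2.2 (WithZero.exp (-((A + Finsupp.single P 1 : Divisor k K) P)))
  have hres := residue_finite hK P
  let e := relQEquivOfSurjective (N₁ := AD A) (evalMapA P (A + Finsupp.single P 1) t ht)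
    (surjective_evalMapA P _ t ht) (ker_evalMapA P A t ht)
  exact ⟨Module.Finite.equiv e.symm, e.finrank_eq⟩

lemma le_add_single (A : Divisor k K) (P : Place k K) (n : ℕ) :
    A ≤ A + Finsupp.single P (n : ℤ) := by
  classical
  intro Q
  rw [Finsupp.add_apply]
  have : (0 : ℤ) ≤ (Finsupp.single P (n : ℤ)) Q := by
    rw [Finsupp.single_apply]; split_ifs <;> simp
  linarith

theorem A_chain_single (hK : IsFunctionField k K) (P : Place k K) :
    ∀ (n : ℕ) (A : Divisor k K),
    FiniteDimensional k (RelQ (AD A) (AD (A + Finsupp.single P (n : ℤ) : Divisor k K))) ∧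
      finrank k (RelQ (AD A) (AD (A + Finsupp.single P (n : ℤ) : Divisor k K))) = n * P.deg := by
  intro n
  induction n with
  | zero =>
    intro A
    have e : (A + Finsupp.single P ((0 : ℕ) : ℤ) : Divisor k K) = A := by simp
    rw [e, zero_mul]
    exact relQ_self _
  | succ n ih =>
    intro A
    obtain ⟨h1, h2⟩ := ih A
    obtain ⟨h3, h4⟩ := A_step hK (A + Finsupp.single P (n : ℤ)) P
    have e : (A + Finsupp.single P ((n + 1 : ℕ) : ℤ) : Divisor k K) =
        A + Finsupp.single P (n : ℤ) + Finsupp.single P 1 := by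
      rw [add_assoc, ← Finsupp.single_add]; push_cast; rfl
    rw [e]
    obtain ⟨h5, h6⟩ := relQ_chain (AD_mono (le_add_single A P n))
      (AD_mono (by simpa using le_add_single (A + Finsupp.single P (n : ℤ)) P 1)) h1 h3
    refine ⟨h5, ?_⟩
    rw [h6, h2, h4]; ring

theorem A_chain (hK : IsFunctionField k K) :
    ∀ (E : Divisor k K), 0 ≤ E → ∀ (A : Divisor k K),
    FiniteDimensional k (RelQ (AD A) (AD (A + E))) ∧
      (finrank k (RelQ (AD A) (AD (A + E))) : ℤ) = E.deg := by
  intro E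
  induction E using Finsupp.induction with
  | zero =>
    intro _ A
    rw [add_zero, deg_zero]
    exact ⟨(relQ_self _).1, by rw [(relQ_self _).2]; rfl⟩
  | single_add a b f haf hb ih =>
    intro hE A
    have hfa : f a = 0 := Finsupp.notMem_support_iff.1 haf
    have hb0 : 0 ≤ b := by
      have := hE a
      rwa [Finsupp.add_apply, Finsupp.single_eq_same, hfa, add_zero] at this
    have hf0 : 0 ≤ f := by
      intro c
      by_cases hc : c = a
      · rw [hc, hfa]; rfl
      · have := hE c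
        rwa [Finsupp.add_apply, Finsupp.single_eq_of_ne hc, zero_add] at this
    obtain ⟨h1, h2⟩ := ih hf0 A
    obtain ⟨n, rfl⟩ := Int.eq_ofNat_of_zero_le hb0
    obtain ⟨h3, h4⟩ := A_chain_single hK a n (A + f)
    have e : A + (Finsupp.single a (n : ℤ) + f) = A + f + Finsupp.single a (n : ℤ) := by abel
    rw [e]
    obtain ⟨h5, h6⟩ := relQ_chain (AD_mono (le_add_of_nonneg_right hf0))
      (AD_mono (le_add_single (A + f) a n)) h1 h3
    refine ⟨h5, ?_⟩
    rw [h6, add_comm (Finsupp.single a (n : ℤ)) f, deg_add, deg_single, ← h2, h4]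
    push_cast; ring

theorem finrank_AD_quotient (hK : IsFunctionField k K) {D₁ D₂ : Divisor k K} (h : D₁ ≤ D₂) :
    AD D₁ ≤ AD D₂ ∧ FiniteDimensional k (RelQ (AD D₁) (AD D₂)) ∧
      (finrank k (RelQ (AD D₁) (AD D₂)) : ℤ) = D₂.deg - D₁.deg := by
  have h1 := A_chain hK (D₂ - D₁) (sub_nonneg.2 h) D₁
  rw [add_sub_cancel, deg_sub] at h1
  exact ⟨AD_mono h, h1.1, h1.2⟩

end Groth.Agent.Helper17.FF
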