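import Groth.Agent.Lib.Helper17.FF12

/-! `dim (A(D₂)+K)/(A(D₁)+K) = δ(D₂) - δ(D₁)`. -/

namespace Groth.Agent.Helper17.FF

open FunFld Polynomial Module

section LinAlg

variable {k M : Type*} [Field k] [AddCommGroup M] [Module k M]

/-- congruence of relative quotients -/
noncomputable def relQCongr {N₁ N₁' N₂ N₂' : Submodule k M} (h₁ : N₁ = N₁') (h₂ : N₂ = N₂') :
    RelQ N₁ N₂ ≃ₗ[k] RelQ N₁' N₂' := by
  subst h₁; subst h₂; exact LinearEquiv.refl _ _

/-- second isomorphism theorem -/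
noncomputable def relQSupEquiv (V U : Submodule k M) : RelQ (V ⊓ U) V ≃ₗ[k] RelQ U (V ⊔ U) :=
  (Submodule.quotEquivOfEq _ _ (by rw [Submodule.comap_inf])) ≪≫ₗ
    LinearMap.quotientInfEquivSupQuotient V U

/-- variant of the chain lemma, knowing that the total quotient is finite-dimensional -/
theorem relQ_chain' {N₁ N₂ N₃ : Submodule k M} (h₁₂ : N₁ ≤ N₂) (h₂₃ : N₂ ≤ N₃)
    (hf : FiniteDimensional k (RelQ N₁ N₃)) :
    FiniteDimensional k (RelQ N₁ N₂) ∧ FiniteDimensional k (RelQ N₂ N₃) ∧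
      finrank k (RelQ N₁ N₃) = finrank k (RelQ N₁ N₂) + finrank k (RelQ N₂ N₃) := by
  have hS : Submodule.comap N₃.subtype N₁ ≤ Submodule.comap N₃.subtype N₂ :=
    Submodule.comap_mono h₁₂
  let e₁ := Submodule.quotientQuotientEquivQuotient (Submodule.comap N₃.subtype N₁)
    (Submodule.comap N₃.subtype N₂) hS
  let φ : ↥N₂ →ₗ[k] (↥N₃ ⧸ Submodule.comap N₃.subtype N₁) :=
    (Submodule.comap N₃.subtype N₁).mkQ ∘ₗ Submodule.inclusion h₂₃
  have hker : LinearMap.ker φ = Submodule.comap N₂.subtype N₁ := by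
    ext y
    rw [LinearMap.mem_ker, LinearMap.comp_apply, Submodule.mkQ_apply,
      Submodule.Quotient.mk_eq_zero]
    rfl
  have hrange : LinearMap.range φ =
      (Submodule.comap N₃.subtype N₂).map (Submodule.comap N₃.subtype N₁).mkQ := by
    ext q
    constructor
    · rintro ⟨y, rfl⟩
      exact ⟨Submodule.inclusion h₂₃ y, y.2, rfl⟩
    · rintro ⟨w, hw, rfl⟩
      exact ⟨⟨w.1, hw⟩, rfl⟩
  let e₂ : RelQ N₁ N₂ ≃ₗ[k]
      ↥((Submodule.comap N₃.subtype N₂).map (Submodule.comap N₃.subtype N₁).mkQ) :=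
    (Submodule.quotEquivOfEq _ _ hker.symm) ≪≫ₗ φ.quotKerEquivRange ≪≫ₗ
      LinearEquiv.ofEq _ _ hrange
  have hf' : FiniteDimensional k (↥N₃ ⧸ Submodule.comap N₃.subtype N₁) := hf
  have hfS : FiniteDimensional k
      ↥((Submodule.comap N₃.subtype N₂).map (Submodule.comap N₃.subtype N₁).mkQ) :=
    inferInstance
  have hfQ : FiniteDimensional k ((↥N₃ ⧸ Submodule.comap N₃.subtype N₁) ⧸
      (Submodule.comap N₃.subtype N₂).map (Submodule.comap N₃.subtype N₁).mkQ) :=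
    inferInstance
  refine ⟨Module.Finite.equiv e₂.symm, Module.Finite.equiv e₁, ?_⟩
  have h1 := Submodule.finrank_quotient_add_finrank
    ((Submodule.comap N₃.subtype N₂).map (Submodule.comap N₃.subtype N₁).mkQ)
  rw [e₁.finrank_eq, ← e₂.finrank_eq] at h1
  show finrank k (↥N₃ ⧸ Submodule.comap N₃.subtype N₁) =
    finrank k (↥N₂ ⧸ Submodule.comap N₂.subtype N₁) +
      finrank k (↥N₃ ⧸ Submodule.comap N₃.subtype N₂)
  change finrank k (↥N₃ ⧸ Submodule.comap N₃.subtype N₂) +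
    finrank k (↥N₂ ⧸ Submodule.comap N₂.subtype N₁) =
      finrank k (↥N₃ ⧸ Submodule.comap N₃.subtype N₁) at h1
  omega

theorem finrank_relQ_add {N₁ N₂ : Submodule k M} (h : N₁ ≤ N₂) [FiniteDimensional k N₂] :
    finrank k (RelQ N₁ N₂) + finrank k N₁ = finrank k N₂ := by
  have h1 := Submodule.finrank_quotient_add_finrank (Submodule.comap N₂.subtype N₁)
  rw [(Submodule.comapSubtypeEquivOfLe h).finrank_eq] at h1
  exact h1

end LinAlg

variable {k K : Type*} [Field k] [Field K] [Algebra k K]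

lemma diag_mem_AD_iff (D : Divisor k K) (y : K) : diag k K y ∈ AD D ↔ y ∈ L D := Iff.rfl

lemma exists_place (hK : IsFunctionField k K) : Nonempty (Place k K) := by
  obtain ⟨⟨x, hx, _⟩, _⟩ := hK
  obtain ⟨P, _⟩ := exists_zero ⟨⟨x, hx, ‹_›⟩, ‹_›⟩ (not_mem_range_of_transcendental hx)
  exact ⟨P⟩

lemma diag_injective (hK : IsFunctionField k K) : Function.Injective (diag k K) := by
  obtain ⟨P⟩ := exists_place hK
  intro x y h
  exact congrFun h P

lemma map_diag_L (D : Divisor k K) :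
    (L D).map (diag k K) = AD D ⊓ LinearMap.range (diag k K) := by
  ext a
  constructor
  · rintro ⟨x, hx, rfl⟩
    exact ⟨hx, ⟨x, rfl⟩⟩
  · rintro ⟨ha, ⟨x, rfl⟩⟩
    exact ⟨x, ha, rfl⟩

lemma finrank_AD_inf_range (hK : IsFunctionField k K) (D : Divisor k K) :
    FiniteDimensional k ↥(AD D ⊓ LinearMap.range (diag k K)) ∧
      finrank k ↥(AD D ⊓ LinearMap.range (diag k K)) = ell D := by
  have e : ↥(L D) ≃ₗ[k] ↥(AD D ⊓ LinearMap.range (diag k K)) :=
    (Submodule.equivMapOfInjective (diag k K) (diag_injective hK) (L D)) ≪≫ₗ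
      LinearEquiv.ofEq _ _ (map_diag_L D)
  have := L_finite hK D
  exact ⟨Module.Finite.equiv e, e.finrank_eq.symm⟩

theorem finrank_AD_sup_K_quotient (hK : IsFunctionField k K) {D₁ D₂ : Divisor k K}
    (h : D₁ ≤ D₂) :
    FiniteDimensional k (RelQ (AD D₁ ⊔ LinearMap.range (diag k K))
      (AD D₂ ⊔ LinearMap.range (diag k K))) ∧
    (finrank k (RelQ (AD D₁ ⊔ LinearMap.range (diag k K))
      (AD D₂ ⊔ LinearMap.range (diag k K))) : ℤ) = delta D₂ - delta D₁ := by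
  have hU : AD D₁ ≤ AD D₂ := AD_mono h
  obtain ⟨_, hfd, hfr⟩ := finrank_AD_quotient hK h
  have hT1 : AD D₁ ≤ AD D₂ ⊓ (AD D₁ ⊔ LinearMap.range (diag k K)) := le_inf hU le_sup_left
  have hT2 : AD D₂ ⊓ (AD D₁ ⊔ LinearMap.range (diag k K)) ≤ AD D₂ := inf_le_left
  obtain ⟨hf1, hf2, hadd⟩ := relQ_chain' hT1 hT2 hfd
  -- the quotient in question is `A(D₂) / T`
  let ψ : ↥(AD D₂) →ₗ[k] RelQ (AD D₁ ⊔ LinearMap.range (diag k K))
      (AD D₂ ⊔ LinearMap.range (diag k K)) :=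
    (Submodule.comap (AD D₂ ⊔ LinearMap.range (diag k K)).subtype
      (AD D₁ ⊔ LinearMap.range (diag k K))).mkQ ∘ₗ
      Submodule.inclusion (le_sup_left : AD D₂ ≤ AD D₂ ⊔ LinearMap.range (diag k K))
  have hψs : Function.Surjective ψ := by
    intro q
    obtain ⟨⟨y, hy⟩, rfl⟩ := Submodule.Quotient.mk_surjective _ q
    obtain ⟨u, hu, w, hw, rfl⟩ := Submodule.mem_sup.1 hy
    refine ⟨⟨u, hu⟩, ?_⟩
    show Submodule.Quotient.mk _ = Submodule.Quotient.mk _
    rw [Submodule.Quotient.eq]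
    show u - (u + w) ∈ AD D₁ ⊔ LinearMap.range (diag k K)
    rw [sub_add_cancel_left]
    exact Submodule.mem_sup_right (Submodule.neg_mem _ hw)
  have hψk : LinearMap.ker ψ = Submodule.comap (AD D₂).subtype
      (AD D₂ ⊓ (AD D₁ ⊔ LinearMap.range (diag k K))) := by
    ext y
    rw [LinearMap.mem_ker]
    show Submodule.Quotient.mk _ = 0 ↔ _
    rw [Submodule.Quotient.mk_eq_zero]
    show (y : Place k K → K) ∈ AD D₁ ⊔ LinearMap.range (diag k K) ↔
      (y : Place k K → K) ∈ AD D₂ ⊓ (AD D₁ ⊔ LinearMap.range (diag k K))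
    exact ⟨fun h => ⟨y.2, h⟩, fun h => h.2⟩
  have e := relQEquivOfSurjective ψ hψs hψk
  -- the other piece is `L(D₂)/L(D₁)`
  have hmod : AD D₂ ⊓ (AD D₁ ⊔ LinearMap.range (diag k K)) =
      (AD D₂ ⊓ LinearMap.range (diag k K)) ⊔ AD D₁ := by
    rw [sup_comm (AD D₁), inf_sup_assoc_of_le _ hU]
  have hinf : (AD D₂ ⊓ LinearMap.range (diag k K)) ⊓ AD D₁ =
      AD D₁ ⊓ LinearMap.range (diag k K) := by
    rw [inf_comm, ← inf_assoc, inf_eq_left.2 hU]
  have e₂ := (relQCongr hinf.symm rfl).trans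
    ((relQSupEquiv (AD D₂ ⊓ LinearMap.range (diag k K)) (AD D₁)).trans (relQCongr rfl hmod.symm))
  obtain ⟨hfin2, hr2⟩ := finrank_AD_inf_range hK D₂
  obtain ⟨hfin1, hr1⟩ := finrank_AD_inf_range hK D₁
  have hle : AD D₁ ⊓ LinearMap.range (diag k K) ≤ AD D₂ ⊓ LinearMap.range (diag k K) :=
    inf_le_inf_right _ hU
  have h3 := finrank_relQ_add hle
  rw [hr1, hr2] at h3
  refine ⟨Module.Finite.equiv e, ?_⟩
  rw [← e.finrank_eq]
  rw [← e₂.finrank_eq] at hadd
  unfold delta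
  have : (finrank k (RelQ (AD D₁) (AD D₂)) : ℤ) =
      (finrank k (RelQ (AD D₁ ⊓ LinearMap.range (diag k K))
        (AD D₂ ⊓ LinearMap.range (diag k K))) : ℤ) +
      (finrank k (RelQ (AD D₂ ⊓ (AD D₁ ⊔ LinearMap.range (diag k K))) (AD D₂)) : ℤ) := by
    exact_mod_cast hadd
  have h3' : (finrank k (RelQ (AD D₁ ⊓ LinearMap.range (diag k K))
        (AD D₂ ⊓ LinearMap.range (diag k K))) : ℤ) + (ell D₁ : ℤ) = (ell D₂ : ℤ) := by
    exact_mod_cast h3
  linarith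

end Groth.Agent.Helper17.FF
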