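import Groth.Agent.Lib.Helper17.FF14

/-! Weil differentials: divisor of a differential, `[xω] = [x] + [ω]`. -/

namespace Groth.Agent.Helper17.FF

open FunFld Polynomial Module

variable {k K : Type*} [Field k] [Field K] [Algebra k K]

lemma ADK_mono {D E : Divisor k K} (h : D ≤ E) : ADK D ≤ ADK E := by
  intro a ha
  rw [mem_ADK] at ha ⊢
  exact sup_le_sup_right (AD_mono h) _ ha

lemma WD_anti {D E : Divisor k K} (h : D ≤ E) : WD E ≤ WD D := by
  intro ω hω
  rw [mem_WD] at hω ⊢
  exact fun a ha => hω a (ADK_mono h ha)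

lemma mem_WD_iff' (hK : IsFunctionField k K) {ω : Module.Dual k (adele k K)} {D : Divisor k K} :
    ω ∈ WD D ↔ (∀ (u : Place k K → K) (hu : u ∈ AD D), ω ⟨u, AD_le_adele D hu⟩ = 0) ∧
      ∀ x : K, ω ⟨diag k K x, diag_mem_adele hK x⟩ = 0 := by
  rw [mem_WD]
  constructor
  · intro h
    exact ⟨fun u hu => h _ (by rw [mem_ADK]; exact Submodule.mem_sup_left hu),
      fun x => h _ (by rw [mem_ADK]; exact Submodule.mem_sup_right ⟨x, rfl⟩)⟩
  · rintro ⟨h1, h2⟩ a ha
    rw [mem_ADK] at ha
    obtain ⟨u, hu, w, ⟨x, rfl⟩, hsum⟩ := Submodule.mem_sup.1 ha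
    have : a = ⟨u, AD_le_adele D hu⟩ + ⟨diag k K x, diag_mem_adele hK x⟩ :=
      Subtype.ext hsum.symm
    rw [this, map_add, h1 u hu, h2 x, add_zero]

/-- a nonzero differential cannot vanish on `A(E)+K` for `deg E` large -/
lemma deg_lt_of_mem_WD (hK : IsFunctionField k K) :
    ∃ N : ℤ, ∀ (ω : Module.Dual k (adele k K)) (E : Divisor k K), ω ≠ 0 → ω ∈ WD E →
      E.deg < N := by
  obtain ⟨N, hN⟩ := (riemann hK).2
  refine ⟨N, fun ω E h0 hω => ?_⟩
  by_contra hlt
  push Not at hlt
  have h1 := hN E hlt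
  obtain ⟨hfd, hfr⟩ := finrank_WD hK E
  unfold delta at hfr
  rw [h1, sub_self] at hfr
  have h2 : finrank k (WD E) = 0 := by exact_mod_cast hfr
  have h3 : Subsingleton (WD E) := Module.finrank_zero_iff.1 h2
  have h4 : (⟨ω, hω⟩ : WD E) = 0 := Subsingleton.elim _ _
  exact h0 (congrArg Subtype.val h4)

open scoped Classical in
theorem exists_isDivOf (hK : IsFunctionField k K) (ω : Module.Dual k (adele k K))
    (hω : IsWeil ω) (h0 : ω ≠ 0) : ∃ C : Divisor k K, IsDivOf ω C := by
  obtain ⟨N, hN⟩ := deg_lt_of_mem_WD hK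
  obtain ⟨E₀, hE₀⟩ := hω
  obtain ⟨n, ⟨C, hC, rfl⟩, hmax⟩ := Int.exists_greatest_of_bdd
    (P := fun n => ∃ E : Divisor k K, ω ∈ WD E ∧ E.deg = n)
    ⟨N, fun z ⟨E, hE, hz⟩ => hz ▸ (hN ω E h0 hE).le⟩ ⟨_, E₀, hE₀, rfl⟩
  refine ⟨C, fun E => ⟨fun hE => ?_, fun hle => WD_anti hle hC⟩⟩
  by_contra hnle
  obtain ⟨Q, hQ⟩ : ∃ Q, ¬ E Q ≤ C Q := by
    by_contra hcon
    push Not at hcon
    exact hnle hcon
  push Not at hQ
  have hmem : ω ∈ WD (C + Finsupp.single Q 1) := by
    rw [mem_WD_iff' hK]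
    refine ⟨fun u hu => ?_, ((mem_WD_iff' hK).1 hC).2⟩
    have hu1 : Function.update u Q 0 ∈ AD C := by
      intro P
      by_cases hP : P = Q
      · subst hP; rw [Function.update_self, map_zero]; exact zero_le'
      · rw [Function.update_of_ne hP]
        have := hu P
        rwa [Finsupp.add_apply, Finsupp.single_eq_of_ne hP, add_zero] at this
    have hu2 : (Pi.single Q (u Q) : Place k K → K) ∈ AD E := by
      intro P
      by_cases hP : P = Q
      · subst hP
        rw [Pi.single_eq_same]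
        have := hu P
        rw [Finsupp.add_apply, Finsupp.single_eq_same] at this
        exact this.trans (WithZero.exp_le_exp.2 hQ)
      · rw [Pi.single_eq_of_ne hP, map_zero]; exact zero_le'
    have hsum : (⟨u, AD_le_adele _ hu⟩ : adele k K) =
        ⟨Function.update u Q 0, AD_le_adele _ hu1⟩ + ⟨Pi.single Q (u Q), AD_le_adele _ hu2⟩ := by
      apply Subtype.ext
      funext P
      show u P = Function.update u Q 0 P + (Pi.single Q (u Q) : Place k K → K) P
      by_cases hP : P = Q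
      · subst hP; rw [Function.update_self, Pi.single_eq_same, zero_add]
      · rw [Function.update_of_ne hP, Pi.single_eq_of_ne hP, add_zero]
    rw [hsum, map_add, ((mem_WD_iff' hK).1 hC).1 _ hu1, ((mem_WD_iff' hK).1 hE).1 _ hu2,
      add_zero]
  have h1 := hmax _ ⟨_, hmem, rfl⟩
  rw [deg_add, deg_single] at h1
  have := deg_pos hK Q
  have h2 : (0 : ℤ) < (Q.deg : ℤ) := by exact_mod_cast this
  linarith

lemma isDivOf_unique {ω : Module.Dual k (adele k K)} {C C' : Divisor k K}
    (h : IsDivOf ω C) (h' : IsDivOf ω C') : C = C' :=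
  le_antisymm ((h' C).1 ((h C).2 le_rfl)) ((h C').1 ((h' C').2 le_rfl))

lemma IsDivOf.mem {ω : Module.Dual k (adele k K)} {C : Divisor k K} (h : IsDivOf ω C) :
    ω ∈ WD C := (h C).2 le_rfl

lemma IsDivOf.ne_zero (hK : IsFunctionField k K) {ω : Module.Dual k (adele k K)}
    {C : Divisor k K} (h : IsDivOf ω C) : ω ≠ 0 := by
  rintro rfl
  obtain ⟨P⟩ := exists_place hK
  have h1 := (h (C + Finsupp.single P 1)).1 (Submodule.zero_mem _)
  have h2 := h1 P
  rw [Finsupp.add_apply, Finsupp.single_eq_same] at h2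
  linarith

/-! ### multiplication of differentials by functions -/

/-- `x ↦ xω` as a `k`-linear map -/
noncomputable def mulWLin (hK : IsFunctionField k K) (ω : Module.Dual k (adele k K)) :
    K →ₗ[k] Module.Dual k (adele k K) where
  toFun x := mulW x (smul_mem_adele hK x) ω
  map_add' x y := by
    ext a
    rw [LinearMap.add_apply, mulW_apply, mulW_apply, mulW_apply, ← map_add]
    congr 1
    apply Subtype.ext
    show (x + y) • (a : Place k K → K) = x • (a : Place k K → K) + y • (a : Place k K → K)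
    rw [add_smul]
  map_smul' c x := by
    ext a
    rw [LinearMap.smul_apply, RingHom.id_apply, mulW_apply, mulW_apply, ← map_smul]
    congr 1
    apply Subtype.ext
    show (c • x) • (a : Place k K → K) = c • (x • (a : Place k K → K))
    rw [smul_assoc]

lemma mulWLin_apply (hK : IsFunctionField k K) (ω : Module.Dual k (adele k K)) (x : K)
    (a : adele k K) :
    mulWLin hK ω x a = ω ⟨x • (a : Place k K → K), smul_mem_adele hK x _ a.2⟩ := rfl

lemma mulWLin_eq (hK : IsFunctionField k K) (ω : Module.Dual k (adele k K)) (x : K)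
    (hx : ∀ a ∈ adele k K, x • a ∈ adele k K) : mulWLin hK ω x = mulW x hx ω := rfl

lemma mulWLin_mul (hK : IsFunctionField k K) (ω : Module.Dual k (adele k K)) (x y : K) :
    mulWLin hK (mulWLin hK ω y) x = mulWLin hK ω (x * y) := by
  ext a
  rw [mulWLin_apply, mulWLin_apply, mulWLin_apply]
  congr 1
  apply Subtype.ext
  show y • x • (a : Place k K → K) = (x * y) • (a : Place k K → K)
  rw [smul_smul, mul_comm]

lemma mulWLin_one (hK : IsFunctionField k K) (ω : Module.Dual k (adele k K)) :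
    mulWLin hK ω 1 = ω := by
  ext a
  rw [mulWLin_apply]
  congr 1
  apply Subtype.ext
  show (1 : K) • (a : Place k K → K) = a
  rw [one_smul]

lemma mulWLin_inv_cancel (hK : IsFunctionField k K) (ω : Module.Dual k (adele k K)) {x : K}
    (hx : x ≠ 0) : mulWLin hK (mulWLin hK ω x) x⁻¹ = ω := by
  rw [mulWLin_mul, inv_mul_cancel₀ hx, mulWLin_one]

lemma mulWLin_injective (hK : IsFunctionField k K) {ω : Module.Dual k (adele k K)}
    (h0 : ω ≠ 0) : Function.Injective (mulWLin hK ω) := by
  rw [← LinearMap.ker_eq_bot, LinearMap.ker_eq_bot']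
  intro x hx
  by_contra hx0
  apply h0
  rw [← mulWLin_inv_cancel hK ω hx0, hx]
  ext a
  rw [mulWLin_apply]
  rfl

lemma mulWLin_mem_WD (hK : IsFunctionField k K) {ω : Module.Dual k (adele k K)}
    {D : Divisor k K} (h : ω ∈ WD D) {x : K} (hx : x ≠ 0) :
    mulWLin hK ω x ∈ WD (D + FunFld.div k x) := by
  rw [mem_WD_iff' hK] at h ⊢
  refine ⟨fun u hu => ?_, fun y => ?_⟩
  · rw [mulWLin_apply]
    apply h.1
    intro P
    show P.1 (x * u P) ≤ _
    rw [map_mul, val_eq_exp_neg_ord P hx]
    have := hu P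
    rw [Finsupp.add_apply, div_apply hK] at this
    calc WithZero.exp (-(P.ord x)) * P.1 (u P) ≤
          WithZero.exp (-(P.ord x)) * WithZero.exp (D P + P.ord x) := mul_le_mul' le_rfl this
      _ = WithZero.exp (D P) := by rw [← WithZero.exp_add]; congr 1; ring
  · rw [mulWLin_apply]
    have := h.2 (x * y)
    convert this using 2
    exact Subtype.ext (funext fun P => rfl)

theorem mulWLin_mem_WD_iff (hK : IsFunctionField k K) {ω : Module.Dual k (adele k K)}
    {E : Divisor k K} {x : K} (hx : x ≠ 0) :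
    mulWLin hK ω x ∈ WD E ↔ ω ∈ WD (E - FunFld.div k x) := by
  constructor
  · intro h
    have h1 := mulWLin_mem_WD hK h (inv_ne_zero hx)
    rwa [mulWLin_inv_cancel hK ω hx, div_inv hK, ← sub_eq_add_neg] at h1
  · intro h
    have h1 := mulWLin_mem_WD hK h hx
    rwa [sub_add_cancel] at h1

theorem isDivOf_mulWLin (hK : IsFunctionField k K) {ω : Module.Dual k (adele k K)}
    {C : Divisor k K} (hω : IsDivOf ω C) {x : K} (hx : x ≠ 0) :
    IsDivOf (mulWLin hK ω x) (C + FunFld.div k x) := by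
  intro E
  rw [mulWLin_mem_WD_iff hK hx, hω, sub_le_iff_le_add]

end Groth.Agent.Helper17.FF
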