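import Groth.Agent.Lib.Helper17.FF1

/-! Residue fields of places are finite over `k`. -/

namespace Groth.Agent.Helper17.FF

open FunFld Polynomial

variable {k K : Type*} [Field k] [Field K] [Algebra k K]

lemma isUnit_iff (P : Place k K) (z : P.O) : IsUnit z ↔ P.1 (z : K) = 1 :=
  (Valuation.valuationSubring.integers P.1).isUnit_iff_valuation_eq_one

lemma not_mem_range_of_val_ne_one (P : Place k K) {x : K} (hx0 : x ≠ 0) (hx : P.1 x ≠ 1) :
    x ∉ Set.range (algebraMap k K) := by
  rintro ⟨c, rfl⟩
  have hc : c ≠ 0 := fun h => hx0 (by rw [h, map_zero])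
  exact hx (val_const P hc)

lemma exists_uniformizer (P : Place k K) : ∃ t : K, P.1 t = WithZero.exp (-1 : ℤ) :=
  P.2.2 _

lemma exp_neg_one_lt_one : (WithZero.exp (-1 : ℤ) : WithZero (Multiplicative ℤ)) < 1 := by
  rw [← WithZero.exp_zero]
  exact WithZero.exp_lt_exp.2 (by norm_num)

lemma val_ne_zero_of_ne_zero (P : Place k K) {x : K} (hx : x ≠ 0) : P.1 x ≠ 0 :=
  (Valuation.ne_zero_iff _).2 hx

/-- bound for independent residues -/
theorem card_le_of_linearIndependent_residue (P : Place k K) {t : K} (ht0 : t ≠ 0)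
    (ht1 : P.1 t < 1) [FiniteDimensional (IntermediateField.adjoin k ({t} : Set K)) K]
    (s : Finset (IsLocalRing.ResidueField P.O))
    (hs : LinearIndependent k fun i : s => (i : IsLocalRing.ResidueField P.O)) :
    s.card ≤ Module.finrank (IntermediateField.adjoin k ({t} : Set K)) K := by
  classical
  have hsurj := IsLocalRing.residue_surjective (R := P.O)
  choose z hz using hsurj
  have h1 := KL_card P.1 P.2.1 ht0 ht1.le (fun r : s => ((z r.1 : P.O) : K)) ?_
  · simpa using h1
  intro a ha i
  have hwS : (∑ r : s, a r • ((z r.1 : P.O) : K)) =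
      ((∑ r : s, algebraMap k P.O (a r) * z r.1 : P.O) : K) := by
    push_cast
    refine Finset.sum_congr rfl fun r _ => ?_
    rw [Algebra.smul_def]; rfl
  have hres : IsLocalRing.residue P.O (∑ r : s, algebraMap k P.O (a r) * z r.1) =
      ∑ r : s, a r • (r.1 : IsLocalRing.ResidueField P.O) := by
    rw [map_sum]
    refine Finset.sum_congr rfl fun r _ => ?_
    rw [map_mul, hz, Algebra.smul_def]; rfl
  have hne : IsLocalRing.residue P.O (∑ r : s, algebraMap k P.O (a r) * z r.1) ≠ 0 := by
    rw [hres]
    intro h0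
    exact ha (funext ((Fintype.linearIndependent_iff.1 hs) a h0))
  have hunit : IsUnit (∑ r : s, algebraMap k P.O (a r) * z r.1 : P.O) := by
    by_contra hnu
    exact hne ((IsLocalRing.residue_eq_zero_iff _).2 ((IsLocalRing.mem_maximalIdeal _).2 hnu))
  have hv1 := (isUnit_iff P _).1 hunit
  rw [hwS, hv1]
  calc P.1 t * P.1 ((z i.1 : P.O) : K) ≤ P.1 t * 1 := mul_le_mul' le_rfl (z i.1).2
    _ = P.1 t := mul_one _
    _ < 1 := ht1

theorem residue_finite (hK : IsFunctionField k K) (P : Place k K) :
    FiniteDimensional k (IsLocalRing.ResidueField P.O) := by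
  classical
  obtain ⟨t, ht⟩ := exists_uniformizer P
  have ht0 : t ≠ 0 := fun h => by
    rw [h, map_zero] at ht; exact WithZero.exp_ne_zero ht.symm
  have ht1 : P.1 t < 1 := by rw [ht]; exact exp_neg_one_lt_one
  have htr : Transcendental k t :=
    transcendental_of_not_mem hK (not_mem_range_of_val_ne_one P ht0 ht1.ne)
  have := finite_of_transcendental hK htr
  have hrank : Module.rank k (IsLocalRing.ResidueField P.O) ≤
      (Module.finrank (IntermediateField.adjoin k ({t} : Set K)) K : ℕ) :=
    rank_le fun s hs => card_le_of_linearIndependent_residue P ht0 ht1 s hs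
  exact Module.rank_lt_aleph0_iff.1 (lt_of_le_of_lt hrank (Cardinal.nat_lt_aleph0 _))

end Groth.Agent.Helper17.FF
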