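import Groth.Agent.Lib.Helper17.FF20

/-! Weierstrass gaps. -/

namespace Groth.Agent.Helper17.FF

open FunFld Polynomial Module

variable {k K : Type*} [Field k] [Field K] [Algebra k K]

/-- `m` is a gap at `P` -/
def IsGap (P : Place k K) (m : ℤ) : Prop :=
  L (Finsupp.single P m : Divisor k K) = L (Finsupp.single P (m - 1) : Divisor k K)

lemma L_single_mono (P : Place k K) {a b : ℤ} (h : a ≤ b) :
    L (Finsupp.single P a : Divisor k K) ≤ L (Finsupp.single P b : Divisor k K) := by
  classical
  apply L_mono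
  intro Q
  rw [Finsupp.single_apply, Finsupp.single_apply]
  split_ifs <;> omega

lemma not_isGap_iff (P : Place k K) (m : ℤ) :
    ¬ IsGap P m ↔ ∃ f : K, f ≠ 0 ∧ P.ord f = -m ∧ ∀ Q : Place k K, Q ≠ P → 0 ≤ Q.ord f := by
  classical
  constructor
  · intro h
    have hle := L_single_mono (k := k) (K := K) P (show m - 1 ≤ m by omega)
    obtain ⟨f, hfL, hfn⟩ : ∃ f ∈ L (Finsupp.single P m : Divisor k K),
        f ∉ L (Finsupp.single P (m - 1) : Divisor k K) := by
      by_contra hcon
      push Not at hcon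
      exact h (le_antisymm hcon hle)
    have hf0 : f ≠ 0 := fun h0 => hfn (by rw [h0]; exact Submodule.zero_mem _)
    have hQ : ∀ Q : Place k K, Q ≠ P → 0 ≤ Q.ord f := by
      intro Q hQ
      have := (val_le_exp_iff Q hf0 _).1 (hfL Q)
      rw [Finsupp.single_eq_of_ne hQ] at this
      omega
    refine ⟨f, hf0, ?_, hQ⟩
    have h1 := (val_le_exp_iff P hf0 _).1 (hfL P)
    rw [Finsupp.single_eq_same] at h1
    by_contra hne
    apply hfn
    intro Q
    rw [val_le_exp_iff Q hf0]
    by_cases hQP : Q = P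
    · subst hQP; rw [Finsupp.single_eq_same]; omega
    · rw [Finsupp.single_eq_of_ne hQP]; have := hQ Q hQP; omega
  · rintro ⟨f, hf0, hfo, hQ⟩ hgap
    have hfL : f ∈ L (Finsupp.single P m : Divisor k K) := by
      intro Q
      rw [val_le_exp_iff Q hf0]
      by_cases hQP : Q = P
      · subst hQP; rw [Finsupp.single_eq_same]; omega
      · rw [Finsupp.single_eq_of_ne hQP]; have := hQ Q hQP; omega
    rw [hgap] at hfL
    have := (val_le_exp_iff P hf0 _).1 (hfL P)
    rw [Finsupp.single_eq_same] at this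
    omega

lemma not_isGap_add (P : Place k K) {m m' : ℤ} (h : ¬ IsGap P m) (h' : ¬ IsGap P m') :
    ¬ IsGap P (m + m') := by
  rw [not_isGap_iff] at h h' ⊢
  obtain ⟨f, hf0, hfo, hfQ⟩ := h
  obtain ⟨g, hg0, hgo, hgQ⟩ := h'
  refine ⟨f * g, mul_ne_zero hf0 hg0, by rw [ord_mul P hf0 hg0, hfo, hgo]; ring, fun Q hQ => ?_⟩
  rw [ord_mul Q hf0 hg0]
  have := hfQ Q hQ; have := hgQ Q hQ; omega

open scoped Classical in
theorem gaps_below_gap (P : Place k K) (n : ℕ) (hn : 1 ≤ n) (hgap : IsGap P (n : ℤ)) :
    n - 1 ≤ 2 * ((Finset.Ico 1 n).filter (fun m : ℕ => IsGap P (m : ℤ))).card := by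
  set G := (Finset.Ico 1 n).filter (fun m : ℕ => IsGap P (m : ℤ)) with hG
  have hsub : Finset.Ico 1 n ⊆ G ∪ G.image (fun m => n - m) := by
    intro m hm
    rw [Finset.mem_Ico] at hm
    rw [Finset.mem_union]
    by_cases hgm : IsGap P (m : ℤ)
    · left; rw [hG, Finset.mem_filter, Finset.mem_Ico]; exact ⟨hm, hgm⟩
    · right
      rw [Finset.mem_image]
      refine ⟨n - m, ?_, by omega⟩
      rw [hG, Finset.mem_filter, Finset.mem_Ico]
      refine ⟨by omega, ?_⟩
      by_contra hgm'
      have := not_isGap_add P hgm hgm'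
      apply this
      have : (m : ℤ) + ((n - m : ℕ) : ℤ) = n := by
        rw [Nat.cast_sub hm.2.le]; ring
      rw [this]; exact hgap
  have h1 := Finset.card_le_card hsub
  rw [Nat.card_Ico] at h1
  have h2 := Finset.card_union_le G (G.image (fun m => n - m))
  have h3 := Finset.card_image_le (s := G) (f := fun m => n - m)
  omega

open scoped Classical in
theorem card_gaps_add_ell (hK : IsFunctionField k K) {P : Place k K} (hP : P.deg = 1) (N : ℕ) :
    ((Finset.Icc 1 N).filter (fun m : ℕ => IsGap P (m : ℤ))).card +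
      ell (Finsupp.single P (N : ℤ) : Divisor k K) = N + 1 := by
  induction N with
  | zero =>
    simp only [Nat.cast_zero, Finsupp.single_zero]
    rw [ell_zero hK]
    simp
  | succ N ih =>
    have hIcc : Finset.Icc 1 (N + 1) = insert (N + 1) (Finset.Icc 1 N) := by
      ext m; simp only [Finset.mem_Icc, Finset.mem_insert]; omega
    have hnotin : N + 1 ∉ Finset.Icc 1 N := by simp
    have hcast : ((N + 1 : ℕ) : ℤ) - 1 = N := by push_cast; ring
    rw [hIcc, Finset.filter_insert]
    by_cases hgap : IsGap P ((N + 1 : ℕ) : ℤ)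
    · rw [if_pos hgap, Finset.card_insert_of_notMem (by simp)]
      have : ell (Finsupp.single P ((N + 1 : ℕ) : ℤ) : Divisor k K) =
          ell (Finsupp.single P (N : ℤ) : Divisor k K) := by
        unfold ell
        unfold IsGap at hgap
        rw [hgap, hcast]
      rw [this]; omega
    · rw [if_neg hgap]
      have hfd := L_finite hK (Finsupp.single P (N : ℤ) : Divisor k K)
      have hfd' := L_finite hK (Finsupp.single P ((N + 1 : ℕ) : ℤ) : Divisor k K)
      have hstep := (L_step hK (Finsupp.single P (N : ℤ)) P hfd).2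
      have hsum : (Finsupp.single P (N : ℤ) + Finsupp.single P 1 : Divisor k K) =
          Finsupp.single P ((N + 1 : ℕ) : ℤ) := by
        rw [← Finsupp.single_add]; push_cast; rfl
      rw [hsum, hP] at hstep
      have hlt : L (Finsupp.single P (N : ℤ) : Divisor k K) <
          L (Finsupp.single P ((N + 1 : ℕ) : ℤ) : Divisor k K) := by
        refine lt_of_le_of_ne (L_single_mono P (by push_cast; omega)) ?_
        intro heq
        apply hgap
        unfold IsGap
        rw [hcast, heq]
      have h2 := Submodule.finrank_lt_finrank_of_lt hlt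
      unfold ell at ih ⊢
      omega

open scoped Classical in
theorem gaps_lower_bound (hK : IsFunctionField k K) {P : Place k K} (hP : P.deg = 1) (l : ℕ)
    (hl : 1 ≤ l) (hlg : l ≤ genus k K) :
    l ≤ ((Finset.Icc 1 (2 * l - 1)).filter (fun m : ℕ => IsGap P (m : ℤ))).card := by
  have h1 := card_gaps_add_ell hK hP (2 * l - 1)
  have h2 : ell (Finsupp.single P ((2 * l - 1 : ℕ) : ℤ) : Divisor k K) ≤ l := by
    by_cases hlt : ((2 * l - 1 : ℕ) : ℤ) ≤ 2 * (genus k K : ℤ) - 2
    · have := clifford_single hK hP (2 * l - 1) hlt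
      omega
    · push Not at hlt
      have hlg' : l = genus k K := by
        have : ((2 * l - 1 : ℕ) : ℤ) = 2 * (l : ℤ) - 1 := by
          rw [Nat.cast_sub (by omega)]; push_cast; ring
        rw [this] at hlt
        have h3 : (l : ℤ) ≤ genus k K := by exact_mod_cast hlg
        have : (genus k K : ℤ) ≤ l := by omega
        exact_mod_cast le_antisymm h3 this
      have hc : ((2 * l - 1 : ℕ) : ℤ) = 2 * (l : ℤ) - 1 := by
        rw [Nat.cast_sub (by omega)]; push_cast; ring
      have hgl : (genus k K : ℤ) = l := by rw [← hlg']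
      have h4 := ell_eq_of_deg_ge hK (Finsupp.single P ((2 * l - 1 : ℕ) : ℤ))
        (by rw [deg_single, hP, hc, hgl]; push_cast; linarith)
      rw [deg_single, hP, hc, hgl] at h4
      push_cast at h4
      have : (ell (Finsupp.single P ((2 * l - 1 : ℕ) : ℤ) : Divisor k K) : ℤ) ≤ l := by
        rw [hc, h4]; linarith
      exact_mod_cast this
  omega

end Groth.Agent.Helper17.FF
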