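import Groth.Agent.Lib.Helper17.FF3

/-! `ord` API, poles, constants. -/

namespace Groth.Agent.Helper17.FF

open FunFld Polynomial

variable {k K : Type*} [Field k] [Field K] [Algebra k K]

lemma val_eq_exp_neg_ord (P : Place k K) {x : K} (hx : x ≠ 0) :
    P.1 x = WithZero.exp (-(P.ord x)) := by
  unfold Place.ord
  rw [neg_neg, WithZero.exp_log (val_ne_zero_of_ne_zero P hx)]

lemma ord_zero (P : Place k K) : P.ord 0 = 0 := by
  unfold Place.ord
  simp

lemma val_le_exp_iff (P : Place k K) {x : K} (hx : x ≠ 0) (n : ℤ) :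
    P.1 x ≤ WithZero.exp n ↔ -n ≤ P.ord x := by
  rw [val_eq_exp_neg_ord P hx, WithZero.exp_le_exp]
  constructor <;> intro h <;> omega

lemma val_lt_exp_iff (P : Place k K) {x : K} (hx : x ≠ 0) (n : ℤ) :
    P.1 x < WithZero.exp n ↔ -n < P.ord x := by
  rw [val_eq_exp_neg_ord P hx, WithZero.exp_lt_exp]
  constructor <;> intro h <;> omega

lemma val_eq_exp_iff (P : Place k K) {x : K} (hx : x ≠ 0) (n : ℤ) :
    P.1 x = WithZero.exp n ↔ P.ord x = -n := by
  rw [val_eq_exp_neg_ord P hx, WithZero.exp_inj]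
  constructor <;> intro h <;> omega

lemma ord_pos_iff (P : Place k K) {x : K} (hx : x ≠ 0) : 0 < P.ord x ↔ P.1 x < 1 := by
  have h := val_lt_exp_iff P hx 0
  rw [WithZero.exp_zero, neg_zero] at h
  exact h.symm

lemma ord_neg_iff (P : Place k K) {x : K} (hx : x ≠ 0) : P.ord x < 0 ↔ 1 < P.1 x := by
  have h := val_le_exp_iff P hx 0
  rw [WithZero.exp_zero, neg_zero] at h
  rw [← not_le, ← not_le, h]

lemma ord_nonneg_iff (P : Place k K) {x : K} (hx : x ≠ 0) : 0 ≤ P.ord x ↔ P.1 x ≤ 1 := by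
  have h := val_le_exp_iff P hx 0
  rw [WithZero.exp_zero, neg_zero] at h
  exact h.symm

lemma ord_eq_zero_iff (P : Place k K) {x : K} (hx : x ≠ 0) : P.ord x = 0 ↔ P.1 x = 1 := by
  have h := val_eq_exp_iff P hx 0
  rw [WithZero.exp_zero, neg_zero] at h
  exact h.symm

lemma ord_mul (P : Place k K) {x y : K} (hx : x ≠ 0) (hy : y ≠ 0) :
    P.ord (x * y) = P.ord x + P.ord y := by
  unfold Place.ord
  rw [map_mul, WithZero.log_mul (val_ne_zero_of_ne_zero P hx) (val_ne_zero_of_ne_zero P hy)]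
  ring

lemma ord_inv (P : Place k K) (x : K) : P.ord x⁻¹ = -P.ord x := by
  unfold Place.ord
  rw [map_inv₀, WithZero.log_inv]

lemma ord_div (P : Place k K) {x y : K} (hx : x ≠ 0) (hy : y ≠ 0) :
    P.ord (x / y) = P.ord x - P.ord y := by
  rw [div_eq_mul_inv, ord_mul P hx (inv_ne_zero hy), ord_inv]; ring

lemma ord_pow (P : Place k K) (x : K) (n : ℕ) : P.ord (x ^ n) = n * P.ord x := by
  unfold Place.ord
  rw [map_pow, WithZero.log_pow]
  simp

lemma ord_zpow (P : Place k K) (x : K) (n : ℤ) : P.ord (x ^ n) = n * P.ord x := by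
  unfold Place.ord
  rw [map_zpow₀, WithZero.log_zpow]
  simp

lemma ord_const (P : Place k K) (c : k) : P.ord (algebraMap k K c) = 0 := by
  rcases eq_or_ne c 0 with rfl | hc
  · rw [map_zero, ord_zero]
  · unfold Place.ord
    rw [val_const P hc]; simp

theorem exists_pole (hK : IsFunctionField k K) {x : K}
    (hx : x ∉ Set.range (algebraMap k K)) : ∃ Q : Place k K, 1 < Q.1 x := by
  have hx0 : x ≠ 0 := fun h => hx ⟨0, by rw [map_zero, h]⟩
  have hxi : x⁻¹ ∉ Set.range (algebraMap k K) := by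
    rintro ⟨c, hc⟩
    exact hx ⟨c⁻¹, by rw [map_inv₀, hc, inv_inv]⟩
  obtain ⟨Q, hQ⟩ := exists_zero hK hxi
  refine ⟨Q, ?_⟩
  rw [map_inv₀] at hQ
  exact (inv_lt_one₀ (val_pos Q.1 hx0)).1 hQ

/-- an element with no zero (or no pole) is constant -/
theorem mem_range_of_forall_val_le_one (hK : IsFunctionField k K) {x : K}
    (h : ∀ P : Place k K, P.1 x ≤ 1) : x ∈ Set.range (algebraMap k K) := by
  by_contra hx
  obtain ⟨Q, hQ⟩ := exists_pole hK hx
  exact absurd (h Q) (not_le.2 hQ)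

theorem mem_range_of_forall_one_le_val (hK : IsFunctionField k K) {x : K}
    (h : ∀ P : Place k K, 1 ≤ P.1 x) : x ∈ Set.range (algebraMap k K) := by
  by_contra hx
  obtain ⟨Q, hQ⟩ := exists_zero hK hx
  exact absurd (h Q) (not_le.2 hQ)

theorem L_zero (hK : IsFunctionField k K) : L (0 : Divisor k K) = 1 := by
  ext x
  rw [mem_L, Submodule.mem_one]
  constructor
  · intro h
    exact mem_range_of_forall_val_le_one hK fun P => by
      have := h P
      rwa [Finsupp.zero_apply, WithZero.exp_zero] at this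
  · rintro ⟨c, rfl⟩ P
    rw [Finsupp.zero_apply, WithZero.exp_zero]
    exact P.2.1 c

end Groth.Agent.Helper17.FF
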