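import Groth.Agent.Lib.Helper17.FF6

/-! Bound for the zeros of an element: `∑ ord_P(x) deg P ≤ [K : k(x)]`. -/

namespace Groth.Agent.Helper17.FF

open FunFld Polynomial Module

variable {k K : Type*} [Field k] [Field K] [Algebra k K]

section KL2

variable {Γ₀ : Type*} [LinearOrderedCommGroupWithZero Γ₀]

/-- Key lemma, with a valuation depending on the coefficient vector. -/
theorem KL2 {x : K} (hx0 : x ≠ 0) {ι : Type*} [Fintype ι] (y : ι → K)
    (H : ∀ a : ι → k, a ≠ 0 → ∃ v : Valuation K Γ₀, (∀ c : k, v (algebraMap k K c) ≤ 1) ∧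
        v x ≤ 1 ∧ ∀ i, v x * v (y i) < v (∑ i, a i • y i))
    (φ : ι → k[X]) (hφ : ∑ i, aeval x (φ i) * y i = 0) : φ = 0 := by
  classical
  have key : ∀ φ : ι → k[X], (¬ ∀ i, (φ i).coeff 0 = 0) → ∑ i, aeval x (φ i) * y i ≠ 0 := by
    intro φ h0 hrel
    have ha0 : (fun i => (φ i).coeff 0) ≠ 0 := fun h => h0 fun i => congrFun h i
    obtain ⟨v, hv, hx1, Hv⟩ := H _ ha0
    obtain ⟨i₀⟩ : Nonempty ι := by
      by_contra hne
      rw [not_nonempty_iff] at hne
      exact ha0 (Subsingleton.elim _ _)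
    have hSpos : v (∑ i, (φ i).coeff 0 • y i) ≠ 0 :=
      (lt_of_le_of_lt zero_le' (Hv i₀)).ne'
    have hdecomp : ∀ i, aeval x (φ i) * y i =
        x * aeval x (divX (φ i)) * y i + (φ i).coeff 0 • y i := by
      intro i
      conv_lhs => rw [← divX_mul_X_add (φ i)]
      rw [map_add, map_mul, aeval_X, aeval_C, Algebra.smul_def]; ring
    have hsum : (∑ i, (φ i).coeff 0 • y i) = - ∑ i, x * aeval x (divX (φ i)) * y i := by
      have h1 : ∑ i, (x * aeval x (divX (φ i)) * y i + (φ i).coeff 0 • y i) = 0 := by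
        rw [← hrel]; exact Finset.sum_congr rfl fun i _ => (hdecomp i).symm
      rw [Finset.sum_add_distrib] at h1
      linear_combination h1
    have hlt : v (∑ i, x * aeval x (divX (φ i)) * y i) < v (∑ i, (φ i).coeff 0 • y i) := by
      apply Valuation.map_sum_lt v hSpos
      intro i _
      rw [map_mul, map_mul]
      calc v x * v (aeval x (divX (φ i))) * v (y i) ≤ v x * 1 * v (y i) :=
            mul_le_mul' (mul_le_mul' le_rfl (val_aeval_le_one v hv hx1 _)) le_rfl
        _ = v x * v (y i) := by rw [mul_one]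
        _ < _ := Hv i
    rw [hsum, Valuation.map_neg] at hlt
    exact lt_irrefl _ hlt
  suffices h : ∀ n : ℕ, ∀ φ : ι → k[X], (∀ i, (φ i).natDegree ≤ n) →
      ∑ i, aeval x (φ i) * y i = 0 → φ = 0 from
    h (Finset.univ.sup fun i => (φ i).natDegree) φ
      (fun i => Finset.le_sup (f := fun i => (φ i).natDegree) (Finset.mem_univ i)) hφ
  intro n
  induction n with
  | zero =>
    intro φ hdeg hrel
    by_cases h0 : ∀ i, (φ i).coeff 0 = 0
    · funext i
      have h1 := eq_C_of_natDegree_le_zero (hdeg i)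
      rw [h1, h0 i, map_zero]; rfl
    · exact absurd hrel (key φ h0)
  | succ n ih =>
    intro φ hdeg hrel
    by_cases h0 : ∀ i, (φ i).coeff 0 = 0
    · have hdiv : ∀ i, φ i = divX (φ i) * X := fun i => by
        have h1 := divX_mul_X_add (φ i)
        rw [h0 i, map_zero, add_zero] at h1
        exact h1.symm
      have hrel' : ∑ i, aeval x (divX (φ i)) * y i = 0 := by
        have h1 : x * ∑ i, aeval x (divX (φ i)) * y i = 0 := by
          rw [Finset.mul_sum, ← hrel]
          refine Finset.sum_congr rfl fun i _ => ?_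
          conv_rhs => rw [hdiv i]
          rw [map_mul, aeval_X]; ring
        exact (mul_eq_zero.1 h1).resolve_left hx0
      have h2 := ih (fun i => divX (φ i)) (fun i => by
        have h3 := natDegree_divX_eq_natDegree_tsub_one (p := φ i)
        have h4 := hdeg i
        omega) hrel'
      funext i
      rw [hdiv i, congrFun h2 i]; simp
    · exact absurd hrel (key φ h0)

open scoped IntermediateField.algebraAdjoinAdjoin in
theorem KL2_card {x : K} (hx0 : x ≠ 0)
    [FiniteDimensional (IntermediateField.adjoin k ({x} : Set K)) K]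
    {ι : Type*} [Fintype ι] (y : ι → K)
    (H : ∀ a : ι → k, a ≠ 0 → ∃ v : Valuation K Γ₀, (∀ c : k, v (algebraMap k K c) ≤ 1) ∧
        v x ≤ 1 ∧ ∀ i, v x * v (y i) < v (∑ i, a i • y i)) :
    Fintype.card ι ≤ Module.finrank (IntermediateField.adjoin k ({x} : Set K)) K := by
  classical
  have hli : LinearIndependent (Algebra.adjoin k ({x} : Set K)) y := by
    rw [Fintype.linearIndependent_iff]
    intro g hg
    have hmem : ∀ i, ∃ p : k[X], aeval x p = (g i : K) := fun i => by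
      have h1 : (g i : K) ∈ (aeval x : k[X] →ₐ[k] K).range := by
        rw [← Algebra.adjoin_singleton_eq_range_aeval]; exact (g i).2
      exact h1
    choose φ hφ using hmem
    have h2 := KL2 (Γ₀ := Γ₀) hx0 y H φ (by
      rw [← hg]
      refine Finset.sum_congr rfl fun i _ => ?_
      rw [hφ i]; rfl)
    intro i
    apply Subtype.ext
    rw [← hφ i, congrFun h2 i]; simp
  have hli' : LinearIndependent (IntermediateField.adjoin k ({x} : Set K)) y :=
    (LinearIndependent.iff_fractionRing (Algebra.adjoin k ({x} : Set K))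
      (IntermediateField.adjoin k ({x} : Set K))).1 hli
  exact hli'.fintype_card_le_finrank

end KL2

/-- abstract local-global independence -/
theorem AL {x : K} (hx0 : x ≠ 0)
    [FiniteDimensional (IntermediateField.adjoin k ({x} : Set K)) K]
    (s : Finset (Place k K)) (hs : ∀ P ∈ s, P.1 x < 1)
    {ι : s → Type*} [∀ P, Fintype (ι P)] (Y : ∀ P : s, ι P → K)
    (ha : ∀ (P : s) (c : ι P → k), c ≠ 0 → P.1.1 x < P.1.1 (∑ i, c i • Y P i))
    (hb : ∀ (P : s) i, P.1.1 (Y P i) ≤ 1)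
    (hc : ∀ (P Q : s), Q ≠ P → ∀ i, Q.1.1 (Y P i) ≤ Q.1.1 x) :
    ∑ P : s, Fintype.card (ι P) ≤
      Module.finrank (IntermediateField.adjoin k ({x} : Set K)) K := by
  classical
  rw [← Fintype.card_sigma]
  apply KL2_card (Γ₀ := WithZero (Multiplicative ℤ)) hx0 (fun p : Σ P : s, ι P => Y p.1 p.2)
  intro a ha0
  obtain ⟨⟨P₀, i₀⟩, hi₀⟩ : ∃ p, a p ≠ 0 := by
    by_contra hcon
    push Not at hcon
    exact ha0 (funext hcon)
  refine ⟨P₀.1.1, P₀.1.2.1, (hs _ P₀.2).le, ?_⟩
  have hY1 : ∀ (P : s) (i : ι P), P₀.1.1 (Y P i) ≤ 1 := by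
    intro P i
    by_cases hP : P = P₀
    · subst hP; exact hb P i
    · exact (hc P P₀ (Ne.symm hP) i).trans (hs _ P₀.2).le
  have hsplit : (∑ p : Σ P : s, ι P, a p • Y p.1 p.2) =
      (∑ i, a ⟨P₀, i⟩ • Y P₀ i) + ∑ P ∈ Finset.univ.erase P₀, ∑ i, a ⟨P, i⟩ • Y P i := by
    rw [Fintype.sum_sigma]
    exact (Finset.add_sum_erase _ (fun P => ∑ i, a ⟨P, i⟩ • Y P i) (Finset.mem_univ P₀)).symm
  have h0 := ha P₀ (fun i => a ⟨P₀, i⟩) (fun h => hi₀ (congrFun h i₀))
  have h1 : P₀.1.1 (∑ P ∈ Finset.univ.erase P₀, ∑ i, a ⟨P, i⟩ • Y P i) ≤ P₀.1.1 x := by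
    apply Valuation.map_sum_le
    intro P hP
    apply Valuation.map_sum_le
    intro i _
    rw [Algebra.smul_def, map_mul]
    calc _ ≤ 1 * P₀.1.1 x :=
          mul_le_mul' (P₀.1.2.1 _) (hc P P₀ (Ne.symm (Finset.ne_of_mem_erase hP)) i)
      _ = _ := one_mul _
  have h2 : P₀.1.1 (∑ p : Σ P : s, ι P, a p • Y p.1 p.2) =
      P₀.1.1 (∑ i, a ⟨P₀, i⟩ • Y P₀ i) := by
    rw [hsplit]
    exact Valuation.map_add_eq_of_lt_left _ (lt_of_le_of_lt h1 h0)
  rintro ⟨P, i⟩
  rw [h2]
  calc P₀.1.1 x * P₀.1.1 (Y P i) ≤ P₀.1.1 x * 1 := mul_le_mul' le_rfl (hY1 P i)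
    _ = P₀.1.1 x := mul_one _
    _ < _ := h0

lemma val_sum_eq_one (P : Place k K) {f : ℕ}
    (b : Basis (Fin f) k (IsLocalRing.ResidueField P.O))
    (σ : Fin f → P.O) (hσ : ∀ j, IsLocalRing.residue P.O (σ j) = b j) (z : Fin f → K)
    (hz : ∀ j, P.1 (z j - (σ j : K)) < 1) (c : Fin f → k) (hc : c ≠ 0) :
    P.1 (∑ j, c j • z j) = 1 := by
  have h1 : ∑ j, c j • z j = (∑ j, c j • (z j - (σ j : K))) +
      ((∑ j, algebraMap k P.O (c j) * σ j : P.O) : K) := by
    push_cast
    rw [← Finset.sum_add_distrib]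
    refine Finset.sum_congr rfl fun j _ => ?_
    rw [Algebra.smul_def, Algebra.smul_def]
    show _ = algebraMap k K (c j) * (z j - (σ j : K)) + algebraMap k K (c j) * (σ j : K)
    ring
  have h2 : P.1 (∑ j, c j • (z j - (σ j : K))) < 1 := by
    apply Valuation.map_sum_lt P.1 one_ne_zero
    intro j _
    rw [Algebra.smul_def, map_mul]
    calc _ ≤ 1 * P.1 (z j - (σ j : K)) := mul_le_mul' (P.2.1 _) le_rfl
      _ = _ := one_mul _
      _ < 1 := hz j
  have h3 : IsUnit (∑ j, algebraMap k P.O (c j) * σ j : P.O) := by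
    by_contra hnu
    have h4 := (IsLocalRing.residue_eq_zero_iff _).2 ((IsLocalRing.mem_maximalIdeal _).2 hnu)
    rw [map_sum] at h4
    have h5 : ∑ j, c j • b j = 0 := by
      rw [← h4]
      refine Finset.sum_congr rfl fun j _ => ?_
      rw [map_mul, hσ, Algebra.smul_def]; rfl
    exact hc (funext ((Fintype.linearIndependent_iff.1 b.linearIndependent) c h5))
  have h6 := (isUnit_iff P _).1 h3
  rw [h1, Valuation.map_add_eq_of_lt_right _ (by rw [h6]; exact h2), h6]

lemma val_local_family (P : Place k K) {t : K} (ht : P.1 t = WithZero.exp (-1 : ℤ)) (e f : ℕ)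
    (z : Fin f → K) (hz : ∀ c : Fin f → k, c ≠ 0 → P.1 (∑ j, c j • z j) = 1)
    (c : Fin f × Fin e → k) (hc : c ≠ 0) :
    WithZero.exp (-(e : ℤ)) < P.1 (∑ p, c p • (t ^ (p.2 : ℕ) * z p.1)) := by
  classical
  have hsum : ∑ p, c p • (t ^ (p.2 : ℕ) * z p.1) =
      ∑ l : Fin e, t ^ (l : ℕ) * ∑ j, c (j, l) • z j := by
    rw [Fintype.sum_prod_type_right]
    refine Finset.sum_congr rfl fun l _ => ?_
    rw [Finset.mul_sum]
    refine Finset.sum_congr rfl fun j _ => ?_
    rw [mul_smul_comm]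
  have hne : (Finset.univ.filter fun l : Fin e => ∃ j, c (j, l) ≠ 0).Nonempty := by
    by_contra hemp
    rw [Finset.not_nonempty_iff_eq_empty] at hemp
    apply hc
    funext ⟨j, l⟩
    show c (j, l) = 0
    by_contra h
    have h1 : l ∈ Finset.univ.filter fun l : Fin e => ∃ j, c (j, l) ≠ 0 := by
      simp only [Finset.mem_filter, Finset.mem_univ, true_and]; exact ⟨j, h⟩
    rw [hemp] at h1
    simp at h1
  obtain ⟨l₀, hl₀, hmin⟩ := Finset.exists_min_image _ (fun l : Fin e => (l : ℕ)) hne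
  have hl₀' : ∃ j, c (j, l₀) ≠ 0 := (Finset.mem_filter.1 hl₀).2
  have hrow : ∀ l : Fin e, (∃ j, c (j, l) ≠ 0) →
      P.1 (t ^ (l : ℕ) * ∑ j, c (j, l) • z j) = WithZero.exp (-(l : ℤ)) := by
    intro l hl
    rw [map_mul, map_pow, ht, hz (fun j => c (j, l)) (fun h => by
      obtain ⟨j, hj⟩ := hl; exact hj (congrFun h j)), mul_one, ← WithZero.exp_nsmul,
      nsmul_eq_mul, mul_neg, mul_one]
  have hrow0 : ∀ l : Fin e, (¬ ∃ j, c (j, l) ≠ 0) →
      (t ^ (l : ℕ) * ∑ j, c (j, l) • z j) = 0 := by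
    intro l hl
    push Not at hl
    simp [hl]
  rw [hsum, Valuation.map_sum_eq_of_lt P.1 (Finset.mem_univ l₀), hrow l₀ hl₀']
  · exact WithZero.exp_lt_exp.2 (by have := l₀.2; omega)
  · intro l hl
    have hll : l ≠ l₀ := by simpa using hl
    rw [hrow l₀ hl₀']
    by_cases hl' : ∃ j, c (j, l) ≠ 0
    · rw [hrow l hl']
      have h1 := hmin l (by
        simp only [Finset.mem_filter, Finset.mem_univ, true_and]; exact hl')
      have h2 : (l₀ : ℕ) ≠ l := fun h => hll (Fin.ext h.symm)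
      exact WithZero.exp_lt_exp.2 (by omega)
    · rw [hrow0 l hl', map_zero]; exact WithZero.exp_pos

theorem zeros_bound (hK : IsFunctionField k K) {x : K}
    (hx : x ∉ Set.range (algebraMap k K)) (s : Finset (Place k K))
    (hs : ∀ P ∈ s, P.1 x < 1) :
    ∑ P ∈ s, (P.ord x).toNat * P.deg ≤
      Module.finrank (IntermediateField.adjoin k ({x} : Set K)) K := by
  classical
  have hx0 : x ≠ 0 := fun h => hx ⟨0, by rw [map_zero, h]⟩
  have := finite_of_transcendental hK (transcendental_of_not_mem hK hx)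
  have hres : ∀ P : s, FiniteDimensional k (IsLocalRing.ResidueField P.1.O) :=
    fun P => residue_finite hK P.1
  -- bases and lifts
  let b : ∀ P : s, Basis (Fin (P.1.deg)) k (IsLocalRing.ResidueField P.1.O) := fun P =>
    haveI := hres P
    Module.finBasis k (IsLocalRing.ResidueField P.1.O)
  have hσ : ∀ (P : s) (j : Fin P.1.deg), ∃ σ : P.1.O, IsLocalRing.residue P.1.O σ = b P j :=
    fun P j => IsLocalRing.residue_surjective _
  choose σ hσ using hσ
  have hinj : Function.Injective (fun P : s => (P : Place k K)) := Subtype.val_injective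
  -- uniformizers
  have ht : ∀ P : s, ∃ t : K, ∀ Q : s, Q.1.1 (t - 0) =
      WithZero.exp (-(if Q = P then (1 : ℤ) else 0)) := fun P =>
    weak_approx_exact (fun P : s => (P : Place k K)) hinj (fun _ => 0)
      (fun Q => if Q = P then 1 else 0)
  choose t ht using ht
  have hz : ∀ (P : s) (j : Fin P.1.deg), ∃ z : K, ∀ Q : s,
      Q.1.1 (z - (if Q = P then (σ P j : K) else 0)) <
        WithZero.exp (-(if Q = P then (0 : ℤ) else Q.1.ord x - 1)) := fun P j =>
    weak_approx (fun P : s => (P : Place k K)) hinj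
      (fun Q => if Q = P then (σ P j : K) else 0) (fun Q => if Q = P then 0 else Q.1.ord x - 1)
  choose z hz using hz
  have htP : ∀ P : s, P.1.1 (t P) = WithZero.exp (-1 : ℤ) := fun P => by
    have := ht P P; simpa using this
  have htQ : ∀ P Q : s, Q ≠ P → Q.1.1 (t P) = 1 := fun P Q h => by
    have := ht P Q; simpa [h] using this
  have hzP : ∀ (P : s) j, P.1.1 (z P j - (σ P j : K)) < 1 := fun P j => by
    have := hz P j P; simpa using this
  have hzQ : ∀ (P Q : s), Q ≠ P → ∀ j, Q.1.1 (z P j) ≤ Q.1.1 x := fun P Q h j => by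
    have h1 := hz P j Q
    simp only [h, if_false, sub_zero] at h1
    rw [val_lt_exp_iff_le] at h1
    rw [val_eq_exp_neg_ord Q.1 hx0]
    convert h1 using 2
    ring
  have hordpos : ∀ P : s, ((P.1.ord x).toNat : ℤ) = P.1.ord x := fun P =>
    Int.toNat_of_nonneg ((ord_pos_iff P.1 hx0).2 (hs _ P.2)).le
  have hzle : ∀ (P : s) j, P.1.1 (z P j) ≤ 1 := fun P j => by
    have h1 : z P j = (z P j - (σ P j : K)) + (σ P j : K) := by ring
    rw [h1]
    exact (P.1.1.map_add _ _).trans (max_le (hzP P j).le (σ P j).2)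
  have hF3 : ∀ (P : s) (c : Fin P.1.deg → k), c ≠ 0 → P.1.1 (∑ j, c j • z P j) = 1 :=
    fun P c hc => val_sum_eq_one P.1 (b P) (σ P) (hσ P) (z P) (hzP P) c hc
  have key := AL hx0 s hs (ι := fun P => Fin P.1.deg × Fin (P.1.ord x).toNat)
    (fun P p => t P ^ (p.2 : ℕ) * z P p.1) ?_ ?_ ?_
  · simp only [Fintype.card_prod, Fintype.card_fin] at key
    rw [← Finset.sum_coe_sort s (fun P => (P.ord x).toNat * P.deg)]
    calc ∑ P : s, (P.1.ord x).toNat * P.1.deg = ∑ P : s, P.1.deg * (P.1.ord x).toNat :=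
          Finset.sum_congr rfl fun P _ => mul_comm _ _
      _ ≤ _ := key
  · intro P c hc
    have h1 := val_local_family P.1 (htP P) (P.1.ord x).toNat P.1.deg (z P) (hF3 P) c hc
    rwa [hordpos P, ← val_eq_exp_neg_ord P.1 hx0] at h1
  · intro P p
    rw [map_mul, map_pow, htP P]
    exact mul_le_one' (pow_le_one' exp_neg_one_lt_one.le _) (hzle P p.1)
  · intro P Q hQP p
    rw [map_mul, map_pow, htQ P Q hQP, one_pow, one_mul]
    exact hzQ P Q hQP p.1

end Groth.Agent.Helper17.FF
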