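import Groth.Agent.Lib.Helper17.FF8

/-! The degree of the divisor of zeros equals `[K : k(x)]`. -/

namespace Groth.Agent.Helper17.FF

open FunFld Polynomial Module

variable {k K : Type*} [Field k] [Field K] [Algebra k K]

lemma not_mem_range_of_transcendental {x : K} (hx : Transcendental k x) :
    x ∉ Set.range (algebraMap k K) := by
  rintro ⟨c, rfl⟩
  exact hx (isAlgebraic_algebraMap c)

lemma deg_zsmul (n : ℤ) (D : Divisor k K) : (n • D).deg = n * D.deg := by
  unfold Divisor.deg
  rw [Finsupp.sum_smul_index (fun _ => by simp), Finsupp.mul_sum]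
  exact Finsupp.sum_congr fun P _ => by ring

theorem ell_le_deg_add_one (hK : IsFunctionField k K) {D : Divisor k K} (hD : 0 ≤ D) :
    (finrank k (L D) : ℤ) ≤ 1 + D.deg := by
  have h0 := L_zero_finite hK
  have h1 := (L_chain hK D hD 0 h0.1).2
  rw [zero_add, h0.2] at h1
  exact_mod_cast h1

lemma linInd_pow_mul_basis {x : K} {n : ℕ}
    (u : Basis (Fin n) (IntermediateField.adjoin k ({x} : Set K)) K) (l : ℕ) (y : K)
    (hy : y ∈ IntermediateField.adjoin k ({x} : Set K)) (hyt : Transcendental k y) :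
    LinearIndependent k (fun p : Fin (l + 1) × Fin n => y ^ (p.1 : ℕ) * u p.2) := by
  classical
  rw [Fintype.linearIndependent_iff]
  intro a ha
  have h1 : ∑ j : Fin n, (∑ i : Fin (l + 1), a (i, j) •
      (⟨y, hy⟩ : IntermediateField.adjoin k ({x} : Set K)) ^ (i : ℕ)) • u j = 0 := by
    rw [← ha, Fintype.sum_prod_type_right]
    refine Finset.sum_congr rfl fun j _ => ?_
    rw [Algebra.smul_def, IntermediateField.algebraMap_apply]
    push_cast
    rw [Finset.sum_mul]
    refine Finset.sum_congr rfl fun i _ => ?_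
    rw [smul_mul_assoc]
  have h2 := Fintype.linearIndependent_iff.1 u.linearIndependent _ h1
  rintro ⟨i, j⟩
  have h3 : ∑ i : Fin (l + 1), a (i, j) • y ^ (i : ℕ) = 0 := by
    have := congrArg Subtype.val (h2 j)
    push_cast at this
    exact this
  have h4 : aeval y (∑ i : Fin (l + 1), C (a (i, j)) * X ^ (i : ℕ)) = 0 := by
    rw [map_sum, ← h3]
    refine Finset.sum_congr rfl fun i _ => ?_
    rw [map_mul, aeval_C, map_pow, aeval_X, Algebra.smul_def]
  have h5 := transcendental_iff.1 hyt _ h4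
  have h6 := congrArg (fun p : k[X] => p.coeff (i : ℕ)) h5
  simp only [Polynomial.finset_sum_coeff, coeff_C_mul, coeff_X_pow, coeff_zero] at h6
  rw [Finset.sum_eq_single i] at h6
  · simpa using h6
  · intro i' _ hi'
    have : (i : ℕ) ≠ (i' : ℕ) := fun h => hi' (Fin.ext h.symm)
    simp [this]
  · intro h; exact absurd (Finset.mem_univ i) h

theorem deg_zeros_ge (hK : IsFunctionField k K) {x : K} (hxt : Transcendental k x)
    (Z : Divisor k K) (hZ : ∀ P, Z P = max (P.ord x) 0) :
    (finrank (IntermediateField.adjoin k ({x} : Set K)) K : ℤ) ≤ Z.deg := by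
  classical
  have hx := not_mem_range_of_transcendental hxt
  have hx0 := ne_zero_of_not_mem_range hx
  have := finite_of_transcendental hK hxt
  set n := finrank (IntermediateField.adjoin k ({x} : Set K)) K with hn
  have hnpos : 0 < n := Module.finrank_pos
  let u : Basis (Fin n) (IntermediateField.adjoin k ({x} : Set K)) K := Module.finBasis _ K
  have hu0 : ∀ j, u j ≠ 0 := fun j => u.ne_zero j
  let C : Divisor k K := ∑ j, ((-(FunFld.div k (u j))) ⊔ 0)
  have hC0 : 0 ≤ C := Finset.sum_nonneg fun j _ => le_sup_right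
  have hCu : ∀ j P, -(C P) ≤ P.ord (u j) := by
    intro j P
    have h1 : ((-(FunFld.div k (u j))) ⊔ 0 : Divisor k K) ≤ C :=
      Finset.single_le_sum (f := fun j => ((-(FunFld.div k (u j))) ⊔ 0 : Divisor k K))
        (fun j _ => le_sup_right) (Finset.mem_univ j)
    have h2 := h1 P
    rw [Finsupp.sup_apply, Finsupp.neg_apply, div_apply hK] at h2
    have h3 : -(P.ord (u j)) ≤ C P := (le_sup_left).trans h2
    linarith
  have hy : x⁻¹ ∈ IntermediateField.adjoin k ({x} : Set K) :=
    inv_mem (IntermediateField.mem_adjoin_simple_self k x)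
  have hyt : Transcendental k x⁻¹ := transcendental_of_not_mem hK (inv_not_mem_range hx)
  have hZ0 : 0 ≤ Z := fun P => by rw [hZ P]; exact le_max_right _ _
  -- the key inequality for each `l`
  have H : ∀ l : ℕ, ((l : ℤ) + 1) * n ≤ 1 + l * Z.deg + C.deg := by
    intro l
    have hD0 : 0 ≤ (l : ℤ) • Z + C := add_nonneg (smul_nonneg (by positivity) hZ0) hC0
    have hmem : ∀ p : Fin (l + 1) × Fin n, x⁻¹ ^ (p.1 : ℕ) * u p.2 ∈ L ((l : ℤ) • Z + C) := by
      rintro ⟨i, j⟩ P
      have hne : x⁻¹ ^ (i : ℕ) * u j ≠ 0 := mul_ne_zero (pow_ne_zero _ (inv_ne_zero hx0)) (hu0 j)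
      show P.1 (x⁻¹ ^ (i : ℕ) * u j) ≤ _
      rw [val_le_exp_iff P hne, ord_mul P (pow_ne_zero _ (inv_ne_zero hx0)) (hu0 j), ord_pow,
        ord_inv, Finsupp.add_apply, Finsupp.smul_apply, hZ P, smul_eq_mul]
      have h1 := hCu j P
      have hi : (i : ℤ) ≤ l := by have := i.2; omega
      have h2 : (i : ℤ) * P.ord x ≤ l * max (P.ord x) 0 := by
        rcases le_total (P.ord x) 0 with h | h
        · rw [max_eq_right h, mul_zero]
          exact mul_nonpos_of_nonneg_of_nonpos (by positivity) h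
        · rw [max_eq_left h]
          exact mul_le_mul_of_nonneg_right hi h
      linarith
    have hfd := L_finite hK ((l : ℤ) • Z + C)
    have hli : LinearIndependent k (fun p : Fin (l + 1) × Fin n =>
        (⟨x⁻¹ ^ (p.1 : ℕ) * u p.2, hmem p⟩ : L ((l : ℤ) • Z + C))) := by
      apply LinearIndependent.of_comp (L ((l : ℤ) • Z + C)).subtype
      exact linInd_pow_mul_basis u l x⁻¹ hy hyt
    have h1 := hli.fintype_card_le_finrank
    rw [Fintype.card_prod, Fintype.card_fin, Fintype.card_fin] at h1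
    have h2 := ell_le_deg_add_one hK hD0
    rw [deg_add, deg_zsmul] at h2
    have h3 : (((l + 1) * n : ℕ) : ℤ) ≤ finrank k (L ((l : ℤ) • Z + C)) := by exact_mod_cast h1
    push_cast at h3
    linarith
  by_contra hlt
  push Not at hlt
  have hCdeg := deg_nonneg hC0
  have h1 := H (C.deg + 1).toNat
  have h2 : (((C.deg + 1).toNat : ℕ) : ℤ) = C.deg + 1 := Int.toNat_of_nonneg (by linarith)
  rw [h2] at h1
  have h3 : Z.deg ≤ n - 1 := by omega
  have h4 : (C.deg + 1) * Z.deg ≤ (C.deg + 1) * (n - 1) :=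
    mul_le_mul_of_nonneg_left h3 (by linarith)
  have hn1 : (1 : ℤ) ≤ n := by exact_mod_cast hnpos
  nlinarith

end Groth.Agent.Helper17.FF
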