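import Mathlib
import Groth.Prelude.Def_LocRes
import Groth.Agent.Lib.Helper17.FFASH
namespace Groth.Agent.Helper17.FF

universe u v w

open FunFld Module Polynomial IntermediateField

section ASF

variable {k : Type u} {K : Type v} [Field k] [Field K] [Algebra k K] [Algebra (RatFunc k) K]
  [IsScalarTower k (RatFunc k) K]

/-- `H¹(P¹, O) = 0` in adelic form -/
theorem ratFunc_adele_mem (a : Place k (RatFunc k) → RatFunc k) (ha : a ∈ adele k (RatFunc k)) :
    a ∈ AD (0 : Divisor k (RatFunc k)) ⊔ LinearMap.range (diag k (RatFunc k)) := by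
  have hK₀ : IsFunctionField k (RatFunc k) := isFunctionField_ratFunc
  have hg0 : genus k (RatFunc k) = 0 :=
    genus_eq_zero_of_adjoin_eq_top hK₀ (x := (RatFunc.X : RatFunc k)) RatFunc.adjoin_X
  obtain ⟨hfd, hfr⟩ := finrank_adele_quotient hK₀ (0 : Divisor k (RatFunc k))
  have hdelta : delta (0 : Divisor k (RatFunc k)) = 0 := by
    unfold delta
    rw [deg_zero, ell_zero hK₀]
    norm_num
  rw [hdelta, sub_zero, hg0] at hfr
  have hfr' : finrank k (↥(adele k (RatFunc k)) ⧸ ADK (0 : Divisor k (RatFunc k))) = 0 := by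
    exact_mod_cast hfr
  haveI := hfd
  have hss : Subsingleton (↥(adele k (RatFunc k)) ⧸ ADK (0 : Divisor k (RatFunc k))) :=
    Module.finrank_zero_iff.1 hfr'
  have h1 : (ADK (0 : Divisor k (RatFunc k))).mkQ ⟨a, ha⟩ = 0 := Subsingleton.elim _ _
  rw [Submodule.mkQ_apply, Submodule.Quotient.mk_eq_zero] at h1
  exact h1

set_option maxHeartbeats 1600000 in
theorem as_frob_h1 [IsAlgClosed k] [CharP k 2] (hK : IsFunctionField k K)
    (hdeg : finrank (RatFunc k) K = 2) [Algebra.IsSeparable (RatFunc k) K]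
    (y : K) (hy : y ∉ Set.range (algebraMap (RatFunc k) K)) (f : RatFunc k)
    (heq : y ^ 2 + y = algebraMap (RatFunc k) K f)
    (B : Finset k) (h0 : (0 : k) ∈ B) (d : k → ℕ) (hd : ∀ α ∈ B, Odd (d α))
    (hpole : ∀ (p : Place k (RatFunc k)) (α : k), α ∈ B →
      p.1 ((RatFunc.X : RatFunc k) - RatFunc.C α) < 1 → p.ord f = -(d α : ℤ))
    (hint : ∀ p : Place k (RatFunc k),
      (∀ α ∈ B, 1 ≤ p.1 ((RatFunc.X : RatFunc k) - RatFunc.C α)) → p.1 f ≤ 1)
    (Pl : k → Place k K)
    (hPl : ∀ β ∈ B, (Pl β).1 ((algebraMap (RatFunc k) K RatFunc.X) - (algebraMap k K β)) < 1)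
    [DecidableEq (Place k K)] (α : k) (hα : α ∈ B) (j : ℕ) :
    (4 * j + 1 ≤ d α → (Pi.single (Pl α) ((y * ((algebraMap (RatFunc k) K RatFunc.X) - (algebraMap k K α)) ^ j) ^ 2) : FunFld.Place k K → K) - (Pi.single (Pl α) (y * ((algebraMap (RatFunc k) K RatFunc.X) - (algebraMap k K α)) ^ (2 * j)) : FunFld.Place k K → K) ∈ (FunFld.AD (0 : FunFld.Divisor k K) ⊔ LinearMap.range (FunFld.diag k K))) ∧
    (d α < 4 * j + 1 → (Pi.single (Pl α) ((y * ((algebraMap (RatFunc k) K RatFunc.X) - (algebraMap k K α)) ^ j) ^ 2) : FunFld.Place k K → K) ∈ (FunFld.AD (0 : FunFld.Divisor k K) ⊔ LinearMap.range (FunFld.diag k K))) := by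
  classical
  have hK₀ : IsFunctionField k (RatFunc k) := isFunctionField_ratFunc
  haveI : FiniteDimensional (RatFunc k) K := Module.finite_of_finrank_pos (by rw [hdeg]; norm_num)
  haveI : Algebra.IsAlgebraic (RatFunc k) K := Algebra.IsAlgebraic.of_finite _ _
  have h2 : ringChar k = 2 := ringChar.eq k 2
  have hf0 : f ≠ 0 := by
    rintro rfl
    rw [map_zero] at heq
    have h1 : y * (y + 1) = 0 := by rw [← heq]; ring
    rcases mul_eq_zero.1 h1 with h | h
    · exact hy ⟨0, by rw [map_zero, h]⟩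
    · exact hy ⟨-1, by rw [map_neg, map_one]; exact (eq_neg_of_add_eq_zero_left h).symm⟩
  have hy0 : y ≠ 0 := fun h => hy ⟨0, by rw [map_zero, h]⟩
  have hF1 : ∀ p : Place k (RatFunc k), p.ord f < 0 →
      ∃ α ∈ B, p.1 ((RatFunc.X : RatFunc k) - RatFunc.C α) < 1 := by
    intro p hp
    by_contra hcon
    push Not at hcon
    have := hint p hcon
    have h1 := (ord_nonneg_iff p hf0).2 this
    omega
  have hdpos : ∀ α ∈ B, 1 ≤ d α := by
    intro α hα
    obtain ⟨r, hr⟩ := hd α hα
    omega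
  have hodd' : ∀ p : Place k (RatFunc k), p.ord f < 0 → Odd (p.ord f) := by
    intro p hp
    obtain ⟨α, hα, hpα⟩ := hF1 p hp
    rw [hpole p α hα hpα]
    exact (Int.odd_coe_nat _).2 (hd α hα) |>.neg
  have hram : ∀ P₀ : Place k (RatFunc k), P₀.ord f < 0 → ∀ P : Place k K, IsOver P P₀ →
      IsOverWith P P₀ 2 := by
    intro P₀ hp P hP
    exact ((ramified_of_two_le hK₀ hdeg P₀
      (fun Q hQ => as_two_le_ramIdx heq P₀ hp (hodd' P₀ hp) Q hQ)).2 P hP).1
  have hxα : ∀ α : k, algebraMap (RatFunc k) K RatFunc.X - algebraMap k K α =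
      algebraMap (RatFunc k) K ((RatFunc.X : RatFunc k) - RatFunc.C α) := by
    intro α
    rw [map_sub, IsScalarTower.algebraMap_apply k (RatFunc k) K α, RatFunc.algebraMap_eq_C]
  have hXC0 : ∀ α : k, (RatFunc.X : RatFunc k) - RatFunc.C α ≠ 0 := by
    intro α h
    have h1 : algebraMap k[X] (RatFunc k) (X - C α) = 0 := by
      rw [map_sub, RatFunc.algebraMap_X, RatFunc.algebraMap_C]; exact h
    exact X_sub_C_ne_zero α ((map_eq_zero_iff _ (IsFractionRing.injective k[X] (RatFunc k))).1 h1)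
  have h2K : (2 : K) = 0 := by
    have := two_eq_zero_ratFunc (k := k) h2
    have h3 := congrArg (algebraMap (RatFunc k) K) this
    rwa [map_ofNat, map_zero] at h3
  -- the place below
  obtain ⟨p, e, he⟩ := exists_isOverWith hK₀ (Pl α)
  have hpα : p.1 ((RatFunc.X : RatFunc k) - RatFunc.C α) < 1 := by
    have h1 := hPl α hα
    rw [hxα, he] at h1
    by_contra hcon
    push Not at hcon
    exact absurd h1 (not_lt.2 (one_le_pow₀ hcon))
  have hord := hpole p α hα hpα
  have hneg : p.ord f < 0 := by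
    rw [hord]
    have := hdpos α hα
    omega
  have he2 : IsOverWith (Pl α) p 2 := hram p hneg (Pl α) ⟨e, he⟩
  have huniq : ∀ Q : Place k K, IsOver Q p → Q = Pl α := by
    intro Q hQ
    obtain ⟨⟨P', hP', huq⟩, -⟩ := ramified_of_two_le hK₀ hdeg p
      (fun Q hQ => as_two_le_ramIdx heq p hneg (hodd' p hneg) Q hQ)
    rw [huq Q hQ, huq (Pl α) ⟨2, he2⟩]
  have hkey : ∀ r : RatFunc k, (Pi.single (Pl α) (algebraMap (RatFunc k) K r) : Place k K → K) ∈
      AD (0 : Divisor k K) ⊔ LinearMap.range (diag k K) := by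
    intro r
    obtain ⟨u₀, hu₀, w, ⟨h₀, rfl⟩, huw⟩ := Submodule.mem_sup.1
      (ratFunc_adele_mem (Pi.single p r) (single_mem_adele p r))
    have hval : ∀ q : Place k (RatFunc k),
        u₀ q + h₀ = (Pi.single p r : Place k (RatFunc k) → RatFunc k) q := by
      intro q
      have := congrFun huw q
      rw [Pi.add_apply] at this
      exact this
    have hu₀' : ∀ q : Place k (RatFunc k), q.1 (u₀ q) ≤ 1 := by
      intro q
      have := hu₀ q
      rwa [Finsupp.zero_apply, WithZero.exp_zero] at this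
    refine Submodule.mem_sup.2 ⟨(Pi.single (Pl α) (algebraMap (RatFunc k) K r) : Place k K → K) -
      diag k K (algebraMap (RatFunc k) K h₀), ?_, diag k K (algebraMap (RatFunc k) K h₀),
      ⟨_, rfl⟩, sub_add_cancel _ _⟩
    intro Q
    show Q.1 (((Pi.single (Pl α) (algebraMap (RatFunc k) K r) : Place k K → K) -
      diag k K (algebraMap (RatFunc k) K h₀)) Q) ≤ WithZero.exp ((0 : Divisor k K) Q)
    have hdiag : diag k K (algebraMap (RatFunc k) K h₀) Q = algebraMap (RatFunc k) K h₀ := rfl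
    rw [Finsupp.zero_apply, WithZero.exp_zero, Pi.sub_apply, hdiag]
    by_cases hQ : Q = Pl α
    · rw [hQ, Pi.single_eq_same, ← map_sub]
      have h1 := hval p
      rw [Pi.single_eq_same] at h1
      have h3 : r - h₀ = u₀ p := by rw [← h1]; ring
      rw [h3, he2]
      exact pow_le_one' (hu₀' p) 2
    · rw [Pi.single_eq_of_ne hQ, zero_sub, Valuation.map_neg]
      obtain ⟨q, e', he'⟩ := exists_isOverWith hK₀ Q
      have hqp : q ≠ p := by
        intro hqp
        rw [hqp] at he'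
        exact hQ (huniq Q ⟨e', he'⟩)
      have h1 := hval q
      rw [Pi.single_eq_of_ne hqp] at h1
      have h3 : h₀ = -u₀ q := eq_neg_of_add_eq_zero_right h1
      rw [isOverWith_le_one_iff he' _, h3, Valuation.map_neg]
      exact hu₀' q
  obtain ⟨t, ht⟩ : ∃ t : K, t = algebraMap (RatFunc k) K RatFunc.X - algebraMap k K α := ⟨_, rfl⟩
  rw [← ht]
  have ht' : t = algebraMap (RatFunc k) K ((RatFunc.X : RatFunc k) - RatFunc.C α) := by
    rw [ht, hxα]
  have ht0 : t ≠ 0 := by
    rw [ht']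
    exact (map_ne_zero_iff _ (algebraMap (RatFunc k) K).injective).2 (hXC0 α)
  have hcomp : (y * t ^ j) ^ 2 - y * t ^ (2 * j) =
      algebraMap (RatFunc k) K (f * ((RatFunc.X : RatFunc k) - RatFunc.C α) ^ (2 * j)) := by
    rw [map_mul, map_pow, ← ht', ← heq, mul_pow, ← pow_mul, mul_comm j 2]
    linear_combination (-(y * t ^ (2 * j))) * h2K
  constructor
  · intro _
    rw [← Pi.single_sub, hcomp]
    exact hkey _
  · intro hlt
    have hcomp2 : (y * t ^ j) ^ 2 = y * t ^ (2 * j) +
        algebraMap (RatFunc k) K (f * ((RatFunc.X : RatFunc k) - RatFunc.C α) ^ (2 * j)) := by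
      rw [← hcomp]; ring
    rw [hcomp2, Pi.single_add]
    refine Submodule.add_mem _ (Submodule.mem_sup_left ?_) (hkey _)
    intro Q
    show Q.1 ((Pi.single (Pl α) (y * t ^ (2 * j)) : Place k K → K) Q) ≤
      WithZero.exp ((0 : Divisor k K) Q)
    rw [Finsupp.zero_apply, WithZero.exp_zero]
    by_cases hQ : Q = Pl α
    · rw [hQ, Pi.single_eq_same]
      have hz0 : y * t ^ (2 * j) ≠ 0 := mul_ne_zero hy0 (pow_ne_zero _ ht0)
      have hordy : (Pl α).ord y = -(d α : ℤ) := by
        have h1 := (as_ord_y heq hneg he2).1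
        rw [hord] at h1
        push_cast at h1
        omega
      have hordt : (Pl α).ord t = 2 := by
        rw [ht', isOverWith_ord he2, ord_uniformizer p (val_X_sub_C_unif p hpα)]
        norm_num
      rw [← ord_nonneg_iff _ hz0, ord_mul _ hy0 (pow_ne_zero _ ht0), ord_pow, hordy, hordt]
      push_cast
      omega
    · rw [Pi.single_eq_of_ne hQ, map_zero]
      exact zero_le_one

end ASF

end Groth.Agent.Helper17.FF
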