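import Mathlib
import Groth.Agent.Lib.Helper17.FFASG
import Groth.Agent.Lib.Helper17.FF16
namespace Groth.Agent.Helper17.FF

open FunFld Polynomial Module IntermediateField

section ASN0

variable {F E : Type*} [Field F] [Field E] [Algebra F E]

/-- a separable quadratic extension in characteristic two has an Artin–Schreier generator -/
theorem exists_as_generator (h2 : (2 : F) = 0) (hdeg : finrank F E = 2)
    [Algebra.IsSeparable F E] :
    ∃ (y : E) (f : F), y ^ 2 + y = algebraMap F E f ∧ y ∉ Set.range (algebraMap F E) := by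
  classical
  haveI : FiniteDimensional F E := Module.finite_of_finrank_pos (by rw [hdeg]; norm_num)
  haveI : Algebra.IsQuadraticExtension F E := { finrank_eq_two' := hdeg }
  have hgal : IsGalois F E := inferInstance
  have hcard : Nat.card (E ≃ₐ[F] E) = 2 := by rw [IsGalois.card_aut_eq_finrank, hdeg]
  have hnt : Nontrivial (E ≃ₐ[F] E) := by
    have h1 : 1 < Nat.card (E ≃ₐ[F] E) := by rw [hcard]; norm_num
    exact Finite.one_lt_card_iff_nontrivial.1 h1
  obtain ⟨σ, hσ⟩ := exists_ne (1 : E ≃ₐ[F] E)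
  have hall : ∀ τ : E ≃ₐ[F] E, τ = 1 ∨ τ = σ := by
    intro τ
    obtain ⟨w, hw1, hw2⟩ := (Nat.card_eq_two_iff' (1 : E ≃ₐ[F] E)).1 hcard
    by_cases h : τ = 1
    · left; exact h
    · right; rw [hw2 τ h, hw2 σ hσ]
  have hσσ : σ * σ = 1 := by
    rcases hall (σ * σ) with h | h
    · exact h
    · exfalso
      apply hσ
      exact mul_left_cancel (a := σ) (by rw [h, mul_one])
  obtain ⟨z, hz⟩ : ∃ z : E, σ z ≠ z := by
    by_contra hcon
    push Not at hcon
    exact hσ (AlgEquiv.ext hcon)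
  have h2E : (2 : E) = 0 := by
    have := congrArg (algebraMap F E) h2
    rwa [map_ofNat, map_zero] at this
  obtain ⟨a, ha⟩ : ∃ a : E, a = z + σ z := ⟨_, rfl⟩
  have ha0 : a ≠ 0 := by
    intro h
    apply hz
    linear_combination (-z) * h2E - ha + h
  have hσz2 : σ (σ z) = z := by
    have := congrArg (fun τ : E ≃ₐ[F] E => τ z) hσσ
    simpa [AlgEquiv.mul_apply] using this
  have hσa : σ a = a := by rw [ha, map_add, hσz2]; ring
  have h1 : σ z = z + a := by linear_combination (-z) * h2E - ha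
  obtain ⟨y, hy⟩ : ∃ y : E, y = z / a := ⟨_, rfl⟩
  have hσy : σ y = y + 1 := by
    rw [hy, map_div₀, hσa, h1, add_div, div_self ha0]
  have hfix : σ (y ^ 2 + y) = y ^ 2 + y := by
    rw [map_add, map_pow, hσy]
    linear_combination (y + 1) * h2E
  have hmem : y ^ 2 + y ∈ (⊥ : IntermediateField F E) := by
    rw [IsGalois.mem_bot_iff_fixed]
    intro τ
    rcases hall τ with rfl | rfl
    · rfl
    · exact hfix
  obtain ⟨f, hf⟩ := IntermediateField.mem_bot.1 hmem
  refine ⟨y, f, hf.symm, ?_⟩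
  rintro ⟨c, hc⟩
  have h3 : σ y = y := by rw [← hc, σ.commutes]
  rw [hσy] at h3
  have : (1 : E) = 0 := by linear_combination h3
  exact one_ne_zero this

end ASN0

section ASN1

variable {k K₀ : Type*} [Field k] [Field K₀] [Algebra k K₀]

lemma toNat_neg_ord_le (q : Place k K₀) {x y : K₀} (h : q.1 x ≤ max (q.1 y) 1) :
    (-(q.ord x)).toNat ≤ (-(q.ord y)).toNat := by
  rcases eq_or_ne x 0 with rfl | hx
  · rw [ord_zero]; simp
  rcases le_or_gt (q.1 y) 1 with hy | hy
  · rw [max_eq_right hy] at h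
    have := (ord_nonneg_iff q hx).2 h
    omega
  · rw [max_eq_left hy.le] at h
    have hy0 : y ≠ 0 := by
      rintro rfl
      rw [map_zero] at hy
      exact absurd hy (by simp)
    rw [val_eq_exp_neg_ord q hx, val_eq_exp_neg_ord q hy0, WithZero.exp_le_exp] at h
    omega

/-- the total pole order -/
noncomputable def poleCount (k : Type*) {K₀ : Type*} [Field k] [Field K₀] [Algebra k K₀]
    (f : K₀) : ℕ :=
  ∑ q ∈ (FunFld.div k f).support, (-(FunFld.div k f q)).toNat

lemma poleCount_lt (hK₀ : IsFunctionField k K₀) {f f' : K₀} (p : Place k K₀)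
    (hle : ∀ q : Place k K₀, (-(q.ord f')).toNat ≤ (-(q.ord f)).toNat)
    (hlt : (-(p.ord f')).toNat < (-(p.ord f)).toNat) : poleCount k f' < poleCount k f := by
  classical
  unfold poleCount
  obtain ⟨S, hS⟩ : ∃ S : Finset (Place k K₀),
      S = (FunFld.div k f).support ∪ (FunFld.div k f').support := ⟨_, rfl⟩
  have h1 : ∀ h : K₀, (FunFld.div k h).support ⊆ S →
      ∑ q ∈ (FunFld.div k h).support, (-(FunFld.div k h q)).toNat =
        ∑ q ∈ S, (-(q.ord h)).toNat := by
    intro h hsub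
    rw [Finset.sum_subset hsub]
    · exact Finset.sum_congr rfl (fun q _ => by rw [div_apply hK₀])
    · intro q _ hq
      rw [Finsupp.notMem_support_iff.1 hq]; simp
  rw [h1 f (by rw [hS]; exact Finset.subset_union_left),
    h1 f' (by rw [hS]; exact Finset.subset_union_right)]
  refine Finset.sum_lt_sum (fun q _ => hle q) ⟨p, ?_, hlt⟩
  rw [hS]
  apply Finset.mem_union_left
  rw [Finsupp.mem_support_iff, div_apply hK₀]
  intro h0
  rw [h0] at hlt
  simp at hlt

set_option maxHeartbeats 800000 in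
/-- one reduction step: lowering an even pole order -/
theorem as_reduce_step [PerfectField k] [CharP k 2] (hK₀ : IsFunctionField k K₀)
    (hg : genus k K₀ = 0) (f : K₀) (p : Place k K₀) (n : ℕ) (hn : 1 ≤ n)
    (hord : p.ord f = -(2 * (n : ℤ))) :
    ∃ g : K₀, (∀ q : Place k K₀, q ≠ p → q.1 g ≤ 1) ∧ p.1 (f + g ^ 2 + g) < p.1 f := by
  classical
  have hf0 : f ≠ 0 := by
    rintro rfl
    rw [ord_zero] at hord
    omega
  have hpf : p.1 f = WithZero.exp (2 * (n : ℤ)) := by
    rw [val_eq_exp_neg_ord p hf0, hord, neg_neg]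
  obtain ⟨t, ht⟩ := exists_uniformizer p
  obtain ⟨A, hA⟩ : ∃ A : Divisor k K₀, A = Finsupp.single p ((n : ℤ) - 1) := ⟨_, rfl⟩
  have hAp : (A + Finsupp.single p 1 : Divisor k K₀) p = n := by
    rw [Finsupp.add_apply, hA, Finsupp.single_eq_same, Finsupp.single_eq_same]; ring
  have htn : p.1 (t ^ n) = WithZero.exp (-((A + Finsupp.single p 1 : Divisor k K₀) p)) := by
    rw [hAp, map_pow, ht, ← WithZero.exp_nsmul]
    congr 1
    simp
  obtain ⟨ψ, hψ⟩ : ∃ ψ, ψ = evalMap p (A + Finsupp.single p 1) (t ^ n) htn := ⟨_, rfl⟩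
  have hres := residue_finite hK₀ p
  have hker := ker_evalMap p A (t ^ n) htn
  rw [← hψ] at hker
  have hle : L A ≤ L (A + Finsupp.single p 1 : Divisor k K₀) := L_mono (by
    intro Q
    rw [Finsupp.add_apply]
    have : (0 : ℤ) ≤ (Finsupp.single p (1 : ℤ)) Q := by
      rw [Finsupp.single_apply]; split_ifs <;> norm_num
    linarith)
  have hfd1 := L_finite hK₀ (A + Finsupp.single p 1)
  have hfd0 := L_finite hK₀ A
  have h1 := LinearMap.finrank_range_add_finrank_ker ψ
  have h2' : finrank k (LinearMap.ker ψ) = finrank k (L A) := by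
    rw [hker]; exact (Submodule.comapSubtypeEquivOfLe hle).finrank_eq
  have hdegA : A.deg = ((n : ℤ) - 1) * p.deg := by rw [hA, deg_single]
  have hdegA1 : (A + Finsupp.single p 1 : Divisor k K₀).deg = (n : ℤ) * p.deg := by
    rw [deg_add, deg_single, hdegA]; ring
  have hdpos : (1 : ℤ) ≤ p.deg := by exact_mod_cast deg_pos hK₀ p
  have hn' : (1 : ℤ) ≤ n := by exact_mod_cast hn
  have e1 := ell_eq_of_deg_ge hK₀ A (by
    rw [hg, hdegA]; push_cast; nlinarith)
  have e2 := ell_eq_of_deg_ge hK₀ (A + Finsupp.single p 1) (by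
    rw [hg, hdegA1]; push_cast; nlinarith)
  have hrange : finrank k (LinearMap.range ψ) = p.deg := by
    unfold ell at e1 e2
    rw [hg, hdegA] at e1
    rw [hg, hdegA1] at e2
    have h1' : (finrank k (LinearMap.range ψ) : ℤ) + finrank k (LinearMap.ker ψ) =
        finrank k (L (A + Finsupp.single p 1 : Divisor k K₀)) := by exact_mod_cast h1
    rw [h2'] at h1'
    push_cast at e1 e2
    have : (finrank k (LinearMap.range ψ) : ℤ) = p.deg := by linarith
    exact_mod_cast this
  have hsurj : LinearMap.range ψ = ⊤ := Submodule.eq_top_of_finrank_eq (hrange.trans rfl)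
  -- the unit `u = f t^{2n}`
  obtain ⟨u, hu⟩ : ∃ u : K₀, u = f * t ^ (2 * n) := ⟨_, rfl⟩
  have hpu : p.1 u = 1 := by
    rw [hu, map_mul, map_pow, hpf, ht, ← WithZero.exp_nsmul, ← WithZero.exp_add,
      ← WithZero.exp_zero]
    congr 1
    simp only [nsmul_eq_mul]
    push_cast
    ring
  have huO : u ∈ p.O := hpu.le
  haveI : Algebra.IsAlgebraic k (IsLocalRing.ResidueField p.O) := by
    haveI : @Module.Finite k (IsLocalRing.ResidueField p.O) _ _ Algebra.toModule :=
      residue_finite hK₀ p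
    exact Algebra.IsAlgebraic.of_finite _ _
  haveI : PerfectField (IsLocalRing.ResidueField p.O) := Algebra.IsAlgebraic.perfectField k
  haveI : CharP (IsLocalRing.ResidueField p.O) 2 :=
    charP_of_injective_algebraMap (algebraMap k (IsLocalRing.ResidueField p.O)).injective 2
  haveI : ExpChar (IsLocalRing.ResidueField p.O) 2 := ExpChar.prime Nat.prime_two
  obtain ⟨sbar, hsbar⟩ := surjective_frobenius (IsLocalRing.ResidueField p.O) 2
    (IsLocalRing.residue p.O ⟨u, huO⟩)
  rw [frobenius_def] at hsbar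
  obtain ⟨g, hg'⟩ : ∃ g, ψ g = sbar := by
    have : sbar ∈ LinearMap.range ψ := by rw [hsurj]; trivial
    exact this
  have hmem : t ^ n * g.1 ∈ p.O := by
    show p.1 (t ^ n * g.1) ≤ 1
    rw [map_mul, htn]
    calc _ ≤ WithZero.exp (-((A + Finsupp.single p 1 : Divisor k K₀) p)) *
            WithZero.exp ((A + Finsupp.single p 1 : Divisor k K₀) p) :=
          mul_le_mul' le_rfl (g.2 p)
      _ = 1 := by rw [← WithZero.exp_add, neg_add_cancel, WithZero.exp_zero]
  rw [hψ, evalMap_apply p _ (t ^ n) htn g hmem] at hg'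
  have hres0 : IsLocalRing.residue p.O (⟨u, huO⟩ + ⟨t ^ n * g.1, hmem⟩ ^ 2) = 0 := by
    rw [map_add, map_pow, hg', hsbar]
    exact CharTwo.add_self_eq_zero _
  rw [IsLocalRing.residue_eq_zero_iff, mem_maximalIdeal_iff] at hres0
  have hcoe : ((⟨u, huO⟩ + ⟨t ^ n * g.1, hmem⟩ ^ 2 : p.O) : K₀) =
      t ^ (2 * n) * (f + g.1 ^ 2) := by
    show u + (t ^ n * g.1) ^ 2 = _
    rw [hu]; ring
  rw [hcoe, map_mul, map_pow, ht, ← WithZero.exp_nsmul] at hres0
  have hfg : p.1 (f + g.1 ^ 2) < WithZero.exp (2 * (n : ℤ)) := by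
    have h3 : ((2 * n) • (-1 : ℤ)) = -(2 * (n : ℤ)) := by
      simp only [nsmul_eq_mul]; push_cast; ring
    rw [h3, WithZero.exp_neg, inv_mul_lt_iff₀ WithZero.exp_pos, mul_one] at hres0
    exact hres0
  have hgp : p.1 g.1 < WithZero.exp (2 * (n : ℤ)) := by
    have := g.2 p
    rw [hAp] at this
    refine lt_of_le_of_lt this ?_
    rw [WithZero.exp_lt_exp]; omega
  refine ⟨g.1, fun q hq => ?_, ?_⟩
  · have := g.2 q
    have hAq : A q = 0 := by rw [hA, Finsupp.single_eq_of_ne hq]
    rw [Finsupp.add_apply, hAq, Finsupp.single_eq_of_ne hq, add_zero,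
      WithZero.exp_zero] at this
    exact this
  · rw [hpf]
    exact lt_of_le_of_lt (p.1.map_add _ _) (max_lt hfg hgp)

/-- every `f` is Artin–Schreier equivalent to one with only odd poles -/
theorem as_exists_odd [PerfectField k] [CharP k 2] (hK₀ : IsFunctionField k K₀)
    (hg : genus k K₀ = 0) :
    ∀ (N : ℕ) (f : K₀), poleCount k f = N →
      ∃ g : K₀, ∀ p : Place k K₀, p.ord (f + g ^ 2 + g) < 0 → Odd (p.ord (f + g ^ 2 + g)) := by
  have h2K₀ : (2 : K₀) = 0 := by
    have := congrArg (algebraMap k K₀) (CharP.ofNat_eq_zero k 2)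
    rwa [map_ofNat, map_zero] at this
  intro N
  induction N using Nat.strong_induction_on with
  | _ N ih =>
    intro f hN
    by_cases hall : ∀ p : Place k K₀, p.ord f < 0 → Odd (p.ord f)
    · refine ⟨0, fun p hp => ?_⟩
      have : f + 0 ^ 2 + 0 = f := by ring
      rw [this] at hp ⊢
      exact hall p hp
    · push Not at hall
      obtain ⟨p, hp, hnodd⟩ := hall
      rw [Int.not_odd_iff_even] at hnodd
      obtain ⟨r, hr⟩ := hnodd
      obtain ⟨n, hn⟩ : ∃ n : ℕ, (n : ℤ) = -r := ⟨(-r).toNat, Int.toNat_of_nonneg (by omega)⟩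
      have hn1 : 1 ≤ n := by omega
      have hord : p.ord f = -(2 * (n : ℤ)) := by omega
      obtain ⟨g₁, hg₁q, hg₁p⟩ := as_reduce_step hK₀ hg f p n hn1 hord
      obtain ⟨f', hf'⟩ : ∃ f' : K₀, f' = f + g₁ ^ 2 + g₁ := ⟨_, rfl⟩
      rw [← hf'] at hg₁p
      have hf0 : f ≠ 0 := by
        rintro rfl
        rw [ord_zero] at hp
        exact lt_irrefl _ hp
      have hlt : poleCount k f' < poleCount k f := by
        refine poleCount_lt hK₀ p (fun q => ?_) ?_
        · apply toNat_neg_ord_le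
          by_cases hq : q = p
          · subst hq; exact hg₁p.le.trans (le_max_left _ _)
          · have h1 := hg₁q q hq
            rw [hf', add_assoc]
            refine (q.1.map_add _ _).trans (max_le (le_max_left _ _) ?_)
            refine le_trans ?_ (le_max_right _ _)
            refine (q.1.map_add _ _).trans (max_le ?_ h1)
            rw [map_pow]; exact pow_le_one' h1 2
        · rcases eq_or_ne f' 0 with h0 | h0
          · rw [h0, ord_zero, hord]; omega
          · rw [val_eq_exp_neg_ord p h0, val_eq_exp_neg_ord p hf0, WithZero.exp_lt_exp] at hg₁p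
            omega
      obtain ⟨g₂, hg₂⟩ := ih (poleCount k f') (by rw [← hN]; exact hlt) f' rfl
      refine ⟨g₁ + g₂, ?_⟩
      have : f + (g₁ + g₂) ^ 2 + (g₁ + g₂) = f' + g₂ ^ 2 + g₂ := by
        rw [hf']; linear_combination (g₁ * g₂) * h2K₀
      rw [this]; exact hg₂

end ASN1

section ASN2

variable {k K : Type*} [Field k] [Field K] [Algebra k K] [Algebra (RatFunc k) K]
  [IsScalarTower k (RatFunc k) K]

/-- Artin–Schreier normal form with odd poles -/
theorem exists_as_odd_poles [PerfectField k] (h2 : ringChar k = 2)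
    (hdeg : finrank (RatFunc k) K = 2) [Algebra.IsSeparable (RatFunc k) K] :
    ∃ (y : K) (f : RatFunc k), y ^ 2 + y = algebraMap (RatFunc k) K f ∧
      IntermediateField.adjoin (RatFunc k) ({y} : Set K) = ⊤ ∧
      ∀ P : Place k (RatFunc k), P.ord f < 0 → Odd (P.ord f) := by
  haveI : CharP k 2 := by rw [← h2]; exact ringChar.charP k
  have h2K₀ := two_eq_zero_ratFunc h2
  have h2K : (2 : K) = 0 := by
    have := congrArg (algebraMap (RatFunc k) K) h2K₀
    rwa [map_ofNat, map_zero] at this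
  obtain ⟨y₀, f₀, heq₀, hy₀⟩ := exists_as_generator h2K₀ hdeg
  have hK₀ : IsFunctionField k (RatFunc k) := isFunctionField_ratFunc
  have hg0 : genus k (RatFunc k) = 0 :=
    genus_eq_zero_of_adjoin_eq_top hK₀ (x := (RatFunc.X : RatFunc k)) RatFunc.adjoin_X
  obtain ⟨g, hg⟩ := as_exists_odd hK₀ hg0 _ f₀ rfl
  have heq' : (y₀ + algebraMap (RatFunc k) K g) ^ 2 + (y₀ + algebraMap (RatFunc k) K g) =
      algebraMap (RatFunc k) K (f₀ + g ^ 2 + g) := by
    rw [map_add, map_add, map_pow, ← heq₀]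
    linear_combination (y₀ * algebraMap (RatFunc k) K g) * h2K
  have hy : y₀ + algebraMap (RatFunc k) K g ∉ Set.range (algebraMap (RatFunc k) K) := by
    rintro ⟨c, hc⟩
    apply hy₀
    exact ⟨c - g, by rw [map_sub, hc]; ring⟩
  exact ⟨_, _, heq', (as_minpoly hdeg hy heq').2, hg⟩

end ASN2

end Groth.Agent.Helper17.FF
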