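import Mathlib
import Groth.Prelude.Def_LocRes
import Groth.Agent.Lib.Helper17.FFASH
namespace Groth.Agent.Helper17.FF

universe u v w

open FunFld Module Polynomial IntermediateField

section ASV

variable {k : Type u} {K : Type v} [Field k] [Field K] [Algebra k K] [Algebra (RatFunc k) K]
  [IsScalarTower k (RatFunc k) K]

set_option maxHeartbeats 1600000 in
theorem as_pole_divisor [IsAlgClosed k] [CharP k 2] (hK : IsFunctionField k K)
    (hdeg : finrank (RatFunc k) K = 2) [Algebra.IsSeparable (RatFunc k) K]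
    (y : K) (hy : y ∉ Set.range (algebraMap (RatFunc k) K)) (f : RatFunc k)
    (heq : y ^ 2 + y = algebraMap (RatFunc k) K f)
    (B : Finset k) (h0 : (0 : k) ∈ B) (d : k → ℕ) (hd : ∀ α ∈ B, Odd (d α))
    (hpole : ∀ (p : Place k (RatFunc k)) (α : k), α ∈ B →
      p.1 ((RatFunc.X : RatFunc k) - RatFunc.C α) < 1 → p.ord f = -(d α : ℤ))
    (hint : ∀ p : Place k (RatFunc k),
      (∀ α ∈ B, 1 ≤ p.1 ((RatFunc.X : RatFunc k) - RatFunc.C α)) → p.1 f ≤ 1) :
    (∀ P : FunFld.Place k K, 1 < P.1 (algebraMap (RatFunc k) K RatFunc.X) → 0 ≤ P.ord y) ∧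
    (∃ P : FunFld.Place k K, 1 < P.1 (algebraMap (RatFunc k) K RatFunc.X) ∧ P.ord y = 0) ∧
    ∀ (α : k), α ∈ B → ∀ (j : ℤ) (P : FunFld.Place k K),
      (P.1 ((algebraMap (RatFunc k) K RatFunc.X) - (algebraMap k K α)) < 1 →
        max (-(P.ord (y * ((algebraMap (RatFunc k) K RatFunc.X) - (algebraMap k K α)) ^ j))) 0 = max ((d α : ℤ) - 2 * j) 0) ∧
      (∀ β : k, β ∈ B → β ≠ α → P.1 ((algebraMap (RatFunc k) K RatFunc.X) - (algebraMap k K β)) < 1 →
        P.ord (y * ((algebraMap (RatFunc k) K RatFunc.X) - (algebraMap k K α)) ^ j) = -(d β : ℤ)) ∧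
      (1 < P.1 (algebraMap (RatFunc k) K RatFunc.X) → max (-(P.ord (y * ((algebraMap (RatFunc k) K RatFunc.X) - (algebraMap k K α)) ^ j))) 0 = max (j - P.ord y) 0) ∧
      (P.1 (algebraMap (RatFunc k) K RatFunc.X) ≤ 1 → (∀ β : k, β ∈ B → 1 ≤ P.1 ((algebraMap (RatFunc k) K RatFunc.X) - (algebraMap k K β))) → 0 ≤ P.ord (y * ((algebraMap (RatFunc k) K RatFunc.X) - (algebraMap k K α)) ^ j)) := by
  classical
  have hK₀ : IsFunctionField k (RatFunc k) := isFunctionField_ratFunc
  haveI : FiniteDimensional (RatFunc k) K := Module.finite_of_finrank_pos (by rw [hdeg]; norm_num)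
  haveI : Algebra.IsAlgebraic (RatFunc k) K := Algebra.IsAlgebraic.of_finite _ _
  have h2 : ringChar k = 2 := ringChar.eq k 2
  have hf0 : f ≠ 0 := by
    rintro rfl
    rw [map_zero] at heq
    have h1 : y * (y + 1) = 0 := by rw [← heq]; ring
    rcases mul_eq_zero.1 h1 with h | h
    · exact hy ⟨0, by rw [map_zero, h]⟩
    · exact hy ⟨-1, by rw [map_neg, map_one]; exact (eq_neg_of_add_eq_zero_left h).symm⟩
  have hy0 : y ≠ 0 := fun h => hy ⟨0, by rw [map_zero, h]⟩
  have hF1 : ∀ p : Place k (RatFunc k), p.ord f < 0 →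
      ∃ α ∈ B, p.1 ((RatFunc.X : RatFunc k) - RatFunc.C α) < 1 := by
    intro p hp
    by_contra hcon
    push Not at hcon
    have := hint p hcon
    have h1 := (ord_nonneg_iff p hf0).2 this
    omega
  have hdpos : ∀ α ∈ B, 1 ≤ d α := by
    intro α hα
    obtain ⟨r, hr⟩ := hd α hα
    omega
  have hodd' : ∀ p : Place k (RatFunc k), p.ord f < 0 → Odd (p.ord f) := by
    intro p hp
    obtain ⟨α, hα, hpα⟩ := hF1 p hp
    rw [hpole p α hα hpα]
    exact (Int.odd_coe_nat _).2 (hd α hα) |>.neg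
  have hram : ∀ P₀ : Place k (RatFunc k), P₀.ord f < 0 → ∀ P : Place k K, IsOver P P₀ →
      IsOverWith P P₀ 2 := by
    intro P₀ hp P hP
    exact ((ramified_of_two_le hK₀ hdeg P₀
      (fun Q hQ => as_two_le_ramIdx heq P₀ hp (hodd' P₀ hp) Q hQ)).2 P hP).1
  obtain ⟨σ, hσ⟩ := as_exists_sigma h2 hdeg hy heq
  have hxα : ∀ α : k, algebraMap (RatFunc k) K RatFunc.X - algebraMap k K α =
      algebraMap (RatFunc k) K ((RatFunc.X : RatFunc k) - RatFunc.C α) := by
    intro α
    rw [map_sub, IsScalarTower.algebraMap_apply k (RatFunc k) K α, RatFunc.algebraMap_eq_C]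
  have hXC0 : ∀ α : k, (RatFunc.X : RatFunc k) - RatFunc.C α ≠ 0 := by
    intro α h
    have h1 : algebraMap k[X] (RatFunc k) (X - C α) = 0 := by
      rw [map_sub, RatFunc.algebraMap_X, RatFunc.algebraMap_C]; exact h
    exact X_sub_C_ne_zero α ((map_eq_zero_iff _ (IsFractionRing.injective k[X] (RatFunc k))).1 h1)
  have ht0 : ∀ α : k, algebraMap (RatFunc k) K RatFunc.X - algebraMap k K α ≠ 0 := by
    intro α
    rw [hxα]
    exact (map_ne_zero_iff _ (algebraMap (RatFunc k) K).injective).2 (hXC0 α)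
  have hinfreg : ∀ p : Place k (RatFunc k), 1 < p.1 RatFunc.X → p.1 f ≤ 1 := by
    intro p hinf
    apply hint
    intro β _
    rw [val_X_sub_C_inf p hinf]
    exact hinf.le
  have hPinf : ∀ P : Place k K, 1 < P.1 (algebraMap (RatFunc k) K RatFunc.X) →
      ∃ p : Place k (RatFunc k), IsOverWith P p 1 ∧ 1 < p.1 RatFunc.X := by
    intro P hP
    obtain ⟨p, e, he⟩ := exists_isOverWith hK₀ P
    have hp : 1 < p.1 RatFunc.X := by
      by_contra hcon
      push Not at hcon
      exact absurd ((isOverWith_le_one_iff he _).2 hcon) (not_le.2 hP)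
    have he1 := as_unramified h2 hdeg hy heq p (hinfreg p hp) he
    subst he1
    exact ⟨p, he, hp⟩
  have hordz : ∀ (α : k) (j : ℤ) (P : Place k K),
      P.ord (y * ((algebraMap (RatFunc k) K RatFunc.X) - (algebraMap k K α)) ^ j) =
        P.ord y + j * P.ord ((algebraMap (RatFunc k) K RatFunc.X) - (algebraMap k K α)) := by
    intro α j P
    rw [ord_mul P hy0 (zpow_ne_zero _ (ht0 α)), ord_zpow]
  have hlt_iff : ∀ (P : Place k K) (p : Place k (RatFunc k)) (e : ℕ), IsOverWith P p e →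
      ∀ β : k, (P.1 ((algebraMap (RatFunc k) K RatFunc.X) - (algebraMap k K β)) < 1 ↔
        p.1 ((RatFunc.X : RatFunc k) - RatFunc.C β) < 1) := by
    intro P p e he β
    rw [hxα, he]
    constructor
    · intro h
      by_contra hcon
      push Not at hcon
      exact absurd h (not_lt.2 (one_le_pow₀ hcon))
    · intro h
      exact pow_lt_one₀ zero_le h (isOverWith_pos he).ne'
  have hpoleP : ∀ (P : Place k K) (β : k), β ∈ B →
      P.1 ((algebraMap (RatFunc k) K RatFunc.X) - (algebraMap k K β)) < 1 →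
      ∃ p : Place k (RatFunc k), IsOverWith P p 2 ∧ p.1 ((RatFunc.X : RatFunc k) - RatFunc.C β) < 1 ∧
        P.ord y = -(d β : ℤ) := by
    intro P β hβ hPβ
    obtain ⟨p, e, he⟩ := exists_isOverWith hK₀ P
    have hpβ := (hlt_iff P p e he β).1 hPβ
    have hord := hpole p β hβ hpβ
    have hneg : p.ord f < 0 := by
      rw [hord]
      have := hdpos β hβ
      omega
    have he2 := hram p hneg P ⟨e, he⟩
    have h1 := (as_ord_y heq hneg he2).1
    rw [hord] at h1
    refine ⟨p, he2, hpβ, ?_⟩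
    push_cast at h1
    omega
  refine ⟨?_, ?_, ?_⟩
  · intro P hP
    obtain ⟨p, he, hp⟩ := hPinf P hP
    exact (ord_nonneg_iff P hy0).2 (as_val_y_le_one heq he (hinfreg p hp))
  · obtain ⟨Pinf, hinf⟩ := exists_pole hK₀
      (not_mem_range_of_transcendental (RatFunc.transcendental_X (K := k)))
    obtain ⟨P, e, he⟩ := exists_place_over (K := K) Pinf
    have hPx : ∀ Q : Place k K, IsOverWith Q Pinf e →
        1 < Q.1 (algebraMap (RatFunc k) K RatFunc.X) := by
      intro Q hQ
      rw [hQ]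
      exact one_lt_pow₀ hinf (isOverWith_pos hQ).ne'
    by_cases h1 : P.1 y = 1
    · exact ⟨P, hPx P he, (ord_eq_zero_iff P hy0).2 h1⟩
    · have hle := as_val_y_le_one heq he (hinfreg Pinf hinf)
      have hlt : P.1 y < 1 := lt_of_le_of_ne hle h1
      refine ⟨galPlace σ P, hPx _ (isOverWith_galPlace he σ), (ord_eq_zero_iff _ hy0).2 ?_⟩
      rw [galPlace_apply, hσ,
        Valuation.map_add_eq_of_lt_right _ (by rw [map_one]; exact hlt), map_one]
  · intro α hα j P
    refine ⟨?_, ?_, ?_, ?_⟩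
    · intro hPα
      obtain ⟨p, he2, hpα, hordy⟩ := hpoleP P α hα hPα
      have h1 : P.ord ((algebraMap (RatFunc k) K RatFunc.X) - (algebraMap k K α)) = 2 := by
        rw [hxα, isOverWith_ord he2, ord_uniformizer p (val_X_sub_C_unif p hpα)]
        norm_num
      rw [hordz, hordy, h1]
      congr 1
      ring
    · intro β hβ hβα hPβ
      obtain ⟨p, he2, hpβ, hordy⟩ := hpoleP P β hβ hPβ
      have h1 : P.ord ((algebraMap (RatFunc k) K RatFunc.X) - (algebraMap k K α)) = 0 := by
        rw [hxα, isOverWith_ord he2,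
          (ord_eq_zero_iff p (hXC0 α)).2 (val_X_sub_C_other p hβα hpβ), mul_zero]
      rw [hordz, hordy, h1, mul_zero, add_zero]
    · intro hPi
      obtain ⟨p, he, hp⟩ := hPinf P hPi
      have h1 : P.ord ((algebraMap (RatFunc k) K RatFunc.X) - (algebraMap k K α)) = -1 := by
        have h3 : p.1 ((RatFunc.X : RatFunc k) - RatFunc.C α) = WithZero.exp (1 : ℤ) := by
          rw [val_X_sub_C_inf p hp, ratInf_val_X p hp]
        rw [hxα, isOverWith_ord he, (val_eq_exp_iff p (hXC0 α) 1).1 h3]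
        norm_num
      rw [hordz, h1]
      congr 1
      ring
    · intro hfin hall
      obtain ⟨p, e, he⟩ := exists_isOverWith hK₀ P
      have hpfin : p.1 RatFunc.X ≤ 1 := (isOverWith_le_one_iff he _).1 hfin
      have hpall : ∀ β ∈ B, 1 ≤ p.1 ((RatFunc.X : RatFunc k) - RatFunc.C β) := by
        intro β hβ
        by_contra hcon
        push Not at hcon
        exact absurd ((hlt_iff P p e he β).2 hcon) (not_lt.2 (hall β hβ))
      have hfreg := hint p hpall
      have hy1 := as_val_y_le_one heq he hfreg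
      have h1 : P.ord ((algebraMap (RatFunc k) K RatFunc.X) - (algebraMap k K α)) = 0 := by
        rw [ord_eq_zero_iff P (ht0 α)]
        refine le_antisymm ?_ (hall α hα)
        rw [hxα]
        exact (isOverWith_le_one_iff he _).2 (val_X_sub_C_le_one p hpfin α)
      rw [hordz, h1, mul_zero, add_zero]
      exact (ord_nonneg_iff P hy0).2 hy1

end ASV

end Groth.Agent.Helper17.FF
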