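import Mathlib
import Groth.Agent.Lib.Helper17.FF20
namespace Groth.Agent.Helper17.FF

open FunFld Module

variable {k K : Type*} [Field k] [Field K] [Algebra k K]

lemma exists_div_eq_neg (hK : IsFunctionField k K) {E : Divisor k K} (hdeg : E.deg = 0)
    (hell : 1 ≤ ell E) : ∃ z : K, z ≠ 0 ∧ FunFld.div k z = -E := by
  obtain ⟨z, hzL, hz0⟩ := exists_ne_zero_of_ell_pos (by omega : 0 < ell E)
  have h8 : 0 ≤ E + FunFld.div k z := by
    intro P
    rw [Finsupp.zero_apply, Finsupp.add_apply, div_apply hK]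
    have := (val_le_exp_iff P hz0 _).1 (hzL P)
    linarith
  have h9 : (E + FunFld.div k z).deg = 0 := by rw [deg_add, deg_div hK, hdeg, add_zero]
  have h10 := eq_zero_of_nonneg_of_deg_eq_zero hK h8 h9
  exact ⟨z, hz0, by rw [eq_neg_iff_add_eq_zero, add_comm]; exact h10⟩

lemma ell_le_one_of_deg_zero (hK : IsFunctionField k K) {E : Divisor k K} (hdeg : E.deg = 0) :
    ell E ≤ 1 := by
  by_contra h
  push Not at h
  obtain ⟨z, hz0, hz⟩ := exists_div_eq_neg hK hdeg (by omega)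
  have h1 := ell_add_div hK E hz0
  rw [hz, add_neg_cancel, ell_zero hK] at h1
  omega

/-- linearly equivalent divisors have the same `ℓ` -/
lemma ell_eq_of_ell_sub_pos (hK : IsFunctionField k K) {D D' : Divisor k K}
    (hdeg : (D - D').deg = 0) (h : 1 ≤ ell (D - D')) : ell D = ell D' := by
  obtain ⟨z, hz0, hz⟩ := exists_div_eq_neg hK hdeg h
  have h1 := ell_add_div hK D hz0
  rw [hz] at h1
  have : D + -(D - D') = D' := by abel
  rw [this] at h1
  exact h1.symm

lemma one_mem_L_of_nonneg {D : Divisor k K} (hD : 0 ≤ D) : (1 : K) ∈ L D := by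
  intro P
  rw [map_one]
  calc (1 : WithZero (Multiplicative ℤ)) = WithZero.exp (0 : ℤ) := WithZero.exp_zero.symm
    _ ≤ _ := WithZero.exp_le_exp.2 (hD P)

lemma one_not_mem_L_of_neg {D : Divisor k K} {P : Place k K} (hD : D P < 0) :
    (1 : K) ∉ L D := by
  intro h
  have h1 := h P
  rw [map_one, ← WithZero.exp_zero, WithZero.exp_le_exp] at h1
  omega

lemma mem_range_of_mem_L_of_ell_eq_one {D : Divisor k K} (hD : 0 ≤ D)
    (hell : ell D = 1) {z : K} (hz : z ∈ L D) : z ∈ Set.range (algebraMap k K) := by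
  have h1 : (⟨1, one_mem_L_of_nonneg hD⟩ : L D) ≠ 0 :=
    fun h => one_ne_zero (congrArg Subtype.val h)
  obtain ⟨c, hc⟩ := (finrank_eq_one_iff_of_nonzero' _ h1).1 hell ⟨z, hz⟩
  refine ⟨c, ?_⟩
  have h2 := congrArg Subtype.val hc
  rw [Algebra.algebraMap_eq_smul_one]
  exact h2

lemma single_apply_nonneg (P : Place k K) {n : ℤ} (hn : 0 ≤ n) (R : Place k K) :
    0 ≤ (Finsupp.single P n : Divisor k K) R := by
  classical
  rw [Finsupp.single_apply]
  split_ifs
  · exact hn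
  · exact le_rfl

lemma single_nonneg (P : Place k K) {n : ℤ} (hn : 0 ≤ n) :
    0 ≤ (Finsupp.single P n : Divisor k K) := fun R => by
  rw [Finsupp.zero_apply]; exact single_apply_nonneg P hn R

theorem g2_no_weight_three_a [IsAlgClosed k] (hK : IsFunctionField k K) (hg : genus k K = 2)
    (C : Divisor k K) (hC : IsCanonical k K C) (A P Q : Place k K)
    (hA : finrank k ↥(L (Finsupp.single A (2 : ℤ))) = 1) (hQ : Q ≠ A) :
    ¬ (finrank k ↥(L (C + Finsupp.single A (2 : ℤ) - Finsupp.single P (1 : ℤ) -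
          Finsupp.single Q (3 : ℤ))) = 1 ∧
       finrank k ↥(L (C + Finsupp.single A (2 : ℤ) - Finsupp.single P (1 : ℤ) -
          Finsupp.single Q (1 : ℤ))) = 2) := by
  classical
  rintro ⟨-, h2⟩
  have hdA := deg_eq_one_of_isAlgClosed hK A
  have hdP := deg_eq_one_of_isAlgClosed hK P
  have hdQ := deg_eq_one_of_isAlgClosed hK Q
  have hCdeg : C.deg = 2 := by
    have := ((isCanonical_iff hK C).1 hC).2
    rw [hg] at this
    push_cast at this
    linarith
  obtain ⟨D₁, hD₁⟩ : ∃ D₁ : Divisor k K, D₁ = C + Finsupp.single A (2 : ℤ) -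
      Finsupp.single P (1 : ℤ) - Finsupp.single Q (1 : ℤ) := ⟨_, rfl⟩
  rw [← hD₁] at h2
  have hD₁deg : D₁.deg = 2 := by
    rw [hD₁, deg_sub, deg_sub, deg_add, deg_single, deg_single, deg_single, hdA, hdP, hdQ, hCdeg]
    norm_num
  have hrr := riemann_roch hK hC D₁
  obtain ⟨E, hEdef⟩ : ∃ E : Divisor k K, E = Finsupp.single P (1 : ℤ) + Finsupp.single Q (1 : ℤ) -
      Finsupp.single A (2 : ℤ) := ⟨_, rfl⟩
  have hE : C - D₁ = E := by rw [hD₁, hEdef]; abel
  have hell2 : (ell D₁ : ℤ) = 2 := by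
    have : ell D₁ = 2 := h2
    exact_mod_cast this
  rw [hE, hD₁deg, hg, hell2] at hrr
  push_cast at hrr
  have hEdeg : E.deg = 0 := by
    rw [hEdef, deg_sub, deg_add, deg_single, deg_single, deg_single, hdA, hdP, hdQ]
    norm_num
  obtain ⟨z, hz0, hz⟩ := exists_div_eq_neg hK hEdeg (by omega)
  have hw : z⁻¹ ∈ L (Finsupp.single A (2 : ℤ) : Divisor k K) := by
    intro R
    rw [val_le_exp_iff R (inv_ne_zero hz0), ord_inv, ← div_apply hK, hz, hEdef]
    simp only [Finsupp.neg_apply, Finsupp.sub_apply, Finsupp.add_apply, neg_neg]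
    have h1 := single_apply_nonneg P (show (0 : ℤ) ≤ 1 by norm_num) R
    have h3 := single_apply_nonneg Q (show (0 : ℤ) ≤ 1 by norm_num) R
    linarith
  obtain ⟨c, hc⟩ := mem_range_of_mem_L_of_ell_eq_one
    (single_nonneg A (show (0 : ℤ) ≤ 2 by norm_num)) hA hw
  have hdiv0 : FunFld.div k z⁻¹ = 0 := by rw [← hc]; exact div_of_mem_range hK c
  rw [div_inv hK, hz, neg_neg, hEdef] at hdiv0
  have h5 := DFunLike.congr_fun hdiv0 Q
  rw [Finsupp.sub_apply, Finsupp.add_apply, Finsupp.single_eq_same,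
    Finsupp.single_eq_of_ne hQ, Finsupp.zero_apply] at h5
  have h6 := single_apply_nonneg P (show (0 : ℤ) ≤ 1 by norm_num) Q
  linarith

theorem g2_no_weight_three_b [IsAlgClosed k] (hK : IsFunctionField k K) (hg : genus k K = 2)
    (C : Divisor k K) (hC : IsCanonical k K C) (A P Q : Place k K) (hP : P ≠ A) :
    ¬ (finrank k ↥(L (C + Finsupp.single A (3 : ℤ) - Finsupp.single P (1 : ℤ) -
          Finsupp.single Q (4 : ℤ))) = 1 ∧
       finrank k ↥(L (C + Finsupp.single A (3 : ℤ) - Finsupp.single P (1 : ℤ) -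
          Finsupp.single Q (2 : ℤ))) = 2) := by
  classical
  rintro ⟨h4, h2⟩
  have hdA := deg_eq_one_of_isAlgClosed hK A
  have hdP := deg_eq_one_of_isAlgClosed hK P
  have hdQ := deg_eq_one_of_isAlgClosed hK Q
  have hCdeg : C.deg = 2 := by
    have := ((isCanonical_iff hK C).1 hC).2
    rw [hg] at this
    push_cast at this
    linarith
  have hCell : ell C = 2 := by rw [((isCanonical_iff hK C).1 hC).1, hg]
  obtain ⟨D₂, hD₂⟩ : ∃ D₂ : Divisor k K, D₂ = C + Finsupp.single A (3 : ℤ) -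
      Finsupp.single P (1 : ℤ) - Finsupp.single Q (2 : ℤ) := ⟨_, rfl⟩
  obtain ⟨D₄, hD₄⟩ : ∃ D₄ : Divisor k K, D₄ = C + Finsupp.single A (3 : ℤ) -
      Finsupp.single P (1 : ℤ) - Finsupp.single Q (4 : ℤ) := ⟨_, rfl⟩
  rw [← hD₂] at h2
  rw [← hD₄] at h4
  have hD₂deg : D₂.deg = 2 := by
    rw [hD₂, deg_sub, deg_sub, deg_add, deg_single, deg_single, deg_single, hdA, hdP, hdQ, hCdeg]
    norm_num
  have hD₄deg : D₄.deg = 0 := by
    rw [hD₄, deg_sub, deg_sub, deg_add, deg_single, deg_single, deg_single, hdA, hdP, hdQ, hCdeg]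
    norm_num
  have hrr := riemann_roch hK hC D₂
  have hell2 : (ell D₂ : ℤ) = 2 := by
    have : ell D₂ = 2 := h2
    exact_mod_cast this
  rw [hD₂deg, hg, hell2] at hrr
  push_cast at hrr
  have hEdeg : (C - D₂).deg = 0 := by rw [deg_sub, hCdeg, hD₂deg]; norm_num
  obtain ⟨z₁, hz₁0, hz₁⟩ := exists_div_eq_neg hK hEdeg (by omega)
  have hell4 : ell D₄ = 1 := h4
  obtain ⟨z₂, hz₂0, hz₂⟩ := exists_div_eq_neg hK hD₄deg (by omega)
  have hz0 : z₁ * z₁ * z₂ ≠ 0 := mul_ne_zero (mul_ne_zero hz₁0 hz₁0) hz₂0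
  have hdiv : FunFld.div k (z₁ * z₁ * z₂) = -(C - D₂) + -(C - D₂) + -D₄ := by
    rw [div_mul hK (mul_ne_zero hz₁0 hz₁0) hz₂0, div_mul hK hz₁0 hz₁0, hz₁, hz₂]
  have hlin : C + FunFld.div k (z₁ * z₁ * z₂) =
      Finsupp.single A (3 : ℤ) - Finsupp.single P (1 : ℤ) := by
    rw [hdiv, hD₂, hD₄]
    ext R
    simp only [Finsupp.add_apply, Finsupp.sub_apply, Finsupp.neg_apply]
    have e1 : (Finsupp.single Q (4 : ℤ) : Divisor k K) R =
        2 * (Finsupp.single Q (2 : ℤ) : Divisor k K) R := by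
      rw [Finsupp.single_apply, Finsupp.single_apply]
      split_ifs <;> norm_num
    rw [e1]
    ring
  have h3AP : ell (Finsupp.single A (3 : ℤ) - Finsupp.single P (1 : ℤ) : Divisor k K) = 2 := by
    rw [← hlin, ell_add_div hK C hz0, hCell]
  have h3A : ell (Finsupp.single A (3 : ℤ) : Divisor k K) = 2 := by
    have := ell_eq_of_deg_ge hK (Finsupp.single A (3 : ℤ) : Divisor k K)
      (by rw [deg_single, hdA, hg]; norm_num)
    rw [deg_single, hdA, hg] at this
    push_cast at this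
    omega
  have hle : L (Finsupp.single A (3 : ℤ) - Finsupp.single P (1 : ℤ) : Divisor k K) ≤
      L (Finsupp.single A (3 : ℤ) : Divisor k K) := by
    apply L_mono
    intro R
    rw [Finsupp.sub_apply]
    have := single_apply_nonneg P (show (0 : ℤ) ≤ 1 by norm_num) R
    linarith
  haveI := L_finite hK (Finsupp.single A (3 : ℤ) : Divisor k K)
  have heq := Submodule.eq_of_le_of_finrank_eq hle (by
    show ell _ = ell _
    rw [h3AP, h3A])
  have h1 : (1 : K) ∈ L (Finsupp.single A (3 : ℤ) : Divisor k K) :=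
    one_mem_L_of_nonneg (single_nonneg A (by norm_num))
  rw [← heq] at h1
  refine one_not_mem_L_of_neg (P := P) ?_ h1
  rw [Finsupp.sub_apply, Finsupp.single_eq_same, Finsupp.single_eq_of_ne hP]
  norm_num

theorem g2_no_common_ramification [IsAlgClosed k] (hK : IsFunctionField k K)
    (hg : genus k K = 2) (C : Divisor k K) (hC : IsCanonical k K C) (B Q : Place k K)
    (hB : finrank k ↥(L (Finsupp.single B (2 : ℤ))) = 1) (hQ : Q ≠ B) :
    ¬ (finrank k ↥(L (C + Finsupp.single B (1 : ℤ) - Finsupp.single Q (2 : ℤ))) = 1 ∧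
       finrank k ↥(L (C + Finsupp.single B (3 : ℤ) - Finsupp.single Q (4 : ℤ))) = 1) := by
  classical
  rintro ⟨h1, h2⟩
  have hdB := deg_eq_one_of_isAlgClosed hK B
  have hdQ := deg_eq_one_of_isAlgClosed hK Q
  have hCdeg : C.deg = 2 := by
    have := ((isCanonical_iff hK C).1 hC).2
    rw [hg] at this
    push_cast at this
    linarith
  have hBell : ell (Finsupp.single B (2 : ℤ) : Divisor k K) = 1 := hB
  -- (a) ℓ(2Q - B) = 1
  obtain ⟨E₁, hE₁⟩ : ∃ E₁ : Divisor k K, E₁ = Finsupp.single Q (2 : ℤ) -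
      Finsupp.single B (1 : ℤ) := ⟨_, rfl⟩
  obtain ⟨E₂, hE₂⟩ : ∃ E₂ : Divisor k K, E₂ = Finsupp.single Q (4 : ℤ) -
      Finsupp.single B (3 : ℤ) := ⟨_, rfl⟩
  have hellE₁ : ell E₁ = 1 := by
    have hrr := riemann_roch hK hC (C + Finsupp.single B (1 : ℤ) - Finsupp.single Q (2 : ℤ))
    have hd : (C + Finsupp.single B (1 : ℤ) - Finsupp.single Q (2 : ℤ) : Divisor k K).deg = 1 := by
      rw [deg_sub, deg_add, deg_single, deg_single, hdB, hdQ, hCdeg]; norm_num
    have he : C - (C + Finsupp.single B (1 : ℤ) - Finsupp.single Q (2 : ℤ)) = E₁ := by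
      rw [hE₁]; abel
    have hl : (ell (C + Finsupp.single B (1 : ℤ) - Finsupp.single Q (2 : ℤ) : Divisor k K) : ℤ)
        = 1 := by
      have : ell (C + Finsupp.single B (1 : ℤ) - Finsupp.single Q (2 : ℤ) : Divisor k K) = 1 := h1
      exact_mod_cast this
    rw [he, hd, hg, hl] at hrr
    push_cast at hrr
    omega
  have hellE₂ : ell E₂ = 1 := by
    have hrr := riemann_roch hK hC (C + Finsupp.single B (3 : ℤ) - Finsupp.single Q (4 : ℤ))
    have hd : (C + Finsupp.single B (3 : ℤ) - Finsupp.single Q (4 : ℤ) : Divisor k K).deg = 1 := by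
      rw [deg_sub, deg_add, deg_single, deg_single, hdB, hdQ, hCdeg]; norm_num
    have he : C - (C + Finsupp.single B (3 : ℤ) - Finsupp.single Q (4 : ℤ)) = E₂ := by
      rw [hE₂]; abel
    have hl : (ell (C + Finsupp.single B (3 : ℤ) - Finsupp.single Q (4 : ℤ) : Divisor k K) : ℤ)
        = 1 := by
      have : ell (C + Finsupp.single B (3 : ℤ) - Finsupp.single Q (4 : ℤ) : Divisor k K) = 1 := h2
      exact_mod_cast this
    rw [he, hd, hg, hl] at hrr
    push_cast at hrr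
    omega
  obtain ⟨z₁, hz₁L, hz₁0⟩ := exists_ne_zero_of_ell_pos (by omega : 0 < ell E₁)
  obtain ⟨z₂, hz₂L, hz₂0⟩ := exists_ne_zero_of_ell_pos (by omega : 0 < ell E₂)
  have hE₁B : E₁ B = -1 := by
    rw [hE₁, Finsupp.sub_apply, Finsupp.single_eq_same, Finsupp.single_eq_of_ne (Ne.symm hQ)]
    norm_num
  have hE₂B : E₂ B = -3 := by
    rw [hE₂, Finsupp.sub_apply, Finsupp.single_eq_same, Finsupp.single_eq_of_ne (Ne.symm hQ)]
    norm_num
  -- (d) ℓ(2Q) = 2
  obtain ⟨Q2, hQ2⟩ : ∃ Q2 : Divisor k K, Q2 = Finsupp.single Q (2 : ℤ) := ⟨_, rfl⟩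
  have hQ2nn : 0 ≤ Q2 := by rw [hQ2]; exact single_nonneg Q (by norm_num)
  have hQ2deg : Q2.deg = 2 := by rw [hQ2, deg_single, hdQ]; norm_num
  have hE₁le : E₁ ≤ Q2 := by
    intro R
    rw [hE₁, hQ2, Finsupp.sub_apply]
    have := single_apply_nonneg B (show (0 : ℤ) ≤ 1 by norm_num) R
    linarith
  have hlt : L E₁ < L Q2 := by
    refine lt_of_le_of_ne (L_mono hE₁le) (fun h => ?_)
    have h1' : (1 : K) ∈ L Q2 := one_mem_L_of_nonneg hQ2nn
    rw [← h] at h1'
    exact one_not_mem_L_of_neg (P := B) (by rw [hE₁B]; norm_num) h1'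
  haveI := L_finite hK Q2
  have hQ2ge : 2 ≤ ell Q2 := by
    have := Submodule.finrank_lt_finrank_of_lt hlt
    have h3 : ell E₁ < ell Q2 := this
    omega
  have hCQ : 1 ≤ ell (C - Q2) := by
    have hrr := riemann_roch hK hC Q2
    rw [hQ2deg, hg] at hrr
    push_cast at hrr
    have : (2 : ℤ) ≤ ell Q2 := by exact_mod_cast hQ2ge
    omega
  have hCQdeg : (C - Q2).deg = 0 := by rw [deg_sub, hCdeg, hQ2deg]; norm_num
  have hQ2ell : ell Q2 = 2 := by
    have := ell_eq_of_ell_sub_pos hK hCQdeg hCQ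
    rw [← this, ((isCanonical_iff hK C).1 hC).1, hg]
  -- 2B and 2Q are not equivalent
  obtain ⟨B2, hB2⟩ : ∃ B2 : Divisor k K, B2 = Finsupp.single B (2 : ℤ) := ⟨_, rfl⟩
  have hB2deg : B2.deg = 2 := by rw [hB2, deg_single, hdB]; norm_num
  have hB2ell : ell B2 = 1 := by rw [hB2]; exact hBell
  have hBQ : ell (B2 - Q2) = 0 := by
    by_contra hne
    have := ell_eq_of_ell_sub_pos hK (D := B2) (D' := Q2)
      (by rw [deg_sub, hB2deg, hQ2deg]; norm_num) (by omega)
    omega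
  have hQB : ell (Q2 - B2) = 0 := by
    by_contra hne
    have := ell_eq_of_ell_sub_pos hK (D := Q2) (D' := B2)
      (by rw [deg_sub, hB2deg, hQ2deg]; norm_num) (by omega)
    omega
  -- (g) ℓ(4Q - 2B) = 1
  obtain ⟨F, hF⟩ : ∃ F : Divisor k K, F = Finsupp.single Q (4 : ℤ) - Finsupp.single B (2 : ℤ) :=
    ⟨_, rfl⟩
  have hFdeg : F.deg = 2 := by
    rw [hF, deg_sub, deg_single, deg_single, hdB, hdQ]; norm_num
  have hQ4 : (Finsupp.single Q (4 : ℤ) : Divisor k K) = Q2 + Q2 := by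
    rw [hQ2, ← Finsupp.single_add]; norm_num
  have hFell : ell F = 1 := by
    obtain ⟨w, hw0, hw⟩ := exists_div_eq_neg hK hCQdeg hCQ
    have hrr := riemann_roch hK hC F
    have he : C - F = (B2 - Q2) + FunFld.div k w⁻¹ := by
      rw [div_inv hK, hw, neg_neg, hF, hQ4, hB2]; abel
    rw [he, ell_add_div hK _ (inv_ne_zero hw0), hBQ, hFdeg, hg] at hrr
    push_cast at hrr
    omega
  -- (h) z₂ = c z₁²
  have hz₁sq : z₁ * z₁ ∈ L F := by
    intro R
    rw [val_le_exp_iff R (mul_ne_zero hz₁0 hz₁0), ord_mul R hz₁0 hz₁0]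
    have h3 := (val_le_exp_iff R hz₁0 _).1 (hz₁L R)
    rw [hE₁, Finsupp.sub_apply] at h3
    rw [hF, Finsupp.sub_apply]
    have e1 : (Finsupp.single Q (4 : ℤ) : Divisor k K) R =
        2 * (Finsupp.single Q (2 : ℤ) : Divisor k K) R := by
      rw [Finsupp.single_apply, Finsupp.single_apply]
      split_ifs <;> norm_num
    have e2 : (Finsupp.single B (2 : ℤ) : Divisor k K) R =
        2 * (Finsupp.single B (1 : ℤ) : Divisor k K) R := by
      rw [Finsupp.single_apply, Finsupp.single_apply]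
      split_ifs <;> norm_num
    rw [e1, e2]
    linarith
  have hz₂F : z₂ ∈ L F := by
    refine L_mono ?_ hz₂L
    intro R
    rw [hE₂, hF, Finsupp.sub_apply, Finsupp.sub_apply]
    have e2 : (Finsupp.single B (2 : ℤ) : Divisor k K) R ≤
        (Finsupp.single B (3 : ℤ) : Divisor k K) R := by
      rw [Finsupp.single_apply, Finsupp.single_apply]
      split_ifs <;> norm_num
    linarith
  have hsq0 : (⟨z₁ * z₁, hz₁sq⟩ : L F) ≠ 0 :=
    fun h => mul_ne_zero hz₁0 hz₁0 (congrArg Subtype.val h)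
  obtain ⟨c, hc⟩ := (finrank_eq_one_iff_of_nonzero' _ hsq0).1 hFell ⟨z₂, hz₂F⟩
  have hc' : c • (z₁ * z₁) = z₂ := congrArg Subtype.val hc
  have hc0 : c ≠ 0 := by
    rintro rfl
    rw [zero_smul] at hc'
    exact hz₂0 hc'.symm
  -- (i) ord_B z₁ ≥ 2
  have hordz₂ : 3 ≤ B.ord z₂ := by
    have h3 := (val_le_exp_iff B hz₂0 _).1 (hz₂L B)
    rw [hE₂B] at h3
    linarith
  have hordz₁ : 2 ≤ B.ord z₁ := by
    rw [← hc', Algebra.smul_def, ord_mul B ((map_ne_zero_iff _ (algebraMap k K).injective).2 hc0)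
      (mul_ne_zero hz₁0 hz₁0), ord_const, ord_mul B hz₁0 hz₁0] at hordz₂
    omega
  -- (j) z₁ ∈ L(2Q - 2B)
  have hz₁' : z₁ ∈ L (Q2 - B2) := by
    intro R
    rw [val_le_exp_iff R hz₁0]
    by_cases hR : R = B
    · rw [hR, hQ2, hB2, Finsupp.sub_apply, Finsupp.single_eq_same,
        Finsupp.single_eq_of_ne (Ne.symm hQ)]
      linarith
    · have h3 := (val_le_exp_iff R hz₁0 _).1 (hz₁L R)
      rw [hE₁, Finsupp.sub_apply, Finsupp.single_eq_of_ne hR] at h3
      rw [hQ2, hB2, Finsupp.sub_apply, Finsupp.single_eq_of_ne hR]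
      exact h3
  have : L (Q2 - B2) ≠ ⊥ := fun h => hz₁0 (by rw [h, Submodule.mem_bot] at hz₁'; exact hz₁')
  have hpos : 0 < ell (Q2 - B2) := by
    haveI := L_finite hK (Q2 - B2)
    exact Module.finrank_pos_iff_exists_ne_zero.2 ⟨⟨z₁, hz₁'⟩, fun h => hz₁0 (congrArg Subtype.val h)⟩
  omega

end Groth.Agent.Helper17.FF
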