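import Mathlib
import Groth.Agent.Lib.Helper17.FFG2
namespace Groth.Agent.Helper17.FF

open FunFld Module

variable {k K : Type*} [Field k] [Field K] [Algebra k K]

lemma single_mono (A : Place k K) {a b : ℤ} (h : a ≤ b) :
    (Finsupp.single A a : Divisor k K) ≤ Finsupp.single A b := by
  classical
  intro R
  rw [Finsupp.single_apply, Finsupp.single_apply]
  split_ifs
  · exact h
  · exact le_rfl

lemma sum_range_sub (n : ℕ) : ∑ x ∈ Finset.range n, (n - x) = (n + 1).choose 2 := by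
  induction n with
  | zero => simp
  | succ n ih =>
    rw [Finset.sum_range_succ']
    have : ∑ x ∈ Finset.range n, (n + 1 - (x + 1)) = ∑ x ∈ Finset.range n, (n - x) :=
      Finset.sum_congr rfl (fun x _ => by omega)
    rw [this, ih]
    have h2 : (n + 1 + 1).choose 2 = (n + 1).choose 1 + (n + 1).choose 2 :=
      Nat.choose_succ_succ (n + 1) 1
    rw [h2, Nat.choose_one_right]
    omega

lemma inf_L_le (V : Submodule k K) {D₁ D₂ D₃ : Divisor k K} (hV : V ≤ L D₁)
    (h : ∀ R, min (D₁ R) (D₂ R) ≤ D₃ R) : V ⊓ L D₂ ≤ L D₃ := by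
  rintro x ⟨hx1, hx2⟩ R
  have h1 := hV hx1 R
  have h2 := hx2 R
  have h3 : R.1 x ≤ WithZero.exp (min (D₁ R) (D₂ R)) := by
    rcases le_total (D₁ R) (D₂ R) with h' | h'
    · rw [min_eq_left h']; exact h1
    · rw [min_eq_right h']; exact h2
  exact h3.trans (WithZero.exp_le_exp.2 (h R))

section G1

variable [IsAlgClosed k] (hK : IsFunctionField k K) (hg1 : genus k K = 1)

include hK hg1 in
lemma g1_ell_of_pos {D : Divisor k K} (h : 1 ≤ D.deg) : (ell D : ℤ) = D.deg := by
  have := ell_eq_of_deg_ge hK D (by rw [hg1]; push_cast; linarith)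
  rw [hg1] at this
  push_cast at this
  linarith

include hK hg1 in
lemma g1_ell_single' (A : Place k K) {a : ℤ} (ha : 1 ≤ a) :
    (ell (Finsupp.single A a : Divisor k K) : ℤ) = a := by
  have hdA := deg_eq_one_of_isAlgClosed hK A
  have := g1_ell_of_pos hK hg1 (D := (Finsupp.single A a : Divisor k K))
    (by rw [deg_single, hdA]; push_cast; linarith)
  rw [deg_single, hdA] at this
  push_cast at this
  linarith

include hK in
lemma deg_single_sub_single (A Q : Place k K) (a b : ℤ) :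
    Divisor.deg (Finsupp.single A a - Finsupp.single Q b : Divisor k K) = a - b := by
  rw [deg_sub, deg_single, deg_single, deg_eq_one_of_isAlgClosed hK A,
    deg_eq_one_of_isAlgClosed hK Q]
  push_cast
  ring

set_option maxHeartbeats 1600000 in
include hK hg1 in
theorem g1_weight_at_pole (g : ℕ) (h3 : 3 ≤ g) (A : Place k K)
    (V₁ : Submodule k K) (hlo : L (Finsupp.single A ((g : ℤ) - 2)) ≤ V₁)
    (hhi : V₁ ≤ L (Finsupp.single A (g : ℤ))) (hdim : finrank k ↥V₁ + 1 = g) :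
    ∃ ε : ℕ, ε ≤ 1 ∧
      (∑ n ∈ Finset.range (2 * g - 2), finrank k
        ↥(V₁ ⊓ L (Finsupp.single A (2 * (g : ℤ) - 2) - Finsupp.single A ((n : ℤ) + 1)))) =
      (g - 1).choose 2 + (g - 1) ^ 2 + ε := by
  classical
  obtain ⟨t, rfl⟩ : ∃ t, g = t + 3 := ⟨g - 3, by omega⟩
  have hV₁dim : finrank k ↥V₁ = t + 2 := by omega
  haveI hfinhi := L_finite hK (Finsupp.single A ((t + 3 : ℕ) : ℤ) : Divisor k K)
  haveI hV₁fin : FiniteDimensional k ↥V₁ := Submodule.finiteDimensional_of_le hhi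
  have hD : ∀ n : ℕ, (Finsupp.single A (2 * ((t + 3 : ℕ) : ℤ) - 2) -
      Finsupp.single A ((n : ℤ) + 1) : Divisor k K) =
      Finsupp.single A (2 * (t : ℤ) + 3 - n) := by
    intro n
    rw [← Finsupp.single_sub]
    congr 1
    push_cast
    ring
  have hsum : ∀ N : ℕ, (∑ n ∈ Finset.range N, finrank k
        ↥(V₁ ⊓ L (Finsupp.single A (2 * ((t + 3 : ℕ) : ℤ) - 2) - Finsupp.single A ((n : ℤ) + 1)))) =
      ∑ n ∈ Finset.range N, finrank k
        ↥(V₁ ⊓ L (Finsupp.single A (2 * (t : ℤ) + 3 - n) : Divisor k K)) := by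
    intro N
    refine Finset.sum_congr rfl (fun n _ => ?_)
    rw [hD n]
  rw [hsum]
  obtain ⟨f, hf⟩ : ∃ f : ℕ → ℕ, f = fun n : ℕ => finrank k
      ↥(V₁ ⊓ L (Finsupp.single A (2 * (t : ℤ) + 3 - (n : ℤ)) : Divisor k K)) := ⟨_, rfl⟩
  have hf' : ∀ n : ℕ, finrank k ↥(V₁ ⊓ L (Finsupp.single A (2 * (t : ℤ) + 3 - (n : ℤ)) :
      Divisor k K)) = f n :=
    fun n => by rw [hf]
  simp only [hf']
  -- case (i)
  have hcase1 : ∀ n, n ≤ t → f n = t + 2 := by
    intro n hn
    rw [← hf', ← hV₁dim]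
    have : V₁ ⊓ L (Finsupp.single A (2 * (t : ℤ) + 3 - n) : Divisor k K) = V₁ := by
      apply inf_eq_left.2
      refine hhi.trans (L_mono (single_mono A ?_))
      push_cast
      have : (n : ℤ) ≤ t := by exact_mod_cast hn
      linarith
    rw [this]
  -- case (iii)
  have hcase3 : ∀ x, x ≤ t + 1 → f (t + 2 + x) = if x = t + 1 then 1 else t + 1 - x := by
    intro x hx
    rw [← hf']
    have hle : L (Finsupp.single A (2 * (t : ℤ) + 3 - ((t + 2 + x : ℕ) : ℤ)) : Divisor k K) ≤ V₁ := by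
      refine le_trans (L_mono (single_mono A ?_)) hlo
      push_cast
      linarith
    rw [inf_eq_right.2 hle]
    have hexp : 2 * (t : ℤ) + 3 - ((t + 2 + x : ℕ) : ℤ) = (t : ℤ) + 1 - x := by
      push_cast; ring
    rw [hexp]
    by_cases hx1 : x = t + 1
    · rw [if_pos hx1, hx1]
      have : (t : ℤ) + 1 - ((t + 1 : ℕ) : ℤ) = 0 := by push_cast; ring
      rw [this, Finsupp.single_zero]
      exact ell_zero hK
    · rw [if_neg hx1]
      have hpos : (1 : ℤ) ≤ (t : ℤ) + 1 - x := by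
        have : (x : ℤ) ≤ t := by
          have : x ≤ t := by omega
          exact_mod_cast this
        linarith
      have := g1_ell_single' hK hg1 A hpos
      have h5 : ell (Finsupp.single A ((t : ℤ) + 1 - x) : Divisor k K) = t + 1 - x := by
        have h6 : ((t + 1 - x : ℕ) : ℤ) = (t : ℤ) + 1 - x := by
          have : x ≤ t + 1 := hx
          push_cast [this]
          ring
        rw [← h6] at this
        exact_mod_cast this
      exact h5
  -- case (ii)
  have hcase2lo : t + 1 ≤ f (t + 1) := by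
    rw [← hf']
    have hexp : 2 * (t : ℤ) + 3 - ((t + 1 : ℕ) : ℤ) = (t : ℤ) + 2 := by push_cast; ring
    rw [hexp]
    have hle : L (Finsupp.single A (((t + 3 : ℕ) : ℤ) - 2) : Divisor k K) ≤
        V₁ ⊓ L (Finsupp.single A ((t : ℤ) + 2) : Divisor k K) := by
      refine le_inf hlo (L_mono (single_mono A ?_))
      push_cast
      linarith
    haveI := L_finite hK (Finsupp.single A ((t : ℤ) + 2) : Divisor k K)
    haveI : FiniteDimensional k ↥(V₁ ⊓ L (Finsupp.single A ((t : ℤ) + 2) : Divisor k K)) :=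
      Submodule.finiteDimensional_of_le inf_le_left
    have h5 := Submodule.finrank_mono hle
    have h6 := g1_ell_single' hK hg1 A (a := ((t + 3 : ℕ) : ℤ) - 2) (by push_cast; linarith)
    have h7 : ell (Finsupp.single A (((t + 3 : ℕ) : ℤ) - 2) : Divisor k K) = t + 1 := by
      have h7' : (ell (Finsupp.single A (((t + 3 : ℕ) : ℤ) - 2) : Divisor k K) : ℤ) =
          ((t + 1 : ℕ) : ℤ) := by
        rw [h6]; push_cast; ring
      exact Nat.cast_inj.1 h7'
    have h8 : finrank k ↥(L (Finsupp.single A (((t + 3 : ℕ) : ℤ) - 2) : Divisor k K)) = t + 1 := h7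
    omega
  have hcase2hi : f (t + 1) ≤ t + 2 := by
    rw [← hf', ← hV₁dim]
    exact Submodule.finrank_mono inf_le_left
  refine ⟨f (t + 1) - (t + 1), by omega, ?_⟩
  have hsplit : 2 * (t + 3) - 2 = (t + 1) + (1 + (t + 2)) := by omega
  rw [hsplit, Finset.sum_range_add f (t + 1) (1 + (t + 2)),
    Finset.sum_range_add (fun x => f (t + 1 + x)) 1 (t + 2)]
  have hs1 : ∑ x ∈ Finset.range (t + 1), f x = (t + 1) * (t + 2) := by
    rw [Finset.sum_congr rfl (fun x hx => hcase1 x (by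
      have := Finset.mem_range.1 hx; omega)), Finset.sum_const, Finset.card_range, smul_eq_mul]
  have hs2 : ∑ x ∈ Finset.range 1, f (t + 1 + x) = f (t + 1) := by
    rw [Finset.sum_range_one, add_zero]
  have hs3 : ∑ x ∈ Finset.range (t + 2), f (t + 1 + (1 + x)) = (t + 2).choose 2 + 1 := by
    rw [Finset.sum_range_succ]
    have h5 : ∑ x ∈ Finset.range (t + 1), f (t + 1 + (1 + x)) = (t + 2).choose 2 := by
      rw [← sum_range_sub (t + 1)]
      refine Finset.sum_congr rfl (fun x hx => ?_)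
      have hx' := Finset.mem_range.1 hx
      have : t + 1 + (1 + x) = t + 2 + x := by ring
      rw [this, hcase3 x (by omega), if_neg (by omega)]
    have h6 : f (t + 1 + (1 + (t + 1))) = 1 := by
      have : t + 1 + (1 + (t + 1)) = t + 2 + (t + 1) := by ring
      rw [this, hcase3 (t + 1) le_rfl, if_pos rfl]
    rw [h5, h6]
  rw [hs1, hs2, hs3]
  have h9 : t + 3 - 1 = t + 2 := rfl
  rw [h9]
  have : f (t + 1) = (t + 1) + (f (t + 1) - (t + 1)) := by omega
  nlinarith [this]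

set_option maxHeartbeats 1600000 in
include hK hg1 in
theorem g1_weight_off_pole (g : ℕ) (hodd : Odd g) (h3 : 3 ≤ g) (A : Place k K)
    (V₁ : Submodule k K) (hlo : L (Finsupp.single A ((g : ℤ) - 2)) ≤ V₁)
    (hhi : V₁ ≤ L (Finsupp.single A (g : ℤ))) (hdim : finrank k ↥V₁ + 1 = g)
    (Q : Place k K) (hQ : Q ≠ A) :
    (∑ n ∈ Finset.range (2 * g - 2), finrank k
        ↥(V₁ ⊓ L (Finsupp.single A (2 * (g : ℤ) - 2) - Finsupp.single Q ((n : ℤ) + 1)))) ≤
      (g - 1).choose 2 + 2 := by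
  classical
  obtain ⟨t, rfl⟩ : ∃ t, g = t + 3 := ⟨g - 3, by omega⟩
  have hV₁dim : finrank k ↥V₁ = t + 2 := by omega
  haveI hfinhi := L_finite hK (Finsupp.single A ((t + 3 : ℕ) : ℤ) : Divisor k K)
  haveI hV₁fin : FiniteDimensional k ↥V₁ := Submodule.finiteDimensional_of_le hhi
  have hdA := deg_eq_one_of_isAlgClosed hK A
  have hdQ := deg_eq_one_of_isAlgClosed hK Q
  obtain ⟨f, hf⟩ : ∃ f : ℕ → ℕ, f = fun n : ℕ => finrank k
      ↥(V₁ ⊓ L (Finsupp.single A (2 * ((t + 3 : ℕ) : ℤ) - 2) - Finsupp.single Q ((n : ℤ) + 1))) :=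
    ⟨_, rfl⟩
  have hsum : (∑ n ∈ Finset.range (2 * (t + 3) - 2), finrank k
        ↥(V₁ ⊓ L (Finsupp.single A (2 * ((t + 3 : ℕ) : ℤ) - 2) -
          Finsupp.single Q ((n : ℤ) + 1)))) = ∑ n ∈ Finset.range (2 * (t + 3) - 2), f n := by
    rw [hf]
  rw [hsum]
  obtain ⟨δ, hδ⟩ : ∃ δ, δ = ell (Finsupp.single A ((t + 3 : ℕ) : ℤ) -
      Finsupp.single Q ((t + 3 : ℕ) : ℤ) : Divisor k K) := ⟨_, rfl⟩
  obtain ⟨δ', hδ'⟩ : ∃ δ', δ' = ell (Finsupp.single A (((t + 3 : ℕ) : ℤ) - 2) -
      Finsupp.single Q (((t + 3 : ℕ) : ℤ) - 2) : Divisor k K) := ⟨_, rfl⟩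
  have hmin : ∀ (a b m : ℤ) (R : Place k K),
      min ((Finsupp.single A a : Divisor k K) R)
        ((Finsupp.single A b - Finsupp.single Q m : Divisor k K) R) ≤
        (Finsupp.single A a - Finsupp.single Q m : Divisor k K) R := by
    intro a b m R
    rw [Finsupp.sub_apply, Finsupp.sub_apply]
    by_cases hR : R = Q
    · rw [hR, Finsupp.single_eq_of_ne hQ, Finsupp.single_eq_of_ne hQ]
      exact min_le_right _ _
    · rw [Finsupp.single_eq_of_ne hR, sub_zero, sub_zero]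
      exact min_le_left _ _
  have hb1 : ∀ n : ℕ, f n ≤ ell (Finsupp.single A ((t + 3 : ℕ) : ℤ) -
      Finsupp.single Q ((n : ℤ) + 1) : Divisor k K) := by
    intro n
    rw [hf]
    haveI := L_finite hK (Finsupp.single A ((t + 3 : ℕ) : ℤ) -
      Finsupp.single Q ((n : ℤ) + 1) : Divisor k K)
    exact Submodule.finrank_mono (inf_L_le V₁ hhi (fun R => hmin _ _ _ R))
  have hUdim : finrank k ↥(L (Finsupp.single A (((t + 3 : ℕ) : ℤ) - 2) : Divisor k K)) = t + 1 := by
    have h6 := g1_ell_single' hK hg1 A (a := ((t + 3 : ℕ) : ℤ) - 2) (by push_cast; linarith)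
    have h7' : (ell (Finsupp.single A (((t + 3 : ℕ) : ℤ) - 2) : Divisor k K) : ℤ) =
        ((t + 1 : ℕ) : ℤ) := by
      rw [h6]; push_cast; ring
    exact Nat.cast_inj.1 h7'
  have hb2 : ∀ n : ℕ, f n ≤ 1 + ell (Finsupp.single A (((t + 3 : ℕ) : ℤ) - 2) -
      Finsupp.single Q ((n : ℤ) + 1) : Divisor k K) := by
    intro n
    rw [hf]
    obtain ⟨U, hU⟩ : ∃ U : Submodule k K,
        U = L (Finsupp.single A (((t + 3 : ℕ) : ℤ) - 2) : Divisor k K) := ⟨_, rfl⟩
    obtain ⟨W, hW⟩ : ∃ W : Submodule k K, W = V₁ ⊓ L (Finsupp.single A (2 * ((t + 3 : ℕ) : ℤ) - 2) -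
        Finsupp.single Q ((n : ℤ) + 1)) := ⟨_, rfl⟩
    show finrank k ↥(V₁ ⊓ L (Finsupp.single A (2 * ((t + 3 : ℕ) : ℤ) - 2) -
        Finsupp.single Q ((n : ℤ) + 1))) ≤ _
    rw [← hW]
    have hUle : U ≤ V₁ := by rw [hU]; exact hlo
    have hWle : W ≤ V₁ := by rw [hW]; exact inf_le_left
    haveI : FiniteDimensional k ↥U := Submodule.finiteDimensional_of_le hUle
    haveI : FiniteDimensional k ↥W := Submodule.finiteDimensional_of_le hWle
    have h1 := Submodule.finrank_sup_add_finrank_inf_eq U W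
    have h2 : finrank k ↥(U ⊔ W) ≤ finrank k ↥V₁ := Submodule.finrank_mono (sup_le hUle hWle)
    have h4 : finrank k ↥U = t + 1 := by rw [hU]; exact hUdim
    have h5 : finrank k ↥(U ⊓ W) ≤ ell (Finsupp.single A (((t + 3 : ℕ) : ℤ) - 2) -
        Finsupp.single Q ((n : ℤ) + 1) : Divisor k K) := by
      haveI := L_finite hK (Finsupp.single A (((t + 3 : ℕ) : ℤ) - 2) -
        Finsupp.single Q ((n : ℤ) + 1) : Divisor k K)
      refine Submodule.finrank_mono ?_
      rw [hW, hU]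
      exact (inf_le_inf_left _ inf_le_right).trans (inf_L_le _ le_rfl (fun R => hmin _ _ _ R))
    omega
  have hellpos : ∀ (a : ℤ) (n : ℕ), 1 ≤ a - ((n : ℤ) + 1) →
      (ell (Finsupp.single A a - Finsupp.single Q ((n : ℤ) + 1) : Divisor k K) : ℤ) =
        a - ((n : ℤ) + 1) := by
    intro a n h
    have := g1_ell_of_pos hK hg1 (D := (Finsupp.single A a - Finsupp.single Q ((n : ℤ) + 1) :
      Divisor k K)) (by rw [deg_single_sub_single hK]; exact h)
    rw [deg_single_sub_single hK] at this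
    exact this
  have hellneg : ∀ (a : ℤ) (n : ℕ), a - ((n : ℤ) + 1) < 0 →
      ell (Finsupp.single A a - Finsupp.single Q ((n : ℤ) + 1) : Divisor k K) = 0 := by
    intro a n h
    exact ell_eq_zero_of_deg_neg hK _ (by rw [deg_single_sub_single hK]; exact h)
  have hf1 : ∀ n, n < t → f n ≤ t + 1 - n := by
    intro n hn
    have h1 := hb2 n
    have h2 := hellpos (((t + 3 : ℕ) : ℤ) - 2) n (by
      push_cast
      have : (n : ℤ) + 1 ≤ t := by exact_mod_cast hn
      linarith)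
    have h3 : ell (Finsupp.single A (((t + 3 : ℕ) : ℤ) - 2) - Finsupp.single Q ((n : ℤ) + 1) :
        Divisor k K) = t - n := by
      have h4 : ((t - n : ℕ) : ℤ) = ((t + 3 : ℕ) : ℤ) - 2 - ((n : ℤ) + 1) := by
        have : n ≤ t := hn.le
        push_cast [this]
        ring
      rw [← h4] at h2
      exact Nat.cast_inj.1 h2
    omega
  have hf2 : f t ≤ 1 + δ' := by
    have h1 := hb2 t
    have : (((t + 3 : ℕ) : ℤ) - 2) = (t : ℤ) + 1 := by push_cast; ring
    rw [hδ']
    rw [this] at h1 ⊢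
    exact h1
  have hf3 : f (t + 1) ≤ 1 := by
    have h1 := hb2 (t + 1)
    rw [hellneg _ _ (by push_cast; linarith)] at h1
    exact h1
  have hf4 : f (t + 2) ≤ δ := by
    have h1 := hb1 (t + 2)
    have : (((t + 2 : ℕ) : ℤ) + 1) = ((t + 3 : ℕ) : ℤ) := by push_cast; ring
    rw [this] at h1
    rw [hδ]
    exact h1
  have hf5 : ∀ x, f (t + 3 + x) = 0 := by
    intro x
    have h1 := hb1 (t + 3 + x)
    rw [hellneg _ _ (by push_cast; linarith)] at h1
    omega
  have hδ1 : δ ≤ 1 := by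
    rw [hδ]
    exact ell_le_one_of_deg_zero hK (by rw [deg_single_sub_single hK]; ring)
  have hδ'1 : δ' ≤ 1 := by
    rw [hδ']
    exact ell_le_one_of_deg_zero hK (by rw [deg_single_sub_single hK]; ring)
  have hδδ' : δ + δ' ≤ 1 := by
    by_contra hcon
    have hδe : 1 ≤ δ := by omega
    have hδ'e : 1 ≤ δ' := by omega
    obtain ⟨E, hE⟩ : ∃ E : Divisor k K, E = Finsupp.single A (1 : ℤ) - Finsupp.single Q (1 : ℤ) :=
      ⟨_, rfl⟩
    have hsmul : ∀ n : ℤ, n • E = Finsupp.single A n - Finsupp.single Q n := by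
      intro n
      rw [hE, smul_sub, Finsupp.smul_single, Finsupp.smul_single, smul_eq_mul, mul_one]
    let H : AddSubgroup ℤ :=
      { carrier := {n | ∃ z : K, z ≠ 0 ∧ FunFld.div k z = n • E}
        zero_mem' := ⟨1, one_ne_zero, by
          rw [zero_smul, ← map_one (algebraMap k K)]; exact div_of_mem_range hK 1⟩
        add_mem' := by
          rintro a b ⟨z₁, hz₁, h₁⟩ ⟨z₂, hz₂, h₂⟩
          exact ⟨z₁ * z₂, mul_ne_zero hz₁ hz₂, by rw [div_mul hK hz₁ hz₂, h₁, h₂, add_smul]⟩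
        neg_mem' := by
          rintro a ⟨z, hz, h⟩
          exact ⟨z⁻¹, inv_ne_zero hz, by rw [div_inv hK, h, neg_smul]⟩ }
    have hmemH : ∀ n : ℤ, 1 ≤ ell (Finsupp.single A n - Finsupp.single Q n : Divisor k K) →
        n ∈ H := by
      intro n hn
      obtain ⟨z, hz0, hz⟩ := exists_div_eq_neg hK
        (E := (Finsupp.single A n - Finsupp.single Q n : Divisor k K))
        (by rw [deg_single_sub_single hK]; ring) hn
      exact ⟨z⁻¹, inv_ne_zero hz0, by rw [div_inv hK, hz, neg_neg, hsmul]⟩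
    have hgH : ((t + 3 : ℕ) : ℤ) ∈ H := hmemH _ (by rw [← hδ]; exact hδe)
    have hg2H : ((t + 3 : ℕ) : ℤ) - 2 ∈ H := hmemH _ (by rw [← hδ']; exact hδ'e)
    have h2H : (2 : ℤ) ∈ H := by
      have := H.sub_mem hgH hg2H
      have h5 : ((t + 3 : ℕ) : ℤ) - (((t + 3 : ℕ) : ℤ) - 2) = 2 := by ring
      rw [h5] at this
      exact this
    obtain ⟨s, hs⟩ := hodd
    have h1H : (1 : ℤ) ∈ H := by
      have h6 := H.sub_mem hgH (H.zsmul_mem h2H (s : ℤ))
      have h7 : ((t + 3 : ℕ) : ℤ) - (s : ℤ) • (2 : ℤ) = 1 := by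
        rw [hs, smul_eq_mul]; push_cast; ring
      rw [h7] at h6
      exact h6
    obtain ⟨z, hz0, hz⟩ := h1H
    rw [one_smul, hE] at hz
    exact hQ (eq_of_single_sub_single_eq_div hK (by omega) hdQ hz.symm).symm
  have hsplit : 2 * (t + 3) - 2 = t + (3 + (t + 1)) := by omega
  rw [hsplit, Finset.sum_range_add f t (3 + (t + 1)),
    Finset.sum_range_add (fun x => f (t + x)) 3 (t + 1)]
  have hs1 : ∑ x ∈ Finset.range t, f x ≤ (t + 1).choose 2 + t := by
    calc ∑ x ∈ Finset.range t, f x ≤ ∑ x ∈ Finset.range t, ((t - x) + 1) := by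
          refine Finset.sum_le_sum (fun x hx => ?_)
          have hx' := Finset.mem_range.1 hx
          have := hf1 x hx'
          omega
      _ = (t + 1).choose 2 + t := by
          rw [Finset.sum_add_distrib, sum_range_sub, Finset.sum_const, Finset.card_range,
            smul_eq_mul, mul_one]
  have hs2 : ∑ x ∈ Finset.range 3, f (t + x) = f t + f (t + 1) + f (t + 2) := by
    simp [Finset.sum_range_succ]
  have hs3 : ∑ x ∈ Finset.range (t + 1), f (t + (3 + x)) = 0 := by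
    refine Finset.sum_eq_zero (fun x _ => ?_)
    have : t + (3 + x) = t + 3 + x := by ring
    rw [this]
    exact hf5 x
  rw [hs2, hs3]
  have h9 : t + 3 - 1 = t + 2 := rfl
  have h10 : (t + 1 + 1).choose 2 = (t + 1).choose 1 + (t + 1).choose 2 :=
    Nat.choose_succ_succ (t + 1) 1
  rw [h9, h10, Nat.choose_one_right]
  omega

end G1

end Groth.Agent.Helper17.FF
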