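import Mathlib
import Groth.Prelude.Def_W4c6gradedringsgwSect
import Groth.Agent.Lib.Helper17.FFG1
namespace Groth.Agent.Helper17.FF

open FunFld Module Polynomial

universe u

variable {k K : Type u} [Field k] [Field K] [Algebra k K]

lemma exists_resK [IsAlgClosed k] (hK : IsFunctionField k K) (P : Place k K) :
    ∃ ρ : K → k, ρ 0 = 0 ∧ (∀ c : k, ρ (algebraMap k K c) = c) ∧
      (∀ z w : K, P.1 z ≤ 1 → P.1 w ≤ 1 → ρ (z + w) = ρ z + ρ w) ∧
      (∀ z w : K, P.1 z ≤ 1 → P.1 w ≤ 1 → ρ (z * w) = ρ z * ρ w) ∧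
      (∀ z : K, P.1 z ≤ 1 → (ρ z = 0 ↔ P.1 z < 1)) := by
  classical
  have h := residue_finite hK P
  have : Algebra.IsIntegral k (IsLocalRing.ResidueField P.O) :=
    @Algebra.IsIntegral.of_finite k _ _ _ _ h
  have hb : Function.Bijective (algebraMap k (IsLocalRing.ResidueField P.O)) :=
    IsAlgClosed.algebraMap_bijective_of_isIntegral
  let e : k ≃+* IsLocalRing.ResidueField P.O := RingEquiv.ofBijective _ hb
  let r : P.O →+* k :=
    (e.symm : IsLocalRing.ResidueField P.O →+* k).comp (IsLocalRing.residue P.O)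
  have hr0 : ∀ z : P.O, r z = 0 ↔ P.1 (z : K) < 1 := by
    intro z
    show e.symm (IsLocalRing.residue P.O z) = 0 ↔ _
    rw [map_eq_zero_iff _ e.symm.injective, IsLocalRing.residue_eq_zero_iff, mem_maximalIdeal_iff]
  have hrc : ∀ c : k, r (algebraMap k P.O c) = c := by
    intro c
    show e.symm (IsLocalRing.residue P.O (algebraMap k P.O c)) = c
    rw [RingEquiv.symm_apply_eq]
    rfl
  refine ⟨fun z => if h : P.1 z ≤ 1 then r ⟨z, h⟩ else 0, ?_, ?_, ?_, ?_, ?_⟩
  · have h0 : P.1 (0 : K) ≤ 1 := by rw [map_zero]; exact zero_le_one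
    beta_reduce
    rw [dif_pos h0]
    exact map_zero r
  · intro c
    have hc : P.1 (algebraMap k K c) ≤ 1 := P.2.1 c
    beta_reduce
    rw [dif_pos hc]
    exact hrc c
  · intro z w hz hw
    have hzw : P.1 (z + w) ≤ 1 := (P.1.map_add z w).trans (max_le hz hw)
    beta_reduce
    rw [dif_pos hzw, dif_pos hz, dif_pos hw, ← map_add]
    rfl
  · intro z w hz hw
    have hzw : P.1 (z * w) ≤ 1 := by rw [map_mul]; exact mul_le_one' hz hw
    beta_reduce
    rw [dif_pos hzw, dif_pos hz, dif_pos hw, ← map_mul]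
    rfl
  · intro z hz
    beta_reduce
    rw [dif_pos hz]
    exact hr0 ⟨z, hz⟩

/-- the section ring of a point divisor -/
noncomputable abbrev sR (P : Place k K) : Subalgebra k K[X] :=
  W4c6gradedringsgw.sectRing (Finsupp.single P 1 : Divisor k K)

set_option maxHeartbeats 3200000 in
theorem sectRing_prime_quot [IsAlgClosed k] (hK : IsFunctionField k K) (hg : 1 ≤ genus k K)
    (P : Place k K) (t : ↥(sR P)) (a : K) (ha : a ≠ 0) (ht : (t : K[X]) = C a * X) :
    Prime t ∧ Nonempty ((↥(sR P) ⧸ Ideal.span {t}) ≃ₐ[k]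
      AddMonoidAlgebra k ↥(AddSubmonoid.closure (W4c6gradedringsgw.poleOrders P))) := by
  classical
  obtain ⟨ρ, hρ0, hρc, hρadd, hρmul, hρker⟩ := exists_resK hK P
  obtain ⟨π, hπ⟩ := P.2.2 (WithZero.exp (-1 : ℤ))
  have hdP := deg_eq_one_of_isAlgClosed hK P
  have hπ0 : π ≠ 0 := fun h => by
    rw [h, map_zero] at hπ
    exact WithZero.exp_ne_zero hπ.symm
  have hπn : ∀ n : ℕ, P.1 (π ^ n) = WithZero.exp (-(n : ℤ)) := by
    intro n
    rw [map_pow, hπ, ← WithZero.exp_nsmul]
    congr 1
    simp
  have hsm : ∀ n : ℕ, ((n : ℤ) • (Finsupp.single P 1 : Divisor k K)) =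
      Finsupp.single P (n : ℤ) := by
    intro n
    rw [Finsupp.smul_single, smul_eq_mul, mul_one]
  have hmemR : ∀ p : sR P, ∀ n : ℕ,
      (p : K[X]).coeff n ∈ L (Finsupp.single P (n : ℤ) : Divisor k K) := by
    intro p n
    have := p.2 n
    rwa [hsm] at this
  have hint : ∀ (n : ℕ) (f : K), f ∈ L (Finsupp.single P (n : ℤ) : Divisor k K) →
      P.1 (f * π ^ n) ≤ 1 := by
    intro n f hf
    have := hf P
    rw [Finsupp.single_eq_same] at this
    rw [map_mul, hπn]
    calc P.1 f * WithZero.exp (-(n : ℤ)) ≤ WithZero.exp (n : ℤ) * WithZero.exp (-(n : ℤ)) :=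
          mul_le_mul' this le_rfl
      _ = 1 := by rw [← WithZero.exp_add, add_neg_cancel, WithZero.exp_zero]
  have hstep : ∀ (m : ℕ) (f : K), f ∈ L (Finsupp.single P (m : ℤ) : Divisor k K) →
      P.1 (f * π ^ m) < 1 → f ∈ L (Finsupp.single P ((m : ℤ) - 1) : Divisor k K) := by
    intro m f hf hlt Q
    by_cases hQ : Q = P
    · rw [hQ, Finsupp.single_eq_same]
      rcases eq_or_ne f 0 with h0 | h0
      · rw [h0, map_zero]; exact zero_le
      · rw [val_le_exp_iff P h0]
        have h3 := (ord_pos_iff P (mul_ne_zero h0 (pow_ne_zero _ hπ0))).2 hlt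
        rw [ord_mul P h0 (pow_ne_zero _ hπ0), ord_pow, ord_uniformizer P hπ] at h3
        linarith
    · have := hf Q
      rw [Finsupp.single_eq_of_ne hQ] at this ⊢
      exact this
  have hρsum : ∀ {ι : Type} (s : Finset ι) (z : ι → K), (∀ i ∈ s, P.1 (z i) ≤ 1) →
      ρ (∑ i ∈ s, z i) = ∑ i ∈ s, ρ (z i) := by
    intro ι s z
    induction s using Finset.induction_on with
    | empty => intro _; rw [Finset.sum_empty, Finset.sum_empty, hρ0]
    | insert i s hi ih =>
      intro hz
      rw [Finset.sum_insert hi, Finset.sum_insert hi,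
        hρadd _ _ (hz i (Finset.mem_insert_self i s))
          (Valuation.map_sum_le _ (fun j hj => hz j (Finset.mem_insert_of_mem hj))),
        ih (fun j hj => hz j (Finset.mem_insert_of_mem hj))]
  obtain ⟨ψf, hψf⟩ : ∃ ψf : K[X] → k[X], ∀ p N, (ψf p).coeff N = ρ (p.coeff N * π ^ N) := by
    refine ⟨fun p => ∑ n ∈ p.support, monomial n (ρ (p.coeff n * π ^ n)), fun p N => ?_⟩
    rw [finsetSum_coeff]
    simp only [coeff_monomial]
    rw [Finset.sum_ite_eq']
    split_ifs with h
    · rfl
    · rw [notMem_support_iff.1 h, zero_mul, hρ0]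
  let ψ : sR P →ₐ[k] k[X] :=
    { toFun := fun p => ψf p.1
      map_one' := by
        ext N
        rw [hψf]
        show ρ ((1 : K[X]).coeff N * π ^ N) = (1 : k[X]).coeff N
        rw [coeff_one, coeff_one]
        split_ifs with h
        · rw [h, pow_zero, mul_one, ← map_one (algebraMap k K), hρc]
        · rw [zero_mul, hρ0]
      map_mul' := by
        intro p q
        ext N
        rw [hψf, coeff_mul]
        show ρ (((p : K[X]) * (q : K[X])).coeff N * π ^ N) = _
        rw [coeff_mul, Finset.sum_mul]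
        have hterm : ∀ x ∈ Finset.HasAntidiagonal.antidiagonal N,
            (p : K[X]).coeff x.1 * (q : K[X]).coeff x.2 * π ^ N =
              ((p : K[X]).coeff x.1 * π ^ x.1) * ((q : K[X]).coeff x.2 * π ^ x.2) := by
          intro x hx
          rw [← Finset.HasAntidiagonal.mem_antidiagonal.1 hx, pow_add]
          ring
        rw [Finset.sum_congr rfl hterm, hρsum]
        · refine Finset.sum_congr rfl (fun x _ => ?_)
          rw [hψf, hψf, hρmul _ _ (hint _ _ (hmemR p x.1)) (hint _ _ (hmemR q x.2))]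
        · intro x _
          rw [map_mul]
          exact mul_le_one' (hint _ _ (hmemR p x.1)) (hint _ _ (hmemR q x.2))
      map_zero' := by
        ext N
        rw [hψf]
        show ρ ((0 : K[X]).coeff N * π ^ N) = (0 : k[X]).coeff N
        rw [coeff_zero, zero_mul, hρ0, coeff_zero]
      map_add' := by
        intro p q
        ext N
        rw [coeff_add, hψf, hψf, hψf]
        show ρ (((p : K[X]) + (q : K[X])).coeff N * π ^ N) = _
        rw [coeff_add, add_mul, hρadd _ _ (hint _ _ (hmemR p N)) (hint _ _ (hmemR q N))]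
      commutes' := by
        intro c
        ext N
        rw [hψf]
        show ρ ((algebraMap k K[X] c).coeff N * π ^ N) = (algebraMap k k[X] c).coeff N
        rw [Polynomial.algebraMap_apply, ← C_eq_algebraMap, coeff_C, coeff_C]
        split_ifs with h
        · rw [h, pow_zero, mul_one, hρc]
        · rw [zero_mul, hρ0] }
  have hψ : ∀ (p : sR P) (N : ℕ), (ψ p).coeff N = ρ ((p : K[X]).coeff N * π ^ N) :=
    fun p N => hψf _ _
  -- `a` is a constant
  have ha_mem : a ∈ L (Finsupp.single P (1 : ℤ) : Divisor k K) := by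
    have := hmemR t 1
    rw [ht, coeff_C_mul_X, if_pos rfl, Nat.cast_one] at this
    exact this
  obtain ⟨c, hc⟩ := mem_range_of_mem_L_of_ell_eq_one (single_nonneg P zero_le_one)
    (ell_single_eq_one hK (by omega) hdP) ha_mem
  have hc0 : c ≠ 0 := fun h => ha (by rw [← hc, h, map_zero])
  have hker : RingHom.ker ψ = Ideal.span {t} := by
    apply le_antisymm
    · intro p hp
      rw [RingHom.mem_ker] at hp
      have hp' : ∀ N, ρ ((p : K[X]).coeff N * π ^ N) = 0 := by
        intro N
        rw [← hψ, hp, coeff_zero]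
      have hlt : ∀ N, P.1 ((p : K[X]).coeff N * π ^ N) < 1 :=
        fun N => (hρker _ (hint N _ (hmemR p N))).1 (hp' N)
      have hp0 : (p : K[X]).coeff 0 = 0 := by
        have h1 := hmemR p 0
        rw [Nat.cast_zero, Finsupp.single_zero] at h1
        obtain ⟨c₀, hc₀⟩ := mem_range_of_mem_L_of_ell_eq_one (le_refl 0) (ell_zero hK) h1
        have h2 := hlt 0
        rw [pow_zero, mul_one, ← hc₀] at h2
        by_contra hne
        have hc₀0 : c₀ ≠ 0 := fun h => hne (by rw [← hc₀, h, map_zero])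
        rw [val_const P hc₀0] at h2
        exact lt_irrefl _ h2
      have hq : C (algebraMap k K c⁻¹) * (p : K[X]).divX ∈ sR P := by
        intro n
        rw [hsm, coeff_C_mul, coeff_divX, ← Algebra.smul_def]
        apply Submodule.smul_mem
        have h1 := hstep (n + 1) _ (hmemR p (n + 1)) (hlt (n + 1))
        have h2 : (((n + 1 : ℕ) : ℤ) - 1) = (n : ℤ) := by push_cast; ring
        rw [h2] at h1
        exact h1
      rw [Ideal.mem_span_singleton']
      refine ⟨⟨_, hq⟩, Subtype.ext ?_⟩
      show (C (algebraMap k K c⁻¹) * (p : K[X]).divX) * (t : K[X]) = (p : K[X])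
      rw [ht, ← hc]
      have hdx := divX_mul_X_add (p : K[X])
      rw [hp0, map_zero, add_zero] at hdx
      calc C (algebraMap k K c⁻¹) * (p : K[X]).divX * (C (algebraMap k K c) * X)
          = C (algebraMap k K c⁻¹ * algebraMap k K c) * ((p : K[X]).divX * X) := by
            rw [C_mul]; ring
        _ = (p : K[X]) := by
            rw [← map_mul, inv_mul_cancel₀ hc0, map_one, C_1, one_mul, hdx]
    · rw [Ideal.span_singleton_le_iff_mem, RingHom.mem_ker]
      ext N
      rw [hψ, ht, coeff_C_mul_X, coeff_zero]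
      split_ifs with h
      · rw [h, pow_one, ← hc]
        have h1 : P.1 (algebraMap k K c * π) < 1 := by
          rw [map_mul, val_const P hc0, one_mul, hπ]
          exact exp_neg_one_lt_one
        exact (hρker _ h1.le).2 h1
      · rw [zero_mul, hρ0]
  obtain ⟨M, hM⟩ : ∃ M : AddSubmonoid ℕ,
      M = AddSubmonoid.closure (W4c6gradedringsgw.poleOrders P) := ⟨_, rfl⟩
  rw [← hM]
  have hH : ∀ n ∈ W4c6gradedringsgw.poleOrders P,
      ∃ f ∈ L (Finsupp.single P (n : ℤ) : Divisor k K), ρ (f * π ^ n) = 1 := by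
    intro n hn
    have hn' : ell (Finsupp.single P (n : ℤ) : Divisor k K) =
        ell (Finsupp.single P ((n : ℤ) - 1) : Divisor k K) + 1 := by
      have h1 : ell ((n : ℤ) • (Finsupp.single P 1 : Divisor k K)) =
        ell (((n : ℤ) - 1) • (Finsupp.single P 1 : Divisor k K)) + 1 := hn
      rwa [Finsupp.smul_single, Finsupp.smul_single, smul_eq_mul, smul_eq_mul, mul_one,
        mul_one] at h1
    have hle : L (Finsupp.single P ((n : ℤ) - 1) : Divisor k K) ≤
        L (Finsupp.single P (n : ℤ) : Divisor k K) := L_mono (single_mono P (by linarith))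
    have hlt : L (Finsupp.single P ((n : ℤ) - 1) : Divisor k K) <
        L (Finsupp.single P (n : ℤ) : Divisor k K) := by
      refine lt_of_le_of_ne hle (fun h => ?_)
      have : ell (Finsupp.single P ((n : ℤ) - 1) : Divisor k K) =
          ell (Finsupp.single P (n : ℤ) : Divisor k K) := by unfold ell; rw [h]
      omega
    obtain ⟨f, hf, hfn⟩ := SetLike.exists_of_lt hlt
    have h1 := hint n f hf
    have h2 : ¬ P.1 (f * π ^ n) < 1 := fun hlt' => hfn (hstep n f hf hlt')
    have h3 : ρ (f * π ^ n) ≠ 0 := fun h => h2 ((hρker _ h1).1 h)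
    refine ⟨(ρ (f * π ^ n))⁻¹ • f, Submodule.smul_mem _ _ hf, ?_⟩
    rw [Algebra.smul_def, mul_assoc, hρmul _ _ (P.2.1 _) h1, hρc, inv_mul_cancel₀ h3]
  have hMf : ∀ m ∈ M, ∃ f ∈ L (Finsupp.single P (m : ℤ) : Divisor k K), ρ (f * π ^ m) = 1 := by
    intro m hm
    rw [hM] at hm
    refine AddSubmonoid.closure_induction
      (motive := fun (m : ℕ) _ => ∃ f ∈ L (Finsupp.single P (m : ℤ) : Divisor k K), ρ (f * π ^ m) = 1)
      (fun x hx => hH x hx) ?_ ?_ hm
    · refine ⟨1, one_mem_L_of_nonneg (by rw [Nat.cast_zero, Finsupp.single_zero]), ?_⟩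
      rw [pow_zero, mul_one, ← map_one (algebraMap k K), hρc]
    · rintro x y _ _ ⟨f, hf, hf1⟩ ⟨g, hg, hg1⟩
      refine ⟨f * g, ?_, ?_⟩
      · have := W4c6gradedringsgw.mul_mem_L hf hg
        rwa [← Finsupp.single_add, ← Nat.cast_add] at this
      · have : f * g * π ^ (x + y) = (f * π ^ x) * (g * π ^ y) := by rw [pow_add]; ring
        rw [this, hρmul _ _ (hint x f hf) (hint y g hg), hf1, hg1, one_mul]
  have hHmem : ∀ (n : ℕ) (f : K), f ∈ L (Finsupp.single P (n : ℤ) : Divisor k K) →
      ρ (f * π ^ n) ≠ 0 → n ∈ W4c6gradedringsgw.poleOrders P := by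
    intro n f hf hne
    have hfn : f ∉ L (Finsupp.single P ((n : ℤ) - 1) : Divisor k K) := by
      intro h
      apply hne
      rw [hρker _ (hint n f hf)]
      have := h P
      rw [Finsupp.single_eq_same] at this
      rw [map_mul, hπn]
      calc P.1 f * WithZero.exp (-(n : ℤ)) ≤
            WithZero.exp ((n : ℤ) - 1) * WithZero.exp (-(n : ℤ)) := mul_le_mul' this le_rfl
        _ = WithZero.exp (-1 : ℤ) := by rw [← WithZero.exp_add]; congr 1; ring
        _ < 1 := exp_neg_one_lt_one
    show ell ((n : ℤ) • (Finsupp.single P 1 : Divisor k K)) =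
      ell (((n : ℤ) - 1) • (Finsupp.single P 1 : Divisor k K)) + 1
    rw [Finsupp.smul_single, Finsupp.smul_single, smul_eq_mul, smul_eq_mul, mul_one, mul_one]
    have hle := L_mono (single_mono P (show (n : ℤ) - 1 ≤ n by linarith))
    have hlt : L (Finsupp.single P ((n : ℤ) - 1) : Divisor k K) <
        L (Finsupp.single P (n : ℤ) : Divisor k K) :=
      lt_of_le_of_ne hle (fun h => hfn (by rw [h]; exact hf))
    haveI := L_finite hK (Finsupp.single P (n : ℤ) : Divisor k K)
    have h1 := Submodule.finrank_lt_finrank_of_lt hlt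
    have h2 := (L_step hK (Finsupp.single P ((n : ℤ) - 1) : Divisor k K) P (L_finite hK _)).2
    rw [← Finsupp.single_add, sub_add_cancel, hdP] at h2
    unfold ell
    omega
  let ι : AddMonoidAlgebra k M →ₐ[k] k[X] :=
    ((Polynomial.toFinsuppIsoAlg k).symm : AddMonoidAlgebra k ℕ →ₐ[k] k[X]).comp
      (AddMonoidAlgebra.mapDomainAlgHom k k M.subtype)
  have hιs : ∀ (m : M) (c : k), ι (AddMonoidAlgebra.single m c) = monomial (m : ℕ) c := by
    intro m c
    show ((Polynomial.toFinsuppIsoAlg k).symm : AddMonoidAlgebra k ℕ →ₐ[k] k[X])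
      (AddMonoidAlgebra.mapDomainAlgHom k k M.subtype (AddMonoidAlgebra.single m c)) = _
    rw [AddMonoidAlgebra.mapDomainAlgHom_apply, AddMonoidAlgebra.mapDomain_single,
      AddSubmonoid.coe_subtype, ← toFinsupp_monomial]
    exact (Polynomial.toFinsuppIsoAlg k).symm_apply_apply _
  have hιinj : Function.Injective ι := by
    intro x y h
    have h1 : AddMonoidAlgebra.mapDomainAlgHom k k M.subtype x =
        AddMonoidAlgebra.mapDomainAlgHom k k M.subtype y :=
      (Polynomial.toFinsuppIsoAlg k).symm.injective h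
    rw [AddMonoidAlgebra.mapDomainAlgHom_apply, AddMonoidAlgebra.mapDomainAlgHom_apply] at h1
    exact AddMonoidAlgebra.mapDomain_injective Subtype.val_injective h1
  have hrange : ψ.range = ι.range := by
    apply le_antisymm
    · rintro _ ⟨p, rfl⟩
      have hsum := (ψ p).as_sum_support
      show (ψ p) ∈ ι.range
      rw [hsum]
      refine Subalgebra.sum_mem _ (fun n hn => ?_)
      have hne : (ψ p).coeff n ≠ 0 := mem_support_iff.1 hn
      have hnH := hHmem n _ (hmemR p n) (by rw [← hψ]; exact hne)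
      have hnM : n ∈ M := by rw [hM]; exact AddSubmonoid.subset_closure hnH
      exact ⟨AddMonoidAlgebra.single ⟨n, hnM⟩ ((ψ p).coeff n), hιs _ _⟩
    · rintro _ ⟨x, rfl⟩
      show ι x ∈ ψ.range
      induction x using AddMonoidAlgebra.induction with
      | zero => rw [map_zero]; exact Subalgebra.zero_mem _
      | single_add m c f _ _ ih =>
        rw [map_add, hιs]
        refine Subalgebra.add_mem _ ?_ ih
        obtain ⟨f, hf, hf1⟩ := hMf m m.2
        have hfR : C f * X ^ (m : ℕ) ∈ sR P := by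
          intro n
          rw [coeff_C_mul_X_pow]
          split_ifs with h
          · rw [h, hsm]; exact hf
          · exact Submodule.zero_mem _
        have h1 : ψ ⟨_, hfR⟩ = monomial (m : ℕ) 1 := by
          ext N
          rw [hψ]
          show ρ ((C f * X ^ (m : ℕ)).coeff N * π ^ N) = _
          rw [coeff_C_mul_X_pow, coeff_monomial]
          by_cases h : N = m
          · rw [if_pos h, if_pos h.symm, h, hf1]
          · rw [if_neg h, if_neg (Ne.symm h), zero_mul, hρ0]
        have h2 : monomial (m : ℕ) c = c • monomial (m : ℕ) (1 : k) := by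
          rw [smul_monomial, smul_eq_mul, mul_one]
        rw [h2, ← h1]
        exact Subalgebra.smul_mem _ (AlgHom.mem_range_self ψ _) c
  have hker' : RingHom.ker ψ.rangeRestrict = Ideal.span {t} := by
    rw [AlgHom.ker_rangeRestrict, hker]
  have e1 : (↥(sR P) ⧸ Ideal.span {t}) ≃ₐ[k] (↥(sR P) ⧸ RingHom.ker ψ.rangeRestrict) :=
    Ideal.quotientEquivAlgOfEq k hker'.symm
  have e2 : (↥(sR P) ⧸ RingHom.ker ψ.rangeRestrict) ≃ₐ[k] ψ.range :=
    Ideal.quotientKerAlgEquivOfSurjective ψ.rangeRestrict_surjective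
  have e3 : ψ.range ≃ₐ[k] ι.range := Subalgebra.equivOfEq _ _ hrange
  have e4 : AddMonoidAlgebra k M ≃ₐ[k] ι.range := AlgEquiv.ofInjective ι hιinj
  have hprime : (Ideal.span {t}).IsPrime := by
    rw [← hker]
    exact RingHom.ker_isPrime ψ
  have ht0 : t ≠ 0 := by
    intro h
    have h1 := congrArg Subtype.val h
    rw [ht] at h1
    have h2 : (C a * X : K[X]) = 0 := h1
    rcases mul_eq_zero.1 h2 with h3 | h3
    · exact ha (C_eq_zero.1 h3)
    · exact X_ne_zero h3
  exact ⟨(Ideal.span_singleton_prime ht0).1 hprime, ⟨e1.trans (e2.trans (e3.trans e4.symm))⟩⟩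

end Groth.Agent.Helper17.FF
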