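import Mathlib
import Groth.Prelude.Def_W4c6gradedringsgwSect
import Groth.Agent.Lib.Helper17.FFSect
namespace Groth.Agent.Helper17.FF

open FunFld Module Polynomial

universe u

variable {k K : Type u} [Field k] [Field K] [Algebra k K]

set_option maxHeartbeats 6400000 in
theorem sectRing_embdim [IsAlgClosed k] (hK : IsFunctionField k K) (hg : 1 ≤ genus k K)
    (P : Place k K) :
    (RingHom.ker (Polynomial.constantCoeff.comp (sR P).val.toRingHom)).spanFinrank =
      Set.ncard (W4c6gradedringsgw.minGens (W4c6gradedringsgw.poleOrders P)) + 1 := by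
  classical
  obtain ⟨ρ, hρ0, hρc, hρadd, hρmul, hρker⟩ := exists_resK hK P
  obtain ⟨π, hπ⟩ := P.2.2 (WithZero.exp (-1 : ℤ))
  have hdP := deg_eq_one_of_isAlgClosed hK P
  have hπ0 : π ≠ 0 := fun h => by
    rw [h, map_zero] at hπ
    exact WithZero.exp_ne_zero hπ.symm
  have hπn : ∀ n : ℕ, P.1 (π ^ n) = WithZero.exp (-(n : ℤ)) := by
    intro n
    rw [map_pow, hπ, ← WithZero.exp_nsmul]
    congr 1
    simp
  have hsm : ∀ n : ℕ, ((n : ℤ) • (Finsupp.single P 1 : Divisor k K)) =
      Finsupp.single P (n : ℤ) := by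
    intro n
    rw [Finsupp.smul_single, smul_eq_mul, mul_one]
  have hmemR : ∀ p : sR P, ∀ n : ℕ,
      (p : K[X]).coeff n ∈ L (Finsupp.single P (n : ℤ) : Divisor k K) := by
    intro p n
    have := p.2 n
    rwa [hsm] at this
  have hint : ∀ (n : ℕ) (f : K), f ∈ L (Finsupp.single P (n : ℤ) : Divisor k K) →
      P.1 (f * π ^ n) ≤ 1 := by
    intro n f hf
    have := hf P
    rw [Finsupp.single_eq_same] at this
    rw [map_mul, hπn]
    calc P.1 f * WithZero.exp (-(n : ℤ)) ≤ WithZero.exp (n : ℤ) * WithZero.exp (-(n : ℤ)) :=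
          mul_le_mul' this le_rfl
      _ = 1 := by rw [← WithZero.exp_add, add_neg_cancel, WithZero.exp_zero]
  have hstep : ∀ (m : ℕ) (f : K), f ∈ L (Finsupp.single P (m : ℤ) : Divisor k K) →
      P.1 (f * π ^ m) < 1 → f ∈ L (Finsupp.single P ((m : ℤ) - 1) : Divisor k K) := by
    intro m f hf hlt Q
    by_cases hQ : Q = P
    · rw [hQ, Finsupp.single_eq_same]
      rcases eq_or_ne f 0 with h0 | h0
      · rw [h0, map_zero]; exact zero_le
      · rw [val_le_exp_iff P h0]
        have h3 := (ord_pos_iff P (mul_ne_zero h0 (pow_ne_zero _ hπ0))).2 hlt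
        rw [ord_mul P h0 (pow_ne_zero _ hπ0), ord_pow, ord_uniformizer P hπ] at h3
        linarith
    · have := hf Q
      rw [Finsupp.single_eq_of_ne hQ] at this ⊢
      exact this
  have hρsum : ∀ {ι : Type} (s : Finset ι) (z : ι → K), (∀ i ∈ s, P.1 (z i) ≤ 1) →
      ρ (∑ i ∈ s, z i) = ∑ i ∈ s, ρ (z i) := by
    intro ι s z
    induction s using Finset.induction_on with
    | empty => intro _; rw [Finset.sum_empty, Finset.sum_empty, hρ0]
    | insert i s hi ih =>
      intro hz
      rw [Finset.sum_insert hi, Finset.sum_insert hi,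
        hρadd _ _ (hz i (Finset.mem_insert_self i s))
          (Valuation.map_sum_le _ (fun j hj => hz j (Finset.mem_insert_of_mem hj))),
        ih (fun j hj => hz j (Finset.mem_insert_of_mem hj))]
  have hH : ∀ n ∈ W4c6gradedringsgw.poleOrders P,
      ∃ f ∈ L (Finsupp.single P (n : ℤ) : Divisor k K), ρ (f * π ^ n) = 1 := by
    intro n hn
    have hn' : ell (Finsupp.single P (n : ℤ) : Divisor k K) =
        ell (Finsupp.single P ((n : ℤ) - 1) : Divisor k K) + 1 := by
      have h1 : ell ((n : ℤ) • (Finsupp.single P 1 : Divisor k K)) =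
        ell (((n : ℤ) - 1) • (Finsupp.single P 1 : Divisor k K)) + 1 := hn
      rwa [Finsupp.smul_single, Finsupp.smul_single, smul_eq_mul, smul_eq_mul, mul_one,
        mul_one] at h1
    have hle : L (Finsupp.single P ((n : ℤ) - 1) : Divisor k K) ≤
        L (Finsupp.single P (n : ℤ) : Divisor k K) := L_mono (single_mono P (by linarith))
    have hlt : L (Finsupp.single P ((n : ℤ) - 1) : Divisor k K) <
        L (Finsupp.single P (n : ℤ) : Divisor k K) := by
      refine lt_of_le_of_ne hle (fun h => ?_)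
      have : ell (Finsupp.single P ((n : ℤ) - 1) : Divisor k K) =
          ell (Finsupp.single P (n : ℤ) : Divisor k K) := by unfold ell; rw [h]
      omega
    obtain ⟨f, hf, hfn⟩ := SetLike.exists_of_lt hlt
    have h1 := hint n f hf
    have h2 : ¬ P.1 (f * π ^ n) < 1 := fun hlt' => hfn (hstep n f hf hlt')
    have h3 : ρ (f * π ^ n) ≠ 0 := fun h => h2 ((hρker _ h1).1 h)
    refine ⟨(ρ (f * π ^ n))⁻¹ • f, Submodule.smul_mem _ _ hf, ?_⟩
    rw [Algebra.smul_def, mul_assoc, hρmul _ _ (P.2.1 _) h1, hρc, inv_mul_cancel₀ h3]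
  have hHmem : ∀ (n : ℕ) (f : K), f ∈ L (Finsupp.single P (n : ℤ) : Divisor k K) →
      ρ (f * π ^ n) ≠ 0 → n ∈ W4c6gradedringsgw.poleOrders P := by
    intro n f hf hne
    have hfn : f ∉ L (Finsupp.single P ((n : ℤ) - 1) : Divisor k K) := by
      intro h
      apply hne
      rw [hρker _ (hint n f hf)]
      have := h P
      rw [Finsupp.single_eq_same] at this
      rw [map_mul, hπn]
      calc P.1 f * WithZero.exp (-(n : ℤ)) ≤
            WithZero.exp ((n : ℤ) - 1) * WithZero.exp (-(n : ℤ)) := mul_le_mul' this le_rfl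
        _ = WithZero.exp (-1 : ℤ) := by rw [← WithZero.exp_add]; congr 1; ring
        _ < 1 := exp_neg_one_lt_one
    show ell ((n : ℤ) • (Finsupp.single P 1 : Divisor k K)) =
      ell (((n : ℤ) - 1) • (Finsupp.single P 1 : Divisor k K)) + 1
    rw [Finsupp.smul_single, Finsupp.smul_single, smul_eq_mul, smul_eq_mul, mul_one, mul_one]
    have hle := L_mono (single_mono P (show (n : ℤ) - 1 ≤ n by linarith))
    have hlt : L (Finsupp.single P ((n : ℤ) - 1) : Divisor k K) <
        L (Finsupp.single P (n : ℤ) : Divisor k K) :=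
      lt_of_le_of_ne hle (fun h => hfn (by rw [h]; exact hf))
    haveI := L_finite hK (Finsupp.single P (n : ℤ) : Divisor k K)
    have h1 := Submodule.finrank_lt_finrank_of_lt hlt
    have h2 := (L_step hK (Finsupp.single P ((n : ℤ) - 1) : Divisor k K) P (L_finite hK _)).2
    rw [← Finsupp.single_add, sub_add_cancel, hdP] at h2
    unfold ell
    omega

  obtain ⟨H, hHdef⟩ : ∃ H : Set ℕ, H = W4c6gradedringsgw.poleOrders P := ⟨_, rfl⟩
  obtain ⟨G, hGdef⟩ : ∃ G : Set ℕ, G = W4c6gradedringsgw.minGens H := ⟨_, rfl⟩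
  rw [← hHdef, ← hGdef]
  rw [← hHdef] at hH hHmem
  obtain ⟨I, hIdef⟩ : ∃ I : Ideal ↥(sR P),
      I = RingHom.ker (Polynomial.constantCoeff.comp (sR P).val.toRingHom) := ⟨_, rfl⟩
  rw [← hIdef]
  have hmemI : ∀ p : sR P, p ∈ I ↔ (p : K[X]).coeff 0 = 0 := by
    intro p
    rw [hIdef, RingHom.mem_ker]
    show constantCoeff (p : K[X]) = 0 ↔ _
    rw [constantCoeff_apply]
  have hellP : ell (Finsupp.single P (1 : ℤ) : Divisor k K) = 1 :=
    ell_single_eq_one hK (by omega) hdP
  have hconst1 : ∀ f : K, f ∈ L (Finsupp.single P (1 : ℤ) : Divisor k K) →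
      f ∈ Set.range (algebraMap k K) := fun f hf =>
    mem_range_of_mem_L_of_ell_eq_one (single_nonneg P zero_le_one) hellP hf
  have hconst0 : ∀ f : K, f ∈ L (Finsupp.single P (0 : ℤ) : Divisor k K) →
      f ∈ Set.range (algebraMap k K) := by
    intro f hf
    rw [Finsupp.single_zero] at hf
    exact mem_range_of_mem_L_of_ell_eq_one (le_refl 0) (ell_zero hK) hf
  -- facts on `H`
  have hH1 : (1 : ℕ) ∉ H := by
    intro h
    rw [hHdef] at h
    have h1 : ell (((1 : ℕ) : ℤ) • (Finsupp.single P 1 : Divisor k K)) =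
        ell ((((1 : ℕ) : ℤ) - 1) • (Finsupp.single P 1 : Divisor k K)) + 1 := h
    rw [Nat.cast_one, sub_self, zero_smul, one_smul, hellP, ell_zero hK] at h1
    omega
  have hHbig : ∀ n : ℕ, 2 * genus k K ≤ n → n ∈ H := by
    intro n hn
    rw [hHdef]
    show ell ((n : ℤ) • (Finsupp.single P 1 : Divisor k K)) =
      ell (((n : ℤ) - 1) • (Finsupp.single P 1 : Divisor k K)) + 1
    rw [Finsupp.smul_single, Finsupp.smul_single, smul_eq_mul, smul_eq_mul, mul_one, mul_one]
    have hn' : (2 : ℤ) * genus k K ≤ n := by exact_mod_cast hn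
    have h1 := ell_eq_of_deg_ge hK (Finsupp.single P (n : ℤ) : Divisor k K)
      (by rw [deg_single, hdP]; push_cast; linarith)
    have h2 := ell_eq_of_deg_ge hK (Finsupp.single P ((n : ℤ) - 1) : Divisor k K)
      (by rw [deg_single, hdP]; push_cast; linarith)
    rw [deg_single, hdP] at h1 h2
    push_cast at h1 h2
    have : (ell (Finsupp.single P (n : ℤ) : Divisor k K) : ℤ) =
        (ell (Finsupp.single P ((n : ℤ) - 1) : Divisor k K) : ℤ) + 1 := by linarith
    exact_mod_cast this
  have hHadd : ∀ a b : ℕ, a ∈ H → b ∈ H → a + b ∈ H := by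
    intro a b ha hb
    obtain ⟨f, hf, hf1⟩ := hH a ha
    obtain ⟨g, hg', hg1⟩ := hH b hb
    refine hHmem (a + b) (f * g) ?_ ?_
    · have := W4c6gradedringsgw.mul_mem_L hf hg'
      rwa [← Finsupp.single_add, ← Nat.cast_add] at this
    · have : f * g * π ^ (a + b) = (f * π ^ a) * (g * π ^ b) := by rw [pow_add]; ring
      rw [this, hρmul _ _ (hint a f hf) (hint b g hg'), hf1, hg1, one_mul]
      exact one_ne_zero
  have hGmem : ∀ h : ℕ, h ∈ G ↔ h ∈ H ∧ h ≠ 0 ∧ ∀ a ∈ H, ∀ b ∈ H, a ≠ 0 → b ≠ 0 → a + b ≠ h := by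
    intro h
    rw [hGdef]
    exact Iff.rfl
  have hGsub : G ⊆ (Finset.range (4 * genus k K) : Set ℕ) := by
    intro h hh
    rw [Finset.coe_range, Set.mem_Iio]
    by_contra hcon
    push Not at hcon
    obtain ⟨-, -, h3⟩ := (hGmem h).1 hh
    refine h3 (2 * genus k K) (hHbig _ le_rfl) (h - 2 * genus k K) (hHbig _ (by omega))
      (by omega) (by omega) (by omega)
  have hGfin : G.Finite := (Finset.finite_toSet _).subset hGsub
  have hG1 : (1 : ℕ) ∉ G := fun h => hH1 ((hGmem 1).1 h).1
  -- monomials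
  have hmono : ∀ (n : ℕ) (f : K), f ∈ L (Finsupp.single P (n : ℤ) : Divisor k K) →
      C f * X ^ n ∈ sR P := by
    intro n f hf m
    rw [coeff_C_mul_X_pow]
    split_ifs with h
    · rw [h, hsm]; exact hf
    · exact Submodule.zero_mem _
  have h1L : (1 : K) ∈ L (Finsupp.single P ((1 : ℕ) : ℤ) : Divisor k K) :=
    one_mem_L_of_nonneg (single_nonneg P (by norm_num))
  obtain ⟨t₀, ht₀⟩ : ∃ t₀ : sR P, (t₀ : K[X]) = C 1 * X ^ 1 := ⟨⟨_, hmono 1 1 h1L⟩, rfl⟩
  choose! fH hfH hfH1 using hH
  obtain ⟨F, hF⟩ : ∃ F : ℕ → sR P, ∀ h ∈ H, (F h : K[X]) = C (fH h) * X ^ h := by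
    refine ⟨fun h => if hh : h ∈ H then ⟨_, hmono h (fH h) (hfH h hh)⟩ else 0, fun h hh => ?_⟩
    beta_reduce
    rw [dif_pos hh]
  obtain ⟨J, hJ⟩ : ∃ J : Ideal ↥(sR P), J = Ideal.span (insert t₀ (F '' G)) := ⟨_, rfl⟩
  have ht₀J : t₀ ∈ J := by rw [hJ]; exact Ideal.subset_span (Set.mem_insert _ _)
  have hFJ : ∀ h ∈ G, F h ∈ J := by
    intro h hh
    rw [hJ]
    exact Ideal.subset_span (Set.mem_insert_of_mem _ (Set.mem_image_of_mem F hh))
  -- step B
  have hkey : ∀ n : ℕ, 1 ≤ n → ∀ (q : sR P) (f : K),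
      f ∈ L (Finsupp.single P (n : ℤ) : Divisor k K) → (q : K[X]) = C f * X ^ n → q ∈ J := by
    intro n
    induction n using Nat.strong_induction_on with
    | _ n ih =>
      intro hn q f hf hq
      have case1 : ∀ (q' : sR P) (f' : K), f' ∈ L (Finsupp.single P (n : ℤ) : Divisor k K) →
          (q' : K[X]) = C f' * X ^ n → ρ (f' * π ^ n) = 0 → q' ∈ J := by
        intro q' f' hf' hq' hρf'
        have h1 := hstep n f' hf' ((hρker _ (hint n f' hf')).1 hρf')
        have h2 : ((n : ℤ) - 1) = ((n - 1 : ℕ) : ℤ) := by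
          push_cast [hn]
          ring
        rw [h2] at h1
        have h3 : q' = ⟨_, hmono (n - 1) f' h1⟩ * t₀ := by
          apply Subtype.ext
          show (q' : K[X]) = (C f' * X ^ (n - 1)) * (t₀ : K[X])
          rw [hq', ht₀, C_1, one_mul, pow_one, mul_assoc, ← pow_succ, Nat.sub_add_cancel hn]
        rw [h3]
        exact J.mul_mem_left _ ht₀J
      by_cases hρf : ρ (f * π ^ n) = 0
      · exact case1 q f hf hq hρf
      · have hnH : n ∈ H := hHmem n f hf hρf
        have hex : ∃ (g : K) (qg : sR P), g ∈ L (Finsupp.single P (n : ℤ) : Divisor k K) ∧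
            ρ (g * π ^ n) = 1 ∧ (qg : K[X]) = C g * X ^ n ∧ qg ∈ J := by
          by_cases hnG : n ∈ G
          · exact ⟨fH n, F n, hfH n hnH, hfH1 n hnH, hF n hnH, hFJ n hnG⟩
          · rw [hGmem] at hnG
            push Not at hnG
            obtain ⟨a, haH, b, hbH, ha0, hb0, hab⟩ := hnG hnH (by omega)
            have h1 := ih a (by omega) (by omega) (F a) (fH a) (hfH a haH) (hF a haH)
            refine ⟨fH a * fH b, F a * F b, ?_, ?_, ?_, J.mul_mem_right _ h1⟩
            · have := W4c6gradedringsgw.mul_mem_L (hfH a haH) (hfH b hbH)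
              rwa [← Finsupp.single_add, ← Nat.cast_add, hab] at this
            · have : fH a * fH b * π ^ n = (fH a * π ^ a) * (fH b * π ^ b) := by
                rw [← hab, pow_add]; ring
              rw [this, hρmul _ _ (hint a _ (hfH a haH)) (hint b _ (hfH b hbH)), hfH1 a haH,
                hfH1 b hbH, one_mul]
            · show (F a : K[X]) * (F b : K[X]) = _
              rw [hF a haH, hF b hbH, ← hab, pow_add, C_mul]
              ring
        obtain ⟨g, qg, hgL, hg1, hqg, hqgJ⟩ := hex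
        obtain ⟨c, hcdef⟩ : ∃ c : k, c = ρ (f * π ^ n) := ⟨_, rfl⟩
        have hdiffL : f - c • g ∈ L (Finsupp.single P (n : ℤ) : Divisor k K) :=
          Submodule.sub_mem _ hf (Submodule.smul_mem _ _ hgL)
        have hρdiff : ρ ((f - c • g) * π ^ n) = 0 := by
          have h1 := hρadd ((f - c • g) * π ^ n) ((c • g) * π ^ n)
            (hint n _ hdiffL) (hint n _ (Submodule.smul_mem _ _ hgL))
          have h2 : (f - c • g) * π ^ n + (c • g) * π ^ n = f * π ^ n := by ring
          have h3 : ρ ((c • g) * π ^ n) = c := by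
            rw [Algebra.smul_def, mul_assoc, hρmul _ _ (P.2.1 _) (hint n g hgL), hρc, hg1,
              mul_one]
          rw [h2, h3, ← hcdef] at h1
          have : ρ ((f - c • g) * π ^ n) + c = 0 + c := by rw [← h1, zero_add]
          exact add_right_cancel this
        have h4 := case1 (q - c • qg) (f - c • g) hdiffL (by
          show (q : K[X]) - c • (qg : K[X]) = _
          rw [hq, hqg, Algebra.smul_def, Algebra.smul_def, Polynomial.algebraMap_apply, C_sub,
            C_mul]
          ring) hρdiff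
        have h5 : q = (q - c • qg) + c • qg := by ring
        rw [h5]
        refine J.add_mem h4 ?_
        rw [Algebra.smul_def]
        exact J.mul_mem_left _ hqgJ
  have hIJ : I ≤ J := by
    intro p hp
    rw [hmemI] at hp
    have hsumJ : ∀ (s : Finset ℕ), (∀ n ∈ s, n ≠ 0) → ∀ q : sR P,
        (q : K[X]) = ∑ n ∈ s, C ((p : K[X]).coeff n) * X ^ n → q ∈ J := by
      intro s
      induction s using Finset.induction_on with
      | empty =>
        intro _ q hq
        rw [Finset.sum_empty] at hq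
        have : q = 0 := Subtype.ext hq
        rw [this]
        exact J.zero_mem
      | insert n s hn ih =>
        intro hs q hq
        rw [Finset.sum_insert hn] at hq
        have hn0 := hs n (Finset.mem_insert_self n s)
        have h1 : (⟨_, hmono n _ (hmemR p n)⟩ : sR P) ∈ J :=
          hkey n (by omega) _ _ (hmemR p n) rfl
        have h2 : q - ⟨_, hmono n _ (hmemR p n)⟩ ∈ J :=
          ih (fun m hm => hs m (Finset.mem_insert_of_mem hm)) _ (by
            show (q : K[X]) - C ((p : K[X]).coeff n) * X ^ n = _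
            rw [hq]; ring)
        have h3 : q = ⟨_, hmono n _ (hmemR p n)⟩ + (q - ⟨_, hmono n _ (hmemR p n)⟩) := by ring
        rw [h3]
        exact J.add_mem h1 h2
    refine hsumJ (p : K[X]).support (fun n hn h => ?_) p (p : K[X]).as_sum_support_C_mul_X_pow
    rw [h] at hn
    exact (mem_support_iff.1 hn) hp
  have hJI : J ≤ I := by
    rw [hJ, Ideal.span_le]
    intro x hx
    rcases Set.mem_insert_iff.1 hx with rfl | ⟨h, hh, rfl⟩
    · show x ∈ I
      rw [hmemI, ht₀, coeff_C_mul_X_pow, if_neg (by norm_num)]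
    · show F h ∈ I
      have hhH := ((hGmem h).1 hh).1
      have hh0 := ((hGmem h).1 hh).2.1
      rw [hmemI, hF h hhH, coeff_C_mul_X_pow, if_neg (fun h' => hh0 h'.symm)]
  have hIeq : I = J := le_antisymm hIJ hJI
  -- step C
  obtain ⟨Gx, hGx⟩ : ∃ Gx : Finset ℕ, Gx = insert 1 hGfin.toFinset := ⟨_, rfl⟩
  have hGxmem : ∀ n : ℕ, n ∈ Gx ↔ n = 1 ∨ n ∈ G := by
    intro n
    rw [hGx, Finset.mem_insert, Set.Finite.mem_toFinset]
  have hGxcard : Gx.card = G.ncard + 1 := by
    rw [hGx, Finset.card_insert_of_notMem (by rw [Set.Finite.mem_toFinset]; exact hG1),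
      Set.ncard_eq_toFinset_card G hGfin]
  have hcoeff1 : ∀ p : sR P, P.1 ((p : K[X]).coeff 1) ≤ 1 := by
    intro p
    have h1 := hmemR p 1
    rw [Nat.cast_one] at h1
    obtain ⟨c, hc⟩ := hconst1 _ h1
    rw [← hc]
    exact P.2.1 c
  let Φ : ↥(sR P) →ₗ[k] (↥Gx → k) :=
    { toFun := fun p n => if (n : ℕ) = 1 then ρ ((p : K[X]).coeff 1)
        else ρ ((p : K[X]).coeff n * π ^ (n : ℕ))
      map_add' := by
        intro p q
        funext n
        show (if (n : ℕ) = 1 then ρ (((p : K[X]) + (q : K[X])).coeff 1)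
          else ρ (((p : K[X]) + (q : K[X])).coeff n * π ^ (n : ℕ))) =
          (if (n : ℕ) = 1 then ρ ((p : K[X]).coeff 1) else ρ ((p : K[X]).coeff n * π ^ (n : ℕ))) +
          (if (n : ℕ) = 1 then ρ ((q : K[X]).coeff 1) else ρ ((q : K[X]).coeff n * π ^ (n : ℕ)))
        split_ifs with h
        · rw [coeff_add, hρadd _ _ (hcoeff1 p) (hcoeff1 q)]
        · rw [coeff_add, add_mul, hρadd _ _ (hint _ _ (hmemR p n)) (hint _ _ (hmemR q n))]
      map_smul' := by
        intro c p
        funext n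
        show (if (n : ℕ) = 1 then ρ ((c • (p : K[X])).coeff 1)
          else ρ ((c • (p : K[X])).coeff n * π ^ (n : ℕ))) =
          c • (if (n : ℕ) = 1 then ρ ((p : K[X]).coeff 1)
            else ρ ((p : K[X]).coeff n * π ^ (n : ℕ)))
        split_ifs with h
        · rw [coeff_smul, Algebra.smul_def, hρmul _ _ (P.2.1 c) (hcoeff1 p), hρc, smul_eq_mul]
        · rw [coeff_smul, Algebra.smul_def, mul_assoc,
            hρmul _ _ (P.2.1 c) (hint _ _ (hmemR p n)), hρc, smul_eq_mul] }
  have hΦ1 : ∀ (p : sR P) (n : Gx), (n : ℕ) = 1 → Φ p n = ρ ((p : K[X]).coeff 1) :=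
    fun p n h => if_pos h
  have hΦn : ∀ (p : sR P) (n : Gx), (n : ℕ) ≠ 1 →
      Φ p n = ρ ((p : K[X]).coeff n * π ^ (n : ℕ)) := fun p n h => if_neg h
  have hcoeff0 : ∀ r : sR P, P.1 ((r : K[X]).coeff 0) ≤ 1 := by
    intro r
    have h1 := hmemR r 0
    rw [Nat.cast_zero] at h1
    obtain ⟨c, hc⟩ := hconst0 _ h1
    rw [← hc]
    exact P.2.1 c
  have hΦmul : ∀ r s : sR P, s ∈ I → Φ (r * s) = ρ ((r : K[X]).coeff 0) • Φ s := by
    intro r s hs
    rw [hmemI] at hs
    funext n
    rw [Pi.smul_apply, smul_eq_mul]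
    by_cases hn1 : (n : ℕ) = 1
    · rw [hΦ1 _ n hn1, hΦ1 _ n hn1]
      show ρ (((r : K[X]) * (s : K[X])).coeff 1) = _
      rw [mul_coeff_one, hs, mul_zero, add_zero, hρmul _ _ (hcoeff0 r) (hcoeff1 s)]
    · rw [hΦn _ n hn1, hΦn _ n hn1]
      show ρ (((r : K[X]) * (s : K[X])).coeff n * π ^ (n : ℕ)) = _
      have hnG : (n : ℕ) ∈ G := by
        rcases (hGxmem n).1 n.2 with h | h
        · exact absurd h hn1
        · exact h
      rw [coeff_mul, Finset.sum_mul]
      have hterm : ∀ x ∈ Finset.HasAntidiagonal.antidiagonal (n : ℕ),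
          (r : K[X]).coeff x.1 * (s : K[X]).coeff x.2 * π ^ (n : ℕ) =
            ((r : K[X]).coeff x.1 * π ^ x.1) * ((s : K[X]).coeff x.2 * π ^ x.2) := by
        intro x hx
        rw [← Finset.HasAntidiagonal.mem_antidiagonal.1 hx, pow_add]
        ring
      rw [Finset.sum_congr rfl hterm, hρsum]
      · have hsum2 : ∀ x ∈ Finset.HasAntidiagonal.antidiagonal (n : ℕ),
            ρ (((r : K[X]).coeff x.1 * π ^ x.1) * ((s : K[X]).coeff x.2 * π ^ x.2)) =
            ρ ((r : K[X]).coeff x.1 * π ^ x.1) * ρ ((s : K[X]).coeff x.2 * π ^ x.2) :=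
          fun x _ => hρmul _ _ (hint _ _ (hmemR r x.1)) (hint _ _ (hmemR s x.2))
        rw [Finset.sum_congr rfl hsum2, Finset.sum_eq_single ((0 : ℕ), (n : ℕ))]
        · rw [pow_zero, mul_one]
        · intro x hx hne
          have hxn : x.1 + x.2 = (n : ℕ) := Finset.HasAntidiagonal.mem_antidiagonal.1 hx
          by_contra hprod
          have h1 : ρ ((r : K[X]).coeff x.1 * π ^ x.1) ≠ 0 := left_ne_zero_of_mul hprod
          have h2 : ρ ((s : K[X]).coeff x.2 * π ^ x.2) ≠ 0 := right_ne_zero_of_mul hprod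
          have hx2 : x.2 ≠ 0 := by
            intro h
            rw [h, hs, zero_mul, hρ0] at h2
            exact h2 rfl
          have hx1 : x.1 ≠ 0 := by
            intro h
            apply hne
            apply Prod.ext
            · exact h
            · show x.2 = (n : ℕ)
              omega
          exact ((hGmem n).1 hnG).2.2 x.1 (hHmem _ _ (hmemR r x.1) h1) x.2
            (hHmem _ _ (hmemR s x.2) h2) hx1 hx2 hxn
        · intro h
          exact absurd (Finset.HasAntidiagonal.mem_antidiagonal.2 (zero_add _)) h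
      · intro x _
        rw [map_mul]
        exact mul_le_one' (hint _ _ (hmemR r x.1)) (hint _ _ (hmemR s x.2))
  -- generators map to the standard basis
  obtain ⟨gen, hgen⟩ : ∃ gen : Gx → sR P, ∀ n : Gx,
      gen n = if (n : ℕ) = 1 then t₀ else F n := ⟨_, fun _ => rfl⟩
  have hgenI : ∀ n : Gx, gen n ∈ I := by
    intro n
    rw [hgen, hIeq]
    split_ifs with h
    · exact ht₀J
    · rcases (hGxmem n).1 n.2 with h' | h'
      · exact absurd h' h
      · exact hFJ _ h'
  have hΦgen : ∀ n m : Gx, Φ (gen n) m = if m = n then 1 else 0 := by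
    intro n m
    rw [hgen]
    by_cases hn1 : (n : ℕ) = 1
    · rw [if_pos hn1]
      by_cases hm1 : (m : ℕ) = 1
      · rw [hΦ1 _ m hm1, ht₀, coeff_C_mul_X_pow, if_pos rfl, if_pos (Subtype.ext (by rw [hm1, hn1])),
          ← map_one (algebraMap k K), hρc]
      · rw [hΦn _ m hm1, ht₀, coeff_C_mul_X_pow, if_neg hm1, zero_mul, hρ0,
          if_neg (fun h => hm1 (by rw [h, hn1]))]
    · rw [if_neg hn1]
      have hnG : (n : ℕ) ∈ G := by
        rcases (hGxmem n).1 n.2 with h | h
        · exact absurd h hn1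
        · exact h
      have hnH := ((hGmem n).1 hnG).1
      by_cases hm1 : (m : ℕ) = 1
      · rw [hΦ1 _ m hm1, hF _ hnH, coeff_C_mul_X_pow, if_neg (fun h => hn1 h.symm), hρ0,
          if_neg (fun h => hn1 (by rw [← h, hm1]))]
      · rw [hΦn _ m hm1, hF _ hnH, coeff_C_mul_X_pow]
        by_cases hmn : m = n
        · rw [if_pos (by rw [hmn]), if_pos hmn, hmn, hfH1 _ hnH]
        · rw [if_neg (fun h => hmn (Subtype.ext h)), if_neg hmn, zero_mul, hρ0]
  have hΦsurj : ∀ v : ↥Gx → k, ∃ p ∈ I, Φ p = v := by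
    intro v
    refine ⟨∑ n : Gx, v n • gen n, I.sum_mem (fun n _ => ?_), ?_⟩
    · rw [Algebra.smul_def]
      exact I.mul_mem_left _ (hgenI n)
    · rw [map_sum]
      funext m
      rw [Finset.sum_apply]
      simp only [map_smul, Pi.smul_apply, hΦgen, smul_eq_mul, mul_ite, mul_one, mul_zero]
      rw [Finset.sum_ite_eq Finset.univ m (fun n => v n), if_pos (Finset.mem_univ _)]
  -- conclusion
  apply le_antisymm
  · rw [hIeq, hJ]
    have hfin : (insert t₀ (F '' G)).Finite := (hGfin.image F).insert t₀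
    refine (Submodule.spanFinrank_span_le_ncard_of_finite hfin).trans ?_
    exact (Set.ncard_insert_le _ _).trans (Nat.add_le_add_right (Set.ncard_image_le hGfin) 1)
  · have hIfg : I.FG := by
      rw [hIeq, hJ]
      exact ⟨((hGfin.image F).insert t₀).toFinset, by rw [Set.Finite.coe_toFinset]⟩
    obtain ⟨S, hScard, hSspan⟩ := Submodule.FG.exists_span_finset_card_eq_spanFinrank hIfg
    rw [← hScard, ← hGxcard]
    have hW : ∀ p ∈ I, Φ p ∈ Submodule.span k ((S.image Φ : Finset (↥Gx → k)) : Set (↥Gx → k)) := by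
      intro p hp
      rw [← hSspan] at hp
      refine Submodule.span_induction
        (p := fun x _ => Φ x ∈ Submodule.span k ((S.image Φ : Finset (↥Gx → k)) : Set (↥Gx → k)))
        ?_ ?_ ?_ ?_ hp
      · intro x hx
        exact Submodule.subset_span (Finset.mem_coe.2 (Finset.mem_image_of_mem Φ hx))
      · rw [map_zero]; exact Submodule.zero_mem _
      · intro x y _ _ hx hy
        rw [map_add]; exact Submodule.add_mem _ hx hy
      · intro r x hx hΦx
        have hxI : x ∈ I := by rw [← hSspan]; exact hx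
        rw [smul_eq_mul, hΦmul r x hxI]
        exact Submodule.smul_mem _ _ hΦx
    have htop : Submodule.span k ((S.image Φ : Finset (↥Gx → k)) : Set (↥Gx → k)) = ⊤ := by
      rw [eq_top_iff]
      intro v _
      obtain ⟨p, hp, rfl⟩ := hΦsurj v
      exact hW p hp
    have h1 := finrank_span_finset_le_card (R := k) (S.image Φ)
    rw [Set.finrank, htop, finrank_top, Module.finrank_fintype_fun_eq_card, Fintype.card_coe] at h1
    exact h1.trans Finset.card_image_le

end Groth.Agent.Helper17.FF
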