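import Mathlib
import Groth.Agent.Lib.Helper17.FFGeom
import Groth.Agent.Lib.Helper17.FFConst
import Groth.Agent.Lib.Helper17.FFW2
namespace Groth.Agent.Helper17.FF

universe u v w

open FunFld Polynomial Module
open scoped TensorProduct

section G1

/-- if `k` is algebraically closed in `K` and `ℓ/k` is finite separable then `ℓ ⊗ K` is a field -/
theorem isField_tensor_of_isSeparable {k : Type u} {K : Type v} {ℓ : Type w} [Field k] [Field K]
    [Field ℓ] [Algebra k K] [Algebra k ℓ] [FiniteDimensional k ℓ] [Algebra.IsSeparable k ℓ]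
    (hcl : ∀ y : K, IsAlgebraic k y → y ∈ Set.range (algebraMap k K)) : IsField (ℓ ⊗[k] K) := by
  obtain ⟨α, hα⟩ := Field.exists_primitive_element k ℓ
  have hint : IsIntegral k α := IsIntegral.of_finite k α
  have hfirr : Irreducible (minpoly k α) := minpoly.irreducible hint
  have hfm : (minpoly k α).Monic := minpoly.monic hint
  have hF := irreducible_map_of_algClosedIn hcl hfirr hfm
  haveI : Fact (Irreducible ((minpoly k α).map (algebraMap k K))) := ⟨hF⟩
  let e₁ : AdjoinRoot (minpoly k α) ≃ₐ[k] ℓ :=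
    (IntermediateField.adjoinRootEquivAdjoin k hint).trans
      ((IntermediateField.equivOfEq hα).trans IntermediateField.topEquiv)
  let e₂ : ℓ ⊗[k] K ≃ₐ[k] K ⊗[k] ℓ := Algebra.TensorProduct.comm k ℓ K
  let e₃ : K ⊗[k] ℓ ≃ₐ[k] K ⊗[k] AdjoinRoot (minpoly k α) :=
    Algebra.TensorProduct.congr AlgEquiv.refl e₁.symm
  let q : (K ⊗[k] k)[X] :=
    (minpoly k α).map (Algebra.TensorProduct.includeRight : k →ₐ[k] K ⊗[k] k).toRingHom
  let e₄ : K ⊗[k] AdjoinRoot (minpoly k α) ≃ₐ[K] AdjoinRoot q :=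
    AdjoinRoot.tensorAlgEquiv (minpoly k α) q rfl
  let e₅ : AdjoinRoot q ≃+* AdjoinRoot ((minpoly k α).map (algebraMap k K)) :=
    AdjoinRoot.mapRingEquiv (Algebra.TensorProduct.rid k k K).toRingEquiv q _ (by
      have : (q.map ((Algebra.TensorProduct.rid k k K).toRingEquiv : K ⊗[k] k →+* K)) =
          (minpoly k α).map (algebraMap k K) := by
        show ((minpoly k α).map _).map _ = _
        rw [Polynomial.map_map]
        congr 1
        ext c
        simp [Algebra.algebraMap_eq_smul_one]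
      rw [this])
  let E : ℓ ⊗[k] K ≃+* AdjoinRoot ((minpoly k α).map (algebraMap k K)) :=
    (e₂.toRingEquiv.trans e₃.toRingEquiv).trans (e₄.toRingEquiv.trans e₅)
  exact E.toMulEquiv.isField (Field.toIsField _)

end G1

section G2

/-- if `k` is algebraically closed in `K` and `ℓ ⊗ K` is reduced then `ℓ ⊗ K` is a field -/
theorem isField_tensor_of_isReduced {k : Type u} {K : Type v} {ℓ : Type w} [Field k] [Field K]
    [Field ℓ] [Algebra k K] [Algebra k ℓ] [FiniteDimensional k ℓ]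
    (hcl : ∀ y : K, IsAlgebraic k y → y ∈ Set.range (algebraMap k K))
    (hred : IsReduced (ℓ ⊗[k] K)) : IsField (ℓ ⊗[k] K) := by
  classical
  haveI : Algebra.IsAlgebraic k ℓ := Algebra.IsAlgebraic.of_finite k ℓ
  set ℓs := separableClosure k ℓ with hℓs
  haveI : IsPurelyInseparable ℓs ℓ := separableClosure.isPurelyInseparable k ℓ
  have hfs : IsField (ℓs ⊗[k] K) := isField_tensor_of_isSeparable hcl
  let ι : ℓs ⊗[k] K →ₐ[k] ℓ ⊗[k] K := Algebra.TensorProduct.map ℓs.val (AlgHom.id k K)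
  set q := ringExpChar k with hq
  haveI : ExpChar k q := ringExpChar.expChar k
  haveI : ExpChar ℓs q := expChar_of_injective_algebraMap (algebraMap k ℓs).injective q
  haveI : Nontrivial (ℓ ⊗[k] K) := inferInstance
  haveI : ExpChar (ℓ ⊗[k] K) q :=
    expChar_of_injective_algebraMap (algebraMap k (ℓ ⊗[k] K)).injective q
  have hq0 : ∀ n : ℕ, q ^ n ≠ 0 := fun n => pow_ne_zero n (expChar_pos k q).ne'
  have hpow : ∀ z : ℓ ⊗[k] K, ∃ n : ℕ, z ^ q ^ n ∈ ι.range := by
    intro z
    induction z using TensorProduct.induction_on with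
    | zero => exact ⟨0, by rw [zero_pow (hq0 0)]; exact zero_mem _⟩
    | tmul a y =>
      obtain ⟨n, b, hb⟩ := IsPurelyInseparable.pow_mem ℓs q a
      refine ⟨n, b ⊗ₜ[k] (y ^ q ^ n), ?_⟩
      rw [Algebra.TensorProduct.tmul_pow]
      show (ℓs.val b) ⊗ₜ[k] (y ^ q ^ n) = _
      rw [← hb]
      rfl
    | add z₁ z₂ h₁ h₂ =>
      obtain ⟨n₁, h₁⟩ := h₁
      obtain ⟨n₂, h₂⟩ := h₂
      refine ⟨n₁ + n₂, ?_⟩
      rw [add_pow_expChar_pow]
      refine add_mem ?_ ?_
      · rw [pow_add, pow_mul]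
        exact pow_mem h₁ _
      · rw [add_comm n₁ n₂, pow_add, pow_mul]
        exact pow_mem h₂ _
  refine ⟨exists_pair_ne _, mul_comm, ?_⟩
  intro z hz
  obtain ⟨n, w, hw⟩ := hpow z
  replace hw : ι w = z ^ q ^ n := hw
  have hzn : z ^ q ^ n ≠ 0 := pow_ne_zero _ hz
  have hw0 : w ≠ 0 := by
    rintro rfl
    rw [map_zero] at hw
    exact hzn hw.symm
  obtain ⟨w', hw'⟩ := hfs.mul_inv_cancel hw0
  have hunit : IsUnit (z ^ q ^ n) := by
    rw [← hw]
    refine IsUnit.of_mul_eq_one (ι w') ?_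
    show ι w * ι w' = 1
    have h1 := congrArg ι hw'
    rw [map_mul] at h1
    rw [h1]
    exact ι.toRingHom.map_one
  have hzu : IsUnit z := (isUnit_pow_iff (hq0 n)).1 hunit
  obtain ⟨u, hu⟩ := hzu
  exact ⟨↑u⁻¹, by rw [← hu]; exact u.mul_inv⟩

end G2

section G3

theorem isReduced_tensor_of_separable_ext {k k' ℓ : Type u} {K K' : Type v}
    [Field k] [Field k'] [Field ℓ] [Field K] [Field K']
    [Algebra k k'] [Algebra k K] [Algebra K K'] [Algebra k' K'] [Algebra k K']
    [IsScalarTower k k' K'] [IsScalarTower k K K'] [FiniteDimensional K K']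
    [Algebra.IsSeparable K K'] [Algebra k' ℓ] [Algebra k ℓ] [IsScalarTower k k' ℓ]
    [FiniteDimensional k ℓ] (hg : IsGeometric k K) : IsReduced (ℓ ⊗[k'] K') := by
  have hfield : IsField (ℓ ⊗[k] K) := hg ℓ inferInstance
  have hfield' : IsField (K ⊗[k] ℓ) :=
    (Algebra.TensorProduct.comm k K ℓ).toMulEquiv.isField hfield
  letI := hfield'.toField
  haveI : Algebra.FormallyUnramified K K' := Algebra.FormallyUnramified.of_isSeparable K K'
  haveI : IsReduced ((K ⊗[k] ℓ) ⊗[K] K') :=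
    Algebra.FormallyUnramified.isReduced_of_field (K ⊗[k] ℓ) ((K ⊗[k] ℓ) ⊗[K] K')
  let e1 : (K ⊗[k] ℓ) ⊗[K] K' ≃ₐ[K] K' ⊗[K] (K ⊗[k] ℓ) := Algebra.TensorProduct.comm K _ _
  let e2 : K' ⊗[K] (K ⊗[k] ℓ) ≃ₐ[K'] K' ⊗[k] ℓ :=
    Algebra.TensorProduct.cancelBaseChange k K K' K' ℓ
  let e : (K ⊗[k] ℓ) ⊗[K] K' ≃+* K' ⊗[k] ℓ := e1.toRingEquiv.trans e2.toRingEquiv
  haveI : IsReduced (K' ⊗[k] ℓ) := isReduced_of_injective e.symm.toRingHom e.symm.injective
  haveI : IsArtinianRing (K' ⊗[k] ℓ) := IsArtinianRing.of_finite K' (K' ⊗[k] ℓ)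
  haveI : IsSemisimpleRing (K' ⊗[k] ℓ) := IsArtinianRing.isSemisimpleRing_of_isReduced _
  let π : K' ⊗[k] ℓ →+* ℓ ⊗[k'] K' :=
    (Algebra.TensorProduct.mapOfCompatibleSMul k' k k ℓ K').toRingHom.comp
      (Algebra.TensorProduct.comm k K' ℓ).toRingEquiv.toRingHom
  have hπ : Function.Surjective π := by
    have h1 := Algebra.TensorProduct.mapOfCompatibleSMul_surjective k' k k ℓ K'
    exact h1.comp (Algebra.TensorProduct.comm k K' ℓ).surjective
  haveI : IsSemisimpleRing (ℓ ⊗[k'] K') := RingHom.isSemisimpleRing_of_surjective π hπ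
  infer_instance

end G3

section G4

variable {k k' : Type u} {K K' : Type v}
    [Field k] [Field k'] [Field K] [Field K']
    [Algebra k k'] [Algebra k K] [Algebra K K'] [Algebra k' K'] [Algebra k K']
    [IsScalarTower k k' K'] [IsScalarTower k K K'] [FiniteDimensional K K']

theorem isAlgebraic_const_of_ext (hK : IsFunctionField k K) (hK' : IsFunctionField k' K') :
    Algebra.IsAlgebraic k k' := by
  haveI : Algebra.IsAlgebraic K K' := Algebra.IsAlgebraic.of_finite K K'
  have h1 := lift_trdeg_add_eq k k' K'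
  have h2 := trdeg_add_eq k K (A := K')
  rw [trdeg_eq_zero (R := K) (A := K'), add_zero] at h2
  have h3 : Algebra.trdeg k K' ≤ 1 := by
    rw [← h2]; exact trdeg_le_one_of_isFunctionField hK
  obtain ⟨⟨x, hx, -⟩, -⟩ := id hK'
  haveI : Algebra.Transcendental k' K' := ⟨⟨x, hx⟩⟩
  have h4 : Algebra.trdeg k' K' ≠ 0 := (trdeg_pos k' K').ne'
  rw [← trdeg_eq_zero_iff]
  by_contra hne
  have h5 : 1 ≤ Cardinal.lift.{v} (Algebra.trdeg k k') :=
    Cardinal.one_le_iff_ne_zero.2 (fun h => hne (Cardinal.lift_eq_zero.1 h))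
  have h5' : 1 ≤ Cardinal.lift.{u} (Algebra.trdeg k' K') :=
    Cardinal.one_le_iff_ne_zero.2 (fun h => h4 (Cardinal.lift_eq_zero.1 h))
  have h6 : (1 : Cardinal) + 1 ≤ Cardinal.lift.{v} (Algebra.trdeg k k') +
      Cardinal.lift.{u} (Algebra.trdeg k' K') := add_le_add h5 h5'
  rw [h1] at h6
  have h7 : Cardinal.lift.{u} (Algebra.trdeg k K') ≤ 1 := Cardinal.lift_le_one_iff.2 h3
  have h8 := h6.trans h7
  have h9 : ((2 : ℕ) : Cardinal) ≤ ((1 : ℕ) : Cardinal) := by
    push_cast
    rw [← one_add_one_eq_two]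
    exact h8
  have h10 : (2 : ℕ) ≤ 1 := by exact_mod_cast h9
  omega

theorem finite_const_of_ext (hK : IsFunctionField k K) (hK' : IsFunctionField k' K') :
    FiniteDimensional k k' := by
  haveI := isAlgebraic_const_of_ext (K := K) (K' := K') hK hK'
  haveI := finite_algebraicClosure (K' := K') hK
  let f : k' →ₐ[k] algebraicClosure k K' :=
    (IsScalarTower.toAlgHom k k' K').codRestrict (algebraicClosure k K').toSubalgebra (fun c => by
      show algebraMap k' K' c ∈ algebraicClosure k K'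
      rw [mem_algebraicClosure_iff]
      exact (Algebra.IsAlgebraic.isAlgebraic c).algebraMap)
  exact Module.Finite.of_injective f.toLinearMap f.injective

end G4

section G5

theorem isGeometric_of_separable_ext {k k' : Type u} {K K' : Type v}
    [Field k] [Field k'] [Field K] [Field K']
    [Algebra k k'] [Algebra k K] [Algebra K K'] [Algebra k' K'] [Algebra k K']
    [IsScalarTower k k' K'] [IsScalarTower k K K'] [FiniteDimensional K K']
    [Algebra.IsSeparable K K']
    (hK : IsFunctionField k K) (hg : IsGeometric k K) (hK' : IsFunctionField k' K') :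
    IsGeometric k' K' := by
  intro ℓ _ _ hfin
  haveI := finite_const_of_ext (K := K) (K' := K') hK hK'
  letI : Algebra k ℓ := ((algebraMap k' ℓ).comp (algebraMap k k')).toAlgebra
  haveI : IsScalarTower k k' ℓ := IsScalarTower.of_algebraMap_eq (fun _ => rfl)
  haveI : FiniteDimensional k ℓ := FiniteDimensional.trans k k' ℓ
  have hred : IsReduced (ℓ ⊗[k'] K') := isReduced_tensor_of_separable_ext (k := k) (K := K) hg
  exact isField_tensor_of_isReduced hK'.2 hred

end G5

end Groth.Agent.Helper17.FF
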