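import Mathlib
import Groth.Agent.Lib.Helper17.FFUR2
import Groth.Agent.Lib.Helper17.FF22
import Groth.Agent.Lib.Helper17.FFSub
import Groth.Agent.Lib.Helper17.FFGeom
import Groth.Agent.Lib.Helper17.FFSep
namespace Groth.Agent.Helper17.FF

universe u v w

open FunFld Polynomial Module IntermediateField

section GenUnif

variable {k : Type u} {K : Type v} [Field k] [Field K] [Algebra k K]

/-- a polynomial in `x` not vanishing at the value of `x` is a unit -/
lemma val_aeval_eq_one_of_eval_ne_zero (P : Place k K) {x : K} {c : k}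
    (hc : P.1 (x - algebraMap k K c) < 1) (r : k[X]) (hr : r.eval c ≠ 0) :
    P.1 (aeval x r) = 1 := by
  obtain ⟨q, hq⟩ := Polynomial.X_sub_C_dvd_sub_C_eval (p := r) (a := c)
  have h1 : aeval x r = algebraMap k K (r.eval c) + (x - algebraMap k K c) * aeval x q := by
    have := congrArg (aeval x) hq
    simp only [map_sub, aeval_C, map_mul, aeval_X] at this
    rw [← this]; ring
  have hx1 : P.1 x ≤ 1 := by
    have : x = (x - algebraMap k K c) + algebraMap k K c := by ring
    rw [this]
    exact (P.1.map_add _ _).trans (max_le hc.le (P.2.1 c))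
  have hq1 : P.1 (aeval x q) ≤ 1 := by
    rw [aeval_eq_sum_range]
    apply Valuation.map_sum_le
    intro i _
    rw [Algebra.smul_def, map_mul, map_pow]
    exact mul_le_one' (P.2.1 _) (pow_le_one' hx1 i)
  have h2 : P.1 ((x - algebraMap k K c) * aeval x q) < 1 := by
    rw [map_mul]
    exact lt_of_le_of_lt (mul_le_of_le_one_right' hq1) hc
  rw [h1, Valuation.map_add_eq_of_lt_left _ (by rw [val_const_eq_one P hr]; exact h2),
    val_const_eq_one P hr]

/-- the value group of `k(x)` at a finite place is generated by the value of `x - c` -/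
lemma val_mem_zpowers_of_mem_adjoin (P : Place k K) {x : K} {c : k}
    (hc : P.1 (x - algebraMap k K c) < 1) (hxc : x - algebraMap k K c ≠ 0) {w : K}
    (hw : w ∈ IntermediateField.adjoin k ({x} : Set K)) (hw0 : w ≠ 0) :
    ∃ m : ℤ, P.1 w = P.1 (x - algebraMap k K c) ^ m := by
  have key : ∀ r : k[X], aeval x r ≠ 0 → ∃ a : ℕ,
      P.1 (aeval x r) = P.1 (x - algebraMap k K c) ^ a := by
    intro r hr
    have hr0 : r ≠ 0 := fun h => hr (by rw [h, map_zero])
    obtain ⟨q, hq, hndvd⟩ := r.exists_eq_pow_rootMultiplicity_mul_and_not_dvd hr0 c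
    refine ⟨r.rootMultiplicity c, ?_⟩
    have hq' : q.eval c ≠ 0 := by
      intro h
      exact hndvd (Polynomial.dvd_iff_isRoot.2 h)
    have h1 := congrArg (aeval x) hq
    simp only [map_mul, map_pow, map_sub, aeval_X, aeval_C] at h1
    rw [h1, map_mul, map_pow, val_aeval_eq_one_of_eval_ne_zero P hc q hq', mul_one]
  rw [IntermediateField.mem_adjoin_simple_iff] at hw
  obtain ⟨r, s, rfl⟩ := hw
  have hr : aeval x r ≠ 0 := fun h => hw0 (by rw [h, zero_div])
  have hs : aeval x s ≠ 0 := fun h => hw0 (by rw [h, div_zero])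
  obtain ⟨a, ha⟩ := key r hr
  obtain ⟨b, hb⟩ := key s hs
  refine ⟨(a : ℤ) - b, ?_⟩
  have hne : P.1 (x - algebraMap k K c) ≠ 0 := (Valuation.ne_zero_iff _).2 hxc
  rw [map_div₀, ha, hb, zpow_sub₀ hne, zpow_natCast, zpow_natCast]

lemma unif_of_unramified (P : Place k K) {x : K} {c : k}
    (hc : P.1 (x - algebraMap k K c) < 1) (hxc : x - algebraMap k K c ≠ 0)
    (hsurj : Function.Surjective
      (P.1.comap (algebraMap (IntermediateField.adjoin k ({x} : Set K)) K))) :
    P.1 (x - algebraMap k K c) = WithZero.exp (-1) := by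
  obtain ⟨w, hw⟩ := hsurj (WithZero.exp (-1))
  have hw' : P.1 (w : K) = WithZero.exp (-1) := hw
  have hw0 : (w : K) ≠ 0 := fun h => by
    rw [h, map_zero] at hw'; exact WithZero.exp_ne_zero hw'.symm
  obtain ⟨m, hm⟩ := val_mem_zpowers_of_mem_adjoin P hc hxc w.2 hw0
  have h1 := val_eq_exp_neg_ord P hxc
  have hn : 0 < P.ord (x - algebraMap k K c) := (ord_pos_iff P hxc).2 hc
  rw [hw', h1, ← WithZero.exp_zsmul] at hm
  have h2 := WithZero.exp_injective hm
  simp only [smul_eq_mul] at h2
  have h3 : P.ord (x - algebraMap k K c) = 1 := by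
    have h4 : m * P.ord (x - algebraMap k K c) = 1 := by linarith
    have h5 : P.ord (x - algebraMap k K c) ∣ 1 := ⟨m, by rw [← h4]; ring⟩
    have := Int.eq_one_of_dvd_one hn.le h5
    exact this
  rw [h1, h3]

theorem exists_generator_span_uniformizers [IsAlgClosed k] (hK : IsFunctionField k K) (x : K)
    (hsep : Algebra.IsSeparable (IntermediateField.adjoin k ({x} : Set K)) K) :
    ∃ y : K, IntermediateField.adjoin k ({x, y} : Set K) = ⊤ ∧
      ∀ P : Place k K, ∃ f ∈ Submodule.span k ({1, x, y} : Set K),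
        P.1 f = WithZero.exp (-1) := by
  classical
  set E := IntermediateField.adjoin k ({x} : Set K) with hE
  have hg : IsGeometric k K := isGeometric_of_perfect k K hK
  have hDx : KaehlerDifferential.D k K x ≠ 0 := (isSeparable_iff_D_ne_zero hK hg x).1 hsep
  have hxk : x ∉ Set.range (algebraMap k K) := by
    rintro ⟨c, rfl⟩
    exact hDx (Derivation.map_algebraMap _ c)
  have hxt := transcendental_of_not_mem hK hxk
  haveI := finite_of_transcendental hK hxt
  haveI : Algebra.IsAlgebraic E K := Algebra.IsAlgebraic.of_finite E K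
  have hKE : IsFunctionField k E :=
    isFunctionField_intermediateField hK E ⟨x, mem_adjoin_simple_self k x, hxt⟩
  have hx0 : x ≠ 0 := ne_zero_of_not_mem_range hxk
  -- the bad places
  have hpoles : {P : Place k K | 1 < P.1 x}.Finite := by
    apply (finite_support_ord hK x).subset
    intro P hP
    rw [Function.mem_support]
    have := (ord_neg_iff P hx0).2 hP
    omega
  have hram := finite_ramified (K := E) (K' := K) hKE
  have hBfin : ({P : Place k K | 1 < P.1 x} ∪
      {Q : Place k K | ¬ Function.Surjective (Q.1.comap (algebraMap E K))}).Finite :=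
    hpoles.union hram
  set Bf := hBfin.toFinset with hBf
  have hBmem : ∀ P : Place k K, P ∈ Bf ↔
      (1 < P.1 x ∨ ¬ Function.Surjective (P.1.comap (algebraMap E K))) := by
    intro P
    rw [hBf, Set.Finite.mem_toFinset]
    rfl
  obtain ⟨P₀, hP₀⟩ := exists_pole hK hxk
  have hP₀B : P₀ ∈ Bf := (hBmem P₀).2 (Or.inl hP₀)
  choose t ht using fun P : Place k K => exists_uniformizer P
  set a : Place k K → K := fun P => if 1 < P.1 x then x + t P else t P with ha
  haveI : Fintype ↥Bf := inferInstance
  obtain ⟨y₀, hy₀⟩ := weak_approx (fun i : ↥Bf => (i : Place k K)) Subtype.val_injective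
    (fun i => a i) (fun _ => 1)
  -- an element of `E` small at all bad places
  choose below eidx hbelow using fun P : Place k K => exists_isOverWith (K := E) (K' := K) hKE P
  set S : Finset (Place k E) := Bf.image below with hS
  haveI : Fintype ↥S := inferInstance
  obtain ⟨u, hu⟩ := weak_approx_exact (fun i : ↥S => (i : Place k E)) Subtype.val_injective
    (fun _ => 0) (fun _ => 1)
  have huS : ∀ p ∈ S, p.1 u = WithZero.exp (-1) := by
    intro p hp
    have := hu ⟨p, hp⟩
    simpa using this
  have hu0 : u ≠ 0 := by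
    intro h
    have := huS (below P₀) (Finset.mem_image_of_mem _ hP₀B)
    rw [h, map_zero] at this
    exact WithZero.exp_ne_zero this.symm
  have huB : ∀ P ∈ Bf, P.1 (u : K) ≤ WithZero.exp (-1) := by
    intro P hP
    have h1 : P.1 (algebraMap E K u) = (below P).1 u ^ eidx P := hbelow P u
    have h2 := huS (below P) (Finset.mem_image_of_mem _ hP)
    have hepos := isOverWith_pos (hbelow P)
    show P.1 (algebraMap E K u) ≤ _
    rw [h1, h2, ← WithZero.exp_nsmul, WithZero.exp_le_exp]
    simp only [nsmul_eq_mul, mul_neg, mul_one, neg_le_neg_iff]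
    exact_mod_cast hepos
  -- a primitive element, small at the bad places
  obtain ⟨z, hz⟩ := Field.exists_primitive_element E K
  set N : ℕ := 2 + ∑ P ∈ Bf, (P.ord z).natAbs with hN
  set β : K := (u : K) ^ N * z with hβ
  have hβB : ∀ P ∈ Bf, P.1 β ≤ WithZero.exp (-2) := by
    intro P hP
    rcases eq_or_ne z 0 with hz0 | hz0
    · rw [hβ, hz0, mul_zero, map_zero]; exact zero_le'
    rw [hβ, map_mul, map_pow, val_eq_exp_neg_ord P hz0]
    have h1 : P.1 (u : K) ^ N ≤ WithZero.exp (-1) ^ N := pow_le_pow_left₀ zero_le' (huB P hP) N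
    have h2 : (P.ord z).natAbs ≤ ∑ P ∈ Bf, (P.ord z).natAbs :=
      Finset.single_le_sum (f := fun P : Place k K => (P.ord z).natAbs)
        (fun _ _ => Nat.zero_le _) hP
    calc P.1 (u : K) ^ N * WithZero.exp (-P.ord z)
        ≤ WithZero.exp (-1) ^ N * WithZero.exp (-P.ord z) := mul_le_mul_left h1 _
      _ ≤ WithZero.exp (-2) := by
          rw [← WithZero.exp_nsmul, ← WithZero.exp_add, WithZero.exp_le_exp]
          simp only [nsmul_eq_mul, mul_neg, mul_one]
          have h3 : -P.ord z ≤ |P.ord z| := neg_le_abs _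
          have h4 : |P.ord z| ≤ ∑ Q ∈ Bf, |Q.ord z| :=
            Finset.single_le_sum (f := fun Q : Place k K => |Q.ord z|)
              (fun _ _ => abs_nonneg _) hP
          rw [hN]
          push_cast
          linarith
  have hβtop : E⟮β⟯ = ⊤ := by
    rw [eq_top_iff, ← hz, IntermediateField.adjoin_simple_le_iff]
    have huK0 : ((u : K) ^ N) ≠ 0 := pow_ne_zero _ (fun h => hu0 (by exact_mod_cast h))
    have h1 : z = β / (u : K) ^ N := by rw [hβ, mul_div_cancel_left₀ _ huK0]
    rw [h1]
    apply div_mem (IntermediateField.mem_adjoin_simple_self E β)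
    have : ((u : K) ^ N) = algebraMap E K (u ^ N) := by rw [map_pow]; rfl
    rw [this]
    exact IntermediateField.algebraMap_mem _ _
  -- choose the constant
  haveI : Finite (IntermediateField E K) :=
    Field.finite_intermediateField_of_exists_primitive_element E K ⟨z, hz⟩
  haveI : Infinite k := IsAlgClosed.instInfinite
  obtain ⟨c₁, c₂, hne, heq⟩ := Finite.exists_ne_map_eq_of_infinite
    (fun c : k => E⟮y₀ + algebraMap k K c * β⟯)
  set y : K := y₀ + algebraMap k K c₁ * β with hy
  have hy2 : y₀ + algebraMap k K c₂ * β ∈ E⟮y⟯ := by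
    rw [heq]; exact IntermediateField.mem_adjoin_simple_self E _
  have hconst : ∀ c : k, algebraMap k K c ∈ E⟮y⟯ := fun c => by
    have : algebraMap k K c = algebraMap E K (algebraMap k E c) :=
      IsScalarTower.algebraMap_apply k E K c
    rw [this]
    exact IntermediateField.algebraMap_mem _ _
  have hβmem : β ∈ E⟮y⟯ := by
    have h1 : y - (y₀ + algebraMap k K c₂ * β) ∈ E⟮y⟯ :=
      sub_mem (IntermediateField.mem_adjoin_simple_self E y) hy2
    have h2 : y - (y₀ + algebraMap k K c₂ * β) = algebraMap k K (c₁ - c₂) * β := by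
      rw [hy, map_sub]; ring
    rw [h2] at h1
    have hc0 : algebraMap k K (c₁ - c₂) ≠ 0 :=
      (_root_.map_ne_zero _).2 (sub_ne_zero.2 hne)
    have h3 : β = (algebraMap k K (c₁ - c₂))⁻¹ * (algebraMap k K (c₁ - c₂) * β) := by
      rw [inv_mul_cancel_left₀ hc0]
    rw [h3]
    exact mul_mem (inv_mem (hconst _)) h1
  have hytop : E⟮y⟯ = ⊤ := by
    rw [eq_top_iff, ← hβtop, IntermediateField.adjoin_simple_le_iff]
    exact hβmem
  have hyB : ∀ P ∈ Bf, P.1 (y - a P) < WithZero.exp (-1) := by
    intro P hP
    have h1 : y - a P = (y₀ - a P) + algebraMap k K c₁ * β := by rw [hy]; ring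
    rw [h1]
    refine lt_of_le_of_lt (P.1.map_add _ _) (max_lt ?_ ?_)
    · have := hy₀ ⟨P, hP⟩
      simpa using this
    · rw [map_mul]
      refine lt_of_le_of_lt (mul_le_of_le_one_left' (P.2.1 c₁)) ?_
      refine lt_of_le_of_lt (hβB P hP) ?_
      rw [WithZero.exp_lt_exp]; norm_num
  refine ⟨y, ?_, ?_⟩
  · rw [← IntermediateField.adjoin_simple_adjoin_simple, ← hE, hytop,
      IntermediateField.restrictScalars_top]
  · intro P
    have h1mem : (1 : K) ∈ Submodule.span k ({1, x, y} : Set K) :=
      Submodule.subset_span (by simp)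
    have hxmem : x ∈ Submodule.span k ({1, x, y} : Set K) := Submodule.subset_span (by simp)
    have hymem : y ∈ Submodule.span k ({1, x, y} : Set K) := Submodule.subset_span (by simp)
    by_cases hP : P ∈ Bf
    · by_cases hpole : 1 < P.1 x
      · refine ⟨y - x, Submodule.sub_mem _ hymem hxmem, ?_⟩
        have h1 := hyB P hP
        rw [ha] at h1
        simp only [if_pos hpole] at h1
        have h2 : y - x = (y - (x + t P)) + t P := by ring
        rw [h2, Valuation.map_add_eq_of_lt_right _ (by rw [ht P]; exact h1), ht P]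
      · refine ⟨y, hymem, ?_⟩
        have h1 := hyB P hP
        rw [ha] at h1
        simp only [if_neg hpole] at h1
        have h2 : y = (y - t P) + t P := by ring
        rw [h2, Valuation.map_add_eq_of_lt_right _ (by rw [ht P]; exact h1), ht P]
    · rw [hBmem] at hP
      push Not at hP
      obtain ⟨hfin, hsurj⟩ := hP
      obtain ⟨c, hc⟩ := exists_const_sub_lt hK P hfin
      have hxc : x - algebraMap k K c ≠ 0 := fun h => hxk ⟨c, (sub_eq_zero.1 h).symm⟩
      refine ⟨x - algebraMap k K c, ?_, unif_of_unramified P hc hxc hsurj⟩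
      rw [Algebra.algebraMap_eq_smul_one]
      exact Submodule.sub_mem _ hxmem (Submodule.smul_mem _ _ h1mem)

end GenUnif

end Groth.Agent.Helper17.FF
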