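import Mathlib
import Groth.Agent.Lib.Helper17.FFSep2
import Groth.Agent.Lib.Helper17.FFGeom
namespace Groth.Agent.Helper17.FF

open FunFld Polynomial Module IntermediateField

section S50

universe u v

variable {k : Type u} {K : Type v} [Field k] [Field K] [Algebra k K]

open scoped KaehlerDifferential in
lemma D_eq_zero_of_mem_adjoin {S : Set K} (hS : ∀ z ∈ S, KaehlerDifferential.D k K z = 0) {x : K}
    (hx : x ∈ IntermediateField.adjoin k S) : KaehlerDifferential.D k K x = 0 := by
  induction hx using IntermediateField.adjoin_induction with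
  | mem z hz => exact hS z hz
  | algebraMap c => exact Derivation.map_algebraMap _ c
  | add a b _ _ ha hb => rw [map_add, ha, hb, add_zero]
  | inv a _ ha => rw [Derivation.leibniz_inv, ha, smul_zero]
  | mul a b _ _ ha hb => rw [Derivation.leibniz, ha, hb, smul_zero, smul_zero, add_zero]

theorem exists_separating_mem [IsAlgClosed k] (hK : IsFunctionField k K) (W : Submodule k K)
    (hW : IntermediateField.adjoin k (W : Set K) = ⊤) :
    ∃ x ∈ W, Algebra.IsSeparable (IntermediateField.adjoin k ({x} : Set K)) K := by
  have hg : IsGeometric k K := isGeometric_of_perfect k K hK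
  by_contra hcon
  push Not at hcon
  have h0 : ∀ z ∈ (W : Set K), KaehlerDifferential.D k K z = 0 := by
    intro z hz
    by_contra hne
    exact hcon z hz ((isSeparable_iff_D_ne_zero hK hg z).2 hne)
  obtain ⟨s, hs, hsep⟩ := exists_separating hK hg
  have h1 : KaehlerDifferential.D k K s = 0 :=
    D_eq_zero_of_mem_adjoin h0 (by rw [hW]; trivial)
  exact (isSeparable_iff_D_ne_zero hK hg s).1 hsep h1

theorem exists_generator_mem [IsAlgClosed k] (hK : IsFunctionField k K) (W : Submodule k K)
    (hW : IntermediateField.adjoin k (W : Set K) = ⊤) (x : K)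
    (hsep : Algebra.IsSeparable (IntermediateField.adjoin k ({x} : Set K)) K) :
    ∃ y ∈ W, IntermediateField.adjoin k ({x, y} : Set K) = ⊤ := by
  classical
  have hxtr : Transcendental k x := by
    intro halg
    obtain ⟨c, hc⟩ := hK.2 x halg
    obtain ⟨⟨x₀, hx₀, -⟩, -⟩ := id hK
    apply hx₀
    have h1 : IsAlgebraic (IntermediateField.adjoin k ({x} : Set K)) x₀ :=
      (Algebra.IsSeparable.isAlgebraic (IntermediateField.adjoin k ({x} : Set K)) K).isAlgebraic x₀
    have h2 : IntermediateField.adjoin k ({x} : Set K) = ⊥ := by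
      rw [IntermediateField.adjoin_simple_eq_bot_iff, ← hc]
      exact IntermediateField.algebraMap_mem _ c
    have : Algebra.IsAlgebraic k (IntermediateField.adjoin k ({x} : Set K)) := by
      rw [h2]; infer_instance
    exact h1.restrictScalars k
  have := essFiniteType_of_isFunctionField hK
  have : FiniteDimensional k⟮x⟯ K :=
    finite_adjoin_of_trdeg_le_one (trdeg_le_one_of_isFunctionField hK) hxtr
  have : Finite (IntermediateField k⟮x⟯ K) :=
    Field.finite_intermediateField_of_exists_primitive_element k⟮x⟯ K
      (Field.exists_primitive_element k⟮x⟯ K)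
  let p : {E : IntermediateField k⟮x⟯ K // E ≠ ⊤} → Submodule k W := fun E =>
    Submodule.comap W.subtype (E.1.restrictScalars k).toSubalgebra.toSubmodule
  have hp : ∀ E, p E ≠ ⊤ := by
    intro E htop
    apply E.2
    have h1 : (W : Set K) ⊆ (E.1.restrictScalars k : Set K) := by
      intro w hw
      have : (⟨w, hw⟩ : W) ∈ p E := by rw [htop]; trivial
      exact this
    have h2 : IntermediateField.adjoin k (W : Set K) ≤ E.1.restrictScalars k :=
      IntermediateField.adjoin_le_iff.2 h1
    rw [hW] at h2
    rw [eq_top_iff]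
    intro z _
    exact h2 (IntermediateField.mem_top)
  have : Infinite k := IsAlgClosed.instInfinite
  obtain ⟨y, hy⟩ := Submodule.exists_forall_notMem_of_forall_ne_top p hp
  refine ⟨y, y.2, ?_⟩
  have h3 : IntermediateField.adjoin k⟮x⟯ ({(y : K)} : Set K) = ⊤ := by
    by_contra hne
    exact hy ⟨_, hne⟩ (IntermediateField.mem_adjoin_simple_self k⟮x⟯ (y : K))
  have h4 := IntermediateField.adjoin_simple_adjoin_simple k x (y : K)
  rw [h3, IntermediateField.restrictScalars_top] at h4
  exact h4.symm

end S50
end Groth.Agent.Helper17.FF
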