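import Mathlib
import Groth.Prelude.Def_LocRes
import Groth.Agent.Lib.Helper17.FFHil
namespace Groth.Agent.Helper17.FF

universe u v w v'

open FunFld Module LaurentSeries Polynomial IntermediateField

section HilB

variable {k K K' : Type*} [Field k] [Field K] [Field K'] [Algebra k K] [Algebra K K']
  [Algebra k K'] [IsScalarTower k K K'] [FiniteDimensional K K'] [IsGalois K K']

/-- the place of the inertia field below `Q`: `Q` is totally ramified over it -/
theorem exists_isOverWith_inertiaField (hK : IsFunctionField k K) (Q : Place k K')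
    [Algebra.IsSeparable k (IsLocalRing.ResidueField Q.O)] :
    ∃ Q_T : Place k (IntermediateField.fixedField (ramGroup (K := K) Q 1)),
      IsOverWith Q Q_T (Nat.card (ramGroup (K := K) Q 1)) := by
  classical
  set H := ramGroup (K := K) Q 1 with hH
  set T := IntermediateField.fixedField H with hTdef
  have hT : IsWeakFF k T := isWeakFF_of_finite (K := K) hK
  have : IsScalarTower k T K' := isScalarTower_intermediate T
  obtain ⟨Q_T, e', he'⟩ := wk_exists_isOverWith (M := T) (L := K') hT Q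
  have hI : ∀ τ : K' ≃ₐ[T] K', InG Q 1 τ := by
    intro τ
    have hmem : τ.restrictScalars K ∈ H := by
      have h0 := IntermediateField.fixingSubgroup_fixedField H
      rw [← h0, IntermediateField.mem_fixingSubgroup_iff]
      intro x hx
      exact τ.commutes ⟨x, hx⟩
    exact hmem
  have huniq : ∀ Q' : Place k K', IsOver Q' Q_T → Q' = Q := by
    intro Q' hQ'
    obtain ⟨τ, rfl⟩ := exists_galPlace_of_isOver (K := T) ⟨e', he'⟩ hQ'
    exact galPlace_eq_of_inG Q (hI τ)
  obtain ⟨hfin, hsum⟩ := wk_sum_ramIdx_mul_deg (L := K') hT Q_T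
  have h1 := hsum {Q} (fun Q' => by
    rw [Finset.mem_singleton]
    exact ⟨fun h => h ▸ ⟨e', he'⟩, huniq Q'⟩)
  rw [Finset.sum_singleton, ramIdx_eq he'] at h1
  have hdeg : Q_T.deg = Q.deg := by
    have hsurj := resMap_surjective_of_inertia Q he' hI
    have hinj : Function.Injective (resMap he') := (resMap he').toRingHom.injective
    exact (LinearEquiv.ofBijective (resMap he').toLinearMap ⟨hinj, hsurj⟩).finrank_eq
  have hcard : finrank T K' = Nat.card H := IntermediateField.finrank_fixedField_eq_card H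
  have hpos : 0 < Q.deg := deg_pos_ext hK Q
  rw [hdeg, hcard] at h1
  have h2 : e' = Nat.card H := Nat.eq_of_mul_eq_mul_right hpos h1
  refine ⟨Q_T, ?_⟩
  rw [← h2]
  exact he'

omit [FiniteDimensional K K'] [IsGalois K K'] in
/-- an element of the inertia group fixing a local parameter is trivial -/
lemma eq_one_of_inG_of_apply_eq (Q : Place k K')
    [Algebra.IsSeparable k (IsLocalRing.ResidueField Q.O)] {σ : K' ≃ₐ[K] K'}
    (hσ : InG Q 1 σ) {s : K'} (hs : Q.1 s = WithZero.exp (-1 : ℤ)) (hfix : σ s = s) : σ = 1 := by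
  have hall : ∀ j : ℕ, 1 ≤ j → InG Q j σ := by
    intro j hj
    have h1 := (ram_iff Q (σ : K' →+* K') (fun c => by
      rw [IsScalarTower.algebraMap_apply k K K']
      exact σ.commutes _) (fun x hx => by
        have := hσ x hx
        simpa using this) s hs j hj).2 (by
      show Q.1 (σ s - s) ≤ _
      rw [hfix, sub_self, map_zero]; exact zero_le)
    exact fun x hx => h1 x hx
  have hfixO : ∀ x : K', Q.1 x ≤ 1 → σ x = x := by
    intro x hx
    by_contra hne
    have hne' : σ x - x ≠ 0 := sub_ne_zero.2 hne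
    have h1 : Q.1 (σ x - x) = WithZero.exp (-(Q.ord (σ x - x))) := val_eq_exp_neg_ord Q hne'
    have h2 := hall ((Q.ord (σ x - x)).toNat + 1) (by omega) x hx
    rw [h1, WithZero.exp_le_exp] at h2
    push_cast at h2
    have := Int.self_le_toNat (Q.ord (σ x - x))
    omega
  apply AlgEquiv.ext
  intro x
  rcases le_total (Q.1 x) 1 with hx | hx
  · exact hfixO x hx
  · have hx0 : x ≠ 0 := by
      rintro rfl
      rw [map_zero] at hx
      exact absurd hx (not_le.2 zero_lt_one)
    have h1 : Q.1 x⁻¹ ≤ 1 := by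
      rw [map_inv₀]; exact inv_le_one_of_one_le₀ hx
    have h2 := hfixO x⁻¹ h1
    rw [map_inv₀] at h2
    exact inv_injective h2

end HilB

section HilC

open scoped KaehlerDifferential

variable {k : Type u} {K : Type v} {K' : Type v} [Field k] [Field K] [Field K'] [Algebra k K]
  [Algebra K K'] [Algebra k K'] [IsScalarTower k K K'] {F F' : Type w} [Field F] [Algebra k F]
  [Field F'] [Algebra k F']

omit [Algebra K K'] [IsScalarTower k K K'] [Field K'] [Algebra k K'] in
lemma D_ne_zero_of_vDiff_ne_zero' (φ : K →ₐ[k] F⸨X⸩) {x : K} (hx : LocRes.vDiff φ 1 x ≠ 0) :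
    KaehlerDifferential.D k K x ≠ 0 := by
  intro h0
  apply hx
  have h1 : KaehlerDifferential.D k K x = (0 : K) • KaehlerDifferential.D k K x := by
    rw [zero_smul, h0]
  have h2 := dExp_eq φ h1
  unfold LocRes.vDiff
  rw [h2, map_zero, zero_mul, mul_zero, map_zero]

attribute [-instance] IsLocalRing.instModuleResidueFieldOfAlgebra in
open scoped Classical in
set_option maxHeartbeats 800000 in
/-- Hilbert's formula, first form (auxiliary version with the inertia data as hypotheses). -/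
theorem diffExp_eq_sum_ord_aux [FiniteDimensional K K'] [IsGalois K K']
    (hfr : finrank K (Ω[K⁄k]) = 1)
    {P : Place k K} {Q : Place k K'} {e : ℕ}
    (he : IsOverWith Q P e) {φ : K →ₐ[k] F⸨X⸩} (hφ : LocRes.IsExpansionAt P.1 φ)
    {ψ : K' →ₐ[k] F'⸨X⸩} (hψ : LocRes.IsExpansionAt Q.1 ψ) (x : K)
    (hx : LocRes.vDiff φ 1 x ≠ 0) (hx' : LocRes.vDiff ψ 1 (algebraMap K K' x) ≠ 0)
    [Algebra.IsSeparable k (IsLocalRing.ResidueField Q.O)]
    {s : K'} (hs : Q.1 s = WithZero.exp (-1 : ℤ))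
    (H : Subgroup (K' ≃ₐ[K] K')) (hHI : ∀ σ ∈ H, InG Q 1 σ)
    (T : IntermediateField K K') (hTdef : T = IntermediateField.fixedField H)
    (Q_T : Place k T) (he' : IsOverWith Q Q_T e) (hcard : Nat.card H = e) :
    LocRes.diffExp φ ψ e x =
      ∑ σ ∈ (Finset.univ.filter (fun σ : K' ≃ₐ[K] K' => σ ∈ H)).erase 1,
        Q.ord (s - σ s) := by
  have : IsScalarTower k T K' := isScalarTower_intermediate T
  have hepos := isOverWith_pos he
  obtain ⟨t, ht⟩ := hφ.2.2
  set t' := algebraMap K K' t with ht'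
  have hfr' : finrank K' (Ω[K'⁄k]) = 1 := finrank_kaehler_of_separable hfr
  have hsD := D_unif_ne_zero hψ hs
  have htD := D_unif_ne_zero hφ ht
  have ht'D : KaehlerDifferential.D k K' t' ≠ 0 := by
    have h1 := D_ne_zero_of_vDiff_ne_zero' ψ hx'
    obtain ⟨c, hc⟩ := exists_smul_D_eq hfr htD x
    intro h0
    apply h1
    rw [D_algebraMap_eq hc, ← ht', h0, smul_zero]
  obtain ⟨b, hb⟩ := exists_smul_D_eq hfr' hsD t'
  rw [diffExp_eq_ord hfr he hφ hψ x hx hx' ht hs hb]
  obtain ⟨δ, hδ⟩ := exists_derivation_eq hfr' ht'D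
  have hδt : δ t' = 1 := der_unif_eq_one hδ ht'D
  have hQt' : Q.1 t' = WithZero.exp (-(1 : ℤ)) ^ e := by rw [ht', he t, ht]
  have hQt'e : Q.1 t' = WithZero.exp (-(e : ℤ)) := by
    rw [hQt', ← WithZero.exp_nsmul]; simp
  have ht'0 : t' ≠ 0 := by
    intro h0
    rw [h0, map_zero] at hQt'e
    exact WithZero.exp_ne_zero hQt'e.symm
  have ht'1 : Q.1 t' < 1 := by
    rw [hQt'e, ← WithZero.exp_zero, WithZero.exp_lt_exp]; omega
  have ht'T : t' ∈ T := T.algebraMap_mem t
  have hTval : ∀ z ∈ T, Q.1 z < 1 → Q.1 z ≤ Q.1 t' := by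
    intro z hz hz1
    rcases eq_or_ne z 0 with rfl | hz0
    · rw [map_zero]; exact zero_le
    · have h1 : Q.ord z = e * Q_T.ord ⟨z, hz⟩ := isOverWith_ord he' ⟨z, hz⟩
      have h2 : 0 < Q.ord z := (ord_pos_iff Q hz0).2 hz1
      have h3 : 1 ≤ Q_T.ord ⟨z, hz⟩ := by
        by_contra hcon
        push Not at hcon
        have h4 : Q_T.ord ⟨z, hz⟩ ≤ 0 := by omega
        have h5 : (e : ℤ) * Q_T.ord ⟨z, hz⟩ ≤ 0 :=
          mul_nonpos_of_nonneg_of_nonpos (by positivity) h4
        omega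
      rw [hQt'e, val_le_exp_iff Q hz0, neg_neg, h1]
      nlinarith
  -- the bound through `ψ`
  have hDψ : LocRes.D F' (ψ t') ≠ 0 := D_expansion_ne_zero hfr' hψ ht'D
  have hU := val_der_le_one Q T ht'T ht'0 ht'1 hTval δ hδt
    (fun z hz => val_der_le hψ hδ hDψ hz)
  -- the polynomial
  set S₀ : Finset (K' ≃ₐ[K] K') := Finset.univ.filter (fun σ : K' ≃ₐ[K] K' => σ ∈ H) with hS₀
  have hmemS₀ : ∀ σ, σ ∈ S₀ ↔ σ ∈ H := fun σ => by
    rw [hS₀, Finset.mem_filter]; exact ⟨fun h => h.2, fun h => ⟨Finset.mem_univ _, h⟩⟩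
  have h1S₀ : (1 : K' ≃ₐ[K] K') ∈ S₀ := (hmemS₀ 1).2 H.one_mem
  set g : K'[X] := ∏ σ ∈ S₀, (X - C (σ s)) with hg
  have hgm : g.Monic := monic_prod_of_monic _ _ (fun σ _ => monic_X_sub_C _)
  have hS₀card : S₀.card = e := by
    rw [← hcard]
    exact (Nat.subtype_card S₀ hmemS₀).symm
  have hgdeg : g.natDegree = e := by
    rw [hg, natDegree_prod_of_monic _ _ (fun σ _ => monic_X_sub_C _)]
    simp only [natDegree_X_sub_C, Finset.sum_const, smul_eq_mul, mul_one]
    exact hS₀card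
  have hcoeffT : ∀ j, g.coeff j ∈ T := by
    intro j
    rw [hTdef, IntermediateField.mem_fixedField_iff]
    intro τ hτ
    have h2 : τ (g.coeff j) = (g.map (τ : K' →+* K')).coeff j := by
      rw [Polynomial.coeff_map]; rfl
    rw [h2, hg, Polynomial.map_prod]
    congr 1
    refine Finset.prod_equiv (Equiv.mulLeft τ) (fun σ => ?_) (fun σ _ => ?_)
    · rw [hmemS₀, hmemS₀]
      exact (H.mul_mem_cancel_left hτ).symm
    · rw [Polynomial.map_sub, Polynomial.map_X, Polynomial.map_C]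
      rfl
  have hlifts : g ∈ Polynomial.lifts (algebraMap T K') := by
    rw [Polynomial.lifts_iff_coeff_lifts]
    intro j
    exact ⟨⟨g.coeff j, hcoeffT j⟩, rfl⟩
  obtain ⟨f, hfmap, hfdeg, hfm⟩ := Polynomial.lifts_and_natDegree_eq_and_monic hlifts hgm
  have hf0 : aeval s f = 0 := by
    rw [aeval_def, ← eval_map, hfmap, hg, eval_prod]
    refine Finset.prod_eq_zero h1S₀ ?_
    rw [eval_sub, eval_X, eval_C, AlgEquiv.one_apply, sub_self]
  obtain ⟨-, ha0, hai⟩ := eisenstein_of_ramified he' hs f hfm (by rw [hfdeg, hgdeg]) hf0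
  have hder : aeval s (derivative f) = ∏ σ ∈ S₀.erase 1, (s - σ s) := by
    rw [aeval_def, ← eval_map, ← derivative_map, hfmap, hg, derivative_prod_finset,
      eval_finsetSum, Finset.sum_eq_single_of_mem 1 h1S₀]
    · rw [derivative_X_sub_C, mul_one, eval_prod]
      refine Finset.prod_congr rfl fun σ _ => ?_
      rw [eval_sub, eval_X, eval_C]
    · intro τ hτ hne
      rw [derivative_X_sub_C, mul_one, eval_prod]
      refine Finset.prod_eq_zero (i := 1) (Finset.mem_erase.2 ⟨hne.symm, h1S₀⟩) ?_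
      rw [eval_sub, eval_X, eval_C, AlgEquiv.one_apply, sub_self]
  -- integrality of the derivatives of the coefficients
  have hcoefle : ∀ i, Q_T.1 (f.coeff i) ≤ 1 := by
    intro i
    rcases lt_trichotomy i e with h | h | h
    · exact (hai i h).le
    · rw [h, ← hgdeg, ← hfdeg, hfm.coeff_natDegree, map_one]
    · rw [coeff_eq_zero_of_natDegree_lt (by rw [hfdeg, hgdeg]; exact h), map_zero]
      exact zero_le_one
  have hδle : ∀ i, Q.1 (δ (algebraMap T K' (f.coeff i))) ≤ 1 := by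
    intro i
    exact hU _ (f.coeff i).2 ((isOverWith_le_one_iff he' (f.coeff i)).2 (hcoefle i))
  have hδ0 : Q.1 (δ (algebraMap T K' (f.coeff 0))) = 1 := by
    set a₀ : K' := algebraMap T K' (f.coeff 0) with ha₀
    have ha₀T : a₀ ∈ T := (f.coeff 0).2
    have hQa₀ : Q.1 a₀ = Q.1 t' := by rw [ha₀, he' (f.coeff 0), ha0, hQt']
    set u : K' := a₀ / t' with hu
    have huT : u ∈ T := T.div_mem ha₀T ht'T
    have hQt0 : Q.1 t' ≠ 0 := (Valuation.ne_zero_iff _).2 ht'0
    have hQu : Q.1 u = 1 := by rw [hu, map_div₀, hQa₀, div_self hQt0]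
    have hprod : a₀ = t' * u := by rw [hu]; field_simp
    have h2 : δ (t' * u) = t' • δ u + u • δ t' := δ.leibniz t' u
    rw [hprod, h2, hδt, smul_eq_mul, smul_eq_mul, mul_one, add_comm]
    have h3 : Q.1 (t' * δ u) < Q.1 u := by
      rw [hQu, map_mul]
      calc Q.1 t' * Q.1 (δ u) ≤ Q.1 t' * 1 := mul_le_mul' le_rfl (hU u huT hQu.le)
        _ = Q.1 t' := mul_one _
        _ < 1 := ht'1
    rw [Valuation.map_add_eq_of_lt_left _ h3, hQu]
  -- differentiate `f(s) = 0`
  have h1 := D_aeval (k := k) f s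
  rw [hf0, map_zero] at h1
  set S : K' := ∑ i ∈ f.support, s ^ i * δ (algebraMap T K' (f.coeff i)) with hS
  have h2 : f.sum (fun i a => s ^ i • KaehlerDifferential.D k K' (algebraMap T K' a)) =
      (S * b) • KaehlerDifferential.D k K' s := by
    rw [Polynomial.sum_def, hS, Finset.sum_mul, Finset.sum_smul]
    refine Finset.sum_congr rfl fun i _ => ?_
    rw [hδ (algebraMap T K' (f.coeff i)), hb, smul_smul, smul_smul, mul_assoc]
  rw [h2, ← add_smul] at h1
  have h3 : aeval s (derivative f) + S * b = 0 := by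
    rcases smul_eq_zero.1 h1.symm with h | h
    · exact h
    · exact absurd h hsD
  have h4 : aeval s (derivative f) = -(S * b) := eq_neg_of_add_eq_zero_left h3
  have h0mem : 0 ∈ f.support := by
    rw [Polynomial.mem_support_iff]
    intro h
    rw [h, map_zero] at ha0
    exact WithZero.exp_ne_zero ha0.symm
  have hS1 : Q.1 S = 1 := by
    rw [hS, Valuation.map_sum_eq_of_lt Q.1 h0mem]
    · rw [pow_zero, one_mul]; exact hδ0
    · intro i hi
      rw [Finset.mem_sdiff, Finset.mem_singleton] at hi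
      rw [pow_zero, one_mul, hδ0, map_mul, map_pow, hs]
      calc WithZero.exp (-1 : ℤ) ^ i * Q.1 (δ (algebraMap T K' (f.coeff i)))
          ≤ WithZero.exp (-1 : ℤ) ^ i * 1 := mul_le_mul' le_rfl (hδle i)
        _ = WithZero.exp (-1 : ℤ) ^ i := mul_one _
        _ < 1 := pow_lt_one' exp_neg_one_lt_one hi.2
  have hordb : Q.ord b = Q.ord (aeval s (derivative f)) := by
    unfold Place.ord
    rw [h4, Valuation.map_neg, map_mul, hS1, one_mul]
  rw [hordb, hder]
  refine ord_prod Q _ _ (fun σ hσ => ?_)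
  rw [Finset.mem_erase, hmemS₀] at hσ
  intro h0
  exact hσ.1 (eq_one_of_inG_of_apply_eq Q (hHI σ hσ.2) hs (sub_eq_zero.1 h0).symm)

attribute [-instance] IsLocalRing.instModuleResidueFieldOfAlgebra in
open scoped Classical in
/-- Hilbert's formula, first form: the different exponent is the sum of the orders of `s - σ s`
over the nontrivial elements of the inertia group. -/
theorem diffExp_eq_sum_ord [FiniteDimensional K K'] [IsGalois K K']
    (hK : IsFunctionField k K) (hfr : finrank K (Ω[K⁄k]) = 1)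
    {P : Place k K} {Q : Place k K'} {e : ℕ}
    (he : IsOverWith Q P e) {φ : K →ₐ[k] F⸨X⸩} (hφ : LocRes.IsExpansionAt P.1 φ)
    {ψ : K' →ₐ[k] F'⸨X⸩} (hψ : LocRes.IsExpansionAt Q.1 ψ) (x : K)
    (hx : LocRes.vDiff φ 1 x ≠ 0) (hx' : LocRes.vDiff ψ 1 (algebraMap K K' x) ≠ 0)
    [Algebra.IsSeparable k (IsLocalRing.ResidueField Q.O)]
    {s : K'} (hs : Q.1 s = WithZero.exp (-1 : ℤ)) :
    LocRes.diffExp φ ψ e x =
      ∑ σ ∈ (Finset.univ.filter (fun σ : K' ≃ₐ[K] K' => σ ∈ ramGroup (K := K) Q 1)).erase 1,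
        Q.ord (s - σ s) := by
  have hcard : Nat.card (ramGroup (K := K) Q 1) = e := by
    rw [← card_inertia_eq, card_inertia_eq_ramIdx hK he]
  obtain ⟨Q_T, he'⟩ := exists_isOverWith_inertiaField (K := K) hK Q
  rw [hcard] at he'
  exact diffExp_eq_sum_ord_aux hfr he hφ hψ x hx hx' hs (ramGroup (K := K) Q 1)
    (fun σ hσ => hσ) _ rfl Q_T he' hcard

end HilC

section HilD

variable {k K K' : Type*} [Field k] [Field K] [Field K'] [Algebra k K] [Algebra K K']
  [Algebra k K'] [IsScalarTower k K K'] [FiniteDimensional K K']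

open scoped Classical in
/-- the number of nontrivial elements of `G_j` in terms of the orders of `σ s - s` -/
theorem card_inG_sub_one (Q : Place k K')
    [Algebra.IsSeparable k (IsLocalRing.ResidueField Q.O)]
    {s : K'} (hs : Q.1 s = WithZero.exp (-1 : ℤ)) (j : ℕ) (hj : 1 ≤ j) :
    (Nat.card {σ : K' ≃ₐ[K] K' // InG Q j σ} : ℤ) - 1 =
      ((((Finset.univ.filter (fun σ : K' ≃ₐ[K] K' => σ ∈ ramGroup (K := K) Q 1)).erase 1).filter
        (fun σ => (j : ℤ) ≤ Q.ord (s - σ s))).card : ℤ) := by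
  set S := (Finset.univ.filter (fun σ : K' ≃ₐ[K] K' => σ ∈ ramGroup (K := K) Q 1)).erase 1
    with hS
  have hmemS : ∀ σ, σ ∈ S ↔ InG Q 1 σ ∧ σ ≠ 1 := by
    intro σ
    rw [hS, Finset.mem_erase, Finset.mem_filter, mem_ramGroup]
    exact ⟨fun h => ⟨h.2.2, h.1⟩, fun h => ⟨h.2, Finset.mem_univ _, h.1⟩⟩
  have hs1 : Q.1 s ≤ 1 := by rw [hs]; exact exp_neg_one_lt_one.le
  have hram : ∀ σ : K' ≃ₐ[K] K', InG Q 1 σ →
      (InG Q j σ ↔ Q.1 (σ s - s) ≤ WithZero.exp (-(j : ℤ))) := by
    intro σ hσ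
    have h1 := ram_iff Q (σ : K' →+* K') (fun c => by
      rw [IsScalarTower.algebraMap_apply k K K']
      exact σ.commutes _) (fun x hx => by
        have := hσ x hx
        simpa using this) s hs j hj
    exact ⟨fun h => h1.1 (fun x hx => h x hx), fun h => fun x hx => h1.2 h x hx⟩
  set Fj := S.filter (fun σ => (j : ℤ) ≤ Q.ord (s - σ s)) with hFj
  have h1F : (1 : K' ≃ₐ[K] K') ∉ Fj := by
    intro h
    rw [hFj, Finset.mem_filter, hmemS] at h
    exact h.1.2 rfl
  have hcard : Nat.card {σ : K' ≃ₐ[K] K' // InG Q j σ} = (insert 1 Fj).card := by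
    apply Nat.subtype_card
    intro σ
    rw [Finset.mem_insert, hFj, Finset.mem_filter, hmemS]
    constructor
    · rintro (rfl | ⟨⟨h1, hne⟩, h2⟩)
      · exact inG_one_mem Q j
      · rw [hram σ h1]
        have hne' : σ s - s ≠ 0 := by
          intro h0
          exact hne (eq_one_of_inG_of_apply_eq Q h1 hs (sub_eq_zero.1 h0))
        rw [val_le_exp_iff Q hne', neg_neg]
        have : Q.ord (σ s - s) = Q.ord (s - σ s) := by
          unfold Place.ord
          rw [Valuation.map_sub_swap]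
        rw [this]; exact h2
    · intro h
      by_cases hσ1 : σ = 1
      · exact Or.inl hσ1
      · right
        have h1 : InG Q 1 σ := inG_mono Q hj h
        refine ⟨⟨h1, hσ1⟩, ?_⟩
        have hne' : σ s - s ≠ 0 := by
          intro h0
          exact hσ1 (eq_one_of_inG_of_apply_eq Q h1 hs (sub_eq_zero.1 h0))
        have h2 := (hram σ h1).1 h
        rw [val_le_exp_iff Q hne', neg_neg] at h2
        have : Q.ord (σ s - s) = Q.ord (s - σ s) := by
          unfold Place.ord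
          rw [Valuation.map_sub_swap]
        rw [← this]; exact h2
  rw [hcard, Finset.card_insert_of_notMem h1F]
  push_cast
  ring

open scoped Classical in
/-- a nontrivial inertia element moves a local parameter by positive order -/
lemma one_le_ord_sub (Q : Place k K')
    [Algebra.IsSeparable k (IsLocalRing.ResidueField Q.O)]
    {s : K'} (hs : Q.1 s = WithZero.exp (-1 : ℤ)) {σ : K' ≃ₐ[K] K'} (hσ : InG Q 1 σ)
    (hne : σ ≠ 1) : 1 ≤ Q.ord (s - σ s) := by
  have hs1 : Q.1 s ≤ 1 := by rw [hs]; exact exp_neg_one_lt_one.le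
  have hne' : σ s - s ≠ 0 := by
    intro h0
    exact hne (eq_one_of_inG_of_apply_eq Q hσ hs (sub_eq_zero.1 h0))
  have h1 := hσ s hs1
  rw [val_le_exp_iff Q hne', neg_neg] at h1
  have : Q.ord (σ s - s) = Q.ord (s - σ s) := by
    unfold Place.ord
    rw [Valuation.map_sub_swap]
  rw [← this]
  exact_mod_cast h1

open scoped Classical in
/-- double counting: `∑_{j ≥ 1} (|G_j| - 1) = ∑_{σ ∈ G_1, σ ≠ 1} v(s - σ s)` -/
theorem finsum_card_inG_sub_one (Q : Place k K')
    [Algebra.IsSeparable k (IsLocalRing.ResidueField Q.O)]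
    {s : K'} (hs : Q.1 s = WithZero.exp (-1 : ℤ)) :
    (Function.support fun i : ℕ => (Nat.card {σ : K' ≃ₐ[K] K' // InG Q i σ} : ℤ) - 1).Finite ∧
    ∑ᶠ i : ℕ, (if 1 ≤ i then (Nat.card {σ : K' ≃ₐ[K] K' // InG Q i σ} : ℤ) - 1 else 0) =
      ∑ σ ∈ (Finset.univ.filter (fun σ : K' ≃ₐ[K] K' => σ ∈ ramGroup (K := K) Q 1)).erase 1,
        Q.ord (s - σ s) := by
  set S := (Finset.univ.filter (fun σ : K' ≃ₐ[K] K' => σ ∈ ramGroup (K := K) Q 1)).erase 1
    with hS
  have hmemS : ∀ σ, σ ∈ S ↔ InG Q 1 σ ∧ σ ≠ 1 := by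
    intro σ
    rw [hS, Finset.mem_erase, Finset.mem_filter, mem_ramGroup]
    exact ⟨fun h => ⟨h.2.2, h.1⟩, fun h => ⟨h.2, Finset.mem_univ _, h.1⟩⟩
  set n : (K' ≃ₐ[K] K') → ℤ := fun σ => Q.ord (s - σ s) with hn
  have hn1 : ∀ σ ∈ S, 1 ≤ n σ := fun σ hσ =>
    one_le_ord_sub Q hs ((hmemS σ).1 hσ).1 ((hmemS σ).1 hσ).2
  set N : ℕ := S.sup (fun σ => (n σ).toNat) with hN
  have hnN : ∀ σ ∈ S, (n σ).toNat ≤ N := fun σ hσ =>
    Finset.le_sup (f := fun σ => (n σ).toNat) hσ
  have hcount : ∀ i : ℕ, 1 ≤ i → (Nat.card {σ : K' ≃ₐ[K] K' // InG Q i σ} : ℤ) - 1 =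
      ((S.filter (fun σ => (i : ℤ) ≤ n σ)).card : ℤ) := fun i hi => card_inG_sub_one Q hs i hi
  have hzero : ∀ i : ℕ, N < i → (Nat.card {σ : K' ≃ₐ[K] K' // InG Q i σ} : ℤ) - 1 = 0 := by
    intro i hi
    rw [hcount i (by omega)]
    have : S.filter (fun σ => (i : ℤ) ≤ n σ) = ∅ := by
      apply Finset.filter_false_of_mem
      intro σ hσ hle
      have := hnN σ hσ
      omega
    rw [this, Finset.card_empty, Nat.cast_zero]
  have hsupp : (Function.support fun i : ℕ =>
      (Nat.card {σ : K' ≃ₐ[K] K' // InG Q i σ} : ℤ) - 1) ⊆ ↑(Finset.range (N + 1)) := by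
    intro i hi
    rw [Function.mem_support] at hi
    rw [Finset.mem_coe, Finset.mem_range]
    by_contra hcon
    exact hi (hzero i (by omega))
  refine ⟨(Finset.range (N + 1)).finite_toSet.subset hsupp, ?_⟩
  rw [finsum_eq_sum_of_support_subset _ (s := Finset.range (N + 1)) (by
    intro i hi
    rw [Function.mem_support] at hi
    apply hsupp
    rw [Function.mem_support]
    intro h0
    apply hi
    rw [h0]; simp)]
  have h1 : ∀ i ∈ Finset.range (N + 1),
      (if 1 ≤ i then (Nat.card {σ : K' ≃ₐ[K] K' // InG Q i σ} : ℤ) - 1 else 0) =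
        ∑ σ ∈ S, (if 1 ≤ i ∧ (i : ℤ) ≤ n σ then (1 : ℤ) else 0) := by
    intro i _
    by_cases hi : 1 ≤ i
    · rw [if_pos hi, hcount i hi, Finset.card_filter]
      push_cast
      refine Finset.sum_congr rfl fun σ _ => ?_
      by_cases h : (i : ℤ) ≤ n σ
      · rw [if_pos h, if_pos ⟨hi, h⟩]
      · rw [if_neg h, if_neg (fun h' => h h'.2)]
    · rw [if_neg hi]
      symm
      apply Finset.sum_eq_zero
      intro σ _
      rw [if_neg (fun h' => hi h'.1)]
  rw [Finset.sum_congr rfl h1, Finset.sum_comm]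
  refine Finset.sum_congr rfl fun σ hσ => ?_
  have h2 : ∑ i ∈ Finset.range (N + 1), (if 1 ≤ i ∧ (i : ℤ) ≤ n σ then (1 : ℤ) else 0) =
      (((Finset.range (N + 1)).filter (fun i : ℕ => 1 ≤ i ∧ (i : ℤ) ≤ n σ)).card : ℤ) := by
    rw [Finset.card_filter]
    push_cast
    rfl
  rw [h2]
  have h3 : (Finset.range (N + 1)).filter (fun i : ℕ => 1 ≤ i ∧ (i : ℤ) ≤ n σ) =
      Finset.Icc 1 (n σ).toNat := by
    ext i
    rw [Finset.mem_filter, Finset.mem_range, Finset.mem_Icc]
    have := hnN σ hσ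
    have := hn1 σ hσ
    constructor
    · rintro ⟨_, h, h'⟩
      exact ⟨h, by omega⟩
    · rintro ⟨h, h'⟩
      exact ⟨by omega, h, by omega⟩
  rw [h3, Nat.card_Icc]
  have := hn1 σ hσ
  omega

end HilD

end Groth.Agent.Helper17.FF
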