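import Mathlib
import Groth.Agent.Lib.Helper17.FFG1
namespace Groth.Agent.Helper17.FF

open FunFld Module

variable {k K : Type*} [Field k] [Field K] [Algebra k K]

lemma exists_mem_inf_ne_zero {V A B : Submodule k K} [FiniteDimensional k V] (hA : A ≤ V)
    (hB : B ≤ V) (h : finrank k V < finrank k A + finrank k B) : ∃ x ∈ A ⊓ B, x ≠ 0 := by
  have hfA : FiniteDimensional k A := Submodule.finiteDimensional_of_le hA
  have hfB : FiniteDimensional k B := Submodule.finiteDimensional_of_le hB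
  have h1 := Submodule.finrank_sup_add_finrank_inf_eq A B
  have h2 : finrank k ↥(A ⊔ B) ≤ finrank k V := Submodule.finrank_mono (sup_le hA hB)
  have h3 : 0 < finrank k ↥(A ⊓ B) := by omega
  have : Nontrivial ↥(A ⊓ B) := Module.nontrivial_of_finrank_pos h3
  obtain ⟨⟨x, hx⟩, hx0⟩ := exists_ne (0 : ↥(A ⊓ B))
  exact ⟨x, hx, fun h0 => hx0 (Subtype.ext h0)⟩

lemma div_eq_neg_of_mem_L (hK : IsFunctionField k K) {E : Divisor k K} (hdeg : E.deg = 0)
    {z : K} (hzL : z ∈ L E) (hz0 : z ≠ 0) : FunFld.div k z = -E := by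
  have h8 : 0 ≤ E + FunFld.div k z := by
    intro P
    rw [Finsupp.zero_apply, Finsupp.add_apply, div_apply hK]
    have := (val_le_exp_iff P hz0 _).1 (hzL P)
    linarith
  have h9 : (E + FunFld.div k z).deg = 0 := by rw [deg_add, deg_div hK, hdeg, add_zero]
  have h10 := eq_zero_of_nonneg_of_deg_eq_zero hK h8 h9
  rw [eq_neg_iff_add_eq_zero, add_comm]; exact h10

lemma finrank_inf_L_antitone (hK : IsFunctionField k K) (V : Submodule k K) (D : Divisor k K)
    (P : Place k K) {a b : ℤ} (h : a ≤ b) :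
    finrank k ↥(V ⊓ L (D - Finsupp.single P b)) ≤ finrank k ↥(V ⊓ L (D - Finsupp.single P a)) := by
  have hfd : FiniteDimensional k ↥(V ⊓ L (D - Finsupp.single P a)) :=
    have := L_finite hK (D - Finsupp.single P a)
    Submodule.finiteDimensional_of_le inf_le_right
  exact Submodule.finrank_mono (inf_le_inf_left V (L_mono (sub_le_sub_left (single_mono P h) D)))

lemma exists_resK' [IsAlgClosed k] (hK : IsFunctionField k K) (P : Place k K) :
    ∃ ρ : K → k, ρ 0 = 0 ∧ (∀ c : k, ρ (algebraMap k K c) = c) ∧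
      (∀ z w : K, P.1 z ≤ 1 → P.1 w ≤ 1 → ρ (z + w) = ρ z + ρ w) ∧
      (∀ z w : K, P.1 z ≤ 1 → P.1 w ≤ 1 → ρ (z * w) = ρ z * ρ w) ∧
      (∀ z : K, P.1 z ≤ 1 → (ρ z = 0 ↔ P.1 z < 1)) := by
  classical
  have h := residue_finite hK P
  have : Algebra.IsIntegral k (IsLocalRing.ResidueField P.O) :=
    @Algebra.IsIntegral.of_finite k _ _ _ _ h
  have hb : Function.Bijective (algebraMap k (IsLocalRing.ResidueField P.O)) :=
    IsAlgClosed.algebraMap_bijective_of_isIntegral
  let e : k ≃+* IsLocalRing.ResidueField P.O := RingEquiv.ofBijective _ hb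
  let r : P.O →+* k :=
    (e.symm : IsLocalRing.ResidueField P.O →+* k).comp (IsLocalRing.residue P.O)
  have hr0 : ∀ z : P.O, r z = 0 ↔ P.1 (z : K) < 1 := by
    intro z
    show e.symm (IsLocalRing.residue P.O z) = 0 ↔ _
    rw [map_eq_zero_iff _ e.symm.injective, IsLocalRing.residue_eq_zero_iff, mem_maximalIdeal_iff]
  have hrc : ∀ c : k, r (algebraMap k P.O c) = c := by
    intro c
    show e.symm (IsLocalRing.residue P.O (algebraMap k P.O c)) = c
    rw [RingEquiv.symm_apply_eq]
    rfl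
  refine ⟨fun z => if h : P.1 z ≤ 1 then r ⟨z, h⟩ else 0, ?_, ?_, ?_, ?_, ?_⟩
  · have h0 : P.1 (0 : K) ≤ 1 := by rw [map_zero]; exact zero_le_one
    beta_reduce
    rw [dif_pos h0]
    exact map_zero r
  · intro c
    have hc : P.1 (algebraMap k K c) ≤ 1 := P.2.1 c
    beta_reduce
    rw [dif_pos hc]
    exact hrc c
  · intro z w hz hw
    have hzw : P.1 (z + w) ≤ 1 := (P.1.map_add z w).trans (max_le hz hw)
    beta_reduce
    rw [dif_pos hzw, dif_pos hz, dif_pos hw, ← map_add]
    rfl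
  · intro z w hz hw
    have hzw : P.1 (z * w) ≤ 1 := by rw [map_mul]; exact mul_le_one' hz hw
    beta_reduce
    rw [dif_pos hzw, dif_pos hz, dif_pos hw, ← map_mul]
    rfl
  · intro z hz
    beta_reduce
    rw [dif_pos hz]
    exact hr0 ⟨z, hz⟩


lemma ord_neg' (P : Place k K) (x : K) : P.ord (-x) = P.ord x := by
  unfold Place.ord
  rw [Valuation.map_neg]

section LLS
variable [IsAlgClosed k] (hK : IsFunctionField k K)

include hK in
lemma lls_section {d r : ℕ} {D : Divisor k K} (hD : D.deg = d) {V : Submodule k K} (hV : V ≤ L D)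
    (hVr : finrank k ↥V = r + 1) {P P' : Place k K} (hP'P : P' ≠ P) {i m : ℕ} (hi : i ≤ r)
    (h1 : finrank k ↥(V ⊓ L (D - Finsupp.single P' ((m : ℤ)))) = r + 1 - i)
    (h2 : m ≤ d → finrank k ↥(V ⊓ L (D - Finsupp.single P (((d - m : ℕ) : ℤ)))) = i + 1) :
    m ≤ d ∧ ∃ s ∈ V, s ≠ 0 ∧
      FunFld.div k s = Finsupp.single P ((d : ℤ) - m) + Finsupp.single P' (m : ℤ) - D := by
  classical
  have hdP := deg_eq_one_of_isAlgClosed hK P
  have hdP' := deg_eq_one_of_isAlgClosed hK P'
  have hmd : m ≤ d := by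
    by_contra hlt
    push Not at hlt
    have hneg : (D - Finsupp.single P' ((m : ℤ))).deg < 0 := by
      rw [deg_sub, deg_single, hD, hdP']; push_cast; omega
    rw [L_eq_bot_of_deg_neg hK _ hneg, inf_bot_eq, finrank_bot] at h1
    omega
  refine ⟨hmd, ?_⟩
  have h2' := h2 hmd
  have hfV : FiniteDimensional k ↥V := Module.finite_of_finrank_pos (by omega)
  obtain ⟨s, hs, hs0⟩ := exists_mem_inf_ne_zero (V := V)
    (A := V ⊓ L (D - Finsupp.single P (((d - m : ℕ) : ℤ))))
    (B := V ⊓ L (D - Finsupp.single P' ((m : ℤ)))) inf_le_left inf_le_left (by omega)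
  obtain ⟨⟨hsV, hsP⟩, ⟨_, hsP'⟩⟩ := hs
  refine ⟨s, hsV, hs0, ?_⟩
  obtain ⟨E, hE⟩ : ∃ E : Divisor k K,
      E = D - Finsupp.single P ((d : ℤ) - m) - Finsupp.single P' (m : ℤ) := ⟨_, rfl⟩
  have hEdeg : E.deg = 0 := by
    rw [hE, deg_sub, deg_sub, deg_single, deg_single, hD, hdP, hdP']; push_cast; ring
  have hcast : (((d - m : ℕ) : ℤ)) = (d : ℤ) - m := by omega
  have hsE : s ∈ L E := by
    intro R
    by_cases hRP : R = P
    · have := hsP R
      have e1 : E R = (D - Finsupp.single P (((d - m : ℕ) : ℤ))) R := by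
        rw [hE, hRP]
        simp only [Finsupp.sub_apply, Finsupp.single_apply, hP'P, if_false, if_true,
          eq_self_iff_true, hcast]
        ring
      rw [e1]; exact this
    · by_cases hRP' : R = P'
      · have := hsP' R
        have e1 : E R = (D - Finsupp.single P' ((m : ℤ))) R := by
          rw [hE, hRP']
          simp only [Finsupp.sub_apply, Finsupp.single_apply, Ne.symm hP'P, if_false, if_true,
            eq_self_iff_true]
          ring
        rw [e1]; exact this
      · have := hV hsV R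
        have e1 : E R = D R := by
          rw [hE]
          simp only [Finsupp.sub_apply, Finsupp.single_apply, Ne.symm hRP, Ne.symm hRP',
            if_false]
          ring
        rw [e1]; exact this
  have := div_eq_neg_of_mem_L hK hEdeg hsE hs0
  rw [this, hE]; abel

set_option maxHeartbeats 1600000 in
include hK in
theorem lls_false [CharZero k] (hg0 : genus k K = 0) {d r : ℕ} {D : Divisor k K} (hD : D.deg = d)
    {V : Submodule k K} (hV : V ≤ L D) (hVr : finrank k ↥V = r + 1)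
    {QY P P' : Place k K} (hcusp : r ≤ finrank k ↥(V ⊓ L (D - Finsupp.single QY ((2 : ℤ)))))
    (hP : P ≠ QY) (hP'P : P' ≠ P) (hP'Q : P' ≠ QY)
    {i i' m m' : ℕ} (hi' : i' ≤ r) (hii' : i < i')
    (h1 : finrank k ↥(V ⊓ L (D - Finsupp.single P' ((m : ℤ)))) = r + 1 - i)
    (h2 : m ≤ d → finrank k ↥(V ⊓ L (D - Finsupp.single P (((d - m : ℕ) : ℤ)))) = i + 1)
    (h1' : finrank k ↥(V ⊓ L (D - Finsupp.single P' ((m' : ℤ)))) = r + 1 - i')
    (h2' : m' ≤ d → finrank k ↥(V ⊓ L (D - Finsupp.single P (((d - m' : ℕ) : ℤ)))) = i' + 1) :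
    False := by
  classical
  have hi : i ≤ r := by omega
  obtain ⟨hmd, s, hsV, hs0, hsdiv⟩ := lls_section hK hD hV hVr hP'P hi h1 h2
  obtain ⟨hmd', s', hsV', hs0', hsdiv'⟩ := lls_section hK hD hV hVr hP'P hi' h1' h2'
  have hmm' : m < m' := by
    by_contra hle
    push Not at hle
    have := finrank_inf_L_antitone hK V D P' (a := (m' : ℤ)) (b := (m : ℤ)) (by exact_mod_cast hle)
    omega
  -- the coordinate t
  have hdeg0 : Divisor.deg (Finsupp.single P' 1 - Finsupp.single P 1 : Divisor k K) = 0 := by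
    rw [deg_single_sub_single hK]; ring
  have hell1 : 1 ≤ ell (Finsupp.single P' 1 - Finsupp.single P 1 : Divisor k K) := by
    have := (riemann hK).1 (Finsupp.single P' 1 - Finsupp.single P 1 : Divisor k K)
    rw [hdeg0, hg0] at this
    push_cast at this
    omega
  obtain ⟨t, ht0, htdiv⟩ := exists_div_eq_neg hK hdeg0 hell1
  have hos : ∀ R : Place k K, R.ord s =
      (Finsupp.single P ((d : ℤ) - m) + Finsupp.single P' (m : ℤ) - D) R := fun R => by
    rw [← div_apply hK, hsdiv]
  have hos' : ∀ R : Place k K, R.ord s' =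
      (Finsupp.single P ((d : ℤ) - m') + Finsupp.single P' (m' : ℤ) - D) R := fun R => by
    rw [← div_apply hK, hsdiv']
  have hot : ∀ R : Place k K, R.ord t =
      (-(Finsupp.single P' 1 - Finsupp.single P 1 : Divisor k K)) R := fun R => by
    rw [← div_apply hK, htdiv]
  have hotP : P.ord t = 1 := by
    rw [hot, Finsupp.neg_apply, Finsupp.sub_apply, Finsupp.single_apply, Finsupp.single_apply,
      if_neg hP'P, if_pos rfl]; ring
  have hotP' : P'.ord t = -1 := by
    rw [hot, Finsupp.neg_apply, Finsupp.sub_apply, Finsupp.single_apply, Finsupp.single_apply,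
      if_pos rfl, if_neg (Ne.symm hP'P)]; ring
  have hotR : ∀ R : Place k K, R ≠ P → R ≠ P' → R.ord t = 0 := fun R h1 h2 => by
    rw [hot, Finsupp.neg_apply, Finsupp.sub_apply, Finsupp.single_apply, Finsupp.single_apply,
      if_neg (Ne.symm h2), if_neg (Ne.symm h1)]; ring
  obtain ⟨e, he⟩ : ∃ e : ℕ, e = m' - m := ⟨_, rfl⟩
  have he' : (e : ℤ) = (m' : ℤ) - m := by omega
  have hepos : 0 < e := by omega
  obtain ⟨z, hzdef⟩ : ∃ z : K, z = s * s'⁻¹ * (t ^ e)⁻¹ := ⟨_, rfl⟩
  have hz0 : z ≠ 0 := by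
    rw [hzdef]
    exact mul_ne_zero (mul_ne_zero hs0 (inv_ne_zero hs0')) (inv_ne_zero (pow_ne_zero e ht0))
  have hzord : ∀ R : Place k K, R.ord z = 0 := by
    intro R
    rw [hzdef, ord_mul R (mul_ne_zero hs0 (inv_ne_zero hs0')) (inv_ne_zero (pow_ne_zero e ht0)),
      ord_mul R hs0 (inv_ne_zero hs0'), ord_inv, ord_inv, ord_pow, hos, hos', hot, he']
    simp only [Finsupp.sub_apply, Finsupp.add_apply, Finsupp.neg_apply, Finsupp.single_apply]
    split_ifs <;> ring
  have hzL : z ∈ L (0 : Divisor k K) := by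
    intro R
    refine (val_le_exp_iff R hz0 _).2 ?_
    rw [hzord R, Finsupp.zero_apply, neg_zero]
  obtain ⟨c, hc⟩ := mem_range_of_mem_L_of_ell_eq_one (D := (0 : Divisor k K)) le_rfl
    (ell_zero hK) hzL
  have hc0 : c ≠ 0 := by
    intro h
    rw [h, map_zero] at hc
    exact hz0 hc.symm
  have hseq : s = algebraMap k K c * t ^ e * s' := by
    rw [hc, hzdef]
    field_simp
  -- linear independence
  have hlin : LinearIndependent k ![s', s] := by
    rw [LinearIndependent.pair_iff' hs0']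
    intro a ha
    have ha0 : a ≠ 0 := by
      intro h
      rw [h, zero_smul] at ha
      exact hs0 ha.symm
    have h3 : P.ord s = P.ord s' := by
      rw [← ha, Algebra.smul_def, ord_mul P ((map_ne_zero _).2 ha0) hs0', ord_const, zero_add]
    rw [hos, hos'] at h3
    simp only [Finsupp.sub_apply, Finsupp.add_apply, Finsupp.single_apply, hP'P, if_false,
      if_true] at h3
    omega
  have hWfin := finrank_span_eq_card hlin
  rw [Fintype.card_fin] at hWfin
  have hWV : Submodule.span k (Set.range ![s', s]) ≤ V := by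
    rw [Submodule.span_le]
    rintro _ ⟨j, rfl⟩
    fin_cases j
    · exact hsV'
    · exact hsV
  have hfV : FiniteDimensional k ↥V := Module.finite_of_finrank_pos (by omega)
  obtain ⟨w, ⟨hwW, _, hwL⟩, hw0⟩ := exists_mem_inf_ne_zero (V := V)
    (A := Submodule.span k (Set.range ![s', s]))
    (B := V ⊓ L (D - Finsupp.single QY ((2 : ℤ)))) hWV inf_le_left (by omega)
  rw [SetLike.mem_coe, Submodule.mem_span_range_iff_exists_fun] at hwW
  obtain ⟨cf, hcf⟩ := hwW
  rw [Fin.sum_univ_two] at hcf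
  obtain ⟨β, hβ⟩ : ∃ β : k, β = cf 0 := ⟨_, rfl⟩
  obtain ⟨α, hα⟩ : ∃ α : k, α = cf 1 := ⟨_, rfl⟩
  have hw : w = (algebraMap k K (α * c) * t ^ e + algebraMap k K β) * s' := by
    rw [← hcf, ← hβ, ← hα]
    show β • s' + α • s = _
    rw [Algebra.smul_def, Algebra.smul_def, hseq, map_mul]
    ring
  obtain ⟨h, hh⟩ : ∃ h : K, h = algebraMap k K (α * c) * t ^ e + algebraMap k K β := ⟨_, rfl⟩
  rw [← hh] at hw
  have hh0 : h ≠ 0 := by
    intro h0
    rw [h0, zero_mul] at hw
    exact hw0 hw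
  -- order of h at QY
  have hQs' : QY.ord s' = -D QY := by
    rw [hos']
    simp only [Finsupp.sub_apply, Finsupp.add_apply, Finsupp.single_apply, if_neg hP,
      if_neg hP'Q]
    ring
  have hQh : 2 ≤ QY.ord h := by
    have h5 := (val_le_exp_iff QY hw0 _).1 (hwL QY)
    rw [hw, ord_mul QY hh0 hs0', hQs', Finsupp.sub_apply, Finsupp.single_apply, if_pos rfl] at h5
    linarith
  have hQhval : QY.1 h < 1 := (ord_pos_iff QY hh0).1 (by omega)
  -- residue map
  obtain ⟨ρ, hρ0, hρc, hρadd, hρmul, hρker⟩ := exists_resK' hK QY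
  have hQt : QY.1 t = 1 := (ord_eq_zero_iff QY ht0).1 (hotR QY (Ne.symm hP) (Ne.symm hP'Q))
  have hτ0 : ρ t ≠ 0 := by
    intro h0
    have := (hρker t hQt.le).1 h0
    rw [hQt] at this
    exact lt_irrefl _ this
  have hpow : ∀ n : ℕ, QY.1 (t ^ n) = 1 ∧ ρ (t ^ n) = (ρ t) ^ n := by
    intro n
    induction n with
    | zero =>
      refine ⟨by rw [pow_zero, map_one], ?_⟩
      rw [pow_zero, pow_zero]
      have := hρc 1
      rwa [map_one] at this
    | succ n ih =>
      refine ⟨by rw [map_pow, hQt, one_pow], ?_⟩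
      rw [pow_succ, pow_succ, hρmul _ _ ih.1.le hQt.le, ih.2]
  have hconst : ∀ a : k, QY.1 (algebraMap k K a) ≤ 1 := fun a => QY.2.1 a
  have hρh : ρ h = α * c * (ρ t) ^ e + β := by
    rw [hh, hρadd _ _ (by rw [map_mul, (hpow e).1, mul_one]; exact hconst _) (hconst _),
      hρmul _ _ (hconst _) (hpow e).1.le, hρc, hρc, (hpow e).2]
  have hρh0 : ρ h = 0 := (hρker h hQhval.le).2 hQhval
  have hβeq : β = -(α * c * (ρ t) ^ e) := by
    rw [hρh] at hρh0
    exact eq_neg_of_add_eq_zero_right hρh0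
  have hα0 : α ≠ 0 := by
    intro h0
    rw [h0] at hβeq
    rw [hh, h0, hβeq] at hh0
    simp at hh0
  obtain ⟨T, hT⟩ : ∃ T : K, T = algebraMap k K (ρ t) := ⟨_, rfl⟩
  have hh2 : h = algebraMap k K (α * c) * (t ^ e - T ^ e) := by
    rw [hh, hβeq, hT, map_neg, map_mul (algebraMap k K) (α * c), map_pow]
    ring
  obtain ⟨S, hS⟩ : ∃ S : K, S = ∑ j ∈ Finset.range e, t ^ j * T ^ (e - 1 - j) := ⟨_, rfl⟩
  have hfac : t ^ e - T ^ e = S * (t - T) := by
    rw [hS, geom_sum₂_mul]
  -- ρ on finite sums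
  have hsum : ∀ (F : Finset ℕ) (f : ℕ → K), (∀ j ∈ F, QY.1 (f j) ≤ 1) →
      QY.1 (∑ j ∈ F, f j) ≤ 1 ∧ ρ (∑ j ∈ F, f j) = ∑ j ∈ F, ρ (f j) := by
    intro F f
    induction F using Finset.induction_on with
    | empty =>
      intro _
      rw [Finset.sum_empty, Finset.sum_empty, map_zero]
      exact ⟨zero_le, hρ0⟩
    | insert a F ha ih =>
      intro hf
      have h1 := ih (fun j hj => hf j (Finset.mem_insert_of_mem hj))
      have h2 := hf a (Finset.mem_insert_self a F)
      rw [Finset.sum_insert ha, Finset.sum_insert ha]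
      refine ⟨(QY.1.map_add _ _).trans (max_le h2 h1.1), ?_⟩
      rw [hρadd _ _ h2 h1.1, h1.2]
  have hTval : QY.1 T = 1 := by rw [hT]; exact val_const QY hτ0
  have hterm : ∀ j ∈ Finset.range e, QY.1 (t ^ j * T ^ (e - 1 - j)) ≤ 1 := by
    intro j _
    rw [map_mul, map_pow, map_pow, hQt, hTval, one_pow, one_pow, one_mul]
  have hρterm : ∀ j ∈ Finset.range e, ρ (t ^ j * T ^ (e - 1 - j)) = (ρ t) ^ (e - 1) := by
    intro j hj
    rw [Finset.mem_range] at hj
    have hTpow : T ^ (e - 1 - j) = algebraMap k K ((ρ t) ^ (e - 1 - j)) := by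
      rw [hT, map_pow]
    rw [hρmul _ _ (hpow j).1.le (by rw [hTpow]; exact hconst _), (hpow j).2, hTpow, hρc,
      ← pow_add]
    congr 1
    omega
  have hρS : ρ S = (e : k) * (ρ t) ^ (e - 1) := by
    rw [hS, (hsum _ _ hterm).2, Finset.sum_congr rfl hρterm, Finset.sum_const, Finset.card_range,
      nsmul_eq_mul]
  have hSval : QY.1 S = 1 := by
    have hle : QY.1 S ≤ 1 := by rw [hS]; exact (hsum _ _ hterm).1
    rcases lt_or_eq_of_le hle with hlt | heq
    · exfalso
      have := (hρker S hle).2 hlt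
      rw [hρS] at this
      rcases mul_eq_zero.1 this with h6 | h6
      · exact (Nat.cast_ne_zero.2 hepos.ne') h6
      · exact (pow_ne_zero _ hτ0) h6
    · exact heq
  have hS0 : S ≠ 0 := by
    intro h0
    rw [h0, map_zero] at hSval
    exact zero_ne_one hSval
  obtain ⟨u, hu⟩ : ∃ u : K, u = t - T := ⟨_, rfl⟩
  have hu0 : u ≠ 0 := by
    intro h0
    rw [hu, sub_eq_zero] at h0
    have := hotP
    rw [h0, hT, ord_const] at this
    exact zero_ne_one this
  have hQu : 2 ≤ QY.ord u := by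
    have h7 : QY.ord h = QY.ord u := by
      rw [hh2, hfac, ← hu, ord_mul QY ((map_ne_zero _).2 (mul_ne_zero hα0 hc0))
        (mul_ne_zero hS0 hu0), ord_const, zero_add, ord_mul QY hS0 hu0,
        (ord_eq_zero_iff QY hS0).2 hSval, zero_add]
    omega
  have huL : u ∈ L (Finsupp.single P' 1 - Finsupp.single QY 2 : Divisor k K) := by
    intro R
    by_cases hRQ : R = QY
    · rw [hRQ]
      refine (val_le_exp_iff QY hu0 _).2 ?_
      rw [Finsupp.sub_apply, Finsupp.single_apply, Finsupp.single_apply, if_neg hP'Q, if_pos rfl]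
      omega
    · by_cases hRP' : R = P'
      · rw [hRP', Finsupp.sub_apply, Finsupp.single_apply, Finsupp.single_apply, if_pos rfl,
          if_neg (Ne.symm hP'Q), sub_zero, hu]
        have h8 : P'.1 t ≤ WithZero.exp (1 : ℤ) := by
          refine (val_le_exp_iff P' ht0 _).2 ?_
          rw [hotP']
        have h9 : P'.1 T ≤ WithZero.exp (1 : ℤ) := by
          rw [hT]
          refine (P'.2.1 _).trans ?_
          rw [← WithZero.exp_zero]
          exact WithZero.exp_le_exp.2 (by norm_num)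
        exact Valuation.map_sub_le _ h8 h9
      · rw [Finsupp.sub_apply, Finsupp.single_apply, Finsupp.single_apply,
          if_neg (Ne.symm hRP'), if_neg (Ne.symm hRQ), sub_zero, WithZero.exp_zero, hu]
        have h8 : R.1 t ≤ 1 := by
          have h10 : -(0 : ℤ) ≤ R.ord t := by
            by_cases hRP : R = P
            · rw [hRP, hotP]; norm_num
            · rw [hotR R hRP hRP']; norm_num
          have h11 := (val_le_exp_iff R ht0 0).2 h10
          rwa [WithZero.exp_zero] at h11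
        have h9 : R.1 T ≤ 1 := by rw [hT]; exact R.2.1 _
        exact Valuation.map_sub_le _ h8 h9
  have hneg : (Finsupp.single P' 1 - Finsupp.single QY 2 : Divisor k K).deg < 0 := by
    rw [deg_single_sub_single hK]; norm_num
  rw [L_eq_bot_of_deg_neg hK _ hneg, Submodule.mem_bot] at huL
  exact hu0 huL

end LLS

end Groth.Agent.Helper17.FF
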