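import Mathlib
import Groth.Agent.Lib.Helper17.FFZ1
namespace Groth.Agent.Helper17.FF

universe u v w

open FunFld Polynomial Module IntermediateField

section NonSing

variable {k k' : Type u} {K K' : Type v} [Field k] [Field k'] [Field K] [Field K']
    [Algebra k k'] [Algebra k K] [Algebra K K'] [Algebra k' K'] [Algebra k K']
    [IsScalarTower k k' K'] [IsScalarTower k K K']

theorem residueField_eq_adjoin_of_nonsingular [FiniteDimensional K K']
    (hK : FunFld.IsFunctionField k K)
    (P : FunFld.Place k K) [Algebra P.O K'] [IsScalarTower P.O K K']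
    (hns : (integralClosure P.O K').toSubring =
      (Algebra.adjoin P.O (Set.range (algebraMap k' K'))).toSubring)
    (Q : FunFld.Place k K') [P.1.HasExtension Q.1] (hk' : ∀ c : k', Q.1 (algebraMap k' K' c) ≤ 1) :
    Algebra.adjoin (IsLocalRing.ResidueField P.O)
      (Set.range fun c : k' => IsLocalRing.residue Q.O ⟨algebraMap k' K' c, hk' c⟩) = ⊤ := by
  classical
  haveI : Algebra.IsAlgebraic K K' := Algebra.IsAlgebraic.of_finite K K'
  have hKw : IsWeakFF k K := IsWeakFF.of_isFunctionField hK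
  have hmap : ∀ r : P.O, algebraMap P.O K' r = algebraMap K K' (r : K) := fun r =>
    IsScalarTower.algebraMap_apply P.O K K' r
  -- `Q` lies over `P`
  have hQP : IsOver Q P := by
    obtain ⟨P', e, he⟩ := exists_isOverWith (k := k) (K := K) (K' := K') hK Q
    have : P' = P := by
      apply place_ext
      intro x
      rw [← isOverWith_le_one_iff he x]
      exact Valuation.HasExtension.val_map_le_one_iff P.1 Q.1 x
    rw [← this]
    exact ⟨e, he⟩
  set S := Algebra.adjoin (IsLocalRing.ResidueField P.O)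
      (Set.range fun c : k' => IsLocalRing.residue Q.O ⟨algebraMap k' K' c, hk' c⟩) with hS
  have hmem : ∀ w ∈ Algebra.adjoin P.O (Set.range (algebraMap k' K')),
      ∃ hw : Q.1 w ≤ 1, IsLocalRing.residue Q.O ⟨w, hw⟩ ∈ S := by
    intro w hw
    induction hw using Algebra.adjoin_induction with
    | mem x hx =>
      obtain ⟨c, rfl⟩ := hx
      exact ⟨hk' c, Algebra.subset_adjoin ⟨c, rfl⟩⟩
    | algebraMap r =>
      have hr1 : Q.1 (algebraMap P.O K' r) ≤ 1 := by
        rw [hmap]
        exact (Valuation.HasExtension.val_map_le_one_iff P.1 Q.1 _).2 r.2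
      refine ⟨hr1, ?_⟩
      have h5 : (⟨algebraMap P.O K' r, hr1⟩ : Q.O) = algebraMap P.O Q.O r :=
        Subtype.ext (hmap r)
      rw [h5, ← Valuation.HasExtension.algebraMap_residue_eq_residue_algebraMap]
      exact Subalgebra.algebraMap_mem S _
    | add x y hx hy hx' hy' =>
      obtain ⟨hx1, hx2⟩ := hx'
      obtain ⟨hy1, hy2⟩ := hy'
      have hxy1 : Q.1 (x + y) ≤ 1 := (Q.1.map_add x y).trans (max_le hx1 hy1)
      refine ⟨hxy1, ?_⟩
      have : (⟨x + y, hxy1⟩ : Q.O) = ⟨x, hx1⟩ + ⟨y, hy1⟩ := rfl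
      rw [this, map_add]
      exact S.add_mem hx2 hy2
    | mul x y hx hy hx' hy' =>
      obtain ⟨hx1, hx2⟩ := hx'
      obtain ⟨hy1, hy2⟩ := hy'
      have hxy1 : Q.1 (x * y) ≤ 1 := by rw [map_mul]; exact mul_le_one' hx1 hy1
      refine ⟨hxy1, ?_⟩
      have : (⟨x * y, hxy1⟩ : Q.O) = ⟨x, hx1⟩ * ⟨y, hy1⟩ := rfl
      rw [this, map_mul]
      exact S.mul_mem hx2 hy2
  obtain ⟨hSfin, -⟩ := sum_ramIdx_mul_deg (K' := K') hK P
  rw [eq_top_iff]
  intro y _
  obtain ⟨z, rfl⟩ := IsLocalRing.residue_surjective y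
  haveI : Fintype ↥hSfin.toFinset := inferInstance
  obtain ⟨w, hw⟩ := weak_approx (fun i : ↥hSfin.toFinset => (i : Place k K'))
    Subtype.val_injective (fun i => if (i : Place k K') = Q then (z : K') else 0) (fun _ => 0)
  have hwQ : Q.1 (w - z) < 1 := by
    have hQmem : Q ∈ hSfin.toFinset := by
      rw [Set.Finite.mem_toFinset]; exact hQP
    have := hw ⟨Q, hQmem⟩
    simpa using this
  have hwint : w ∈ integralClosure P.O K' := by
    rw [(integralClosure_eq_and_finite (K' := K') hKw P).1]
    intro Q' hQ'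
    by_cases hQQ : Q' = Q
    · subst hQQ
      have : w = (w - z) + z := by ring
      rw [this]
      exact (Q'.1.map_add _ _).trans (max_le hwQ.le z.2)
    · have hQ'mem : Q' ∈ hSfin.toFinset := by
        rw [Set.Finite.mem_toFinset]; exact hQ'
      have := hw ⟨Q', hQ'mem⟩
      simp only [if_neg hQQ, sub_zero, neg_zero, WithZero.exp_zero] at this
      exact this.le
  have hwadj : w ∈ Algebra.adjoin P.O (Set.range (algebraMap k' K')) := by
    have h7 : w ∈ (integralClosure P.O K').toSubring := hwint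
    rw [hns] at h7
    exact h7
  obtain ⟨hw1, hw2⟩ := hmem w hwadj
  have hres : IsLocalRing.residue Q.O z = IsLocalRing.residue Q.O ⟨w, hw1⟩ := by
    rw [residue_eq_iff]
    show Q.1 ((z : K') - w) < 1
    rw [← neg_sub, Valuation.map_neg]
    exact hwQ
  rw [hres]
  exact hw2

end NonSing

end Groth.Agent.Helper17.FF
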