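import Mathlib
import Groth.Agent.Lib.Helper17.FFConst
import Groth.Agent.Lib.Helper17.FFNorm
import Groth.Agent.Lib.Helper17.FFIn3
namespace Groth.Agent.Helper17.FF

open FunFld Polynomial Module IntermediateField
open scoped TensorProduct

universe u v

section PI

variable {k k' : Type u} {K K' : Type v} [Field k] [Field k'] [Field K] [Field K']
    [Algebra k k'] [Algebra k K] [Algebra K K'] [Algebra k' K'] [Algebra k K']
    [IsScalarTower k k' K'] [IsScalarTower k K K']

/-- a `q`-power-closed condition on constants passes to all of `k' ⊗ K` -/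
theorem pow_mem_of_const
    (h : Function.Surjective (Algebra.TensorProduct.productMap
      (IsScalarTower.toAlgHom k k' K') (IsScalarTower.toAlgHom k K K')))
    (M : IntermediateField K K') (q : ℕ) [ExpChar K' q]
    (hc : ∀ c : k', ∃ m : ℕ, (algebraMap k' K' c) ^ q ^ m ∈ M) :
    ∀ y : K', ∃ m : ℕ, y ^ q ^ m ∈ M := by
  intro y
  obtain ⟨z, rfl⟩ := h y
  induction z using TensorProduct.induction_on with
  | zero =>
    refine ⟨0, ?_⟩
    rw [map_zero, pow_zero, pow_one]
    exact zero_mem M
  | tmul c x =>
    obtain ⟨m, hm⟩ := hc c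
    refine ⟨m, ?_⟩
    rw [Algebra.TensorProduct.productMap_apply_tmul, mul_pow]
    refine mul_mem hm (pow_mem ?_ _)
    exact M.algebraMap_mem x
  | add a b ha hb =>
    obtain ⟨m₁, h₁⟩ := ha
    obtain ⟨m₂, h₂⟩ := hb
    refine ⟨m₁ + m₂, ?_⟩
    rw [map_add, add_pow_expChar_pow]
    refine add_mem ?_ ?_
    · rw [pow_add, pow_mul]
      exact pow_mem h₁ _
    · rw [add_comm m₁ m₂, pow_add, pow_mul]
      exact pow_mem h₂ _

/-- `K'/M` is purely inseparable if the constants are purely inseparable over `M` -/
theorem isPurelyInseparable_of_const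
    (h : Function.Surjective (Algebra.TensorProduct.productMap
      (IsScalarTower.toAlgHom k k' K') (IsScalarTower.toAlgHom k K K')))
    (M : IntermediateField K K') (q : ℕ) [ExpChar K' q]
    (hc : ∀ c : k', ∃ m : ℕ, (algebraMap k' K' c) ^ q ^ m ∈ M) :
    IsPurelyInseparable M K' := by
  have : ExpChar M q := ((algebraMap M K').expChar_iff (algebraMap M K').injective q).2 inferInstance
  rw [isPurelyInseparable_iff_pow_mem M q]
  intro y
  obtain ⟨m, hm⟩ := pow_mem_of_const h M q hc y
  exact ⟨m, ⟨⟨_, hm⟩, rfl⟩⟩

end PI

open FunFld Polynomial Module IntermediateField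

section ConstRes

variable {k K L E : Type*} [Field k] [Field K] [Field L] [Field E] [Algebra k K] [Algebra K L]
  [Algebra k L] [IsScalarTower k K L] [Algebra k E]

/-- constants (elements algebraic over `k`) map to the residue field -/
noncomputable def constRes [Algebra.IsAlgebraic k E] (R : Place k L) (j : E →ₐ[k] L) :
    E →ₐ[k] IsLocalRing.ResidueField R.O :=
  { (IsLocalRing.residue R.O).comp (j.toRingHom.codRestrict R.O.toSubring (fun c =>
      val_le_one_of_isIntegral R.1 R.2.1
        ((Algebra.IsAlgebraic.isAlgebraic (R := k) c).isIntegral.map j))) with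
    commutes' := fun a => by
      show IsLocalRing.residue R.O _ = IsLocalRing.residue R.O (algebraMap k R.O a)
      congr 1
      apply Subtype.ext
      show j (algebraMap k E a) = algebraMap k L a
      exact j.commutes a }

attribute [-instance] IsLocalRing.instModuleResidueFieldOfAlgebra in
theorem mul_deg_le_of_separable_const [Algebra.IsSeparable k E]
    (j : E →ₐ[k] L) {R : Place k L} {P : Place k K} {e : ℕ} (he : IsOverWith R P e)
    [IsPurelyInseparable k (IsLocalRing.ResidueField P.O)]
    [FiniteDimensional k (IsLocalRing.ResidueField R.O)] :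
    finrank k E * P.deg ≤ R.deg := by
  have halg : Algebra.IsAlgebraic k E := Algebra.IsSeparable.isAlgebraic k E
  set ψ := constRes R j with hψ
  set κ : IntermediateField k (IsLocalRing.ResidueField R.O) := ψ.fieldRange with hκ
  set A : IntermediateField k (IsLocalRing.ResidueField R.O) := (resMap he).fieldRange with hA
  have h1 : finrank k κ = finrank k E :=
    (AlgEquiv.ofInjectiveField ψ).toLinearEquiv.finrank_eq.symm
  have h2 : finrank k A = P.deg := finrank_fieldRange_resMap he
  have hsep : Algebra.IsSeparable k κ := AlgEquiv.Algebra.isSeparable (AlgEquiv.ofInjectiveField ψ)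
  have hpi : IsPurelyInseparable k A := (AlgEquiv.ofInjectiveField (resMap he)).isPurelyInseparable
  have hld : κ.LinearDisjoint A :=
    IntermediateField.linearDisjoint_of_isPurelyInseparable_of_isSeparable (E := A) κ
  have h3 := hld.finrank_sup
  have h4 : finrank k ↥(κ ⊔ A) ≤ finrank k (IsLocalRing.ResidueField R.O) :=
    Submodule.finrank_le (κ ⊔ A).toSubalgebra.toSubmodule
  rw [h3, h1, h2] at h4
  exact h4

end ConstRes

open FunFld Polynomial Module IntermediateField

section AdjoinConst

variable {k K L E : Type*} [Field k] [Field K] [Field L] [Field E] [Algebra k K] [Algebra K L]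
  [Algebra k L] [IsScalarTower k K L] [Algebra k E] [FiniteDimensional k E]

/-- adjoining a finite extension of the constants has degree at most that of the constants -/
theorem finrank_adjoin_const_le (j : E →ₐ[k] L) :
    FiniteDimensional K (IntermediateField.adjoin K (Set.range j)) ∧
    finrank K (IntermediateField.adjoin K (Set.range j)) ≤ finrank k E := by
  classical
  have halgS : ∀ x ∈ Set.range j, IsAlgebraic K x := by
    rintro _ ⟨c, rfl⟩
    have h1 : IsAlgebraic k (j c) := (Algebra.IsAlgebraic.isAlgebraic (R := k) c).algHom j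
    exact h1.tower_top K
  have h1 : (IntermediateField.adjoin K (Set.range j)).toSubalgebra = Algebra.adjoin K (Set.range j) :=
    IntermediateField.adjoin_toSubalgebra_of_isAlgebraic halgS
  have h2 : (Algebra.adjoin K (Set.range j)).toSubmodule =
      Submodule.span K (Set.range j) := by
    rw [Algebra.adjoin_eq_span]
    congr 1
    have : (Set.range j) = ((MonoidHom.mrange (j : E →* L) : Submonoid L) : Set L) := rfl
    rw [this, Submonoid.closure_eq]
  let b := Module.finBasis k E
  have h3 : Submodule.span K (Set.range j) = Submodule.span K (Set.range (j ∘ b)) := by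
    apply le_antisymm
    · rw [Submodule.span_le]
      rintro _ ⟨c, rfl⟩
      rw [← b.sum_repr c, map_sum]
      refine Submodule.sum_mem _ (fun i _ => ?_)
      rw [map_smul]
      refine Submodule.smul_of_tower_mem _ _ (Submodule.subset_span ⟨i, rfl⟩)
    · refine Submodule.span_mono ?_
      rintro _ ⟨i, rfl⟩
      exact ⟨b i, rfl⟩
  have h4 : (IntermediateField.adjoin K (Set.range j)).toSubalgebra.toSubmodule =
      Submodule.span K (Set.range (j ∘ b)) := by rw [h1, h2, h3]
  have hfin : FiniteDimensional K (Submodule.span K (Set.range (j ∘ b))) :=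
    FiniteDimensional.span_of_finite K (Set.finite_range _)
  have h5 : finrank K (Submodule.span K (Set.range (j ∘ b))) ≤ Fintype.card (Fin (finrank k E)) :=
    finrank_range_le_card (R := K) (j ∘ b)
  rw [← h4] at h5 hfin
  refine ⟨hfin, ?_⟩
  refine h5.trans ?_
  simp

end AdjoinConst

open FunFld Polynomial Module IntermediateField
open scoped TensorProduct


section PIUnique

variable {k k' : Type u} {K K' : Type v} [Field k] [Field k'] [Field K] [Field K']
    [Algebra k k'] [FiniteDimensional k k'] [Algebra k K] [Algebra K K'] [Algebra k' K']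
    [Algebra k K'] [IsScalarTower k k' K'] [IsScalarTower k K K']

theorem existsUnique_place_over_const
    (h : Function.Bijective (Algebra.TensorProduct.productMap
      (IsScalarTower.toAlgHom k k' K') (IsScalarTower.toAlgHom k K K')))
    (hK : IsFunctionField k K) (P : Place k K)
    (hpi : IsPurelyInseparable k k' ∨ IsPurelyInseparable k (IsLocalRing.ResidueField P.O)) :
    ∃! Q : Place k K', IsOver Q P := by
  classical
  have hfin : FiniteDimensional K K' := finite_const h
  have hKw := IsWeakFF.of_isFunctionField hK
  obtain ⟨hfinset, hsum⟩ := wk_sum_ramIdx_mul_deg (L := K') hKw P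
  have hex : ∃ Q : Place k K', IsOver Q P := by
    by_contra hno
    push Not at hno
    have h1 := hsum ∅ (fun Q => by simp [hno Q])
    rw [Finset.sum_empty] at h1
    have h2 : 0 < finrank K K' * P.deg := Nat.mul_pos Module.finrank_pos (deg_pos hK P)
    omega
  obtain ⟨Q₀, hQ₀⟩ := hex
  refine ⟨Q₀, hQ₀, fun Q hQ => ?_⟩
  have hq : ExpChar k (ringExpChar k) := inferInstance
  have hqK' : ExpChar K' (ringExpChar k) :=
    expChar_of_injective_algebraMap (algebraMap k K').injective _
  rcases hpi with hpi | hpi
  · have hpiK : IsPurelyInseparable K K' := by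
      have hqK : ExpChar K (ringExpChar k) :=
        expChar_of_injective_algebraMap (algebraMap k K).injective _
      rw [isPurelyInseparable_iff_pow_mem K (ringExpChar k)]
      intro y
      obtain ⟨m, hm⟩ := pow_mem_of_const h.2 (⊥ : IntermediateField K K') (ringExpChar k)
        (fun c => by
          obtain ⟨m, a, ha⟩ := IsPurelyInseparable.pow_mem k (ringExpChar k) c
          refine ⟨m, ?_⟩
          rw [← map_pow, ← ha, ← IsScalarTower.algebraMap_apply,
            IsScalarTower.algebraMap_apply k K K']
          exact (⊥ : IntermediateField K K').algebraMap_mem _) y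
      exact ⟨m, IntermediateField.mem_bot.1 hm⟩
    exact unique_place_over_of_isPurelyInseparable hQ hQ₀
  · let E := separableClosure k k'
    let j : E →ₐ[k] K' := (IsScalarTower.toAlgHom k k' K').comp E.val
    let M := IntermediateField.adjoin K (Set.range j)
    obtain ⟨hMfin, hMle⟩ := finrank_adjoin_const_le (K := K) j
    have hMw : IsWeakFF k M := isWeakFF_of_finite (K := K) hK
    have hst : IsScalarTower k M K' := IsScalarTower.of_algebraMap_eq (fun _ => rfl)
    have hqE : ExpChar E (ringExpChar k) :=
      expChar_of_injective_algebraMap (algebraMap k E).injective _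
    have hpiE : IsPurelyInseparable E k' := separableClosure.isPurelyInseparable k k'
    have hpiM : IsPurelyInseparable M K' := isPurelyInseparable_of_const h.2 M (ringExpChar k)
      (fun c => by
        obtain ⟨m, a, ha⟩ := IsPurelyInseparable.pow_mem E (ringExpChar k) c
        refine ⟨m, ?_⟩
        rw [← map_pow, ← ha]
        exact IntermediateField.subset_adjoin K _ ⟨a, rfl⟩)
    have halg : Algebra.IsAlgebraic M K' := Algebra.IsAlgebraic.of_finite M K'
    obtain ⟨R, e₂, h₂⟩ := wk_exists_isOverWith (M := M) (L := K') hMw Q
    obtain ⟨R₀, e₀, h₀⟩ := wk_exists_isOverWith (M := M) (L := K') hMw Q₀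
    have hR : IsOver R P := isOver_of_tower hKw ⟨e₂, h₂⟩ hQ
    have hR₀ : IsOver R₀ P := isOver_of_tower hKw ⟨e₀, h₀⟩ hQ₀
    -- the constants inside `M`
    let j' : E →ₐ[k] M :=
      { toFun := fun c => ⟨j c, IntermediateField.subset_adjoin K _ ⟨c, rfl⟩⟩
        map_one' := Subtype.ext (map_one j)
        map_mul' := fun a b => Subtype.ext (map_mul j a b)
        map_zero' := Subtype.ext (map_zero j)
        map_add' := fun a b => Subtype.ext (map_add j a b)
        commutes' := fun a => Subtype.ext (j.commutes a) }
    have hdeg : ∀ R' : Place k M, IsOver R' P → finrank k E * P.deg ≤ R'.deg := by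
      intro R' hR'
      obtain ⟨e', he'⟩ := hR'
      have hfd := wk_residue_finite hMw R'
      exact @mul_deg_le_of_separable_const k K M E _ _ _ _ _ _ _ _ _ _ j' R' P e' he' hpi hfd
    have hRR : R = R₀ := by
      by_contra hne
      obtain ⟨hfinM, hsumM⟩ := wk_sum_ramIdx_mul_deg (L := M) hKw P
      have hsumM' := hsumM hfinM.toFinset (fun R' => by simp [Set.Finite.mem_toFinset])
      have hsub : ({R, R₀} : Finset (Place k M)) ⊆ hfinM.toFinset := by
        intro R' hR'
        rw [Finset.mem_insert, Finset.mem_singleton] at hR'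
        rcases hR' with rfl | rfl
        · simpa [Set.Finite.mem_toFinset] using hR
        · simpa [Set.Finite.mem_toFinset] using hR₀
      have h1 : ∑ R' ∈ ({R, R₀} : Finset (Place k M)), ramIdx R' P * R'.deg ≤
          ∑ R' ∈ hfinM.toFinset, ramIdx R' P * R'.deg :=
        Finset.sum_le_sum_of_subset hsub
      rw [Finset.sum_pair hne, hsumM'] at h1
      have h2 : finrank k E * P.deg ≤ ramIdx R P * R.deg :=
        (hdeg R hR).trans (Nat.le_mul_of_pos_left _ (ramIdx_pos hR))
      have h3 : finrank k E * P.deg ≤ ramIdx R₀ P * R₀.deg :=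
        (hdeg R₀ hR₀).trans (Nat.le_mul_of_pos_left _ (ramIdx_pos hR₀))
      have h4 : finrank K M * P.deg ≤ finrank k E * P.deg := Nat.mul_le_mul_right _ hMle
      have h5 : 0 < finrank k E * P.deg := Nat.mul_pos Module.finrank_pos (deg_pos hK P)
      omega
    subst hRR
    exact unique_place_over_of_isPurelyInseparable (M := M) ⟨e₂, h₂⟩ ⟨e₀, h₀⟩

end PIUnique

end Groth.Agent.Helper17.FF
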