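import Mathlib
import Groth.Agent.Lib.Helper17.FFUR2
import Groth.Agent.Lib.Helper17.FF17
import Groth.Agent.Lib.Helper17.FFIn
import Groth.Agent.Lib.Helper17.FFSep
import Groth.Agent.Lib.Helper17.FFSub
namespace Groth.Agent.Helper17.FF

universe u v w

open FunFld Polynomial Module IntermediateField

section SP1

variable {k K : Type*} [Field k] [Field K] [Algebra k K]

theorem infinite_places (hK : IsFunctionField k K) : Infinite (Place k K) := by
  classical
  by_contra hfin
  rw [not_infinite_iff_finite] at hfin
  haveI := Fintype.ofFinite (Place k K)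
  obtain ⟨y, hy⟩ := weak_approx_exact (fun P : Place k K => P) Function.injective_id
    (fun _ => 0) (fun _ => -1)
  have hy' : ∀ P : Place k K, P.1 y = WithZero.exp (1 : ℤ) := by
    intro P
    have := hy P
    simpa using this
  have hlt : (1 : WithZero (Multiplicative ℤ)) < WithZero.exp (1 : ℤ) := by
    rw [← WithZero.exp_zero, WithZero.exp_lt_exp]; omega
  have hyk : y ∉ Set.range (algebraMap k K) := by
    rintro ⟨c, rfl⟩
    obtain ⟨⟨x, hx, _⟩, _⟩ := id hK
    obtain ⟨P, _⟩ := exists_zero hK (not_mem_range_of_transcendental hx)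
    have h2 := P.2.1 c
    rw [hy' P] at h2
    exact absurd h2 (not_le.2 hlt)
  obtain ⟨P, hP⟩ := exists_zero hK hyk
  rw [hy' P] at hP
  exact absurd (hP.trans hlt) (lt_irrefl _)

theorem deg_eq_one_of_zero_of_adjoin_eq_top (hK : IsFunctionField k K) {x : K}
    (hx : IntermediateField.adjoin k ({x} : Set K) = ⊤) (c : k) (P : Place k K)
    (hP : P.1 (x - algebraMap k K c) < 1) : P.deg = 1 := by
  have hxc : IntermediateField.adjoin k ({x - algebraMap k K c} : Set K) = ⊤ := by
    rw [eq_top_iff, ← hx, IntermediateField.adjoin_simple_le_iff]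
    have h1 : x - algebraMap k K c ∈ IntermediateField.adjoin k ({x - algebraMap k K c} : Set K) :=
      IntermediateField.mem_adjoin_simple_self k _
    have h2 := add_mem h1 (IntermediateField.algebraMap_mem _ c)
    simpa using h2
  have hu : IntermediateField.adjoin k ({(x - algebraMap k K c)⁻¹} : Set K) = ⊤ := by
    rw [adjoin_inv, hxc]
  obtain ⟨P₀, hP₀, hord, hothers⟩ := simple_pole_of_adjoin_eq_top hK hu
  have hne : x - algebraMap k K c ≠ 0 := by
    intro h0
    rw [h0, inv_zero] at hord
    rw [ord_zero] at hord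
    omega
  by_cases hPP : P = P₀
  · rw [hPP]; exact hP₀
  · exfalso
    have h1 := hothers P hPP
    rw [ord_inv] at h1
    have h2 := (ord_pos_iff P hne).2 hP
    omega

end SP1

section SP2

variable {k : Type u} {K : Type v} {K' : Type w} [Field k] [Field K] [Field K'] [Algebra k K]
  [Algebra K K'] [Algebra k K'] [IsScalarTower k K K'] [FiniteDimensional K K']

/-- at a good place of degree one, the residue fields of the places above are separable. -/
theorem isSeparable_residue_of_good (hK : IsWeakFF k K) [Algebra.IsSeparable K K']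
    (pb : PowerBasis K K') (a b : K[X])
    (hab : a * minpoly K pb.gen + b * derivative (minpoly K pb.gen) = 1) (P : Place k K)
    (hg : ∀ n, P.1 ((minpoly K pb.gen).coeff n) ≤ 1) (ha : ∀ n, P.1 (a.coeff n) ≤ 1)
    (hb : ∀ n, P.1 (b.coeff n) ≤ 1) (hd : P.1 (Algebra.discr K pb.basis) = 1)
    (hP : Function.Surjective (algebraMap k (IsLocalRing.ResidueField P.O)))
    {Q : Place k K'} {e : ℕ} (he : IsOverWith Q P e) :
    Algebra.IsSeparable k (IsLocalRing.ResidueField Q.O) := by
  classical
  set y := pb.gen with hy
  set g := minpoly K y with hgdef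
  have hyint0 : IsIntegral K y := IsIntegral.of_finite K y
  have hgm : g.Monic := minpoly.monic hyint0
  letI algPO : Algebra P.O K' := ((algebraMap K K').comp P.O.subtype).toAlgebra
  have hst : IsScalarTower P.O K K' := IsScalarTower.of_algebraMap_eq (fun _ => rfl)
  have hinj : Function.Injective (P.O.subtype : P.O →+* K) := Subtype.val_injective
  obtain ⟨gO, hgO, -, hgOm⟩ :=
    Polynomial.lifts_and_degree_eq_and_monic (mem_lifts_of_coeff_le_one P g hg) hgm
  obtain ⟨aO, haO⟩ := mem_lifts_of_coeff_le_one P a ha
  obtain ⟨bO, hbO⟩ := mem_lifts_of_coeff_le_one P b hb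
  rw [Polynomial.coe_mapRingHom] at haO hbO
  set ψ := (algebraMap K K').comp P.O.subtype with hψ
  have hev : ∀ h : P.O[X], eval₂ ψ y h = aeval y (h.map (P.O.subtype : P.O →+* K)) := by
    intro h
    rw [aeval_def, eval₂_map]
  have hgy : eval₂ ψ y gO = 0 := by
    rw [hev, hgO]; exact minpoly.aeval K y
  have hsep : (gO.map (IsLocalRing.residue P.O)).Separable := by
    have h1 : aO * gO + bO * derivative gO = 1 := by
      apply Polynomial.map_injective _ hinj
      rw [Polynomial.map_add, Polynomial.map_mul, Polynomial.map_mul, ← derivative_map, haO, hbO,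
        hgO, Polynomial.map_one]
      exact hab
    have h2 := congrArg (Polynomial.map (IsLocalRing.residue P.O)) h1
    rw [Polynomial.map_add, Polynomial.map_mul, Polynomial.map_mul, ← derivative_map,
      Polynomial.map_one] at h2
    exact ⟨_, _, h2⟩
  have hyintO : IsIntegral P.O y := ⟨gO, hgOm, hgy⟩
  have hyint : ∀ Q : Place k K', IsOver Q P → Q.1 y ≤ 1 := by
    intro Q' hQ'
    obtain ⟨e', he'⟩ := hQ'
    refine val_le_one_of_isIntegral' Q'.1 (fun r => ?_) hyintO
    exact (isOverWith_le_one_iff he' _).2 r.2
  have hyQ : Q.1 y ≤ 1 := hyint Q ⟨e, he⟩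
  set yQ : Q.O := ⟨y, hyQ⟩ with hyQdef
  set ybar : IsLocalRing.ResidueField Q.O := IsLocalRing.residue Q.O yQ with hybar
  -- the key computation
  have hcomp1 : (Q.O.subtype : Q.O →+* K').comp (ringIncl he) = ψ := by
    ext r; rfl
  have hcomp2 : (IsLocalRing.residue Q.O).comp (ringIncl he) =
      ((resMap he : IsLocalRing.ResidueField P.O →+* IsLocalRing.ResidueField Q.O)).comp
        (IsLocalRing.residue P.O) := by
    ext r
    exact (resMap_residue he r).symm
  have hcomp3 : ((resMap he : IsLocalRing.ResidueField P.O →+* IsLocalRing.ResidueField Q.O)).comp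
      (algebraMap k (IsLocalRing.ResidueField P.O)) =
        algebraMap k (IsLocalRing.ResidueField Q.O) := by
    ext c
    exact (resMap he).commutes c
  have hkey : ∀ (h : P.O[X]) (hk : k[X]),
      hk.map (algebraMap k (IsLocalRing.ResidueField P.O)) = h.map (IsLocalRing.residue P.O) →
      ∃ hw : Q.1 (eval₂ ψ y h) ≤ 1,
        IsLocalRing.residue Q.O ⟨eval₂ ψ y h, hw⟩ = aeval ybar hk := by
    intro h hk hhk
    have h1 : eval₂ ψ y h = ((eval₂ (ringIncl he) yQ h : Q.O) : K') := by
      have := Polynomial.hom_eval₂ h (ringIncl he) (Q.O.subtype : Q.O →+* K') yQ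
      rw [hcomp1] at this
      exact this.symm
    have hw : Q.1 (eval₂ ψ y h) ≤ 1 := by rw [h1]; exact (eval₂ (ringIncl he) yQ h).2
    refine ⟨hw, ?_⟩
    have h2 : (⟨eval₂ ψ y h, hw⟩ : Q.O) = eval₂ (ringIncl he) yQ h := Subtype.ext h1
    rw [h2, Polynomial.hom_eval₂, hcomp2, ← Polynomial.eval₂_map, ← hhk, Polynomial.eval₂_map,
      hcomp3, aeval_def]
  -- `ybar` is separable
  obtain ⟨gk, hgk⟩ := Polynomial.map_surjective (algebraMap k (IsLocalRing.ResidueField P.O)) hP
    (gO.map (IsLocalRing.residue P.O))
  have hgksep : gk.Separable := by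
    rw [← Polynomial.separable_map (algebraMap k (IsLocalRing.ResidueField P.O)), hgk]
    exact hsep
  have hgkroot : aeval ybar gk = 0 := by
    obtain ⟨hw, h1⟩ := hkey gO gk hgk
    rw [← h1]
    have : (⟨eval₂ ψ y gO, hw⟩ : Q.O) = 0 := Subtype.ext hgy
    rw [this, map_zero]
  have hysep : IsSeparable k ybar := by
    exact hgksep.of_dvd (minpoly.dvd k ybar hgkroot)
  -- generation
  have hgen : ∀ z : IsLocalRing.ResidueField Q.O, ∃ hk : k[X], z = aeval ybar hk := by
    intro z
    obtain ⟨z, rfl⟩ := IsLocalRing.residue_surjective z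
    obtain ⟨hSfin, -⟩ := wk_sum_ramIdx_mul_deg (L := K') hK P
    haveI : Fintype ↥hSfin.toFinset := inferInstance
    obtain ⟨w, hw⟩ := weak_approx (fun i : ↥hSfin.toFinset => (i : Place k K'))
      Subtype.val_injective (fun i => if (i : Place k K') = Q then (z : K') else 0) (fun _ => 0)
    have hQP : IsOver Q P := ⟨e, he⟩
    have hwQ : Q.1 (w - z) < 1 := by
      have hQmem : Q ∈ hSfin.toFinset := by
        rw [Set.Finite.mem_toFinset]; exact hQP
      have := hw ⟨Q, hQmem⟩
      simpa using this
    have hwint : ∀ Q' : Place k K', IsOver Q' P → Q'.1 w ≤ 1 := by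
      intro Q' hQ'
      by_cases hQQ : Q' = Q
      · subst hQQ
        have : w = (w - z) + z := by ring
        rw [this]
        exact (Q'.1.map_add _ _).trans (max_le hwQ.le z.2)
      · have hQ'mem : Q' ∈ hSfin.toFinset := by
          rw [Set.Finite.mem_toFinset]; exact hQ'
        have := hw ⟨Q', hQ'mem⟩
        simp only [if_neg hQQ, sub_zero, neg_zero, WithZero.exp_zero] at this
        exact this.le
    obtain ⟨h, hh⟩ := exists_eval₂_of_good hK pb P hg hd w hwint
    obtain ⟨hk, hhk⟩ := Polynomial.map_surjective (algebraMap k (IsLocalRing.ResidueField P.O)) hP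
      (h.map (IsLocalRing.residue P.O))
    obtain ⟨hw1, hw2⟩ := hkey h hk hhk
    refine ⟨hk, ?_⟩
    rw [← hw2, residue_eq_iff]
    show Q.1 ((z : K') - eval₂ ψ y h) < 1
    rw [← hh, ← neg_sub, Valuation.map_neg]
    exact hwQ
  have htop : IntermediateField.adjoin k ({ybar} : Set (IsLocalRing.ResidueField Q.O)) = ⊤ := by
    rw [eq_top_iff]
    intro z _
    obtain ⟨hk, rfl⟩ := hgen z
    exact IntermediateField.algebra_adjoin_le_adjoin k _
      (Polynomial.aeval_mem_adjoin_singleton k ybar)
  have h1 : Algebra.IsSeparable k (IntermediateField.adjoin k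
      ({ybar} : Set (IsLocalRing.ResidueField Q.O))) :=
    (IntermediateField.isSeparable_adjoin_simple_iff_isSeparable k _).2 hysep
  rw [htop] at h1
  exact AlgEquiv.Algebra.isSeparable (IntermediateField.topEquiv (F := k)
    (E := IsLocalRing.ResidueField Q.O))

end SP2

section SP3

attribute [-instance] IsLocalRing.instModuleResidueFieldOfAlgebra IsLocalRing.ResidueField.algebra in
theorem infinite_separable_places {k : Type u} {K : Type v} [Field k] [Field K] [Algebra k K]
    (hK : IsFunctionField k K) (hg : IsGeometric k K) :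
    {P : Place k K | Algebra.IsSeparable k (IsLocalRing.ResidueField P.O)}.Infinite := by
  classical
  by_cases hfin : Finite k
  · haveI := hfin
    haveI : Fintype k := Fintype.ofFinite k
    have hall : ∀ P : Place k K, Algebra.IsSeparable k (IsLocalRing.ResidueField P.O) := by
      intro P
      haveI : Module.Finite k (IsLocalRing.ResidueField P.O) := residue_finite hK P
      haveI : Algebra.IsAlgebraic k (IsLocalRing.ResidueField P.O) := Algebra.IsAlgebraic.of_finite _ _
      exact Algebra.IsAlgebraic.isSeparable_of_perfectField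
    have hu : {P : Place k K | Algebra.IsSeparable k (IsLocalRing.ResidueField P.O)} = Set.univ :=
      Set.eq_univ_of_forall hall
    rw [hu]
    haveI := infinite_places hK
    exact Set.infinite_univ
  · rw [not_finite_iff_infinite] at hfin
    obtain ⟨x, hxtr, hsep⟩ := exists_separating hK hg
    set E := IntermediateField.adjoin k ({x} : Set K) with hE
    have hxE : x ∈ E := IntermediateField.mem_adjoin_simple_self k x
    have hKE : IsFunctionField k E := isFunctionField_intermediateField hK E ⟨x, hxE, hxtr⟩
    haveI : FiniteDimensional E K := finite_of_transcendental hK hxtr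
    haveI : Algebra.IsAlgebraic E K := Algebra.IsAlgebraic.of_finite E K
    set xE : E := ⟨x, hxE⟩ with hxEdef
    have hxEtop : IntermediateField.adjoin k ({xE} : Set E) = ⊤ := by
      apply IntermediateField.map_injective E.val
      rw [IntermediateField.adjoin_map, Set.image_singleton]
      rw [← AlgHom.fieldRange_eq_map, IntermediateField.fieldRange_val]
      rfl
    -- the good places
    let pb := Field.powerBasisOfFiniteOfSeparable E K
    have hsepg : (minpoly E pb.gen).Separable := Algebra.IsSeparable.isSeparable E pb.gen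
    obtain ⟨a, b, hab⟩ := hsepg
    have hd0 : Algebra.discr E pb.basis ≠ 0 := Algebra.discr_not_zero_of_basis E pb.basis
    let XS : Finset E := (minpoly E pb.gen).coeffs ∪ a.coeffs ∪ b.coeffs ∪ {Algebra.discr E pb.basis}
    have hX0 : ∀ z ∈ XS, z ≠ 0 := by
      intro z hz
      simp only [XS, Finset.mem_union, Finset.mem_singleton] at hz
      rcases hz with ((hz | hz) | hz) | hz
      · obtain ⟨n, hn, rfl⟩ := Polynomial.mem_coeffs_iff.1 hz
        exact Polynomial.mem_support_iff.1 hn
      · obtain ⟨n, hn, rfl⟩ := Polynomial.mem_coeffs_iff.1 hz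
        exact Polynomial.mem_support_iff.1 hn
      · obtain ⟨n, hn, rfl⟩ := Polynomial.mem_coeffs_iff.1 hz
        exact Polynomial.mem_support_iff.1 hn
      · rw [hz]; exact hd0
    let B : Set (Place k E) := ⋃ z ∈ XS, Function.support (fun P : Place k E => P.ord z)
    have hBfin : B.Finite := Set.Finite.biUnion XS.finite_toSet (fun z _ => finite_support_ord hKE z)
    have hgood : ∀ P : Place k E, P ∉ B → ∀ z ∈ XS, P.1 z = 1 := by
      intro P hP z hz
      apply val_eq_one_of_not_mem_support P (hX0 z hz)
      intro hmem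
      exact hP (Set.mem_biUnion hz hmem)
    have hcoeff : ∀ (P : Place k E) (q : E[X]), (∀ z ∈ q.coeffs, P.1 z = 1) →
        ∀ n, P.1 (q.coeff n) ≤ 1 := by
      intro P q hq n
      by_cases hn : q.coeff n = 0
      · rw [hn, map_zero]; exact zero_le
      · exact (hq _ (Polynomial.coeff_mem_coeffs hn)).le
    -- zeros of `x - c`
    have hxc : ∀ c : k, x - algebraMap k K c ∉ Set.range (algebraMap k K) := by
      rintro c ⟨d, hd⟩
      apply not_mem_range_of_transcendental hxtr
      exact ⟨d + c, by rw [map_add, hd]; ring⟩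
    choose Q hQ using fun c => exists_zero hK (hxc c)
    choose p e hpe using fun c => exists_isOverWith hKE (Q c)
    have hp : ∀ c, (p c).1 (xE - algebraMap k E c) < 1 := by
      intro c
      have h1 := hpe c (xE - algebraMap k E c)
      have h2 : algebraMap E K (xE - algebraMap k E c) = x - algebraMap k K c := by
        rw [map_sub, ← IsScalarTower.algebraMap_apply]
        rfl
      rw [h2] at h1
      by_contra hcon
      rw [not_lt] at hcon
      have h3 : 1 ≤ (p c).1 (xE - algebraMap k E c) ^ e c := one_le_pow₀ hcon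
      rw [← h1] at h3
      exact absurd (hQ c) (not_lt.2 h3)
    have hpinj : Function.Injective p := by
      intro c d hcd
      by_contra hne
      have h1 := hp c
      have h2 := hp d
      rw [← hcd] at h2
      have h3 : (p c).1 (algebraMap k E (c - d)) = 1 :=
        val_const_eq_one (p c) (sub_ne_zero.2 hne)
      have h4 : algebraMap k E (c - d) =
          (xE - algebraMap k E d) - (xE - algebraMap k E c) := by rw [map_sub]; ring
      rw [h4] at h3
      have h5 := (p c).1.map_sub (xE - algebraMap k E d) (xE - algebraMap k E c)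
      rw [h3] at h5
      exact absurd h5 (not_le.2 (max_lt h2 h1))
    have hQinj : Function.Injective Q := by
      intro c d hcd
      by_contra hne
      have h1 := hQ c
      have h2 := hQ d
      rw [← hcd] at h2
      have h3 : (Q c).1 (algebraMap k K (c - d)) = 1 :=
        val_const_eq_one (Q c) (sub_ne_zero.2 hne)
      have h4 : algebraMap k K (c - d) =
          (x - algebraMap k K d) - (x - algebraMap k K c) := by rw [map_sub]; ring
      rw [h4] at h3
      have h5 := (Q c).1.map_sub (x - algebraMap k K d) (x - algebraMap k K c)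
      rw [h3] at h5
      exact absurd h5 (not_le.2 (max_lt h2 h1))
    have hSinf : {c : k | p c ∉ B}.Infinite := by
      have h1 : (p ⁻¹' B).Finite := Set.Finite.preimage hpinj.injOn hBfin
      exact h1.infinite_compl
    refine Set.infinite_of_injOn_mapsTo (f := Q) hQinj.injOn ?_ hSinf
    intro c hc
    have hgd := hgood (p c) hc
    have hdeg : (p c).deg = 1 := deg_eq_one_of_zero_of_adjoin_eq_top hKE hxEtop c (p c) (hp c)
    have hsurj : Function.Surjective (algebraMap k (IsLocalRing.ResidueField (p c).O)) := by
      intro z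
      have hbt : (⊥ : Subalgebra k (IsLocalRing.ResidueField (p c).O)) = ⊤ :=
        Subalgebra.bot_eq_top_of_finrank_eq_one hdeg
      have hmem : z ∈ (⊥ : Subalgebra k (IsLocalRing.ResidueField (p c).O)) := by
        rw [hbt]; trivial
      exact Algebra.mem_bot.1 hmem
    exact isSeparable_residue_of_good (IsWeakFF.of_isFunctionField hKE) pb a b hab (p c)
      (hcoeff (p c) _ (fun z hz => hgd z (by simp [XS, hz])))
      (hcoeff (p c) _ (fun z hz => hgd z (by simp [XS, hz])))
      (hcoeff (p c) _ (fun z hz => hgd z (by simp [XS, hz])))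
      (hgd _ (by simp [XS])) hsurj (hpe c)

end SP3

end Groth.Agent.Helper17.FF
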