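import Mathlib
import Groth.Agent.H16.Tate9
import Groth.Agent.Lib.Helper17.FFGS
import Groth.Agent.Lib.Helper17.FFSP
import Groth.Agent.Lib.Helper17.FFLoc2
namespace Groth.Agent.Helper17.FF

universe u v w

open FunFld Module LaurentSeries

section RH1

variable {k : Type u} {K : Type v} [Field k] [Field K] [Algebra k K] {F : Type w} [Field F]
  [Algebra k F]

attribute [-instance] IsLocalRing.instModuleResidueFieldOfAlgebra IsLocalRing.ResidueField.algebra in
/-- the coefficient field of an expansion at a place of a function field is finite over `k` -/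
theorem finiteDimensional_of_expansion (hK : IsFunctionField k K) (P : Place k K)
    (φ : K →ₐ[k] F⸨X⸩) (hφ : LocRes.IsExpansionAt P.1 φ) : FiniteDimensional k F := by
  classical
  haveI : Module.Finite k (IsLocalRing.ResidueField P.O) := residue_finite hK P
  let b := Module.finBasis k (IsLocalRing.ResidueField P.O)
  have hlift : ∀ i, ∃ β : P.O, IsLocalRing.residue P.O β = b i :=
    fun i => IsLocalRing.residue_surjective _
  choose β hβ using hlift
  have hker : ∀ f : K, P.1 f < 1 → (φ f).coeff 0 = 0 := by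
    intro f hf
    have h1 : Valued.v (φ f) ≤ WithZero.exp (-(1 : ℤ)) := by
      rw [hφ.1]
      have := (val_lt_exp_iff_le P f 0).1 (by rw [WithZero.exp_zero]; exact hf)
      simpa using this
    exact lval_le_exp_iff_coeff.1 h1 0 (by norm_num)
  rw [FiniteDimensional, Module.finite_def]
  have htop : (⊤ : Submodule k F) =
      Submodule.span k (Set.range fun i => (φ (β i : K)).coeff 0) := by
    symm
    rw [eq_top_iff]
    intro a _
    obtain ⟨f, hf1, hfa⟩ := hφ.2.1 a
    set c := b.repr (IsLocalRing.residue P.O ⟨f, hf1⟩) with hc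
    set g : P.O := ⟨f, hf1⟩ - ∑ i, algebraMap k P.O (c i) * β i with hg
    have hres : IsLocalRing.residue P.O g = 0 := by
      rw [hg, map_sub, map_sum]
      have h1 : ∀ i, IsLocalRing.residue P.O (algebraMap k P.O (c i) * β i) = c i • b i := by
        intro i
        rw [map_mul, hβ, Algebra.smul_def]
        rfl
      simp only [h1]
      rw [hc, b.sum_repr, sub_self]
    rw [IsLocalRing.residue_eq_zero_iff, mem_maximalIdeal_iff] at hres
    have hg0 := hker (g : K) hres
    have hfeq : f = (g : K) + ∑ i, algebraMap k K (c i) * (β i : K) := by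
      rw [hg]
      push_cast
      have : ∀ i, ((algebraMap k P.O (c i) : P.O) : K) = algebraMap k K (c i) := fun i => rfl
      simp only [this]
      ring
    rw [← hfa, hfeq, map_add, map_sum, HahnSeries.coeff_add, hg0, zero_add]
    have h2 : (∑ i, φ (algebraMap k K (c i) * (β i : K))).coeff 0 =
        ∑ i, c i • (φ (β i : K)).coeff 0 := by
      rw [← HahnSeries.coeff.addMonoidHom_apply, map_sum]
      refine Finset.sum_congr rfl fun i _ => ?_
      rw [HahnSeries.coeff.addMonoidHom_apply, map_mul, LocRes.map_algebraMap,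
        HahnSeries.C_mul_eq_smul, HahnSeries.coeff_smul, Algebra.smul_def, Algebra.smul_def]
      rfl
    rw [h2]
    exact Submodule.sum_mem _ fun i _ =>
      Submodule.smul_mem _ _ (Submodule.subset_span ⟨i, rfl⟩)
  rw [htop]
  exact Submodule.fg_span (Set.finite_range _)

end RH1

section RH2

open scoped KaehlerDifferential

variable {k : Type u} {K : Type v} [Field k] [Field K] [Algebra k K] {F : Type w} [Field F]
  [Algebra k F]

lemma D_ne_zero_of_vDiff_ne_zero (φ : K →ₐ[k] F⸨X⸩) {x : K} (hx : LocRes.vDiff φ 1 x ≠ 0) :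
    KaehlerDifferential.D k K x ≠ 0 := by
  intro h0
  apply hx
  have h1 : KaehlerDifferential.D k K x = (0 : K) • KaehlerDifferential.D k K x := by
    rw [zero_smul, h0]
  have h2 := dExp_eq φ h1
  unfold LocRes.vDiff
  rw [h2, map_zero, zero_mul, mul_zero, map_zero]

end RH2

section RH3

theorem riemann_hurwitz (k k' : Type u) (K K' : Type v) [Field k] [Field k'] [Field K] [Field K']
    [Algebra k k'] [Algebra k K] [Algebra K K'] [Algebra k' K'] [Algebra k K']
    [IsScalarTower k k' K'] [IsScalarTower k K K'] [FiniteDimensional k k'] [FiniteDimensional K K']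
    [Algebra.IsSeparable K K']
    (hK : FunFld.IsFunctionField k K) (hg : FunFld.IsGeometric k K) (hK' : FunFld.IsFunctionField k' K')
    (F : FunFld.Place k K → Type w) [∀ P, Field (F P)] [∀ P, Algebra k (F P)]
    (φ : ∀ P, K →ₐ[k] LaurentSeries (F P)) (hφ : ∀ P, LocRes.IsExpansionAt P.1 (φ P))
    (F' : FunFld.Place k' K' → Type w) [∀ Q, Field (F' Q)] [∀ Q, Algebra k' (F' Q)]
    (ψ : ∀ Q, K' →ₐ[k'] LaurentSeries (F' Q)) (hψ : ∀ Q, LocRes.IsExpansionAt Q.1 (ψ Q))
    (below : FunFld.Place k' K' → FunFld.Place k K) (e : FunFld.Place k' K' → ℕ)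
    (he : ∀ Q (z : K), Q.1 (algebraMap K K' z) = (below Q).1 z ^ e Q)
    (x : K) (hx : ∀ P, LocRes.vDiff (φ P) 1 x ≠ 0) (hx' : ∀ Q, LocRes.vDiff (ψ Q) 1 (algebraMap K K' x) ≠ 0) :
    (Function.support fun Q => LocRes.diffExp (φ (below Q)) (ψ Q) (e Q) x).Finite ∧
    (Module.finrank k k' : ℤ) * (2 * (FunFld.genus k' K' : ℤ) - 2) =
      (Module.finrank K K' : ℤ) * (2 * (FunFld.genus k K : ℤ) - 2) +
      (Module.finrank k k' : ℤ) * ∑ᶠ Q, LocRes.diffExp (φ (below Q)) (ψ Q) (e Q) x * (Q.deg : ℤ) := by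
  classical
  have hg' : IsGeometric k' K' := isGeometric_of_separable_ext hK hg hK'
  haveI : ∀ P, FiniteDimensional k (F P) :=
    fun P => finiteDimensional_of_expansion hK P (φ P) (hφ P)
  haveI : ∀ Q, FiniteDimensional k' (F' Q) :=
    fun Q => finiteDimensional_of_expansion hK' Q (ψ Q) (hψ Q)
  haveI : Algebra.IsAlgebraic k k' := Algebra.IsAlgebraic.of_finite k k'
  haveI := infinite_places hK
  haveI := infinite_places hK'
  obtain ⟨P₀⟩ : Nonempty (Place k K) := inferInstance
  obtain ⟨Q₀⟩ : Nonempty (Place k' K') := inferInstance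
  have hDx : KaehlerDifferential.D k K x ≠ 0 := D_ne_zero_of_vDiff_ne_zero (φ P₀) (hx P₀)
  have hDx' : KaehlerDifferential.D k' K' (algebraMap K K' x) ≠ 0 :=
    D_ne_zero_of_vDiff_ne_zero (ψ Q₀) (hx' Q₀)
  -- the canonical divisors
  obtain ⟨ω, -, -, h0, hfin, hdiv⟩ :=
    Groth.Agent.Helper16.Tate.weil_of_differential hK φ hφ hg (one_ne_zero) hDx
  set C : Divisor k K := Finsupp.ofSupportFinite (fun P => LocRes.ordDiff (φ P) 1 x) hfin with hC
  have hCP : ∀ P, C P = LocRes.ordDiff (φ P) 1 x := fun P => rfl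
  have hCdeg : C.deg = 2 * (genus k K : ℤ) - 2 :=
    ((isCanonical_iff hK C).1 ⟨ω, h0, hdiv C hCP⟩).2
  obtain ⟨ω', -, -, h0', hfin', hdiv'⟩ :=
    Groth.Agent.Helper16.Tate.weil_of_differential hK' ψ hψ hg' (one_ne_zero) hDx'
  set C' : Divisor k' K' := Finsupp.ofSupportFinite
    (fun Q => LocRes.ordDiff (ψ Q) 1 (algebraMap K K' x)) hfin' with hC'
  have hCP' : ∀ Q, C' Q = LocRes.ordDiff (ψ Q) 1 (algebraMap K K' x) := fun Q => rfl
  have hCdeg' : C'.deg = 2 * (genus k' K' : ℤ) - 2 :=
    ((isCanonical_iff hK' C').1 ⟨ω', h0', hdiv' C' hCP'⟩).2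
  have hd : ∀ Q, LocRes.diffExp (φ (below Q)) (ψ Q) (e Q) x = C' Q - e Q * C (below Q) :=
    fun Q => rfl
  -- places over `P`
  have hover : ∀ Q : Place k' K', IsOverWith (placeDown k Q) (below Q) (e Q) := fun Q z => he Q z
  have hbelow : ∀ (Q : Place k' K') (P : Place k K), IsOver (placeDown k Q) P → below Q = P :=
    fun Q P h => isOver_unique ⟨e Q, hover Q⟩ h
  set n₀ := finrank k k' with hn₀
  have hfinP : ∀ P : Place k K, {R : Place k K' | IsOver R P}.Finite :=
    fun P => (sum_ramIdx_mul_deg (K' := K') hK P).1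
  let T : Place k K → Finset (Place k' K') := fun P => (hfinP P).toFinset.image (placeUp k')
  have hT : ∀ P Q, Q ∈ T P ↔ below Q = P := by
    intro P Q
    simp only [T, Finset.mem_image, Set.Finite.mem_toFinset, Set.mem_ofPred_eq]
    constructor
    · rintro ⟨R, hR, rfl⟩
      apply hbelow
      rw [placeDown_placeUp]; exact hR
    · intro h
      refine ⟨placeDown k Q, ?_, placeUp_placeDown Q⟩
      rw [← h]; exact ⟨e Q, hover Q⟩
  have hTsum : ∀ P : Place k K, (n₀ : ℤ) * ∑ Q ∈ T P, (e Q : ℤ) * (Q.deg : ℤ) =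
      (finrank K K' : ℤ) * P.deg := by
    intro P
    have h1 := (sum_ramIdx_mul_deg (K' := K') hK P).2 (hfinP P).toFinset
      (fun R => by rw [Set.Finite.mem_toFinset]; rfl)
    have h2 : ((∑ R ∈ (hfinP P).toFinset, ramIdx R P * R.deg : ℕ) : ℤ) =
        ((finrank K K' * P.deg : ℕ) : ℤ) := by rw [h1]
    push_cast at h2
    rw [← h2, Finset.sum_image (fun R _ R' _ h => placeUp_injective h), Finset.mul_sum]
    refine Finset.sum_congr rfl fun R hR => ?_
    rw [Set.Finite.mem_toFinset] at hR
    have h3 : below (placeUp k' R) = P := hbelow _ _ (by rw [placeDown_placeUp]; exact hR)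
    have h4 : IsOverWith R P (e (placeUp k' R)) := by
      have := hover (placeUp k' R)
      rw [placeDown_placeUp, h3] at this
      exact this
    rw [ramIdx_eq h4, deg_placeUp (k₁ := k') R]
    push_cast
    ring
  -- the finite set of places
  set S' : Finset (Place k' K') := C'.support ∪ C.support.biUnion T with hS'
  have hsupp : (Function.support fun Q => LocRes.diffExp (φ (below Q)) (ψ Q) (e Q) x) ⊆ ↑S' := by
    intro Q hQ
    rw [Function.mem_support, hd] at hQ
    rw [Finset.mem_coe, hS', Finset.mem_union]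
    by_contra hcon
    push Not at hcon
    apply hQ
    have h1 : C' Q = 0 := Finsupp.notMem_support_iff.1 hcon.1
    have h2 : C (below Q) = 0 := by
      by_contra h
      apply hcon.2
      rw [Finset.mem_biUnion]
      exact ⟨below Q, Finsupp.mem_support_iff.2 h, (hT _ _).2 rfl⟩
    rw [h1, h2, mul_zero, sub_zero]
  refine ⟨S'.finite_toSet.subset hsupp, ?_⟩
  rw [finsum_eq_sum_of_support_subset _ (by
    intro Q hQ
    apply hsupp
    rw [Function.mem_support] at hQ ⊢
    intro h0
    apply hQ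
    rw [h0, zero_mul])]
  have hA : ∑ Q ∈ S', C' Q * (Q.deg : ℤ) = C'.deg := by
    unfold Divisor.deg
    rw [Finsupp.sum]
    symm
    apply Finset.sum_subset Finset.subset_union_left
    intro Q _ hQ
    rw [Finsupp.notMem_support_iff.1 hQ, zero_mul]
  have hB : (n₀ : ℤ) * ∑ Q ∈ S', (e Q : ℤ) * C (below Q) * (Q.deg : ℤ) =
      (finrank K K' : ℤ) * C.deg := by
    have h1 : ∑ Q ∈ S', (e Q : ℤ) * C (below Q) * (Q.deg : ℤ) =
        ∑ Q ∈ C.support.biUnion T, (e Q : ℤ) * C (below Q) * (Q.deg : ℤ) := by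
      symm
      apply Finset.sum_subset Finset.subset_union_right
      intro Q _ hQ
      have : C (below Q) = 0 := by
        by_contra h
        apply hQ
        rw [Finset.mem_biUnion]
        exact ⟨below Q, Finsupp.mem_support_iff.2 h, (hT _ _).2 rfl⟩
      rw [this, mul_zero, zero_mul]
    rw [h1, Finset.sum_biUnion]
    · have h2 : ∀ P ∈ C.support, ∑ Q ∈ T P, (e Q : ℤ) * C (below Q) * (Q.deg : ℤ) =
          C P * ∑ Q ∈ T P, (e Q : ℤ) * (Q.deg : ℤ) := by
        intro P _
        rw [Finset.mul_sum]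
        refine Finset.sum_congr rfl fun Q hQ => ?_
        rw [(hT P Q).1 hQ]; ring
      rw [Finset.sum_congr rfl h2, Finset.mul_sum]
      unfold Divisor.deg
      rw [Finsupp.sum, Finset.mul_sum]
      refine Finset.sum_congr rfl fun P _ => ?_
      rw [mul_left_comm, hTsum P]; ring
    · intro P _ P' _ hne
      rw [Function.onFun, Finset.disjoint_left]
      intro Q hQ hQ'
      exact hne (((hT P Q).1 hQ).symm.trans ((hT P' Q).1 hQ'))
  have hsplit : ∑ Q ∈ S', LocRes.diffExp (φ (below Q)) (ψ Q) (e Q) x * (Q.deg : ℤ) =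
      ∑ Q ∈ S', C' Q * (Q.deg : ℤ) - ∑ Q ∈ S', (e Q : ℤ) * C (below Q) * (Q.deg : ℤ) := by
    rw [← Finset.sum_sub_distrib]
    refine Finset.sum_congr rfl fun Q _ => ?_
    rw [hd]; ring
  rw [hsplit, hA, hCdeg']
  rw [hCdeg] at hB
  linear_combination hB

end RH3

end Groth.Agent.Helper17.FF
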