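import Mathlib
import Groth.Agent.Lib.Helper17.FFLLS
import Groth.Agent.Lib.Helper17.FFGen
import Groth.Agent.Lib.Helper17.FF13
namespace Groth.Agent.Helper17.FF

open FunFld Module

universe u v

variable {k : Type u} {K : Type v} [Field k] [Field K] [Algebra k K]

open scoped KaehlerDifferential in
lemma exists_derivation [IsAlgClosed k] [CharZero k] (hK : IsFunctionField k K) :
    ∃ D : Derivation k K K, ∀ z : K, D z = 0 → z ∈ Set.range (algebraMap k K) := by
  have hg : IsGeometric k K := isGeometric_of_perfect k K hK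
  obtain ⟨x, hx, hsep⟩ := exists_separating hK hg
  obtain ⟨E, hE⟩ := exists_kaehler_equiv hx hsep
  refine ⟨(E : Ω[K⁄k] →ₗ[K] K).compDer (KaehlerDifferential.D k K), ?_⟩
  intro z hz
  by_contra hzr
  have hzt : Transcendental k z := transcendental_of_not_mem hK hzr
  have hfin := finite_of_transcendental hK hzt
  have hsepz : Algebra.IsSeparable (IntermediateField.adjoin k ({z} : Set K)) K := inferInstance
  have hne := (isSeparable_iff_D_ne_zero hK hg z).1 hsepz
  apply hne
  have h1 : E (KaehlerDifferential.D k K z) = 0 := hz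
  exact E.map_eq_zero_iff.1 h1

/-- the `k`-subspace of functions whose derivative is regular at `Q` -/
def dInt (D : Derivation k K K) (Q : Place k K) : Submodule k K where
  carrier := {f | Q.1 (D f) ≤ 1}
  add_mem' {a b} ha hb := by
    show Q.1 (D (a + b)) ≤ 1
    rw [map_add]; exact (Q.1.map_add _ _).trans (max_le ha hb)
  zero_mem' := by
    show Q.1 (D 0) ≤ 1
    rw [map_zero, map_zero]; exact zero_le_one
  smul_mem' c a ha := by
    show Q.1 (D (c • a)) ≤ 1
    rw [D.map_smul, Algebra.smul_def, map_mul]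
    exact (mul_le_mul' (Q.2.1 c) ha).trans_eq (one_mul _)

lemma mem_dInt {D : Derivation k K K} {Q : Place k K} {f : K} :
    f ∈ dInt D Q ↔ Q.1 (D f) ≤ 1 := Iff.rfl

lemma finite_poles (hK : IsFunctionField k K) (y : K) : {Q : Place k K | 1 < Q.1 y}.Finite := by
  refine (finite_support_ord hK y).subset ?_
  intro Q hQ
  rw [Function.mem_support]
  intro h0
  rw [Set.mem_ofPred_eq] at hQ
  have hy0 : y ≠ 0 := by
    rintro rfl
    rw [map_zero] at hQ
    exact not_lt_of_ge zero_le hQ
  rw [ord_eq_zero_iff Q hy0] at h0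
  rw [h0] at hQ
  exact lt_irrefl _ hQ

lemma exists_finite_dInt (hK : IsFunctionField k K) (D : Derivation k K K) (W : Submodule k K)
    [FiniteDimensional k W] :
    ∃ S : Set (Place k K), S.Finite ∧ ∀ Q ∉ S, W ≤ dInt D Q := by
  classical
  obtain ⟨b⟩ : Nonempty (Basis (Fin (finrank k W)) k W) := ⟨Module.finBasis k W⟩
  refine ⟨⋃ i, {Q : Place k K | 1 < Q.1 (D (b i : K))},
    Set.finite_iUnion (fun i => finite_poles hK _), ?_⟩
  intro Q hQ f hf
  have hb : ∀ i, (b i : K) ∈ dInt D Q := by
    intro i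
    rw [mem_dInt]
    by_contra hlt
    rw [not_le] at hlt
    exact hQ (Set.mem_iUnion.2 ⟨i, hlt⟩)
  have h1 := congrArg Subtype.val (b.sum_repr ⟨f, hf⟩)
  rw [Submodule.coe_sum] at h1
  simp only [Submodule.coe_smul] at h1
  rw [← h1]
  exact Submodule.sum_mem _ (fun i _ => Submodule.smul_mem _ _ (hb i))

lemma exists_mem_L_not_mem (hK : IsFunctionField k K) {D : Divisor k K}
    (hD : 2 * (genus k K : ℤ) ≤ D.deg) {P : Place k K} (hP : P.deg = 1) :
    ∃ s ∈ L D, s ∉ L (D - Finsupp.single P 1) := by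
  have h1 := ell_eq_of_deg_ge hK D (by linarith)
  have h2 := ell_eq_of_deg_ge hK (D - Finsupp.single P 1)
    (by rw [deg_sub, deg_single, hP]; push_cast; linarith)
  rw [deg_sub, deg_single, hP] at h2
  push_cast at h2
  have hlt : ell (D - Finsupp.single P 1) < ell D := by omega
  by_contra hcon
  push Not at hcon
  have hle : L D ≤ L (D - Finsupp.single P 1) := hcon
  have := L_finite hK (D - Finsupp.single P 1)
  have h3 := Submodule.finrank_mono hle
  unfold ell at hlt
  omega

lemma exists_ord_eq_neg [IsAlgClosed k] (hK : IsFunctionField k K) (P₀ : Place k K) {n : ℕ}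
    (hn : 2 * genus k K ≤ n) :
    ∃ w ∈ L (Finsupp.single P₀ (n : ℤ) : Divisor k K), w ≠ 0 ∧ P₀.ord w = -(n : ℤ) := by
  classical
  have hP := deg_eq_one_of_isAlgClosed hK P₀
  have hn' : 2 * (genus k K : ℤ) ≤ (n : ℤ) := by exact_mod_cast hn
  obtain ⟨w, hw, hw'⟩ := exists_mem_L_not_mem hK (D := (Finsupp.single P₀ (n : ℤ) : Divisor k K))
    (by rw [deg_single, hP]; push_cast; linarith) hP
  have hw0 : w ≠ 0 := by
    rintro rfl
    exact hw' (Submodule.zero_mem _)
  refine ⟨w, hw, hw0, ?_⟩
  have h1 := (val_le_exp_iff P₀ hw0 _).1 (hw P₀)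
  rw [Finsupp.single_apply, if_pos rfl] at h1
  have h2 : ¬ (-((n : ℤ) - 1) ≤ P₀.ord w) := by
    intro h
    apply hw'
    intro R
    by_cases hR : R = P₀
    · rw [hR]
      refine (val_le_exp_iff P₀ hw0 _).2 ?_
      simp only [Finsupp.sub_apply, Finsupp.single_apply, ↓reduceIte]
      exact h
    · have := hw R
      simp only [Finsupp.single_apply, if_neg (Ne.symm hR)] at this
      simp only [Finsupp.sub_apply, Finsupp.single_apply, if_neg (Ne.symm hR), sub_zero]
      exact this
  omega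

set_option maxHeartbeats 1600000 in
theorem exists_finite_good [IsAlgClosed k] (hK : IsFunctionField k K) (D : Derivation k K K) :
    ∃ S : Set (Place k K), S.Finite ∧ ∀ Q ∉ S, ∀ f : K, Q.1 f ≤ 1 → Q.1 (D f) ≤ 1 := by
  classical
  obtain ⟨P₀⟩ := exists_place hK
  have hP₀ := deg_eq_one_of_isAlgClosed hK P₀
  obtain ⟨g, hg⟩ : ∃ g, g = genus k K := ⟨_, rfl⟩
  obtain ⟨m, hm⟩ : ∃ m : ℕ, m = 2 * g + 1 := ⟨_, rfl⟩
  obtain ⟨z, hzL, hz0, hzord⟩ := exists_ord_eq_neg hK P₀ (n := m) (by omega)
  have hfW := L_finite hK (Finsupp.single P₀ ((m + 2 * g : ℕ) : ℤ) : Divisor k K)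
  obtain ⟨S₁, hS₁, hS₁'⟩ := exists_finite_dInt hK D
    (L (Finsupp.single P₀ ((m + 2 * g : ℕ) : ℤ) : Divisor k K))
  refine ⟨({P₀} ∪ {Q | 1 < Q.1 (D z)}) ∪ S₁,
    ((Set.finite_singleton _).union (finite_poles hK _)).union hS₁, ?_⟩
  intro Q hQ
  have hQP₀ : Q ≠ P₀ := fun h => hQ (Or.inl (Or.inl h))
  have hQz : Q.1 (D z) ≤ 1 := not_lt.1 (fun h => hQ (Or.inl (Or.inr h)))
  have hQW := hS₁' Q (fun h => hQ (Or.inr h))
  have hreg : ∀ (n : ℕ) (f : K), f ∈ L (Finsupp.single P₀ (n : ℤ) : Divisor k K) →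
      Q.1 f ≤ 1 := by
    intro n f hf
    have := hf Q
    rwa [Finsupp.single_apply, if_neg (Ne.symm hQP₀), WithZero.exp_zero] at this
  have hmain : ∀ (n : ℕ) (f : K), f ∈ L (Finsupp.single P₀ (n : ℤ) : Divisor k K) →
      Q.1 (D f) ≤ 1 := by
    intro n
    induction n using Nat.strong_induction_on with
    | _ n ih =>
      intro f hf
      by_cases hn : n ≤ m + 2 * g
      · exact hQW (L_mono (single_mono P₀ (by exact_mod_cast hn)) hf)
      · rw [not_le] at hn
        by_cases hf0 : f = 0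
        · rw [hf0, map_zero, map_zero]; exact zero_le_one
        by_cases hord : -(n : ℤ) < P₀.ord f
        · have hf' : f ∈ L (Finsupp.single P₀ ((n - 1 : ℕ) : ℤ) : Divisor k K) := by
            intro R
            by_cases hR : R = P₀
            · rw [hR, Finsupp.single_apply, if_pos rfl]
              refine (val_le_exp_iff P₀ hf0 _).2 ?_
              omega
            · have := hf R
              rw [Finsupp.single_apply, if_neg (Ne.symm hR)] at this ⊢
              exact this
          exact ih (n - 1) (by omega) f hf'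
        · have hordf : P₀.ord f = -(n : ℤ) := by
            have := (val_le_exp_iff P₀ hf0 _).1 (hf P₀)
            rw [Finsupp.single_apply, if_pos rfl] at this
            omega
          obtain ⟨w, hwL, hw0, hword⟩ := exists_ord_eq_neg hK P₀ (n := n - m) (by omega)
          obtain ⟨ρ, hρ0, hρc, hρadd, hρmul, hρker⟩ := exists_resK' hK P₀
          obtain ⟨q, hq⟩ : ∃ q : K, q = f * (z * w)⁻¹ := ⟨_, rfl⟩
          have hzw0 : z * w ≠ 0 := mul_ne_zero hz0 hw0
          have hq0 : q ≠ 0 := by rw [hq]; exact mul_ne_zero hf0 (inv_ne_zero hzw0)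
          have hcast1 : ((n - m : ℕ) : ℤ) = (n : ℤ) - m := by omega
          have hcast2 : ((n - 1 : ℕ) : ℤ) = (n : ℤ) - 1 := by omega
          have hqord : P₀.ord q = 0 := by
            rw [hq, ord_mul P₀ hf0 (inv_ne_zero hzw0), ord_inv, ord_mul P₀ hz0 hw0, hordf, hzord,
              hword, hcast1]
            ring
          have hqval : P₀.1 q = 1 := (ord_eq_zero_iff P₀ hq0).1 hqord
          obtain ⟨c, hc⟩ : ∃ c : k, c = ρ q := ⟨_, rfl⟩
          obtain ⟨f', hf'def⟩ : ∃ f' : K, f' = f - algebraMap k K c * (z * w) := ⟨_, rfl⟩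
          have hf'L : f' ∈ L (Finsupp.single P₀ ((n - 1 : ℕ) : ℤ) : Divisor k K) := by
            have hfq : f' = (q - algebraMap k K c) * (z * w) := by
              rw [hf'def, hq]; field_simp
            have hqc : P₀.1 (q - algebraMap k K c) < 1 := by
              have h1 : P₀.1 (q - algebraMap k K c) ≤ 1 :=
                Valuation.map_sub_le _ hqval.le (P₀.2.1 c)
              refine (hρker _ h1).1 ?_
              have h2 : P₀.1 (-algebraMap k K c) ≤ 1 := by
                rw [Valuation.map_neg]; exact P₀.2.1 c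
              rw [sub_eq_add_neg, hρadd _ _ hqval.le h2, ← map_neg, hρc, ← hc]
              ring
            intro R
            by_cases hR : R = P₀
            · rw [hR, Finsupp.single_apply, if_pos rfl]
              by_cases hqc0 : q - algebraMap k K c = 0
              · rw [hfq, hqc0, zero_mul, map_zero]; exact zero_le
              have hf'0 : f' ≠ 0 := by rw [hfq]; exact mul_ne_zero hqc0 hzw0
              refine (val_le_exp_iff P₀ hf'0 _).2 ?_
              have h2 : 0 < P₀.ord (q - algebraMap k K c) := (ord_pos_iff P₀ hqc0).2 hqc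
              rw [hfq, ord_mul P₀ hqc0 hzw0, ord_mul P₀ hz0 hw0, hzord, hword, hcast1, hcast2]
              linarith
            · rw [Finsupp.single_apply, if_neg (Ne.symm hR), WithZero.exp_zero, hf'def]
              have h3 : R.1 f ≤ 1 := by
                have := hf R
                rwa [Finsupp.single_apply, if_neg (Ne.symm hR), WithZero.exp_zero] at this
              have h4 : R.1 z ≤ 1 := by
                have := hzL R
                rwa [Finsupp.single_apply, if_neg (Ne.symm hR), WithZero.exp_zero] at this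
              have h5 : R.1 w ≤ 1 := by
                have := hwL R
                rwa [Finsupp.single_apply, if_neg (Ne.symm hR), WithZero.exp_zero] at this
              refine Valuation.map_sub_le _ h3 ?_
              rw [map_mul, map_mul]
              exact mul_le_one' (R.2.1 c) (mul_le_one' h4 h5)
          have hfeq : f = algebraMap k K c * (z * w) + f' := by rw [hf'def]; ring
          have hDw := ih (n - m) (by omega) w hwL
          have hDf' := ih (n - 1) (by omega) f' hf'L
          have hz1 := hreg m z hzL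
          have hw1 := hreg (n - m) w hwL
          have hDf : D f = algebraMap k K c * (z * D w + w * D z) + D f' := by
            rw [hfeq, map_add, ← Algebra.smul_def, D.map_smul, Algebra.smul_def, D.leibniz,
              smul_eq_mul, smul_eq_mul]
          rw [hDf]
          refine (Q.1.map_add _ _).trans (max_le ?_ hDf')
          rw [map_mul]
          refine mul_le_one' (Q.2.1 c) ?_
          refine (Q.1.map_add _ _).trans (max_le ?_ ?_)
          · rw [map_mul]; exact mul_le_one' hz1 hDw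
          · rw [map_mul]; exact mul_le_one' hw1 hQz
  -- general integral element
  intro f hf1
  by_cases hf0 : f = 0
  · rw [hf0, map_zero, map_zero]; exact zero_le_one
  obtain ⟨E, hE⟩ : ∃ E : Divisor k K, E = ((FunFld.div k f⁻¹) ⊔ 0) := ⟨_, rfl⟩
  have hEapp : ∀ R : Place k K, E R = max (-(R.ord f)) 0 := by
    intro R
    rw [hE, posPart_apply hK, ord_inv]
  obtain ⟨E', hE'⟩ : ∃ E' : Divisor k K, E' = E - Finsupp.single P₀ (E P₀) := ⟨_, rfl⟩
  have hE'app : ∀ R : Place k K, R ≠ P₀ → E' R = E R := by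
    intro R hR
    rw [hE', Finsupp.sub_apply, Finsupp.single_apply, if_neg (Ne.symm hR), sub_zero]
  have hE'P₀ : E' P₀ = 0 := by
    rw [hE', Finsupp.sub_apply, Finsupp.single_apply, if_pos rfl, sub_self]
  have hE'nonneg : 0 ≤ E' := by
    intro R
    rw [Finsupp.zero_apply]
    by_cases hR : R = P₀
    · rw [hR, hE'P₀]
    · rw [hE'app R hR, hEapp]; exact le_max_right _ _
  have hQordf : 0 ≤ Q.ord f := by
    have := (val_le_exp_iff Q hf0 0).1 (by rw [WithZero.exp_zero]; exact hf1)
    simpa using this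
  have hE'Q : E' Q = 0 := by
    rw [hE'app Q hQP₀, hEapp]
    exact max_eq_right (by omega)
  obtain ⟨M, hM⟩ : ∃ M : ℕ, 2 * (g : ℤ) + 1 + E'.deg ≤ M :=
    ⟨(2 * (g : ℤ) + 1 + E'.deg).toNat, Int.self_le_toNat _⟩
  have hQdeg := deg_eq_one_of_isAlgClosed hK Q
  obtain ⟨s, hsL, hsn⟩ := exists_mem_L_not_mem hK
    (D := (Finsupp.single P₀ (M : ℤ) - E' : Divisor k K))
    (by rw [deg_sub, deg_single, hP₀, ← hg]; push_cast; linarith) hQdeg
  have hs0 : s ≠ 0 := by
    rintro rfl
    exact hsn (Submodule.zero_mem _)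
  have hsord : ∀ R : Place k K, -((Finsupp.single P₀ (M : ℤ) - E' : Divisor k K) R) ≤ R.ord s :=
    fun R => (val_le_exp_iff R hs0 _).1 (hsL R)
  have hsQ : Q.1 s = 1 := by
    refine (ord_eq_zero_iff Q hs0).1 ?_
    have h1 := hsord Q
    rw [Finsupp.sub_apply, Finsupp.single_apply, if_neg (Ne.symm hQP₀), hE'Q] at h1
    have h2 : ¬ (1 ≤ Q.ord s) := by
      intro h
      apply hsn
      intro R
      refine (val_le_exp_iff R hs0 _).2 ?_
      by_cases hR : R = Q
      · rw [hR, Finsupp.sub_apply, Finsupp.sub_apply, Finsupp.single_apply, Finsupp.single_apply,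
          if_neg (Ne.symm hQP₀), if_pos rfl, hE'Q]
        omega
      · have := hsord R
        rw [Finsupp.sub_apply] at this
        rw [Finsupp.sub_apply, Finsupp.sub_apply, Finsupp.single_apply (a := Q),
          if_neg (Ne.symm hR), sub_zero]
        exact this
    omega
  have hEP₀ : 0 ≤ E P₀ := by rw [hEapp]; exact le_max_right _ _
  obtain ⟨N, hN⟩ : ∃ N : ℕ, (N : ℤ) = M + E P₀ := ⟨(M + E P₀).toNat, by
    rw [Int.toNat_of_nonneg (by omega)]⟩
  have hsf0 : s * f ≠ 0 := mul_ne_zero hs0 hf0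
  have hsfL : s * f ∈ L (Finsupp.single P₀ (N : ℤ) : Divisor k K) := by
    intro R
    refine (val_le_exp_iff R hsf0 _).2 ?_
    rw [ord_mul R hs0 hf0]
    have h1 := hsord R
    have h2 : -(E R) ≤ R.ord f := by
      rw [hEapp]
      have := le_max_left (-(R.ord f)) 0
      omega
    rw [Finsupp.sub_apply] at h1
    by_cases hR : R = P₀
    · rw [hR] at h1 h2 ⊢
      rw [Finsupp.single_apply, if_pos rfl, hE'P₀] at h1
      rw [Finsupp.single_apply, if_pos rfl, hN]
      omega
    · rw [Finsupp.single_apply, if_neg (Ne.symm hR), hE'app R hR] at h1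
      rw [Finsupp.single_apply, if_neg (Ne.symm hR)]
      omega
  have hsL' : s ∈ L (Finsupp.single P₀ (M : ℤ) : Divisor k K) :=
    L_mono (sub_le_self _ hE'nonneg) hsL
  have h1 := hmain N (s * f) hsfL
  have h2 := hmain M s hsL'
  have h3 : s * D f = D (s * f) - f * D s := by
    rw [D.leibniz, smul_eq_mul, smul_eq_mul]; ring
  have h4 : Q.1 (s * D f) ≤ 1 := by
    rw [h3]
    refine Valuation.map_sub_le _ h1 ?_
    rw [map_mul]
    exact mul_le_one' hf1 h2
  rwa [map_mul, hsQ, one_mul] at h4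

lemma val_D_le_of_good {D : Derivation k K K} {Q : Place k K}
    (hgood : ∀ f : K, Q.1 f ≤ 1 → Q.1 (D f) ≤ 1) {f : K} {j : ℕ}
    (hf : Q.1 f ≤ WithZero.exp (-((j + 1 : ℕ) : ℤ))) : Q.1 (D f) ≤ WithZero.exp (-(j : ℤ)) := by
  by_cases hf0 : f = 0
  · rw [hf0, map_zero, map_zero]; exact zero_le
  obtain ⟨π, hπ⟩ := Q.2.2 (WithZero.exp (-1))
  have hπ0 : π ≠ 0 := by
    rintro rfl
    rw [map_zero] at hπ
    exact WithZero.exp_ne_zero hπ.symm
  have hπord : Q.ord π = 1 := by
    have := (val_eq_exp_iff Q hπ0 (-1)).1 hπ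
    omega
  obtain ⟨u, hu⟩ : ∃ u : K, u = f * (π ^ (j + 1))⁻¹ := ⟨_, rfl⟩
  have hpow0 : π ^ (j + 1) ≠ 0 := pow_ne_zero _ hπ0
  have hford := (val_le_exp_iff Q hf0 _).1 hf
  have hu1 : Q.1 u ≤ 1 := by
    have hu0 : u ≠ 0 := by rw [hu]; exact mul_ne_zero hf0 (inv_ne_zero hpow0)
    have := (val_le_exp_iff Q hu0 0).2 (by
      rw [hu, ord_mul Q hf0 (inv_ne_zero hpow0), ord_inv, ord_pow, hπord]
      push_cast at hford ⊢
      linarith)
    rwa [WithZero.exp_zero] at this
  have hfu : f = π ^ (j + 1) * u := by rw [hu]; field_simp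
  have hDu := hgood u hu1
  have hDπ := hgood π (by rw [hπ, ← WithZero.exp_zero]; exact WithZero.exp_le_exp.2 (by norm_num))
  have hπj : Q.1 (π ^ j) = WithZero.exp (-(j : ℤ)) := by
    rw [map_pow, hπ, ← WithZero.exp_nsmul]
    congr 1
    simp
  have hDf : D f = π ^ (j + 1) * D u + u * (((j + 1 : ℕ) : K) * (π ^ j * D π)) := by
    rw [hfu, D.leibniz, D.leibniz_pow, smul_eq_mul, smul_eq_mul, nsmul_eq_mul, smul_eq_mul,
      Nat.add_sub_cancel]
  rw [hDf]
  refine (Q.1.map_add _ _).trans (max_le ?_ ?_)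
  · rw [map_mul, pow_succ, map_mul, hπj, mul_assoc]
    refine mul_le_of_le_one_right' ?_
    refine mul_le_one' ?_ hDu
    rw [hπ, ← WithZero.exp_zero]; exact WithZero.exp_le_exp.2 (by norm_num)
  · rw [map_mul, map_mul, map_mul, hπj]
    have hnat : Q.1 (((j + 1 : ℕ) : K)) ≤ 1 := by
      rw [← map_natCast (algebraMap k K)]
      exact Q.2.1 _
    calc Q.1 u * (Q.1 ((j + 1 : ℕ) : K) * (WithZero.exp (-(j : ℤ)) * Q.1 (D π)))
        ≤ 1 * (1 * (WithZero.exp (-(j : ℤ)) * 1)) :=
          mul_le_mul' hu1 (mul_le_mul' hnat (mul_le_mul' le_rfl hDπ))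
      _ = WithZero.exp (-(j : ℤ)) := by rw [one_mul, one_mul, mul_one]

set_option maxHeartbeats 1600000 in
theorem finite_high_vanishing [IsAlgClosed k] [CharZero k] (hK : IsFunctionField k K) :
    ∀ (n : ℕ) (V : Submodule k K), FiniteDimensional k V → finrank k V ≤ n →
      {Q : Place k K | ∃ f ∈ V, f ≠ 0 ∧ Q.1 f ≤ WithZero.exp (-(n : ℤ))}.Finite := by
  classical
  obtain ⟨D, hDker⟩ := exists_derivation hK
  obtain ⟨S, hS, hgood⟩ := exists_finite_good hK D
  intro n
  induction n with
  | zero =>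
    intro V hV hle
    have h0 : finrank k V = 0 := by omega
    have hsub : Subsingleton V := finrank_zero_iff.1 h0
    convert Set.finite_empty
    ext Q
    simp only [Set.mem_ofPred_eq, Set.mem_empty_iff_false, iff_false]
    rintro ⟨f, hf, hf0, -⟩
    exact hf0 (congrArg Subtype.val (Subsingleton.elim (⟨f, hf⟩ : V) 0))
  | succ n ih =>
    intro V hV hle
    by_cases hVbot : ∀ f ∈ V, f = 0
    · convert Set.finite_empty
      ext Q
      simp only [Set.mem_ofPred_eq, Set.mem_empty_iff_false, iff_false]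
      rintro ⟨f, hf, hf0, -⟩
      exact hf0 (hVbot f hf)
    push Not at hVbot
    obtain ⟨f₁, hf₁V, hf₁0⟩ := hVbot
    let φ : K →ₗ[k] K :=
      { toFun := fun f => D (f₁⁻¹ * f)
        map_add' := fun a b => by rw [mul_add, map_add]
        map_smul' := fun c a => by rw [RingHom.id_apply, mul_smul_comm, D.map_smul] }
    have hφ : ∀ f, φ f = D (f₁⁻¹ * f) := fun f => rfl
    obtain ⟨W, hW⟩ : ∃ W : Submodule k K, W = V.map φ := ⟨_, rfl⟩
    have hWfin : FiniteDimensional k W := by rw [hW]; infer_instance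
    have hWle : finrank k W ≤ n := by
      have h1 := LinearMap.finrank_range_add_finrank_ker (φ.domRestrict V)
      have h2 : W ≤ LinearMap.range (φ.domRestrict V) := by
        rw [hW]
        rintro y ⟨f, hf, rfl⟩
        exact ⟨⟨f, hf⟩, rfl⟩
      have h3 := Submodule.finrank_mono h2
      have h4 : 0 < finrank k (LinearMap.ker (φ.domRestrict V)) := by
        have hmem : (⟨f₁, hf₁V⟩ : V) ∈ LinearMap.ker (φ.domRestrict V) := by
          rw [LinearMap.mem_ker]
          show D (f₁⁻¹ * f₁) = 0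
          rw [inv_mul_cancel₀ hf₁0, Derivation.map_one_eq_zero]
        have : Nontrivial (LinearMap.ker (φ.domRestrict V)) :=
          ⟨⟨⟨⟨f₁, hf₁V⟩, hmem⟩, 0, fun h => hf₁0 (by
            have := congrArg (fun x : LinearMap.ker (φ.domRestrict V) => ((x : V) : K)) h
            simpa using this)⟩⟩
        exact Module.finrank_pos (R := k) (M := LinearMap.ker (φ.domRestrict V))
      omega
    have hfinW := ih W hWfin hWle
    have hfin1 : {Q : Place k K | Q.ord f₁ ≠ 0}.Finite := finite_support_ord hK f₁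
    refine ((hS.union hfin1).union hfinW).subset ?_
    rintro Q ⟨f, hfV, hf0, hfval⟩
    by_cases hQS : Q ∈ S
    · exact Or.inl (Or.inl hQS)
    by_cases hQ1 : Q.ord f₁ ≠ 0
    · exact Or.inl (Or.inr hQ1)
    rw [not_not] at hQ1
    refine Or.inr ?_
    have hf₁val : Q.1 f₁ = 1 := (ord_eq_zero_iff Q hf₁0).1 hQ1
    obtain ⟨h, hh⟩ : ∃ h : K, h = f₁⁻¹ * f := ⟨_, rfl⟩
    have hh0 : h ≠ 0 := by rw [hh]; exact mul_ne_zero (inv_ne_zero hf₁0) hf0
    have hhval : Q.1 h ≤ WithZero.exp (-((n + 1 : ℕ) : ℤ)) := by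
      rw [hh, map_mul, map_inv₀, hf₁val, inv_one, one_mul]; exact hfval
    refine ⟨D h, ?_, ?_, val_D_le_of_good (hgood Q hQS) hhval⟩
    · rw [hW]
      exact ⟨f, hfV, by rw [hh]; rfl⟩
    · intro hD0
      obtain ⟨c, hc⟩ := hDker h hD0
      have hc0 : c ≠ 0 := by
        rintro rfl
        rw [map_zero] at hc
        exact hh0 hc.symm
      rw [← hc, val_const Q hc0] at hhval
      rw [← WithZero.exp_zero] at hhval
      have := WithZero.exp_le_exp.1 hhval
      push_cast at this
      omega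

end Groth.Agent.Helper17.FF
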