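import Mathlib
import Groth.Agent.Lib.Helper17.FFWr2
namespace Groth.Agent.Helper17.FF

open FunFld Module

universe u v

variable {k : Type u} {K : Type v} [Field k] [Field K] [Algebra k K]

section
variable [IsAlgClosed k] (hK : IsFunctionField k K)

include hK in
lemma pair_le {d r : ℕ} {D : Divisor k K} (hD : D.deg = d) {V : Submodule k K} (hV : V ≤ L D)
    (hVr : finrank k V = r + 1) {P Q : Place k K} (hQP : Q ≠ P) {m : ℕ} (hm : m ≤ d) :
    finrank k ↥(V ⊓ L (D - Finsupp.single P (m : ℤ))) +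
        finrank k ↥(V ⊓ L (D - Finsupp.single Q ((d - m : ℕ) : ℤ))) ≤ r + 2 ∧
    (finrank k ↥(V ⊓ L (D - Finsupp.single P (m : ℤ))) +
        finrank k ↥(V ⊓ L (D - Finsupp.single Q ((d - m : ℕ) : ℤ))) = r + 2 →
      ∃ s : K, s ≠ 0 ∧
        FunFld.div k s = Finsupp.single P (m : ℤ) + Finsupp.single Q ((d : ℤ) - m) - D) := by
  classical
  have hdP := deg_eq_one_of_isAlgClosed hK P
  have hdQ := deg_eq_one_of_isAlgClosed hK Q
  have hfV : FiniteDimensional k ↥V := Module.finite_of_finrank_pos (by omega)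
  obtain ⟨A, hA⟩ : ∃ A : Submodule k K, A = V ⊓ L (D - Finsupp.single P (m : ℤ)) := ⟨_, rfl⟩
  obtain ⟨B, hB⟩ : ∃ B : Submodule k K, B = V ⊓ L (D - Finsupp.single Q ((d - m : ℕ) : ℤ)) :=
    ⟨_, rfl⟩
  rw [← hA, ← hB]
  have hAV : A ≤ V := by rw [hA]; exact inf_le_left
  have hBV : B ≤ V := by rw [hB]; exact inf_le_left
  have hfA : FiniteDimensional k A := Submodule.finiteDimensional_of_le hAV
  have hfB : FiniteDimensional k B := Submodule.finiteDimensional_of_le hBV
  have hcast : (((d - m : ℕ) : ℤ)) = (d : ℤ) - m := by omega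
  obtain ⟨E, hE⟩ : ∃ E : Divisor k K,
      E = D - Finsupp.single P (m : ℤ) - Finsupp.single Q ((d : ℤ) - m) := ⟨_, rfl⟩
  have hEdeg : E.deg = 0 := by
    rw [hE, deg_sub, deg_sub, deg_single, deg_single, hD, hdP, hdQ]; push_cast; ring
  have hABE : A ⊓ B ≤ L E := by
    rintro x ⟨hxA, hxB⟩ R
    rw [hA] at hxA
    rw [hB] at hxB
    by_cases hRP : R = P
    · have := hxA.2 R
      have e1 : E R = (D - Finsupp.single P (m : ℤ)) R := by
        rw [hE, hRP]
        simp only [Finsupp.sub_apply, Finsupp.single_apply, hQP, if_false, if_true]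
        ring
      rw [e1]; exact this
    · by_cases hRQ : R = Q
      · have := hxB.2 R
        have e1 : E R = (D - Finsupp.single Q ((d - m : ℕ) : ℤ)) R := by
          rw [hE, hRQ]
          simp only [Finsupp.sub_apply, Finsupp.single_apply, Ne.symm hQP, if_false, if_true,
            hcast]
          ring
        rw [e1]; exact this
      · have := hV hxA.1 R
        have e1 : E R = D R := by
          rw [hE]
          simp only [Finsupp.sub_apply, Finsupp.single_apply, Ne.symm hRP, Ne.symm hRQ,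
            if_false]
          ring
        rw [e1]; exact this
  have hfE := L_finite hK E
  have h1 := Submodule.finrank_sup_add_finrank_inf_eq A B
  have h2 : finrank k ↥(A ⊔ B) ≤ finrank k V := Submodule.finrank_mono (sup_le hAV hBV)
  have h3 : finrank k ↥(A ⊓ B) ≤ finrank k (L E) := Submodule.finrank_mono hABE
  have h4 : finrank k (L E) ≤ 1 := ell_le_one_of_deg_zero hK hEdeg
  refine ⟨by omega, fun heq => ?_⟩
  have h5 : 0 < finrank k ↥(A ⊓ B) := by omega
  have : Nontrivial ↥(A ⊓ B) := Module.nontrivial_of_finrank_pos h5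
  obtain ⟨⟨s, hs⟩, hs0⟩ := exists_ne (0 : ↥(A ⊓ B))
  have hs0' : s ≠ 0 := fun h0 => hs0 (Subtype.ext h0)
  refine ⟨s, hs0', ?_⟩
  rw [div_eq_neg_of_mem_L hK hEdeg (hABE hs) hs0', hE]
  abel

set_option maxHeartbeats 1600000 in
include hK in
theorem g1_large_weight_mem {P Q : Place k K} (hQP : Q ≠ P) {d r : ℕ}
    {D : Divisor k K} {V : Submodule k K} (hD : D.deg = d) (hV : V ≤ L D)
    (hVr : finrank k V = r + 1)
    (hineq : (r + 1) * d + 1 ≤
      (∑ n ∈ Finset.range d, finrank k ↥(V ⊓ L (D - Finsupp.single P ((n : ℤ) + 1)))) +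
        (∑ n ∈ Finset.range d, finrank k ↥(V ⊓ L (D - Finsupp.single Q ((n : ℤ) + 1)))) + r) :
    ∃ e : ℕ, 1 ≤ e ∧ e ≤ d ∧ ∃ f ∈ L (Finsupp.single P (e : ℤ) : Divisor k K), f ≠ 0 ∧
      Q.1 f ≤ WithZero.exp (-(e : ℤ)) := by
  classical
  obtain ⟨φP, hφP⟩ : ∃ φP : ℕ → ℕ,
      φP = fun m : ℕ => finrank k ↥(V ⊓ L (D - Finsupp.single P (m : ℤ))) := ⟨_, rfl⟩
  obtain ⟨φQ, hφQ⟩ : ∃ φQ : ℕ → ℕ,
      φQ = fun m : ℕ => finrank k ↥(V ⊓ L (D - Finsupp.single Q (m : ℤ))) := ⟨_, rfl⟩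
  have hP0 : φP 0 = r + 1 := by
    rw [hφP]
    show finrank k ↥(V ⊓ L (D - Finsupp.single P ((0 : ℕ) : ℤ))) = r + 1
    rw [Nat.cast_zero, Finsupp.single_zero, sub_zero, inf_eq_left.2 hV, hVr]
  have hQ0 : φQ 0 = r + 1 := by
    rw [hφQ]
    show finrank k ↥(V ⊓ L (D - Finsupp.single Q ((0 : ℕ) : ℤ))) = r + 1
    rw [Nat.cast_zero, Finsupp.single_zero, sub_zero, inf_eq_left.2 hV, hVr]
  have hsumP : ∑ m ∈ Finset.range (d + 1), φP m = (r + 1) +
      ∑ n ∈ Finset.range d, finrank k ↥(V ⊓ L (D - Finsupp.single P ((n : ℤ) + 1))) := by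
    rw [Finset.sum_range_succ', hP0, add_comm]
    congr 1
    refine Finset.sum_congr rfl (fun n _ => ?_)
    rw [hφP]
    show finrank k ↥(V ⊓ L (D - Finsupp.single P ((n + 1 : ℕ) : ℤ))) = _
    rw [Nat.cast_succ]
  have hsumQ : ∑ m ∈ Finset.range (d + 1), φQ m = (r + 1) +
      ∑ n ∈ Finset.range d, finrank k ↥(V ⊓ L (D - Finsupp.single Q ((n : ℤ) + 1))) := by
    rw [Finset.sum_range_succ', hQ0, add_comm]
    congr 1
    refine Finset.sum_congr rfl (fun n _ => ?_)
    rw [hφQ]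
    show finrank k ↥(V ⊓ L (D - Finsupp.single Q ((n + 1 : ℕ) : ℤ))) = _
    rw [Nat.cast_succ]
  have hrefl : ∑ m ∈ Finset.range (d + 1), φQ (d - m) = ∑ m ∈ Finset.range (d + 1), φQ m := by
    have := Finset.sum_range_reflect φQ (d + 1)
    simp only [Nat.add_sub_cancel] at this
    exact this
  obtain ⟨g, hg⟩ : ∃ g : ℕ → ℕ, g = fun m : ℕ => φP m + φQ (d - m) := ⟨_, rfl⟩
  have hgsum : ∑ m ∈ Finset.range (d + 1), g m =
      (∑ m ∈ Finset.range (d + 1), φP m) + ∑ m ∈ Finset.range (d + 1), φQ m := by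
    rw [hg, ← hrefl, ← Finset.sum_add_distrib]
  have hpair : ∀ m, m ≤ d → g m ≤ r + 2 ∧ (g m = r + 2 → ∃ s : K, s ≠ 0 ∧
      FunFld.div k s = Finsupp.single P (m : ℤ) + Finsupp.single Q ((d : ℤ) - m) - D) := by
    intro m hm
    have := pair_le hK hD hV hVr hQP hm
    rw [hg, hφP, hφQ]
    exact this
  -- two good indices
  have hex : ∃ m₁ m₂ : ℕ, m₁ < m₂ ∧ m₂ ≤ d ∧ g m₁ = r + 2 ∧ g m₂ = r + 2 := by
    by_contra hcon
    push Not at hcon
    have hlow : (r + 1) * d + r + 3 ≤ ∑ m ∈ Finset.range (d + 1), g m := by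
      rw [hgsum, hsumP, hsumQ]
      omega
    have hX : (d + 1) * (r + 1) = (r + 1) * d + r + 1 := by ring
    by_cases hgood : ∃ m₀, m₀ ≤ d ∧ g m₀ = r + 2
    · obtain ⟨m₀, hm₀, hgm₀⟩ := hgood
      have hother : ∀ m ∈ (Finset.range (d + 1)).erase m₀, g m ≤ r + 1 := by
        intro m hm
        rw [Finset.mem_erase, Finset.mem_range] at hm
        have h1 := (hpair m (by omega)).1
        by_contra h2
        have h3 : g m = r + 2 := by omega
        rcases lt_or_gt_of_ne hm.1 with h | h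
        · exact hcon m m₀ h hm₀ h3 hgm₀
        · exact hcon m₀ m h (by omega) hgm₀ h3
      have hmem : m₀ ∈ Finset.range (d + 1) := Finset.mem_range.2 (by omega)
      have h4 : ∑ x ∈ (Finset.range (d + 1)).erase m₀, g x ≤
          ((Finset.range (d + 1)).erase m₀).card • (r + 1) :=
        Finset.sum_le_card_nsmul _ _ _ hother
      rw [Finset.card_erase_of_mem hmem, Finset.card_range, smul_eq_mul,
        Nat.add_sub_cancel] at h4
      have h5 : g m₀ + ∑ x ∈ (Finset.range (d + 1)).erase m₀, g x =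
          ∑ x ∈ Finset.range (d + 1), g x := Finset.add_sum_erase (Finset.range (d + 1)) g hmem
      have hY : d * (r + 1) = (r + 1) * d := by ring
      rw [hY] at h4
      rw [← h5, hgm₀] at hlow
      linarith
    · push Not at hgood
      have hall : ∀ m ∈ Finset.range (d + 1), g m ≤ r + 1 := by
        intro m hm
        rw [Finset.mem_range] at hm
        have h1 := (hpair m (by omega)).1
        have h2 := hgood m (by omega)
        omega
      have h4 : ∑ x ∈ Finset.range (d + 1), g x ≤ (Finset.range (d + 1)).card • (r + 1) :=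
        Finset.sum_le_card_nsmul _ _ _ hall
      rw [Finset.card_range, smul_eq_mul, hX] at h4
      linarith
  obtain ⟨m₁, m₂, hlt, hm₂, hg₁, hg₂⟩ := hex
  obtain ⟨s₁, hs₁0, hs₁⟩ := (hpair m₁ (by omega)).2 hg₁
  obtain ⟨s₂, hs₂0, hs₂⟩ := (hpair m₂ hm₂).2 hg₂
  obtain ⟨e, he⟩ : ∃ e : ℕ, e = m₂ - m₁ := ⟨_, rfl⟩
  have he' : (e : ℤ) = (m₂ : ℤ) - m₁ := by omega
  refine ⟨e, by omega, by omega, s₁ * s₂⁻¹, ?_, mul_ne_zero hs₁0 (inv_ne_zero hs₂0), ?_⟩
  · intro R
    refine (val_le_exp_iff R (mul_ne_zero hs₁0 (inv_ne_zero hs₂0)) _).2 ?_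
    rw [ord_mul R hs₁0 (inv_ne_zero hs₂0), ord_inv, ← div_apply hK, ← div_apply hK, hs₁, hs₂, he']
    simp only [Finsupp.sub_apply, Finsupp.add_apply, Finsupp.single_apply]
    split_ifs with h1 h2 h2
    · exact absurd (h2.trans h1.symm) hQP
    · linarith
    · have : (m₁ : ℤ) < m₂ := by exact_mod_cast hlt
      linarith
    · linarith
  · refine (val_le_exp_iff Q (mul_ne_zero hs₁0 (inv_ne_zero hs₂0)) _).2 ?_
    rw [ord_mul Q hs₁0 (inv_ne_zero hs₂0), ord_inv, ← div_apply hK, ← div_apply hK, hs₁, hs₂, he']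
    simp only [Finsupp.sub_apply, Finsupp.add_apply, Finsupp.single_apply, Ne.symm hQP, if_false,
      if_true]
    linarith

include hK in
theorem g1_finite_large_weight [CharZero k] (hg1 : genus k K = 1) (P : Place k K) (d r : ℕ) :
    Set.Finite {Q : Place k K | Q ≠ P ∧ ∃ (D : Divisor k K) (V : Submodule k K),
      D.deg = d ∧ V ≤ L D ∧ finrank k ↥V = r + 1 ∧
      (r + 1) * d + 1 ≤
        (∑ n ∈ Finset.range d, finrank k ↥(V ⊓ L (D - Finsupp.single P ((n : ℤ) + 1)))) +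
          (∑ n ∈ Finset.range d, finrank k ↥(V ⊓ L (D - Finsupp.single Q ((n : ℤ) + 1)))) + r} := by
  have hfin : ∀ e ∈ (↑(Finset.Icc 1 d) : Set ℕ),
      {Q : Place k K | ∃ f ∈ L (Finsupp.single P (e : ℤ) : Divisor k K), f ≠ 0 ∧
        Q.1 f ≤ WithZero.exp (-(e : ℤ))}.Finite := by
    intro e he
    rw [Finset.mem_coe, Finset.mem_Icc] at he
    have h1 := g1_ell_single' hK hg1 P (a := (e : ℤ)) (by exact_mod_cast he.1)
    have h2 : finrank k (L (Finsupp.single P (e : ℤ) : Divisor k K)) = e := by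
      unfold ell at h1
      exact_mod_cast h1
    exact finite_high_vanishing hK e _ (L_finite hK _) h2.le
  refine (Set.Finite.biUnion (Finset.finite_toSet (Finset.Icc 1 d)) hfin).subset ?_
  rintro Q ⟨hQP, D, V, hD, hV, hVr, hineq⟩
  obtain ⟨e, he1, hed, f, hf, hf0, hfv⟩ := g1_large_weight_mem hK hQP hD hV hVr hineq
  exact Set.mem_biUnion (Finset.mem_coe.2 (Finset.mem_Icc.2 ⟨he1, hed⟩)) ⟨f, hf, hf0, hfv⟩

end

end Groth.Agent.Helper17.FF
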