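import Mathlib
import Groth.Agent.Lib.Helper17.FFSep
namespace Groth.Agent.Helper17.FF

universe u v w

open FunFld Polynomial Module
open scoped TensorProduct

section WS

theorem isSeparable_compositum_of_weaklySeparable (k k' : Type u) (K K' : Type v) [Field k] [Field k']
    [Field K] [Field K']
    [Algebra k k'] [Algebra k K] [Algebra K K'] [Algebra k' K'] [Algebra k K']
    [IsScalarTower k k' K'] [IsScalarTower k K K'] [FiniteDimensional K K']
    (hK : FunFld.IsFunctionField k K) (hg : FunFld.IsGeometric k K)
    (hK' : FunFld.IsFunctionField k' K') (hg' : FunFld.IsGeometric k' K')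
    (hw : Function.Injective (KaehlerDifferential.map k k' K K')) :
    Algebra.IsSeparable (IntermediateField.adjoin K (Set.range (algebraMap k' K'))) K' := by
  obtain ⟨x, hxtr, hsep⟩ := exists_separating hK hg
  have hD : KaehlerDifferential.D k K x ≠ 0 := (isSeparable_iff_D_ne_zero hK hg x).1 hsep
  have hD' : KaehlerDifferential.D k' K' (algebraMap K K' x) ≠ 0 := by
    rw [← KaehlerDifferential.map_D k k' K K']
    intro h0
    exact hD (hw (by rw [h0, map_zero]))
  have hsep' := (isSeparable_iff_D_ne_zero hK' hg' (algebraMap K K' x)).2 hD'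
  set F := IntermediateField.adjoin k' ({algebraMap K K' x} : Set K') with hF
  set M := IntermediateField.adjoin K (Set.range (algebraMap k' K')) with hM
  have hk'M : ∀ c : k', algebraMap k' K' c ∈ M.toSubfield := fun c =>
    IntermediateField.subset_adjoin K _ ⟨c, rfl⟩
  let M' : IntermediateField k' K' := M.toSubfield.toIntermediateField hk'M
  have hFM' : F ≤ M' := by
    rw [hF, IntermediateField.adjoin_simple_le_iff]
    exact M.algebraMap_mem x
  have hmem : ∀ z : F, (z : K') ∈ M := fun z => hFM' z.2
  letI : Algebra F M := (RingHom.codRestrict F.val.toRingHom M hmem).toAlgebra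
  haveI : IsScalarTower F M K' := IsScalarTower.of_algebraMap_eq (fun z => rfl)
  exact Algebra.isSeparable_tower_top_of_isSeparable F M K'

end WS

end Groth.Agent.Helper17.FF
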