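import Mathlib

set_option autoImplicit false
universe u
open CategoryTheory AlgebraicGeometry TopologicalSpace Topology TensorProduct

namespace Groth.Agent.Helper17.FibDimBd

/-- (copied from `Groth.Agent.H29.TopDim`) -/
theorem coheight_le_topologicalKrullDim_of_mem_open {X : Type*} [TopologicalSpace X]
    (Z : IrreducibleCloseds X) (U : Opens X) {x : X} (hxZ : x ∈ Z) (hxU : x ∈ U) :
    (Order.coheight Z : WithBot ℕ∞) ≤ topologicalKrullDim (U : Set X) := by
  let f : ↥(U : Set X) → X := Subtype.val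
  have hf : IsOpenEmbedding f := U.isOpen.isOpenEmbedding_subtypeVal
  let Z' := (IrreducibleCloseds.orderIsoOfIsOpenEmbedding f hf).symm ⟨Z, ⟨⟨x, hxU⟩, hxZ⟩⟩
  have h1 : IrreducibleCloseds.map f hf.continuous Z' = Z :=
    congrArg Subtype.val ((IrreducibleCloseds.orderIsoOfIsOpenEmbedding f hf).apply_symm_apply _)
  rw [← h1, hf.coheight_map]
  exact Order.coheight_le_krullDim _

/-- (copied from `Groth.Agent.H29.TopDim`) -/
theorem topologicalKrullDim_eq_iSup_of_open_cover' (X : Type u) [TopologicalSpace X] (ι : Type*)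
    (U : ι → TopologicalSpace.Opens X) (hcov : ⨆ i, U i = ⊤) :
    topologicalKrullDim X = ⨆ i, topologicalKrullDim (U i) := by
  apply le_antisymm
  · rw [topologicalKrullDim, Order.krullDim_eq_iSup_coheight]
    apply iSup_le
    intro Z
    obtain ⟨x, hx⟩ := Z.isIrreducible.nonempty
    obtain ⟨i, hi⟩ : ∃ i, x ∈ U i := Opens.mem_iSup.mp (hcov ▸ (trivial : x ∈ (⊤ : Opens X)))
    exact le_iSup_of_le i (coheight_le_topologicalKrullDim_of_mem_open Z (U i) hx hi)
  · exact iSup_le fun i => topologicalKrullDim_subspace_le X _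

theorem stepA (R S : Type u) [CommRing R] [CommRing S] [Algebra R S] [Algebra.FiniteType R S] :
    ∃ n : ℕ, ∀ p : PrimeSpectrum R,
      topologicalKrullDim (PrimeSpectrum.comap (algebraMap R S) ⁻¹' {p}) ≤ n := by
  obtain ⟨n, φ, hφ⟩ := Algebra.FiniteType.iff_quotient_mvPolynomial''.mp
    (inferInstance : Algebra.FiniteType R S)
  refine ⟨n, fun p => ?_⟩
  rw [IsHomeomorph.topologicalKrullDim_eq _
    (PrimeSpectrum.preimageHomeomorphFiber R S p).isHomeomorph,
    PrimeSpectrum.topologicalKrullDim_eq_ringKrullDim]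
  let κ := p.asIdeal.ResidueField
  let ψ : κ ⊗[R] MvPolynomial (Fin n) R →ₐ[κ] κ ⊗[R] S :=
    Algebra.TensorProduct.map (AlgHom.id κ κ) φ
  have hψ : Function.Surjective ψ := by
    intro x
    induction x using TensorProduct.induction_on with
    | zero => exact ⟨0, map_zero _⟩
    | tmul a s =>
      obtain ⟨q, rfl⟩ := hφ s
      exact ⟨a ⊗ₜ q, by simp [ψ]⟩
    | add x y hx hy =>
      obtain ⟨x', rfl⟩ := hx
      obtain ⟨y', rfl⟩ := hy
      exact ⟨x' + y', map_add _ _ _⟩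
  calc ringKrullDim (κ ⊗[R] S) ≤ ringKrullDim (κ ⊗[R] MvPolynomial (Fin n) R) :=
        ringKrullDim_le_of_surjective ψ.toRingHom hψ
    _ = ringKrullDim (MvPolynomial (Fin n) κ) :=
        ringKrullDim_eq_of_ringEquiv (MvPolynomial.algebraTensorAlgEquiv R κ).toRingEquiv
    _ = (n : WithBot ℕ∞) := by
        rw [MvPolynomial.ringKrullDim_of_isNoetherianRing, ringKrullDim_eq_zero_of_field]
        simp

set_option backward.isDefEq.respectTransparency.types false in
theorem stepB {X Y : Scheme.{u}} (f : X ⟶ Y) [LocallyOfFiniteType f] {U : X.Opens}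
    {V : Y.Opens} (hU : IsAffineOpen U) (hV : IsAffineOpen V) (e : U ≤ f ⁻¹ᵁ V) :
    ∃ n : ℕ, ∀ (y : Y) (Z : Type u) [TopologicalSpace Z] (h : Z → X), IsInducing h →
      (∀ z, h z ∈ U) → (∀ z, f (h z) = y) → topologicalKrullDim Z ≤ n := by
  letI : Algebra Γ(Y, V) Γ(X, U) := (f.appLE V U e).hom.toAlgebra
  haveI : Algebra.FiniteType Γ(Y, V) Γ(X, U) := f.finiteType_appLE hV hU e
  obtain ⟨n, hn⟩ := stepA Γ(Y, V) Γ(X, U)
  refine ⟨n, fun y Z _ h hind hzU hzy => ?_⟩
  by_cases hZ : Nonempty Z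
  · obtain ⟨z0⟩ := hZ
    have hy : y ∈ V := by rw [← hzy z0]; exact e (hzU z0)
    let p : PrimeSpectrum Γ(Y, V) := hV.primeIdealOf ⟨y, hy⟩
    have hcomap : ∀ z, PrimeSpectrum.comap (algebraMap Γ(Y, V) Γ(X, U))
        (hU.primeIdealOf ⟨h z, hzU z⟩) = p := by
      intro z
      have h1 := IsAffineOpen.comap_primeIdealOf_appLE V hV U hU e (hzU z)
      rw [RingHom.algebraMap_toAlgebra]
      refine h1.trans ?_
      show hV.primeIdealOf _ = hV.primeIdealOf _
      congr 1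
      exact Subtype.ext (hzy z)
    let g : Z → (PrimeSpectrum.comap (algebraMap Γ(Y, V) Γ(X, U)) ⁻¹' {p}) :=
      fun z => ⟨hU.primeIdealOf ⟨h z, hzU z⟩, hcomap z⟩
    have hg : IsInducing g := by
      rw [← IsInducing.of_comp_iff IsInducing.subtypeVal]
      have h1 : IsInducing (fun z => (⟨h z, hzU z⟩ : U)) := hind.codRestrict hzU
      exact (hU.isoSpec.hom.homeomorph.isInducing).comp h1
    exact (hg.topologicalKrullDim_le).trans (hn p)
  · haveI : IsEmpty Z := not_nonempty_iff.mp hZ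
    have : topologicalKrullDim Z = ⊥ := by
      unfold topologicalKrullDim
      haveI : IsEmpty (TopologicalSpace.IrreducibleCloseds Z) :=
        ⟨fun W => by obtain ⟨x, _⟩ := W.isIrreducible.nonempty; exact IsEmpty.false x⟩
      exact Order.krullDim_eq_bot
    rw [this]; exact bot_le

theorem main {X Y : Scheme.{u}} [CompactSpace Y] (f : X ⟶ Y) [LocallyOfFiniteType f]
    [QuasiCompact f] : ∃ n : ℕ, ∀ y : Y, topologicalKrullDim ↥(f.fiber y) ≤ n := by
  haveI : CompactSpace X := QuasiCompact.compactSpace_of_compactSpace f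
  have hex : ∀ x : X, ∃ (U : X.Opens) (V : Y.Opens), IsAffineOpen U ∧ IsAffineOpen V ∧ x ∈ U ∧
      U ≤ f ⁻¹ᵁ V := by
    intro x
    obtain ⟨V, hV, hxV, -⟩ := Opens.isBasis_iff_nbhd.mp Y.isBasis_affineOpens
      (show f x ∈ (⊤ : Y.Opens) from trivial)
    obtain ⟨U, hU, hxU, hUV⟩ := Opens.isBasis_iff_nbhd.mp X.isBasis_affineOpens
      (show x ∈ f ⁻¹ᵁ V from hxV)
    exact ⟨U, V, hU, hV, hxU, hUV⟩
  choose U V hU hV hxU hUV using hex
  choose N hN using fun x => stepB f (hU x) (hV x) (hUV x)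
  obtain ⟨t, ht⟩ := isCompact_univ.elim_finite_subcover (fun x => (U x : Set X))
    (fun x => (U x).2) (fun x _ => Set.mem_iUnion.mpr ⟨x, hxU x⟩)
  refine ⟨t.sup N, fun y => ?_⟩
  rw [IsHomeomorph.topologicalKrullDim_eq _ (f.fiberHomeo y).isHomeomorph]
  have hcov : ⨆ i : t, (⟨Subtype.val ⁻¹' (U i.1 : Set X),
      (U i.1).2.preimage continuous_subtype_val⟩ : Opens (f ⁻¹' {y})) = ⊤ := by
    refine eq_top_iff.mpr fun w _ => Opens.mem_iSup.mpr ?_
    obtain ⟨x, hx, hw⟩ := Set.mem_iUnion₂.mp (ht (Set.mem_univ w.1))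
    exact ⟨⟨x, hx⟩, hw⟩
  rw [topologicalKrullDim_eq_iSup_of_open_cover' (f ⁻¹' {y}) t _ hcov]
  refine iSup_le fun i => ?_
  refine (hN i.1 y _ (fun w => ((w.1.1 : X))) ?_ ?_ ?_).trans ?_
  · exact IsInducing.subtypeVal.comp IsInducing.subtypeVal
  · intro w; exact w.2
  · intro w; exact w.1.2
  · exact_mod_cast Finset.le_sup (f := N) i.2

end Groth.Agent.Helper17.FibDimBd
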