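import Mathlib
set_option autoImplicit false
universe u₁ u₂ w
open CategoryTheory Limits PreGaloisCategory Functor

namespace Groth.Agent.Helper17.FibU

variable {C : Type u₁} [Category.{u₂} C] [GaloisCategory C]

section basic

variable (G : C ⥤ FintypeCat.{w})

/-- an empty object of `FintypeCat` is initial -/
def isInitialOfIsEmpty (S : FintypeCat.{w}) [IsEmpty S] : IsInitial S :=
  IsInitial.ofUniqueHom (fun Y => FintypeCat.homMk (fun x => isEmptyElim x))
    (fun Y m => by ext x; exact isEmptyElim x)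

lemma isEmpty_of_isInitial_fin (S : FintypeCat.{w}) (h : IsInitial S) : IsEmpty S := by
  refine ⟨fun x => ?_⟩
  have f : S ⟶ FintypeCat.of PEmpty.{w+1} := h.to _
  exact PEmpty.elim (f x)

variable [PreservesColimitsOfShape (Discrete WalkingPair) G]

lemma isEmpty_bot : IsEmpty (G.obj (⊥_ C)) := by
  refine ⟨fun z => ?_⟩
  have hc : IsColimit (BinaryCofan.mk (G.map (coprod.inl : (⊥_ C) ⟶ (⊥_ C) ⨿ (⊥_ C)))
      (G.map (coprod.inr : (⊥_ C) ⟶ (⊥_ C) ⨿ (⊥_ C)))) :=
    isColimitMapCoconeBinaryCofanEquiv G _ _ (isColimitOfPreserves G (coprodIsCoprod _ _))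
  let f : G.obj (⊥_ C) ⟶ FintypeCat.of (ULift.{w} Bool) := FintypeCat.homMk (fun _ => ⟨true⟩)
  let g : G.obj (⊥_ C) ⟶ FintypeCat.of (ULift.{w} Bool) := FintypeCat.homMk (fun _ => ⟨false⟩)
  obtain ⟨l, h1, h2⟩ := BinaryCofan.IsColimit.desc' hc f g
  have e : (coprod.inl : (⊥_ C) ⟶ (⊥_ C) ⨿ (⊥_ C)) = coprod.inr := initialIsInitial.hom_ext _ _
  have h1' : G.map (coprod.inl : (⊥_ C) ⟶ (⊥_ C) ⨿ (⊥_ C)) ≫ l = f := h1
  have h2' : G.map (coprod.inr : (⊥_ C) ⟶ (⊥_ C) ⨿ (⊥_ C)) ≫ l = g := h2
  rw [e] at h1'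
  have : f = g := h1'.symm.trans h2'
  have := ConcreteCategory.congr_hom this z
  have h3 : (⟨true⟩ : ULift.{w} Bool) = ⟨false⟩ := this
  simpa using congrArg ULift.down h3

lemma isEmpty_of_isInitial {X : C} (h : IsInitial X) : IsEmpty (G.obj X) := by
  haveI := isEmpty_bot G
  refine ⟨fun x => ?_⟩
  exact isEmptyElim (G.map (h.to (⊥_ C)) x)

lemma preservesInitial : PreservesColimitsOfShape (Discrete.{0} PEmpty) G := by
  haveI : PreservesColimit (Functor.empty.{0} C) G := by
    apply preservesColimit_of_preserves_colimit_cocone initialIsInitial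
    apply (isColimitMapCoconeEmptyCoconeEquiv _ _).symm _
    haveI := isEmpty_bot G
    exact isInitialOfIsEmpty _
  exact preservesColimitsOfShape_pempty_of_preservesInitial G

lemma preservesFinCoprod (J : Type*) [Finite J] : PreservesColimitsOfShape (Discrete J) G := by
  haveI := preservesInitial G
  exact PreservesFiniteCoproducts.of_preserves_binary_and_initial G J

end basic

section lims

variable (G : C ⥤ FintypeCat.{w}) [PreservesFiniteLimits G]

/-- fibre of a product -/
noncomputable def prodEquiv (X Y : C) : G.obj (X ⨯ Y) ≃ G.obj X × G.obj Y :=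
  (PreservesLimitPair.iso (G ⋙ FintypeCat.incl) X Y ≪≫
  Types.binaryProductIso (G.obj X) (G.obj Y)).toEquiv

lemma prodEquiv_symm_fst (X Y : C) (x : G.obj X) (y : G.obj Y) :
    G.map prod.fst ((prodEquiv G X Y).symm (x, y)) = x := by
  simp only [prodEquiv]
  change ((Types.binaryProductIso _ _).inv ≫ _ ≫ (G ⋙ FintypeCat.incl).map prod.fst) _ = _
  erw [PreservesLimitPair.iso_inv_fst, Types.binaryProductIso_inv_comp_fst]
  rfl

lemma prodEquiv_symm_snd (X Y : C) (x : G.obj X) (y : G.obj Y) :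
    G.map prod.snd ((prodEquiv G X Y).symm (x, y)) = y := by
  simp only [prodEquiv]
  change ((Types.binaryProductIso _ _).inv ≫ _ ≫ (G ⋙ FintypeCat.incl).map prod.snd) _ = _
  erw [PreservesLimitPair.iso_inv_snd, Types.binaryProductIso_inv_comp_snd]
  rfl

lemma prod_ext' (X Y : C) (p q : G.obj (X ⨯ Y)) (h1 : G.map prod.fst p = G.map prod.fst q)
    (h2 : G.map prod.snd p = G.map prod.snd q) : p = q := by
  obtain ⟨⟨x, y⟩, rfl⟩ := (prodEquiv G X Y).symm.surjective p
  obtain ⟨⟨x', y'⟩, rfl⟩ := (prodEquiv G X Y).symm.surjective q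
  rw [prodEquiv_symm_fst, prodEquiv_symm_fst] at h1
  rw [prodEquiv_symm_snd, prodEquiv_symm_snd] at h2
  rw [h1, h2]

/-- fibre of an equalizer -/
noncomputable def eqEquiv {X Y : C} (f g : X ⟶ Y) :
    G.obj (equalizer f g) ≃ { x : G.obj X // G.map f x = G.map g x } :=
  (PreservesEqualizer.iso (G ⋙ FintypeCat.incl) f g ≪≫
    Types.equalizerIso (G.map f).hom (G.map g).hom).toEquiv

lemma ev_inj [PreservesColimitsOfShape (Discrete WalkingPair) G]
    (A X : C) [IsConnected A] (a : G.obj A) :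
    Function.Injective (fun (f : A ⟶ X) ↦ G.map f a) := by
  intro f g (h : G.map f a = G.map g a)
  have : IsIso (equalizer.ι f g) := by
    apply IsConnected.noTrivialComponent _ (equalizer.ι f g)
    intro hin
    exact (isEmpty_of_isInitial G hin).false ((eqEquiv G f g).symm ⟨a, h⟩)
  exact eq_of_epi_equalizer

end lims

section key

variable (G : C ⥤ FintypeCat.{w})

lemma lift_fst_apply {A X : C} (f : A ⟶ X) (b : G.obj A) :
    G.map prod.fst (G.map (prod.lift (𝟙 A) f) b) = b := by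
  rw [← FintypeCat.comp_apply, ← G.map_comp, prod.lift_fst, G.map_id, FintypeCat.id_apply]

lemma lift_snd_apply {A X : C} (f : A ⟶ X) (b : G.obj A) :
    G.map prod.snd (G.map (prod.lift (𝟙 A) f) b) = G.map f b := by
  rw [← FintypeCat.comp_apply, ← G.map_comp, prod.lift_snd]

variable (F : C ⥤ FintypeCat.{w}) [FiberFunctor F]

lemma ev_bij_of (A X : C) [IsGalois A] (a : F.obj A)
    (hbij : Function.Bijective (fun f : A ⟶ X => F.map f a)) (b : F.obj A) :
    Function.Bijective (fun f : A ⟶ X => F.map f b) := by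
  refine ⟨evaluation_injective_of_isConnected F A X b, fun x => ?_⟩
  let σ := (evaluationEquivOfIsGalois F A a).symm b
  have hσ : F.map σ.hom a = b := evaluationEquivOfIsGalois_symm_fiber F A a b
  obtain ⟨f₀, hf₀⟩ := hbij.2 x
  refine ⟨σ.inv ≫ f₀, ?_⟩
  show F.map (σ.inv ≫ f₀) b = x
  have e : σ.hom ≫ σ.inv ≫ f₀ = f₀ := Iso.hom_inv_id_assoc σ f₀
  rw [← hσ, ← FintypeCat.comp_apply, ← F.map_comp, e]
  exact hf₀

/-- the comparison map -/
noncomputable def psi (A X : C) [Finite (A ⟶ X)] : (∐ fun (_ : A ⟶ X) => A) ⟶ A ⨯ X :=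
  Sigma.desc (fun f => prod.lift (𝟙 A) f)

lemma ι_psi (A X : C) [Finite (A ⟶ X)] (f : A ⟶ X) :
    Sigma.ι (fun (_ : A ⟶ X) => A) f ≫ psi A X = prod.lift (𝟙 A) f :=
  Sigma.ι_desc _ _

lemma exists_rep (A X : C) [Finite (A ⟶ X)] [PreservesColimitsOfShape (Discrete (A ⟶ X)) G]
    (z : G.obj (∐ fun (_ : A ⟶ X) => A)) :
    ∃ (f : A ⟶ X) (c : G.obj A), G.map (Sigma.ι (fun (_ : A ⟶ X) => A) f) c = z := by
  haveI : Fintype (A ⟶ X) := Fintype.ofFinite _
  obtain ⟨⟨f⟩, c, hc⟩ := Limits.FintypeCat.jointly_surjective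
    (Discrete.functor (fun _ : A ⟶ X => A) ⋙ G) _
    (isColimitOfPreserves G (colimit.isColimit (Discrete.functor (fun _ : A ⟶ X => A)))) z
  exact ⟨f, c, hc⟩

lemma isIso_psi (A X : C) [IsGalois A] [Finite (A ⟶ X)] (a : F.obj A)
    (hbij : Function.Bijective (fun f : A ⟶ X => F.map f a)) : IsIso (psi A X) := by
  haveI : IsIso (F.map (psi A X)) := by
    rw [ConcreteCategory.isIso_iff_bijective]
    constructor
    · intro z₁ z₂ hz
      obtain ⟨f₁, b₁, rfl⟩ := exists_rep F A X z₁
      obtain ⟨f₂, b₂, rfl⟩ := exists_rep F A X z₂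
      have hz' : F.map (prod.lift (𝟙 A) f₁) b₁ = F.map (prod.lift (𝟙 A) f₂) b₂ := by
        have e1 : F.map (psi A X) (F.map (Sigma.ι (fun (_ : A ⟶ X) => A) f₁) b₁)
            = F.map (prod.lift (𝟙 A) f₁) b₁ := by
          rw [← FintypeCat.comp_apply, ← F.map_comp, ι_psi]
        have e2 : F.map (psi A X) (F.map (Sigma.ι (fun (_ : A ⟶ X) => A) f₂) b₂)
            = F.map (prod.lift (𝟙 A) f₂) b₂ := by
          rw [← FintypeCat.comp_apply, ← F.map_comp, ι_psi]
        rw [← e1, ← e2]
        exact hz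
      have hb : b₁ = b₂ := by
        have := congrArg (F.map prod.fst) hz'
        rwa [lift_fst_apply, lift_fst_apply] at this
      subst hb
      have hf : f₁ = f₂ := by
        have := congrArg (F.map prod.snd) hz'
        rw [lift_snd_apply, lift_snd_apply] at this
        exact evaluation_injective_of_isConnected F A X b₁ this
      rw [hf]
    · intro y
      obtain ⟨f, hf⟩ := (ev_bij_of F A X a hbij (F.map prod.fst y)).2 (F.map prod.snd y)
      refine ⟨F.map (Sigma.ι (fun (_ : A ⟶ X) => A) f) (F.map prod.fst y), ?_⟩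
      rw [← FintypeCat.comp_apply, ← F.map_comp, ι_psi]
      apply prod_ext' F
      · rw [lift_fst_apply]
      · rw [lift_snd_apply]
        exact hf
  exact isIso_of_reflects_iso (psi A X) F

variable [PreservesFiniteLimits G] [PreservesColimitsOfShape (Discrete WalkingPair) G]

lemma key (A X : C) [IsGalois A] (a : F.obj A)
    (hbij : Function.Bijective (fun f : A ⟶ X => F.map f a)) (a' : G.obj A) :
    Function.Bijective (fun f : A ⟶ X => G.map f a') := by
  haveI : Finite (A ⟶ X) := Finite.of_injective _ hbij.1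
  refine ⟨ev_inj G A X a', fun x' => ?_⟩
  haveI := isIso_psi F A X a hbij
  haveI := preservesFinCoprod G (A ⟶ X)
  obtain ⟨f, c, hc⟩ := exists_rep G A X (G.map (inv (psi A X)) ((prodEquiv G A X).symm (a', x')))
  have h1 : G.map (prod.lift (𝟙 A) f) c = (prodEquiv G A X).symm (a', x') := by
    have e1 : G.map (psi A X) (G.map (Sigma.ι (fun (_ : A ⟶ X) => A) f) c)
        = G.map (prod.lift (𝟙 A) f) c := by
      rw [← FintypeCat.comp_apply, ← G.map_comp, ι_psi]
    rw [← e1, hc, ← FintypeCat.comp_apply, ← G.map_comp, IsIso.inv_hom_id, G.map_id,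
      FintypeCat.id_apply]
  have h2 : c = a' := by
    have := congrArg (G.map prod.fst) h1
    rwa [lift_fst_apply, prodEquiv_symm_fst] at this
  refine ⟨f, ?_⟩
  have := congrArg (G.map prod.snd) h1
  rw [lift_snd_apply, prodEquiv_symm_snd, h2] at this
  exact this

end key

section spec

open PointedGaloisObject

variable (F : C ⥤ FintypeCat.{u₂}) [FiberFunctor F] (G : C ⥤ FintypeCat.{u₂})
  [PreservesFiniteLimits G] [PreservesColimitsOfShape (Discrete WalkingPair) G]
  (h : ∀ X : C, IsEmpty (G.obj X) → Nonempty (IsInitial X))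

include h in
lemma nonempty_of_conn (A : C) [IsConnected A] : Nonempty (G.obj A) := by
  by_contra hne
  rw [not_nonempty_iff] at hne
  obtain ⟨hin⟩ := h A hne
  exact IsConnected.notInitial hin

/-- the system of fibres -/
abbrev sysG : PointedGaloisObject F ⥤ Type u₂ := incl F ⋙ G ⋙ FintypeCat.incl

include h in
lemma exists_section : ∃ s : ∀ A : PointedGaloisObject F, G.obj A.obj,
    ∀ {A B : PointedGaloisObject F} (f : A ⟶ B), G.map f.val (s A) = s B := by
  haveI : ∀ j : PointedGaloisObject F, Finite ((sysG F G).obj j) := fun j =>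
    inferInstanceAs (Finite (G.obj j.obj))
  haveI : ∀ j : PointedGaloisObject F, Nonempty ((sysG F G).obj j) := fun j =>
    nonempty_of_conn G h j.obj
  obtain ⟨s, hs⟩ := nonempty_sections_of_finite_cofiltered_system (sysG F G)
  exact ⟨s, fun f => hs f⟩

/-- the cocone defined by a compatible system -/
def coconeG (s : ∀ A : PointedGaloisObject F, G.obj A.obj)
    (hs : ∀ {A B : PointedGaloisObject F} (f : A ⟶ B), G.map f.val (s A) = s B) :
    Cocone ((incl F).op ⋙ coyoneda) where
  pt := G ⋙ FintypeCat.incl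
  ι := {
    app := fun ⟨A⟩ ↦ { app X := ↾fun (f : (A : C) ⟶ X) ↦ G.map f (s A) }
    naturality := fun ⟨A⟩ ⟨B⟩ ⟨f⟩ ↦ by
      ext Y (g : (A : C) ⟶ Y)
      suffices hh : G.map g (G.map f.val (s B)) = G.map g (s A) by simpa
      rw [hs f]
  }

/-- the comparison transformation -/
noncomputable def tt (s : ∀ A : PointedGaloisObject F, G.obj A.obj)
    (hs : ∀ {A B : PointedGaloisObject F} (f : A ⟶ B), G.map f.val (s A) = s B) :
    F ⋙ FintypeCat.incl ⟶ G ⋙ FintypeCat.incl :=
  (PointedGaloisObject.isColimit F).desc (coconeG F G s hs)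

lemma tt_apply (s : ∀ A : PointedGaloisObject F, G.obj A.obj)
    (hs : ∀ {A B : PointedGaloisObject F} (f : A ⟶ B), G.map f.val (s A) = s B)
    (A : PointedGaloisObject F) (X : C) (f : A.obj ⟶ X) :
    (tt F G s hs).app X (F.map f A.pt) = G.map f (s A) := by
  have h1 := (PointedGaloisObject.isColimit F).fac (coconeG F G s hs) ⟨A⟩
  have h2 := congrArg (fun τ => τ.app X) h1
  have h3 := ConcreteCategory.congr_hom h2 f
  exact h3

lemma tt_bij (s : ∀ A : PointedGaloisObject F, G.obj A.obj)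
    (hs : ∀ {A B : PointedGaloisObject F} (f : A ⟶ B), G.map f.val (s A) = s B) (X : C) :
    Function.Bijective ((tt F G s hs).app X) := by
  obtain ⟨A, a, hgal, hbij⟩ := exists_galois_representative F X
  have hk := key G F A X a hbij (s ⟨A, a, hgal⟩)
  have hcomp : ∀ f : A ⟶ X, (tt F G s hs).app X (F.map f a) = G.map f (s ⟨A, a, hgal⟩) :=
    fun f => tt_apply F G s hs ⟨A, a, hgal⟩ X f
  constructor
  · intro x₁ x₂ hx
    obtain ⟨f₁, rfl⟩ := hbij.2 x₁
    obtain ⟨f₂, rfl⟩ := hbij.2 x₂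
    have e : G.map f₁ (s ⟨A, a, hgal⟩) = G.map f₂ (s ⟨A, a, hgal⟩) := by
      rw [← hcomp f₁, ← hcomp f₂]
      exact hx
    have := hk.1 e
    rw [this]
  · intro y
    obtain ⟨f, hf⟩ := hk.2 y
    exact ⟨F.map f a, (hcomp f).trans hf⟩

/-- components -/
noncomputable def compEquiv (s : ∀ A : PointedGaloisObject F, G.obj A.obj)
    (hs : ∀ {A B : PointedGaloisObject F} (f : A ⟶ B), G.map f.val (s A) = s B) (X : C) :
    F.obj X ≃ G.obj X :=
  Equiv.ofBijective (fun x : F.obj X => ((tt F G s hs).app X x : G.obj X)) (tt_bij F G s hs X)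

lemma compEquiv_nat (s : ∀ A : PointedGaloisObject F, G.obj A.obj)
    (hs : ∀ {A B : PointedGaloisObject F} (f : A ⟶ B), G.map f.val (s A) = s B) {X Y : C}
    (f : X ⟶ Y) (x : F.obj X) :
    compEquiv F G s hs Y (F.map f x) = G.map f (compEquiv F G s hs X x) := by
  have h1 := NatTrans.naturality_apply (tt F G s hs) f x
  show (tt F G s hs).app Y (F.map f x) = G.map f ((tt F G s hs).app X x)
  exact h1

include h in
theorem main_spec : Nonempty (G ≅ F) := by
  obtain ⟨s, hs⟩ := exists_section F G h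
  refine ⟨(NatIso.ofComponents (fun X => FintypeCat.equivEquivIso (compEquiv F G s hs X)) ?_).symm⟩
  intro X Y f
  ext x
  exact compEquiv_nat F G s hs f x

end spec

section general

universe u v

variable {D : Type u} [Category.{v} D] [GaloisCategory D]
  (F : D ⥤ FintypeCat.{w}) [FiberFunctor F] (F' : D ⥤ FintypeCat.{w})

theorem s5145 [PreservesFiniteLimits F'] [PreservesColimitsOfShape (Discrete WalkingPair) F']
    (h : ∀ X : D, IsEmpty (F'.obj X) → Nonempty (IsInitial X)) : Nonempty (F' ≅ F) := by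
  let S : FintypeCat.{w} ⥤ FintypeCat.{v} := FintypeCat.uSwitch.{w, v}
  have h₁ : ∀ X : D, IsEmpty ((F' ⋙ S).obj X) → Nonempty (IsInitial X) := by
    intro X hX
    apply h X
    exact Function.isEmpty (β := (F' ⋙ S).obj X) (F'.obj X).uSwitchEquiv.symm
  obtain ⟨e⟩ := main_spec (F ⋙ S) (F' ⋙ S) h₁
  exact ⟨((FintypeCat.uSwitchEquivalence.{w, v}).fullyFaithfulFunctor.whiskeringRight D).preimageIso e⟩

include F in
lemma h_of_exact [PreservesFiniteLimits F'] [PreservesFiniteColimits F'] (X : D)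
    (hE : IsEmpty (F'.obj X)) : Nonempty (IsInitial X) := by
  by_contra hni
  have hne : Nonempty (F.obj X) :=
    (not_initial_iff_fiber_nonempty F X).mp (fun hin => hni ⟨hin⟩)
  have hT : IsTerminal (F.obj (⊤_ D)) := IsTerminal.isTerminalObj F _ terminalIsTerminal
  have hT' : IsTerminal (F'.obj (⊤_ D)) := IsTerminal.isTerminalObj F' _ terminalIsTerminal
  haveI : Epi (terminal.from X) := by
    apply F.epi_of_epi_map
    apply ConcreteCategory.epi_of_surjective
    intro y
    obtain ⟨x⟩ := hne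
    refine ⟨x, ?_⟩
    let m₁ : FintypeCat.of PUnit.{w+1} ⟶ F.obj (⊤_ D) :=
      FintypeCat.homMk (fun _ => F.map (terminal.from X) x)
    let m₂ : FintypeCat.of PUnit.{w+1} ⟶ F.obj (⊤_ D) := FintypeCat.homMk (fun _ => y)
    have : m₁ = m₂ := hT.hom_ext _ _
    exact ConcreteCategory.congr_hom this PUnit.unit
  haveI : Epi (F'.map (terminal.from X)) := inferInstance
  have hs : Function.Surjective (F'.map (terminal.from X)) :=
    ConcreteCategory.surjective_of_epi_of_preservesPushout _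
  obtain ⟨x, _⟩ := hs (hT'.from (FintypeCat.of PUnit.{w+1}) PUnit.unit)
  exact hE.false x

theorem s0266 [PreservesFiniteLimits F'] [PreservesFiniteColimits F'] : Nonempty (F' ≅ F) :=
  s5145 F F' (h_of_exact F F')

end general

end Groth.Agent.Helper17.FibU
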