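import Mathlib
import Groth.Agent.Lib.Helper17.CompBCS

set_option autoImplicit false
universe u
open CategoryTheory CategoryTheory.Limits AlgebraicGeometry TopologicalSpace Topology TensorProduct

namespace Groth.Agent.Helper17.ProdComp

/-! ### ring level -/

theorem comap_minimal_eq_bot {R S : Type*} [CommRing R] [IsDomain R] [CommRing S] (φ : R →+* S)
    (hφ : φ.Flat) (q : Ideal S) (hq : q ∈ minimalPrimes S) : q.comap φ = ⊥ := by
  haveI : q.IsPrime := hq.1.1
  have hgen := RingHom.Flat.generalizingMap_comap hφ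
  let a : PrimeSpectrum S := ⟨q, inferInstance⟩
  let b : PrimeSpectrum R := ⟨⊥, Ideal.isPrime_bot⟩
  have hb : b ⤳ PrimeSpectrum.comap φ a := by
    rw [← PrimeSpectrum.le_iff_specializes]
    show (⊥ : Ideal R) ≤ _
    exact bot_le
  obtain ⟨a', ha', hab⟩ := hgen hb
  have hle : a'.asIdeal ≤ q := (PrimeSpectrum.le_iff_specializes a' a).mpr ha'
  have hge : q ≤ a'.asIdeal := hq.2 ⟨a'.isPrime, bot_le⟩ hle
  have heq : a'.asIdeal = q := le_antisymm hle hge
  have h1 : (PrimeSpectrum.comap φ a').asIdeal = (⊥ : Ideal R) := by rw [hab]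
  rw [← heq]
  exact h1

theorem exists_prime_over_both {k A B : Type u} [Field k] [CommRing A] [CommRing B]
    [Algebra k A] [Algebra k B] (P : Ideal A) [P.IsPrime] (P' : Ideal B) [P'.IsPrime]
    (Q : Ideal (A ⊗[k] B)) [Q.IsPrime]
    (hP : P ≤ Q.comap (Algebra.TensorProduct.includeLeft : A →ₐ[k] A ⊗[k] B).toRingHom)
    (hP' : P' ≤ Q.comap (Algebra.TensorProduct.includeRight : B →ₐ[k] A ⊗[k] B).toRingHom) :
    ∃ Q₂ : Ideal (A ⊗[k] B), Q₂.IsPrime ∧ Q₂ ≤ Q ∧
      Q₂.comap (Algebra.TensorProduct.includeLeft : A →ₐ[k] A ⊗[k] B).toRingHom = P ∧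
      Q₂.comap (Algebra.TensorProduct.includeRight : B →ₐ[k] A ⊗[k] B).toRingHom = P' := by
  let πR : A ⊗[k] B →ₐ[k] (A ⧸ P) ⊗[k] (B ⧸ P') :=
    Algebra.TensorProduct.map (Ideal.Quotient.mkₐ k P) (Ideal.Quotient.mkₐ k P')
  have hs1 : Function.Surjective (Ideal.Quotient.mkₐ k P) := Ideal.Quotient.mkₐ_surjective k P
  have hs2 : Function.Surjective (Ideal.Quotient.mkₐ k P') := Ideal.Quotient.mkₐ_surjective k P'
  have hsurj : Function.Surjective πR := Algebra.TensorProduct.map_surjective _ _ hs1 hs2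
  have hker : RingHom.ker πR =
      P.map (Algebra.TensorProduct.includeLeft : A →ₐ[k] A ⊗[k] B) ⊔
        P'.map (Algebra.TensorProduct.includeRight : B →ₐ[k] A ⊗[k] B) := by
    have := Algebra.TensorProduct.map_ker (Ideal.Quotient.mkₐ k P) (Ideal.Quotient.mkₐ k P') hs1 hs2
    have e1 : RingHom.ker (Ideal.Quotient.mkₐ k P) = P := by
      ext x; simp [RingHom.mem_ker, Ideal.Quotient.eq_zero_iff_mem]
    have e2 : RingHom.ker (Ideal.Quotient.mkₐ k P') = P' := by
      ext x; simp [RingHom.mem_ker, Ideal.Quotient.eq_zero_iff_mem]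
    rw [e1, e2] at this
    exact this
  have hkerQ : RingHom.ker πR ≤ Q := by
    rw [hker]
    exact sup_le (Ideal.map_le_iff_le_comap.mpr hP) (Ideal.map_le_iff_le_comap.mpr hP')
  haveI hQbar : (Q.map πR).IsPrime := Ideal.map_isPrime_of_surjective hsurj hkerQ
  have hcm : (Q.map πR).comap πR = Q := by
    rw [Ideal.comap_map_of_surjective πR hsurj]
    exact sup_eq_left.mpr hkerQ
  obtain ⟨Qb, hQbmin, hQble⟩ := Ideal.exists_minimalPrimes_le (bot_le : (⊥ : Ideal _) ≤ Q.map πR)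
  haveI : Qb.IsPrime := hQbmin.1.1
  refine ⟨Qb.comap πR.toRingHom, Ideal.comap_isPrime _ _, ?_, ?_, ?_⟩
  · rw [← hcm]; exact Ideal.comap_mono (f := πR.toRingHom) hQble
  · -- left
    have hfl : (algebraMap (A ⧸ P) ((A ⧸ P) ⊗[k] (B ⧸ P'))).Flat :=
      RingHom.flat_algebraMap_iff.mpr inferInstance
    have h0 := comap_minimal_eq_bot _ hfl Qb hQbmin
    have hcomp : πR.toRingHom.comp
        (Algebra.TensorProduct.includeLeft : A →ₐ[k] A ⊗[k] B).toRingHom =
        (algebraMap (A ⧸ P) ((A ⧸ P) ⊗[k] (B ⧸ P'))).comp (Ideal.Quotient.mk P) := by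
      ext a
      simp [πR]
    have : (Qb.comap πR.toRingHom).comap
        (Algebra.TensorProduct.includeLeft : A →ₐ[k] A ⊗[k] B).toRingHom =
        (Qb.comap (algebraMap (A ⧸ P) ((A ⧸ P) ⊗[k] (B ⧸ P')))).comap (Ideal.Quotient.mk P) := by
      rw [Ideal.comap_comap, Ideal.comap_comap, hcomp]
    rw [this, h0, ← RingHom.ker_eq_comap_bot, Ideal.mk_ker]
  · -- right
    have hfl0 : (algebraMap (B ⧸ P') ((B ⧸ P') ⊗[k] (A ⧸ P))).Flat :=
      RingHom.flat_algebraMap_iff.mpr inferInstance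
    have hfl : ((Algebra.TensorProduct.includeRight :
        (B ⧸ P') →ₐ[k] (A ⧸ P) ⊗[k] (B ⧸ P')).toRingHom).Flat := by
      have h1 : (Algebra.TensorProduct.includeRight :
          (B ⧸ P') →ₐ[k] (A ⧸ P) ⊗[k] (B ⧸ P')).toRingHom =
          ((Algebra.TensorProduct.comm k (B ⧸ P') (A ⧸ P)).toRingEquiv.toRingHom).comp
            (algebraMap (B ⧸ P') ((B ⧸ P') ⊗[k] (A ⧸ P))) := by
        ext b
        simp
      rw [h1]
      exact RingHom.Flat.comp hfl0 (RingHom.Flat.of_bijective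
        (show Function.Bijective ⇑((Algebra.TensorProduct.comm k (B ⧸ P') (A ⧸ P)).toRingEquiv.toRingHom)
          from (Algebra.TensorProduct.comm k (B ⧸ P') (A ⧸ P)).toRingEquiv.bijective))
    have h0 := comap_minimal_eq_bot _ hfl Qb hQbmin
    have hcomp : πR.toRingHom.comp
        (Algebra.TensorProduct.includeRight : B →ₐ[k] A ⊗[k] B).toRingHom =
        ((Algebra.TensorProduct.includeRight :
          (B ⧸ P') →ₐ[k] (A ⧸ P) ⊗[k] (B ⧸ P')).toRingHom).comp (Ideal.Quotient.mk P') := by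
      ext b
      simp [πR]
    have : (Qb.comap πR.toRingHom).comap
        (Algebra.TensorProduct.includeRight : B →ₐ[k] A ⊗[k] B).toRingHom =
        (Qb.comap (Algebra.TensorProduct.includeRight :
          (B ⧸ P') →ₐ[k] (A ⧸ P) ⊗[k] (B ⧸ P')).toRingHom).comap (Ideal.Quotient.mk P') := by
      rw [Ideal.comap_comap, Ideal.comap_comap, hcomp]
    rw [this, h0, ← RingHom.ker_eq_comap_bot, Ideal.mk_ker]

/-! ### scheme level -/

section sch
variable {k : Type u} [Field k] {X Y : Scheme.{u}}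

theorem exists_chart' (f : X ⟶ Spec (CommRingCat.of k)) (x : X) :
    ∃ (R : CommRingCat.{u}) (_ : Algebra k R) (c : Spec R ⟶ X)
      (_ : IsOpenImmersion c), x ∈ Set.range ⇑c ∧
      c ≫ f = Spec.map (CommRingCat.ofHom (algebraMap k R)) := by
  obtain ⟨V, hV, hxV⟩ : ∃ V : X.Opens, IsAffineOpen V ∧ x ∈ V := by
    obtain ⟨_, ⟨V, hV : IsAffineOpen V, rfl⟩, hxV, -⟩ :=
      X.isBasis_affineOpens.exists_subset_of_mem_open (Set.mem_univ x) isOpen_univ
    exact ⟨V, hV, hxV⟩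
  haveI := hV.isOpenImmersion_fromSpec
  let a : Spec Γ(X, V) ⟶ Spec (CommRingCat.of k) := hV.fromSpec ≫ f
  let φ : CommRingCat.of k ⟶ Γ(X, V) := Spec.preimage a
  have hφ : Spec.map φ = a := Spec.map_preimage a
  letI alg : Algebra k Γ(X, V) := φ.hom.toAlgebra
  refine ⟨Γ(X, V), alg, hV.fromSpec, inferInstance, ?_, hφ.symm⟩
  rw [hV.range_fromSpec]
  exact hxV

set_option backward.isDefEq.respectTransparency.types false in
theorem chart2 (f : X ⟶ Spec (CommRingCat.of k)) (g : Y ⟶ Spec (CommRingCat.of k))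
    (A B : CommRingCat.{u}) [Algebra k A] [Algebra k B]
    (cX : Spec A ⟶ X) [IsOpenImmersion cX] (cY : Spec B ⟶ Y) [IsOpenImmersion cY]
    (hcX : cX ≫ f = Spec.map (CommRingCat.ofHom (algebraMap k A)))
    (hcY : cY ≫ g = Spec.map (CommRingCat.ofHom (algebraMap k B))) :
    ∃ j : Spec (CommRingCat.of (A ⊗[k] B)) ⟶ pullback f g, IsOpenImmersion j ∧
      j ≫ pullback.fst f g = Spec.map (CommRingCat.ofHom
        (Algebra.TensorProduct.includeLeft : A →ₐ[k] A ⊗[k] B).toRingHom) ≫ cX ∧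
      j ≫ pullback.snd f g = Spec.map (CommRingCat.ofHom
        (Algebra.TensorProduct.includeRight : B →ₐ[k] A ⊗[k] B).toRingHom) ≫ cY ∧
      (∀ z : ↥(pullback f g), (pullback.fst f g) z ∈ Set.range ⇑cX →
        (pullback.snd f g) z ∈ Set.range ⇑cY → z ∈ Set.range ⇑j) := by
  let J : pullback (cX ≫ f) (cY ≫ g) ⟶ pullback f g :=
    pullback.map (cX ≫ f) (cY ≫ g) f g cX cY (𝟙 _) ((Category.comp_id _).trans rfl)
      ((Category.comp_id _).trans rfl)
  have hJo : IsOpenImmersion J :=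
    MorphismProperty.pullbackMap (P := @IsOpenImmersion) (f := cX ≫ f) (g := cY ≫ g)
      (f' := f) (g' := g) (i₁ := cX) (i₂ := cY) inferInstance inferInstance rfl rfl
  have hJfst : J ≫ pullback.fst f g = pullback.fst (cX ≫ f) (cY ≫ g) ≫ cX :=
    pullback.lift_fst _ _ _
  have hJsnd : J ≫ pullback.snd f g = pullback.snd (cX ≫ f) (cY ≫ g) ≫ cY :=
    pullback.lift_snd _ _ _
  have hJrange : Set.range ⇑J = ⇑(pullback.fst f g) ⁻¹' Set.range ⇑cX ∩
      ⇑(pullback.snd f g) ⁻¹' Set.range ⇑cY :=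
    Scheme.Pullback.range_map _ _ _ _ _ _ _ _ _
  let e1 : pullback (cX ≫ f) (cY ≫ g) ≅ pullback (Spec.map (CommRingCat.ofHom (algebraMap k A)))
      (Spec.map (CommRingCat.ofHom (algebraMap k B))) := pullback.congrHom hcX hcY
  let e : pullback (cX ≫ f) (cY ≫ g) ≅ Spec (CommRingCat.of (A ⊗[k] B)) :=
    e1 ≪≫ pullbackSpecIso k A B
  haveI : IsIso e.inv := inferInstance
  haveI : IsOpenImmersion e.inv := IsOpenImmersion.of_isIso _
  haveI := hJo
  have hjo : IsOpenImmersion (e.inv ≫ J) := IsOpenImmersion.comp _ _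
  refine ⟨e.inv ≫ J, hjo, ?_, ?_, ?_⟩
  · have h1 : e.inv ≫ pullback.fst (cX ≫ f) (cY ≫ g) =
        Spec.map (CommRingCat.ofHom
          (Algebra.TensorProduct.includeLeft : A →ₐ[k] A ⊗[k] B).toRingHom) := by
      simp only [e, e1, Iso.trans_inv, Category.assoc, pullback.congrHom_inv, pullback.lift_fst,
        Category.comp_id]
      exact pullbackSpecIso_inv_fst k A B
    rw [Category.assoc, hJfst, ← Category.assoc, h1]
  · have h1 : e.inv ≫ pullback.snd (cX ≫ f) (cY ≫ g) =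
        Spec.map (CommRingCat.ofHom
          (Algebra.TensorProduct.includeRight : B →ₐ[k] A ⊗[k] B).toRingHom) := by
      simp only [e, e1, Iso.trans_inv, Category.assoc, pullback.congrHom_inv, pullback.lift_snd,
        Category.comp_id]
      exact pullbackSpecIso_inv_snd k A B
    rw [Category.assoc, hJsnd, ← Category.assoc, h1]
  · intro z hz1 hz2
    have hz : z ∈ Set.range ⇑J := by rw [hJrange]; exact ⟨hz1, hz2⟩
    obtain ⟨w, hw⟩ := hz
    refine ⟨e.hom w, ?_⟩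
    have h2 : e.hom ≫ e.inv ≫ J = J := by rw [Iso.hom_inv_id_assoc]
    have h3 := congrArg (fun m : pullback (cX ≫ f) (cY ≫ g) ⟶ pullback f g => m w) h2
    exact h3.trans hw

theorem closure_singleton_mem_irreducibleComponents {T : Type*} [TopologicalSpace T]
    [QuasiSober T] (x : T) (hx : ∀ x' : T, x' ⤳ x → x' = x) :
    closure ({x} : Set T) ∈ irreducibleComponents T := by
  refine ⟨isIrreducible_singleton.closure, fun T' hT' hle => ?_⟩
  obtain ⟨t, ht⟩ := QuasiSober.sober hT'.closure isClosed_closure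
  have htdef : closure {t} = closure T' := ht.def
  have htx : t ⤳ x := by
    apply specializes_iff_mem_closure.mpr
    rw [htdef]
    exact subset_closure (hle (subset_closure rfl))
  have := hx t htx
  subst this
  intro y hy
  rw [htdef]
  exact subset_closure hy

/-- key lemma: a maximal point of `p⁻¹(closure ξ) ∩ q⁻¹(closure υ)` lies over `ξ` and `υ`. -/
theorem key (f : X ⟶ Spec (CommRingCat.of k)) (g : Y ⟶ Spec (CommRingCat.of k))
    (ξ : X) (υ : Y) (ζ : ↥(pullback f g))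
    (h1 : ξ ⤳ (pullback.fst f g) ζ) (h2 : υ ⤳ (pullback.snd f g) ζ)
    (hmax : ∀ ζ' : ↥(pullback f g), ζ' ⤳ ζ → ξ ⤳ (pullback.fst f g) ζ' →
      υ ⤳ (pullback.snd f g) ζ' → ζ' = ζ) :
    (pullback.fst f g) ζ = ξ ∧ (pullback.snd f g) ζ = υ := by
  obtain ⟨A, algA, cX, hcXo, ⟨px, hpx⟩, hcX⟩ := exists_chart' f ((pullback.fst f g) ζ)
  obtain ⟨B, algB, cY, hcYo, ⟨py, hpy⟩, hcY⟩ := exists_chart' g ((pullback.snd f g) ζ)
  obtain ⟨j, hjo, hj1, hj2, hjr⟩ := chart2 f g A B cX cY hcX hcY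
  have hcXe : Topology.IsOpenEmbedding ⇑cX := cX.isOpenEmbedding
  have hcYe : Topology.IsOpenEmbedding ⇑cY := cY.isOpenEmbedding
  have hje : Topology.IsOpenEmbedding ⇑j := j.isOpenEmbedding
  obtain ⟨Q', hQ'⟩ := hjr ζ ⟨px, hpx⟩ ⟨py, hpy⟩
  let Q : PrimeSpectrum (A ⊗[k] B) := Q'
  have hQ : j Q = ζ := hQ'
  set φ1 := (Algebra.TensorProduct.includeLeft : A →ₐ[k] A ⊗[k] B).toRingHom with hφ1
  set φ2 := (Algebra.TensorProduct.includeRight : B →ₐ[k] A ⊗[k] B).toRingHom with hφ2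
  have hp : ∀ q : PrimeSpectrum (A ⊗[k] B),
      (pullback.fst f g) (j q) = cX (PrimeSpectrum.comap φ1 q) := by
    intro q
    have := congrArg (fun m : Spec (CommRingCat.of (A ⊗[k] B)) ⟶ X => m q) hj1
    exact this
  have hq : ∀ q : PrimeSpectrum (A ⊗[k] B),
      (pullback.snd f g) (j q) = cY (PrimeSpectrum.comap φ2 q) := by
    intro q
    have := congrArg (fun m : Spec (CommRingCat.of (A ⊗[k] B)) ⟶ Y => m q) hj2
    exact this
  -- ξ, υ in the charts
  have hξr : ξ ∈ Set.range ⇑cX := h1.mem_open hcXe.isOpen_range ⟨px, hpx⟩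
  have hυr : υ ∈ Set.range ⇑cY := h2.mem_open hcYe.isOpen_range ⟨py, hpy⟩
  obtain ⟨P0, hP0⟩ := hξr
  obtain ⟨P0', hP0'⟩ := hυr
  let P : PrimeSpectrum A := P0
  let P' : PrimeSpectrum B := P0'
  have hP : cX P = ξ := hP0
  have hP' : cY P' = υ := hP0'
  have hPle : P ≤ PrimeSpectrum.comap φ1 Q := by
    rw [PrimeSpectrum.le_iff_specializes]
    apply hcXe.isInducing.specializes_iff.mp
    rw [hP, ← hp Q, hQ]
    exact h1
  have hP'le : P' ≤ PrimeSpectrum.comap φ2 Q := by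
    rw [PrimeSpectrum.le_iff_specializes]
    apply hcYe.isInducing.specializes_iff.mp
    rw [hP', ← hq Q, hQ]
    exact h2
  haveI := Q.isPrime
  haveI := P.isPrime
  haveI := P'.isPrime
  obtain ⟨Q₂, hQ₂prime, hQ₂le, hQ₂1, hQ₂2⟩ :=
    exists_prime_over_both P.asIdeal P'.asIdeal Q.asIdeal hPle hP'le
  let q₂ : PrimeSpectrum (A ⊗[k] B) := ⟨Q₂, hQ₂prime⟩
  have hq₂1 : PrimeSpectrum.comap φ1 q₂ = P := PrimeSpectrum.ext hQ₂1
  have hq₂2 : PrimeSpectrum.comap φ2 q₂ = P' := PrimeSpectrum.ext hQ₂2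
  have hsp : j q₂ ⤳ ζ := by
    rw [← hQ]
    exact ((PrimeSpectrum.le_iff_specializes q₂ Q).mp hQ₂le).map hje.continuous
  have hpq₂ : (pullback.fst f g) (j q₂) = ξ := by rw [hp q₂, hq₂1, hP]
  have hqq₂ : (pullback.snd f g) (j q₂) = υ := by rw [hq q₂, hq₂2, hP']
  have heq : j q₂ = ζ := hmax (j q₂) hsp (by rw [hpq₂]) (by rw [hqq₂])
  rw [← heq]
  exact ⟨hpq₂, hqq₂⟩

end sch

end Groth.Agent.Helper17.ProdComp
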