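import Mathlib
import Groth.Prelude.Def_FDesc
import Groth.Agent.Lib.Helper17.CompBCS
import Groth.Agent.Lib.Helper17.ProdComp
import Groth.Agent.H19.GeomTensor

set_option autoImplicit false
universe u
open CategoryTheory CategoryTheory.Limits AlgebraicGeometry TopologicalSpace Topology TensorProduct

namespace Groth.Agent.Helper17.GeomInt

/-! ### ring level -/

theorem isDomain_localization_tensor {k A K : Type u} [Field k] [IsAlgClosed k] [CommRing A]
    [Algebra k A] [Field K] [Algebra k K] (q' : Ideal (A ⊗[k] K)) [q'.IsPrime]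
    (p : Ideal A) [p.IsPrime] (hp : q'.comap (algebraMap A (A ⊗[k] K)) = p)
    [IsDomain (Localization.AtPrime p)] : IsDomain (Localization.AtPrime q') := by
  haveI : IsDomain (Localization.AtPrime p ⊗[k] K) :=
    Groth.Agent.H19.isDomain_tensor_of_isAlgClosed
  let φ : A ⊗[k] K →ₐ[k] Localization.AtPrime p ⊗[k] K :=
    Algebra.TensorProduct.map (IsScalarTower.toAlgHom k A (Localization.AtPrime p)) (AlgHom.id k K)
  letI : Algebra (A ⊗[k] K) (Localization.AtPrime p ⊗[k] K) := φ.toRingHom.toAlgebra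
  haveI : IsScalarTower A (A ⊗[k] K) (Localization.AtPrime p ⊗[k] K) := by
    apply IsScalarTower.of_algebraMap_eq'
    ext a
    show algebraMap A (Localization.AtPrime p ⊗[k] K) a = φ (algebraMap A (A ⊗[k] K) a)
    simp [φ, Algebra.TensorProduct.algebraMap_apply]
  have H : (algebraMap (A ⊗[k] K) (Localization.AtPrime p ⊗[k] K)).comp
      (Algebra.TensorProduct.includeRight : K →ₐ[k] A ⊗[k] K).toRingHom =
      (Algebra.TensorProduct.includeRight : K →ₐ[k] Localization.AtPrime p ⊗[k] K).toRingHom := by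
    ext c
    show φ ((1 : A) ⊗ₜ[k] c) = (1 : Localization.AtPrime p) ⊗ₜ[k] c
    simp [φ]
  haveI hloc : IsLocalization (Algebra.algebraMapSubmonoid (A ⊗[k] K) p.primeCompl)
      (Localization.AtPrime p ⊗[k] K) :=
    IsLocalization.tensorProduct_tensorProduct k K p.primeCompl (Localization.AtPrime p) H
  -- the prime q'' of the localization
  have hdisj : Disjoint ((Algebra.algebraMapSubmonoid (A ⊗[k] K) p.primeCompl : Submonoid _) :
      Set (A ⊗[k] K)) (q' : Set (A ⊗[k] K)) := by
    rw [Set.disjoint_left]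
    rintro _ ⟨a, ha, rfl⟩ hq
    apply ha
    rw [← hp]
    exact hq
  set q'' : Ideal (Localization.AtPrime p ⊗[k] K) :=
    q'.map (algebraMap (A ⊗[k] K) (Localization.AtPrime p ⊗[k] K)) with hq''
  haveI hq''prime : q''.IsPrime :=
    IsLocalization.isPrime_of_isPrime_disjoint
      (Algebra.algebraMapSubmonoid (A ⊗[k] K) p.primeCompl) _ q' inferInstance hdisj
  have hcomap : q''.comap (algebraMap (A ⊗[k] K) (Localization.AtPrime p ⊗[k] K)) = q' :=
    IsLocalization.under_map_of_isPrime_disjoint
      (Algebra.algebraMapSubmonoid (A ⊗[k] K) p.primeCompl) _ inferInstance hdisj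
  haveI : IsDomain (Localization.AtPrime q'') :=
    IsLocalization.isDomain_localization q''.primeCompl_le_nonZeroDivisors
  have h1 : IsLocalization.AtPrime (Localization.AtPrime q'')
      (q''.comap (algebraMap (A ⊗[k] K) (Localization.AtPrime p ⊗[k] K))) :=
    IsLocalization.isLocalization_isLocalization_atPrime_isLocalization
      (Algebra.algebraMapSubmonoid (A ⊗[k] K) p.primeCompl) (Localization.AtPrime q'') q''
  haveI h2 : IsLocalization q'.primeCompl (Localization.AtPrime q'') := by
    have h3 : IsLocalization (q''.comap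
      (algebraMap (A ⊗[k] K) (Localization.AtPrime p ⊗[k] K))).primeCompl
      (Localization.AtPrime q'') := h1
    have h4 : (q''.comap (algebraMap (A ⊗[k] K) (Localization.AtPrime p ⊗[k] K))).primeCompl =
        q'.primeCompl := by
      ext t
      show t ∉ _ ↔ t ∉ _
      rw [hcomap]
    rw [h4] at h3
    exact h3
  let e : Localization.AtPrime q' ≃ₐ[A ⊗[k] K] Localization.AtPrime q'' :=
    IsLocalization.algEquiv q'.primeCompl _ _
  exact MulEquiv.isDomain (Localization.AtPrime q'') e.toRingEquiv.toMulEquiv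

/-! ### scheme level -/

section sch
variable {k : Type u} [Field k] {X : Scheme.{u}}

theorem isDomain_stalk_iff_of_isOpenImmersion {R : CommRingCat.{u}} (c : Spec R ⟶ X)
    [IsOpenImmersion c] (p0 : PrimeSpectrum R) :
    IsDomain (X.presheaf.stalk (c p0)) ↔ IsDomain (Localization.AtPrime p0.asIdeal) := by
  let p1 : ↥(Spec R) := p0
  haveI : IsIso (c.stalkMap p1) := inferInstance
  let e1 : ↑(X.presheaf.stalk (c p0)) ≃+* ↑((Spec R).presheaf.stalk p1) :=
    (asIso (c.stalkMap p1)).commRingCatIsoToRingEquiv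
  let e2' : Localization.AtPrime p0.asIdeal ≃ₐ[R]
      ↑((Spec.structureSheaf R).presheaf.stalk p0) :=
    IsLocalization.algEquiv p0.asIdeal.primeCompl _ _
  let e2 : Localization.AtPrime p0.asIdeal ≃+* ↑((Spec R).presheaf.stalk p1) :=
    e2'.toRingEquiv
  constructor
  · intro h
    exact MulEquiv.isDomain _ (e2.trans e1.symm).toMulEquiv
  · intro h
    exact MulEquiv.isDomain _ (e1.trans e2.symm).toMulEquiv

theorem main_mpr [IsAlgClosed k] (f : X ⟶ Spec (CommRingCat.of k)) (x : X)
    (hdom : IsDomain ↑(X.presheaf.stalk x)) : FBase.IsGeomPtIntegralAt f x := by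
  intro K _ _ x' hx'
  obtain ⟨R, alg, c, hco, ⟨p0', hp0'⟩, hcf⟩ := ProdComp.exists_chart' f x
  let p0 : PrimeSpectrum R := p0'
  have hp0 : c p0 = x := hp0'
  obtain ⟨j, hjo, hjc, hsurj⟩ := CompBCS.chart (K := K) f R c hcf
  obtain ⟨Q', hQ'⟩ := hsurj x' p0' (hx'.trans hp0'.symm)
  let Q : PrimeSpectrum (R ⊗[k] K) := Q'
  have hQ : j Q = x' := hQ'
  have hc : Topology.IsOpenEmbedding ⇑c := c.isOpenEmbedding
  have hπj : (FBase.bcπ f K) (j Q) = c (PrimeSpectrum.comap (algebraMap R (R ⊗[k] K)) Q) := by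
    have := congrArg (fun m : Spec (CommRingCat.of (R ⊗[k] K)) ⟶ X => m Q) hjc
    exact this
  have hPQ : PrimeSpectrum.comap (algebraMap R (R ⊗[k] K)) Q = p0 := by
    apply hc.injective
    rw [← hπj, hQ, hp0]
    exact hx'
  haveI := Q.isPrime
  haveI := p0.isPrime
  haveI : IsDomain (Localization.AtPrime p0.asIdeal) := by
    rw [← isDomain_stalk_iff_of_isOpenImmersion c p0, hp0]
    exact hdom
  have h1 : IsDomain (Localization.AtPrime Q.asIdeal) :=
    isDomain_localization_tensor Q.asIdeal p0.asIdeal (congrArg PrimeSpectrum.asIdeal hPQ)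
  have h2 := (isDomain_stalk_iff_of_isOpenImmersion (X := FBase.bc f K) j Q).mpr h1
  rw [hQ] at h2
  exact h2

end sch

end Groth.Agent.Helper17.GeomInt
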