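import Mathlib
import Groth.Prelude.Def_FDesc

set_option autoImplicit false
open CategoryTheory AlgebraicGeometry CategoryTheory.Limits
universe u

namespace Groth.Agent.Helper17.GeomIntBC

open FBase

section general

theorem isDomain_stalk_iff_of_isIso {X Y : Scheme.{u}} (g : X ⟶ Y) [IsIso g] (x : X) :
    IsDomain (X.presheaf.stalk x) ↔ IsDomain (Y.presheaf.stalk (g x)) := by
  haveI : IsIso (g.stalkMap x) := inferInstance
  let e : ↑(Y.presheaf.stalk (g x)) ≃+* ↑(X.presheaf.stalk x) :=
    (asIso (g.stalkMap x)).commRingCatIsoToRingEquiv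
  constructor
  · intro h
    haveI := h
    exact MulEquiv.isDomain _ e.toMulEquiv
  · intro h
    haveI := h
    exact MulEquiv.isDomain _ e.symm.toMulEquiv

theorem stalkMap_injective_of_flat {X Y : Scheme.{u}} (f : X ⟶ Y) [Flat f] (x : X) :
    Function.Injective (f.stalkMap x).hom := by
  algebraize [(f.stalkMap x).hom]
  have : Module.FaithfullyFlat (Y.presheaf.stalk (f x)) (X.presheaf.stalk x) :=
    @Module.FaithfullyFlat.of_flat_of_isLocalHom _ _ _ _ _ _ _
      (Flat.stalkMap f x) (f.toLRSHom.prop x)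
  exact ‹RingHom.FaithfullyFlat _›.injective

theorem isDomain_stalk_of_flat {X Y : Scheme.{u}} (f : X ⟶ Y) [Flat f] (x : X)
    (h : IsDomain (X.presheaf.stalk x)) : IsDomain (Y.presheaf.stalk (f x)) := by
  haveI := h
  exact Function.Injective.isDomain (f.stalkMap x).hom (stalkMap_injective_of_flat f x)

end general

section trans

variable {k : Type u} [Field k] {X : Scheme.{u}} (f : X ⟶ Spec (CommRingCat.of k))

theorem isPullback_trans (K L : Type u) [Field K] [Field L] [Algebra k K] [Algebra K L]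
    [Algebra k L] [IsScalarTower k K L] :
    IsPullback (bcπ (bcStr f K) L ≫ bcπ f K) (bcStr (bcStr f K) L) f
      (Spec.map (CommRingCat.ofHom (algebraMap k L))) := by
  have h1 : IsPullback (bcπ (bcStr f K) L) (bcStr (bcStr f K) L) (bcStr f K)
      (Spec.map (CommRingCat.ofHom (algebraMap K L))) := IsPullback.of_hasPullback _ _
  have h2 : IsPullback (bcπ f K) (bcStr f K) f
      (Spec.map (CommRingCat.ofHom (algebraMap k K))) := IsPullback.of_hasPullback _ _
  have h3 := h1.paste_horiz h2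
  have h4 : Spec.map (CommRingCat.ofHom (algebraMap K L)) ≫
      Spec.map (CommRingCat.ofHom (algebraMap k K))
      = Spec.map (CommRingCat.ofHom (algebraMap k L)) := by
    rw [← Spec.map_comp]
    congr 1
    ext c
    simp [IsScalarTower.algebraMap_apply k K L]
  rw [h4] at h3
  exact h3

noncomputable def transIso (K L : Type u) [Field K] [Field L] [Algebra k K] [Algebra K L]
    [Algebra k L] [IsScalarTower k K L] : bc (bcStr f K) L ≅ bc f L :=
  (isPullback_trans f K L).isoPullback

theorem transIso_hom_π (K L : Type u) [Field K] [Field L] [Algebra k K] [Algebra K L]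
    [Algebra k L] [IsScalarTower k K L] :
    (transIso f K L).hom ≫ bcπ f L = bcπ (bcStr f K) L ≫ bcπ f K :=
  (isPullback_trans f K L).isoPullback_hom_fst

theorem transIso_hom_str (K L : Type u) [Field K] [Field L] [Algebra k K] [Algebra K L]
    [Algebra k L] [IsScalarTower k K L] :
    (transIso f K L).hom ≫ bcStr f L = bcStr (bcStr f K) L :=
  (isPullback_trans f K L).isoPullback_hom_snd

theorem mp {K : Type u} [Field K] [Algebra k K] (x' : ↥(bc f K))
    (h : IsGeomPtIntegralAt f ((bcπ f K) x')) : IsGeomPtIntegralAt (bcStr f K) x' := by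
  intro L _ _ y hy
  letI : Algebra k L := ((algebraMap K L).comp (algebraMap k K)).toAlgebra
  haveI : IsScalarTower k K L := IsScalarTower.of_algebraMap_eq (fun _ => rfl)
  have h2 := transIso_hom_π f K L
  have h3 : (bcπ f L) ((transIso f K L).hom y) = (bcπ f K) ((bcπ (bcStr f K) L) y) :=
    congrArg (fun m : bc (bcStr f K) L ⟶ X => m y) h2
  have h1 : (bcπ f L) ((transIso f K L).hom y) = (bcπ f K) x' := by
    rw [h3]
    exact congrArg _ hy
  have h5 := h L ((transIso f K L).hom y) h1
  exact (isDomain_stalk_iff_of_isIso (transIso f K L).hom y).mpr h5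

theorem mpr_aux {K M L : Type u} [Field K] [Field M] [Field L] [Algebra k K] [Algebra k M]
    (j : Spec (CommRingCat.of L) ⟶ pullback (bcπ f M) (bcπ f K))
    (s : ↥(Spec (CommRingCat.of L)))
    (h : IsGeomPtIntegralAt (bcStr f K) (pullback.snd (bcπ f M) (bcπ f K) (j s))) :
    IsDomain ((bc f M).presheaf.stalk (pullback.fst (bcπ f M) (bcπ f K) (j s))) := by
  obtain ⟨aM, haM⟩ : ∃ a : Spec (CommRingCat.of L) ⟶ Spec (CommRingCat.of M),
      a = j ≫ pullback.fst (bcπ f M) (bcπ f K) ≫ bcStr f M := ⟨_, rfl⟩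
  obtain ⟨aK, haK⟩ : ∃ a : Spec (CommRingCat.of L) ⟶ Spec (CommRingCat.of K),
      a = j ≫ pullback.snd (bcπ f M) (bcπ f K) ≫ bcStr f K := ⟨_, rfl⟩
  obtain ⟨φM, hφM⟩ : ∃ φ : M →+* L, Spec.map (CommRingCat.ofHom φ) = aM :=
    ⟨(Spec.preimage aM).hom, Spec.map_preimage aM⟩
  obtain ⟨φK, hφK⟩ : ∃ φ : K →+* L, Spec.map (CommRingCat.ofHom φ) = aK :=
    ⟨(Spec.preimage aK).hom, Spec.map_preimage aK⟩
  letI : Algebra K L := φK.toAlgebra
  letI : Algebra M L := φM.toAlgebra
  letI : Algebra k L := (φK.comp (algebraMap k K)).toAlgebra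
  haveI : IsScalarTower k K L := IsScalarTower.of_algebraMap_eq (fun _ => rfl)
  have hφM' : Spec.map (CommRingCat.ofHom (algebraMap M L)) = aM := hφM
  have hφK' : Spec.map (CommRingCat.ofHom (algebraMap K L)) = aK := hφK
  have c1 : bcStr f M ≫ Spec.map (CommRingCat.ofHom (algebraMap k M)) = bcπ f M ≫ f :=
    (pullback.condition).symm
  have c2 : bcStr f K ≫ Spec.map (CommRingCat.ofHom (algebraMap k K)) = bcπ f K ≫ f :=
    (pullback.condition).symm
  have hcomp : φM.comp (algebraMap k M) = φK.comp (algebraMap k K) := by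
    have h1 : Spec.map (CommRingCat.ofHom (φM.comp (algebraMap k M)))
        = Spec.map (CommRingCat.ofHom (φK.comp (algebraMap k K))) := by
      rw [CommRingCat.ofHom_comp, CommRingCat.ofHom_comp, Spec.map_comp, Spec.map_comp, hφM, hφK,
        haM, haK]
      simp only [Category.assoc]
      rw [c1, c2, ← Category.assoc (pullback.fst (bcπ f M) (bcπ f K)),
        ← Category.assoc (pullback.snd (bcπ f M) (bcπ f K)), pullback.condition]
    have h2 := Spec.map_injective h1
    exact congrArg CommRingCat.Hom.hom h2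
  haveI : IsScalarTower k M L :=
    IsScalarTower.of_algebraMap_eq (fun c => (RingHom.congr_fun hcomp c).symm)
  -- the point
  have hptc : (j ≫ pullback.snd (bcπ f M) (bcπ f K)) ≫ bcStr f K
      = 𝟙 _ ≫ Spec.map (CommRingCat.ofHom (algebraMap K L)) := by
    rw [Category.id_comp, hφK', haK, Category.assoc]
  obtain ⟨pt, hpt⟩ : ∃ p : Spec (CommRingCat.of L) ⟶ bc (bcStr f K) L,
      p = pullback.lift (j ≫ pullback.snd (bcπ f M) (bcπ f K)) (𝟙 _) hptc := ⟨_, rfl⟩
  have e1 : pt ≫ bcπ (bcStr f K) L = j ≫ pullback.snd (bcπ f M) (bcπ f K) := by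
    rw [hpt]; exact pullback.lift_fst _ _ _
  have e2 : pt ≫ bcStr (bcStr f K) L = 𝟙 _ := by
    rw [hpt]; exact pullback.lift_snd _ _ _
  have hy : (bcπ (bcStr f K) L) (pt s) = pullback.snd (bcπ f M) (bcπ f K) (j s) :=
    congrArg (fun m : Spec (CommRingCat.of L) ⟶ bc f K => m s) e1
  have hd : IsDomain ((bc (bcStr f K) L).presheaf.stalk (pt s)) := h L (pt s) hy
  -- the comparison map
  have hK1 := transIso_hom_π f K L
  have hK2 := transIso_hom_str f K L
  have hM1 := transIso_hom_π f M L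
  have hM2 := transIso_hom_str f M L
  obtain ⟨ψ, hψ⟩ : ∃ ψ : bc (bcStr f K) L ⟶ bc f M,
      ψ = (transIso f K L).hom ≫ (transIso f M L).inv ≫ bcπ (bcStr f M) L := ⟨_, rfl⟩
  haveI hfl0 : Flat (Spec.map (CommRingCat.ofHom (algebraMap M L))) := by
    rw [Flat.SpecMap_iff]
    show (algebraMap M L).Flat
    rw [RingHom.flat_algebraMap_iff]
    infer_instance
  haveI hfl1 : Flat (bcπ (bcStr f M) L) := by
    have hh : Flat (pullback.fst (bcStr f M) (Spec.map (CommRingCat.ofHom (algebraMap M L)))) :=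
      inferInstance
    exact hh
  haveI hfl : Flat ψ := by
    rw [hψ]
    infer_instance
  have cM : bcπ (bcStr f M) L ≫ bcStr f M
      = bcStr (bcStr f M) L ≫ Spec.map (CommRingCat.ofHom (algebraMap M L)) := pullback.condition
  have hM2' : (transIso f M L).inv ≫ bcStr (bcStr f M) L = bcStr f L := by
    rw [← hM2, Iso.inv_hom_id_assoc]
  have g1 : (pt ≫ ψ) ≫ bcπ f M = (j ≫ pullback.fst (bcπ f M) (bcπ f K)) ≫ bcπ f M := by
    calc (pt ≫ ψ) ≫ bcπ f M
        = pt ≫ (transIso f K L).hom ≫ (transIso f M L).inv ≫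
            (bcπ (bcStr f M) L ≫ bcπ f M) := by rw [hψ]; simp only [Category.assoc]
      _ = pt ≫ (transIso f K L).hom ≫ (transIso f M L).inv ≫
            ((transIso f M L).hom ≫ bcπ f L) := by rw [hM1]
      _ = pt ≫ ((transIso f K L).hom ≫ bcπ f L) := by rw [Iso.inv_hom_id_assoc]
      _ = pt ≫ (bcπ (bcStr f K) L ≫ bcπ f K) := by rw [hK1]
      _ = (pt ≫ bcπ (bcStr f K) L) ≫ bcπ f K := by rw [Category.assoc]
      _ = (j ≫ pullback.snd (bcπ f M) (bcπ f K)) ≫ bcπ f K := by rw [e1]
      _ = (j ≫ pullback.fst (bcπ f M) (bcπ f K)) ≫ bcπ f M := by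
          rw [Category.assoc, Category.assoc, pullback.condition]
  have g2 : (pt ≫ ψ) ≫ bcStr f M = (j ≫ pullback.fst (bcπ f M) (bcπ f K)) ≫ bcStr f M := by
    calc (pt ≫ ψ) ≫ bcStr f M
        = pt ≫ (transIso f K L).hom ≫ (transIso f M L).inv ≫
            (bcπ (bcStr f M) L ≫ bcStr f M) := by rw [hψ]; simp only [Category.assoc]
      _ = pt ≫ (transIso f K L).hom ≫ ((transIso f M L).inv ≫ bcStr (bcStr f M) L) ≫
            Spec.map (CommRingCat.ofHom (algebraMap M L)) := by
          rw [cM]; simp only [Category.assoc]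
      _ = pt ≫ ((transIso f K L).hom ≫ bcStr f L) ≫
            Spec.map (CommRingCat.ofHom (algebraMap M L)) := by
          rw [hM2']; simp only [Category.assoc]
      _ = (pt ≫ bcStr (bcStr f K) L) ≫ Spec.map (CommRingCat.ofHom (algebraMap M L)) := by
          rw [hK2]; simp only [Category.assoc]
      _ = Spec.map (CommRingCat.ofHom (algebraMap M L)) := by rw [e2, Category.id_comp]
      _ = (j ≫ pullback.fst (bcπ f M) (bcπ f K)) ≫ bcStr f M := by
          rw [hφM', haM, Category.assoc]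
  have hψpt : pt ≫ ψ = j ≫ pullback.fst (bcπ f M) (bcπ f K) := pullback.hom_ext g1 g2
  have hz' : ψ (pt s) = pullback.fst (bcπ f M) (bcπ f K) (j s) :=
    congrArg (fun m : Spec (CommRingCat.of L) ⟶ bc f M => m s) hψpt
  have hfin := isDomain_stalk_of_flat ψ (pt s) hd
  rw [hz'] at hfin
  exact hfin

theorem mpr {K : Type u} [Field K] [Algebra k K] (x' : ↥(bc f K))
    (h : IsGeomPtIntegralAt (bcStr f K) x') : IsGeomPtIntegralAt f ((bcπ f K) x') := by
  intro M _ _ z hz
  obtain ⟨w, hw1, hw2⟩ :=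
    Scheme.Pullback.exists_preimage_pullback (f := bcπ f M) (g := bcπ f K) z x' hz
  let s : ↥(Spec ((pullback (bcπ f M) (bcπ f K)).residueField w)) := default
  have hs : ((pullback (bcπ f M) (bcπ f K)).fromSpecResidueField w) s = w :=
    Scheme.fromSpecResidueField_apply w s
  have hfin := mpr_aux f (K := K) (M := M) (L := ↑((pullback (bcπ f M) (bcπ f K)).residueField w))
    ((pullback (bcπ f M) (bcπ f K)).fromSpecResidueField w) s (by rw [hs, hw2]; exact h)
  rw [hs, hw1] at hfin
  exact hfin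

end trans

end Groth.Agent.Helper17.GeomIntBC
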