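import Mathlib
import Groth.Prelude.Def_FDesc
import Groth.Agent.Lib.Helper17.GeomInt
import Groth.Agent.Lib.Helper17.GeomPBC

set_option autoImplicit false
universe u
open CategoryTheory CategoryTheory.Limits AlgebraicGeometry TopologicalSpace Topology TensorProduct

namespace Groth.Agent.Helper17.GeomRed

/-! ### ring level -/

theorem isReduced_algClosure_tensor_of_perfect {k A : Type u} [Field k] [PerfectField k]
    [CommRing A] [Algebra k A] [IsReduced A] : IsReduced (AlgebraicClosure k ⊗[k] A) := by
  refine Groth.Agent.H19.isReduced_tensor_of_forall_finite (fun L hL => ?_)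
  haveI := hL
  haveI : Algebra.IsSeparable k L := Algebra.IsAlgebraic.isSeparable_of_perfectField
  haveI : IsReduced (A ⊗[k] L) := Groth.Agent.H19.isReduced_tensor_of_isSeparable
  exact isReduced_of_injective (Algebra.TensorProduct.comm k L A) (AlgEquiv.injective _)

theorem isReduced_tensor_of_algClosure {k A K : Type u} [Field k] [CommRing A] [Algebra k A]
    [Field K] [Algebra k K] (h : IsReduced (AlgebraicClosure k ⊗[k] A)) :
    IsReduced (A ⊗[k] K) := by
  let ι : AlgebraicClosure k →ₐ[k] AlgebraicClosure K := IsAlgClosed.lift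
  letI : Algebra (AlgebraicClosure k) (AlgebraicClosure K) := ι.toRingHom.toAlgebra
  haveI : IsScalarTower k (AlgebraicClosure k) (AlgebraicClosure K) :=
    IsScalarTower.of_algebraMap_eq (fun c => (ι.commutes c).symm)
  haveI := h
  haveI : IsReduced (AlgebraicClosure K ⊗[AlgebraicClosure k] (AlgebraicClosure k ⊗[k] A)) :=
    Groth.Agent.H19.isReduced_tensor_of_isAlgClosed
  let e := Algebra.TensorProduct.cancelBaseChange k (AlgebraicClosure k) (AlgebraicClosure k)
    (AlgebraicClosure K) A
  haveI : IsReduced (AlgebraicClosure K ⊗[k] A) :=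
    isReduced_of_injective e.symm (AlgEquiv.injective _)
  haveI : IsReduced (K ⊗[k] A) :=
    isReduced_of_injective
      (Algebra.TensorProduct.map (IsScalarTower.toAlgHom k K (AlgebraicClosure K)) 1)
      (Module.Flat.rTensor_preserves_injective_linearMap _ (RingHom.injective _))
  exact isReduced_of_injective (Algebra.TensorProduct.comm k A K) (AlgEquiv.injective _)

theorem isReduced_tensor_of_perfect {k A K : Type u} [Field k] [PerfectField k] [CommRing A]
    [Algebra k A] [IsReduced A] [Field K] [Algebra k K] : IsReduced (A ⊗[k] K) :=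
  isReduced_tensor_of_algClosure isReduced_algClosure_tensor_of_perfect

theorem isReduced_localization_tensor {k A K : Type u} [Field k] [CommRing A]
    [Algebra k A] [Field K] [Algebra k K] (q' : Ideal (A ⊗[k] K)) [q'.IsPrime]
    (p : Ideal A) [p.IsPrime] (hp : q'.comap (algebraMap A (A ⊗[k] K)) = p)
    [IsReduced (Localization.AtPrime p ⊗[k] K)] : IsReduced (Localization.AtPrime q') := by
  let φ : A ⊗[k] K →ₐ[k] Localization.AtPrime p ⊗[k] K :=
    Algebra.TensorProduct.map (IsScalarTower.toAlgHom k A (Localization.AtPrime p)) (AlgHom.id k K)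
  letI : Algebra (A ⊗[k] K) (Localization.AtPrime p ⊗[k] K) := φ.toRingHom.toAlgebra
  haveI : IsScalarTower A (A ⊗[k] K) (Localization.AtPrime p ⊗[k] K) := by
    apply IsScalarTower.of_algebraMap_eq'
    ext a
    show algebraMap A (Localization.AtPrime p ⊗[k] K) a = φ (algebraMap A (A ⊗[k] K) a)
    simp [φ, Algebra.TensorProduct.algebraMap_apply]
  have H : (algebraMap (A ⊗[k] K) (Localization.AtPrime p ⊗[k] K)).comp
      (Algebra.TensorProduct.includeRight : K →ₐ[k] A ⊗[k] K).toRingHom =
      (Algebra.TensorProduct.includeRight : K →ₐ[k] Localization.AtPrime p ⊗[k] K).toRingHom := by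
    ext c
    show φ ((1 : A) ⊗ₜ[k] c) = (1 : Localization.AtPrime p) ⊗ₜ[k] c
    simp [φ]
  haveI hloc : IsLocalization (Algebra.algebraMapSubmonoid (A ⊗[k] K) p.primeCompl)
      (Localization.AtPrime p ⊗[k] K) :=
    IsLocalization.tensorProduct_tensorProduct k K p.primeCompl (Localization.AtPrime p) H
  have hdisj : Disjoint ((Algebra.algebraMapSubmonoid (A ⊗[k] K) p.primeCompl : Submonoid _) :
      Set (A ⊗[k] K)) (q' : Set (A ⊗[k] K)) := by
    rw [Set.disjoint_left]
    rintro _ ⟨a, ha, rfl⟩ hq
    apply ha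
    rw [← hp]
    exact hq
  set q'' : Ideal (Localization.AtPrime p ⊗[k] K) :=
    q'.map (algebraMap (A ⊗[k] K) (Localization.AtPrime p ⊗[k] K)) with hq''
  haveI hq''prime : q''.IsPrime :=
    IsLocalization.isPrime_of_isPrime_disjoint
      (Algebra.algebraMapSubmonoid (A ⊗[k] K) p.primeCompl) _ q' inferInstance hdisj
  have hcomap : q''.comap (algebraMap (A ⊗[k] K) (Localization.AtPrime p ⊗[k] K)) = q' :=
    IsLocalization.under_map_of_isPrime_disjoint
      (Algebra.algebraMapSubmonoid (A ⊗[k] K) p.primeCompl) _ inferInstance hdisj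
  haveI : IsReduced (Localization.AtPrime q'') := inferInstance
  have h1 : IsLocalization.AtPrime (Localization.AtPrime q'')
      (q''.comap (algebraMap (A ⊗[k] K) (Localization.AtPrime p ⊗[k] K))) :=
    IsLocalization.isLocalization_isLocalization_atPrime_isLocalization
      (Algebra.algebraMapSubmonoid (A ⊗[k] K) p.primeCompl) (Localization.AtPrime q'') q''
  haveI h2 : IsLocalization q'.primeCompl (Localization.AtPrime q'') := by
    have h3 : IsLocalization (q''.comap
      (algebraMap (A ⊗[k] K) (Localization.AtPrime p ⊗[k] K))).primeCompl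
      (Localization.AtPrime q'') := h1
    have h4 : (q''.comap (algebraMap (A ⊗[k] K) (Localization.AtPrime p ⊗[k] K))).primeCompl =
        q'.primeCompl := by
      ext t
      show t ∉ _ ↔ t ∉ _
      rw [hcomap]
    rw [h4] at h3
    exact h3
  let e : Localization.AtPrime q' ≃ₐ[A ⊗[k] K] Localization.AtPrime q'' :=
    IsLocalization.algEquiv q'.primeCompl _ _
  exact isReduced_of_injective e (AlgEquiv.injective _)

/-! ### scheme level -/

section sch
variable {k : Type u} [Field k] {X : Scheme.{u}}

theorem isReduced_stalk_iff_of_isOpenImmersion {R : CommRingCat.{u}} (c : Spec R ⟶ X)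
    [IsOpenImmersion c] (p0 : PrimeSpectrum R) :
    IsReduced (X.presheaf.stalk (c p0)) ↔ IsReduced (Localization.AtPrime p0.asIdeal) := by
  let p1 : ↥(Spec R) := p0
  haveI : IsIso (c.stalkMap p1) := inferInstance
  let e1 : ↑(X.presheaf.stalk (c p0)) ≃+* ↑((Spec R).presheaf.stalk p1) :=
    (asIso (c.stalkMap p1)).commRingCatIsoToRingEquiv
  let e2' : Localization.AtPrime p0.asIdeal ≃ₐ[R]
      ↑((Spec.structureSheaf R).presheaf.stalk p0) :=
    IsLocalization.algEquiv p0.asIdeal.primeCompl _ _
  let e2 : Localization.AtPrime p0.asIdeal ≃+* ↑((Spec R).presheaf.stalk p1) :=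
    e2'.toRingEquiv
  constructor
  · intro h
    haveI := h
    exact isReduced_of_injective (e2.trans e1.symm) (RingEquiv.injective _)
  · intro h
    haveI := h
    exact isReduced_of_injective (e1.trans e2.symm) (RingEquiv.injective _)

theorem main_red [PerfectField k] (f : X ⟶ Spec (CommRingCat.of k)) (x : X)
    (hred : IsReduced ↑(X.presheaf.stalk x)) : FBase.IsGeomReducedAt f x := by
  intro K _ _ x' hx'
  obtain ⟨R, alg, c, hco, ⟨p0', hp0'⟩, hcf⟩ := ProdComp.exists_chart' f x
  let p0 : PrimeSpectrum R := p0'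
  have hp0 : c p0 = x := hp0'
  obtain ⟨j, hjo, hjc, hsurj⟩ := CompBCS.chart (K := K) f R c hcf
  obtain ⟨Q', hQ'⟩ := hsurj x' p0' (hx'.trans hp0'.symm)
  let Q : PrimeSpectrum (R ⊗[k] K) := Q'
  have hQ : j Q = x' := hQ'
  have hc : Topology.IsOpenEmbedding ⇑c := c.isOpenEmbedding
  have hπj : (FBase.bcπ f K) (j Q) = c (PrimeSpectrum.comap (algebraMap R (R ⊗[k] K)) Q) := by
    have := congrArg (fun m : Spec (CommRingCat.of (R ⊗[k] K)) ⟶ X => m Q) hjc
    exact this
  have hPQ : PrimeSpectrum.comap (algebraMap R (R ⊗[k] K)) Q = p0 := by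
    apply hc.injective
    rw [← hπj, hQ, hp0]
    exact hx'
  haveI := Q.isPrime
  haveI := p0.isPrime
  haveI : IsReduced (Localization.AtPrime p0.asIdeal) := by
    rw [← isReduced_stalk_iff_of_isOpenImmersion c p0, hp0]
    exact hred
  haveI : IsReduced (Localization.AtPrime p0.asIdeal ⊗[k] K) := isReduced_tensor_of_perfect
  have h1 : IsReduced (Localization.AtPrime Q.asIdeal) :=
    isReduced_localization_tensor Q.asIdeal p0.asIdeal (congrArg PrimeSpectrum.asIdeal hPQ)
  have h2 := (isReduced_stalk_iff_of_isOpenImmersion (X := FBase.bc f K) j Q).mpr h1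
  rw [hQ] at h2
  exact h2

/-- S2521-type: a reduced stalk over a perfect extension gives geometric reducedness below. -/
theorem main_perfect_ext {Ω : Type u} [Field Ω] [Algebra k Ω] [PerfectField Ω]
    (f : X ⟶ Spec (CommRingCat.of k)) (x' : ↥(FBase.bc f Ω))
    (h : IsReduced ↑((FBase.bc f Ω).presheaf.stalk x')) :
    FBase.IsGeomReducedAt f ((FBase.bcπ f Ω) x') :=
  (Groth.Agent.Helper17.GeomPBC.geomReducedAt_iff f x').mpr (main_red (FBase.bcStr f Ω) x' h)

end sch

end Groth.Agent.Helper17.GeomRed
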