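import Mathlib
import Groth.Prelude.Def_FDesc
import Groth.Agent.Lib.Helper17.GeomRed

set_option autoImplicit false
universe u
open CategoryTheory CategoryTheory.Limits AlgebraicGeometry TopologicalSpace Topology TensorProduct

namespace Groth.Agent.Helper17.GeomRed2

/-! ### ring level -/

theorem isReduced_localization_tensor' {k A C : Type u} [Field k] [CommRing A]
    [Algebra k A] [CommRing C] [Algebra k C] (q' : Ideal (A ⊗[k] C)) [q'.IsPrime]
    (p : Ideal A) [p.IsPrime] (hp : q'.comap (algebraMap A (A ⊗[k] C)) ≤ p)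
    [IsReduced (Localization.AtPrime p ⊗[k] C)] : IsReduced (Localization.AtPrime q') := by
  let φ : A ⊗[k] C →ₐ[k] Localization.AtPrime p ⊗[k] C :=
    Algebra.TensorProduct.map (IsScalarTower.toAlgHom k A (Localization.AtPrime p)) (AlgHom.id k C)
  letI : Algebra (A ⊗[k] C) (Localization.AtPrime p ⊗[k] C) := φ.toRingHom.toAlgebra
  haveI : IsScalarTower A (A ⊗[k] C) (Localization.AtPrime p ⊗[k] C) := by
    apply IsScalarTower.of_algebraMap_eq'
    ext a
    show algebraMap A (Localization.AtPrime p ⊗[k] C) a = φ (algebraMap A (A ⊗[k] C) a)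
    simp [φ, Algebra.TensorProduct.algebraMap_apply]
  have H : (algebraMap (A ⊗[k] C) (Localization.AtPrime p ⊗[k] C)).comp
      (Algebra.TensorProduct.includeRight : C →ₐ[k] A ⊗[k] C).toRingHom =
      (Algebra.TensorProduct.includeRight : C →ₐ[k] Localization.AtPrime p ⊗[k] C).toRingHom := by
    ext c
    show φ ((1 : A) ⊗ₜ[k] c) = (1 : Localization.AtPrime p) ⊗ₜ[k] c
    simp [φ]
  haveI hloc : IsLocalization (Algebra.algebraMapSubmonoid (A ⊗[k] C) p.primeCompl)
      (Localization.AtPrime p ⊗[k] C) :=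
    IsLocalization.tensorProduct_tensorProduct k C p.primeCompl (Localization.AtPrime p) H
  have hdisj : Disjoint ((Algebra.algebraMapSubmonoid (A ⊗[k] C) p.primeCompl : Submonoid _) :
      Set (A ⊗[k] C)) (q' : Set (A ⊗[k] C)) := by
    rw [Set.disjoint_left]
    rintro _ ⟨a, ha, rfl⟩ hq
    exact ha (hp (show a ∈ q'.comap (algebraMap A (A ⊗[k] C)) from hq))
  set q'' : Ideal (Localization.AtPrime p ⊗[k] C) :=
    q'.map (algebraMap (A ⊗[k] C) (Localization.AtPrime p ⊗[k] C)) with hq''
  haveI hq''prime : q''.IsPrime :=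
    IsLocalization.isPrime_of_isPrime_disjoint
      (Algebra.algebraMapSubmonoid (A ⊗[k] C) p.primeCompl) _ q' inferInstance hdisj
  have hcomap : q''.comap (algebraMap (A ⊗[k] C) (Localization.AtPrime p ⊗[k] C)) = q' :=
    IsLocalization.under_map_of_isPrime_disjoint
      (Algebra.algebraMapSubmonoid (A ⊗[k] C) p.primeCompl) _ inferInstance hdisj
  haveI : IsReduced (Localization.AtPrime q'') := inferInstance
  have h1 : IsLocalization.AtPrime (Localization.AtPrime q'')
      (q''.comap (algebraMap (A ⊗[k] C) (Localization.AtPrime p ⊗[k] C))) :=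
    IsLocalization.isLocalization_isLocalization_atPrime_isLocalization
      (Algebra.algebraMapSubmonoid (A ⊗[k] C) p.primeCompl) (Localization.AtPrime q'') q''
  haveI h2 : IsLocalization q'.primeCompl (Localization.AtPrime q'') := by
    have h3 : IsLocalization (q''.comap
      (algebraMap (A ⊗[k] C) (Localization.AtPrime p ⊗[k] C))).primeCompl
      (Localization.AtPrime q'') := h1
    have h4 : (q''.comap (algebraMap (A ⊗[k] C) (Localization.AtPrime p ⊗[k] C))).primeCompl =
        q'.primeCompl := by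
      ext t
      show t ∉ _ ↔ t ∉ _
      rw [hcomap]
    rw [h4] at h3
    exact h3
  let e : Localization.AtPrime q' ≃ₐ[A ⊗[k] C] Localization.AtPrime q'' :=
    IsLocalization.algEquiv q'.primeCompl _ _
  exact isReduced_of_injective e (AlgEquiv.injective _)

theorem key_ring {k A K : Type u} [Field k] [CommRing A] [Algebra k A] [Field K] [Algebra k K]
    [Algebra.IsIntegral k K] (p : Ideal A) [p.IsPrime]
    (h : ∀ (Q : Ideal (A ⊗[k] K)) [Q.IsPrime], Q.comap (algebraMap A (A ⊗[k] K)) = p →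
      IsReduced (Localization.AtPrime Q)) :
    IsReduced (Localization.AtPrime p ⊗[k] K) := by
  let φ : A ⊗[k] K →ₐ[k] Localization.AtPrime p ⊗[k] K :=
    Algebra.TensorProduct.map (IsScalarTower.toAlgHom k A (Localization.AtPrime p)) (AlgHom.id k K)
  letI : Algebra (A ⊗[k] K) (Localization.AtPrime p ⊗[k] K) := φ.toRingHom.toAlgebra
  haveI : IsScalarTower A (A ⊗[k] K) (Localization.AtPrime p ⊗[k] K) := by
    apply IsScalarTower.of_algebraMap_eq'
    ext a
    show algebraMap A (Localization.AtPrime p ⊗[k] K) a = φ (algebraMap A (A ⊗[k] K) a)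
    simp [φ, Algebra.TensorProduct.algebraMap_apply]
  have H : (algebraMap (A ⊗[k] K) (Localization.AtPrime p ⊗[k] K)).comp
      (Algebra.TensorProduct.includeRight : K →ₐ[k] A ⊗[k] K).toRingHom =
      (Algebra.TensorProduct.includeRight : K →ₐ[k] Localization.AtPrime p ⊗[k] K).toRingHom := by
    ext c
    show φ ((1 : A) ⊗ₜ[k] c) = (1 : Localization.AtPrime p) ⊗ₜ[k] c
    simp [φ]
  haveI hloc : IsLocalization (Algebra.algebraMapSubmonoid (A ⊗[k] K) p.primeCompl)
      (Localization.AtPrime p ⊗[k] K) :=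
    IsLocalization.tensorProduct_tensorProduct k K p.primeCompl (Localization.AtPrime p) H
  have hcomp : (algebraMap (A ⊗[k] K) (Localization.AtPrime p ⊗[k] K)).comp
      (algebraMap A (A ⊗[k] K)) =
      (algebraMap (Localization.AtPrime p) (Localization.AtPrime p ⊗[k] K)).comp
        (algebraMap A (Localization.AtPrime p)) := by
    ext a
    show φ (algebraMap A (A ⊗[k] K) a) =
      algebraMap (Localization.AtPrime p) (Localization.AtPrime p ⊗[k] K)
        (algebraMap A (Localization.AtPrime p) a)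
    simp [φ, Algebra.TensorProduct.algebraMap_apply]
  apply isReduced_ofLocalizationMaximal
  intro m hm
  haveI := hm
  haveI : m.IsPrime := hm.isPrime
  have hmax : (m.comap (algebraMap (Localization.AtPrime p)
      (Localization.AtPrime p ⊗[k] K))).IsMaximal :=
    Ideal.isMaximal_comap_of_isIntegral_of_isMaximal m
  have hmeq : m.comap (algebraMap (Localization.AtPrime p) (Localization.AtPrime p ⊗[k] K))
      = IsLocalRing.maximalIdeal (Localization.AtPrime p) :=
    IsLocalRing.eq_maximalIdeal hmax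
  set Q : Ideal (A ⊗[k] K) :=
    m.comap (algebraMap (A ⊗[k] K) (Localization.AtPrime p ⊗[k] K)) with hQ
  haveI : Q.IsPrime := Ideal.comap_isPrime _ _
  have hQp : Q.comap (algebraMap A (A ⊗[k] K)) = p := by
    rw [hQ, Ideal.comap_comap, hcomp, ← Ideal.comap_comap, hmeq]
    exact Localization.AtPrime.comap_maximalIdeal
  haveI hr : IsReduced (Localization.AtPrime Q) := h Q hQp
  have h1 : IsLocalization.AtPrime (Localization.AtPrime m)
      (m.comap (algebraMap (A ⊗[k] K) (Localization.AtPrime p ⊗[k] K))) :=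
    IsLocalization.isLocalization_isLocalization_atPrime_isLocalization
      (Algebra.algebraMapSubmonoid (A ⊗[k] K) p.primeCompl) (Localization.AtPrime m) m
  haveI h2 : IsLocalization Q.primeCompl (Localization.AtPrime m) := h1
  let e : Localization.AtPrime Q ≃ₐ[A ⊗[k] K] Localization.AtPrime m :=
    IsLocalization.algEquiv Q.primeCompl _ _
  exact isReduced_of_injective e.symm (AlgEquiv.injective _)

/-! ### scheme level -/

section sch
variable {k : Type u} [Field k] {X Y : Scheme.{u}}

theorem ring_of_geomReducedAt (f : X ⟶ Spec (CommRingCat.of k)) (R : CommRingCat.{u})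
    [Algebra k R] (c : Spec R ⟶ X) [IsOpenImmersion c]
    (hcf : c ≫ f = Spec.map (CommRingCat.ofHom (algebraMap k R)))
    (p0 : PrimeSpectrum R) (h : FBase.IsGeomReducedAt f (c p0))
    (K : Type u) [Field K] [Algebra k K] (Q : Ideal (R ⊗[k] K)) [Q.IsPrime]
    (hQ : Q.comap (algebraMap R (R ⊗[k] K)) = p0.asIdeal) :
    IsReduced (Localization.AtPrime Q) := by
  obtain ⟨j, hjo, hjc, -⟩ := CompBCS.chart (K := K) f R c hcf
  haveI := hjo
  let Q' : PrimeSpectrum (R ⊗[k] K) := ⟨Q, inferInstance⟩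
  have hπj : (FBase.bcπ f K) (j Q') = c (PrimeSpectrum.comap (algebraMap R (R ⊗[k] K)) Q') :=
    congrArg (fun m : Spec (CommRingCat.of (R ⊗[k] K)) ⟶ X => m Q') hjc
  have hPQ : PrimeSpectrum.comap (algebraMap R (R ⊗[k] K)) Q' = p0 := PrimeSpectrum.ext hQ
  have h1 : IsReduced ((FBase.bc f K).presheaf.stalk (j Q')) :=
    h K (j Q') (by rw [hπj, hPQ])
  exact (GeomRed.isReduced_stalk_iff_of_isOpenImmersion (X := FBase.bc f K) j Q').mp h1

theorem geomRed_algClosure (f : X ⟶ Spec (CommRingCat.of k)) (R : CommRingCat.{u})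
    [Algebra k R] (c : Spec R ⟶ X) [IsOpenImmersion c]
    (hcf : c ≫ f = Spec.map (CommRingCat.ofHom (algebraMap k R)))
    (p0 : PrimeSpectrum R) (h : FBase.IsGeomReducedAt f (c p0)) :
    IsReduced (AlgebraicClosure k ⊗[k] Localization.AtPrime p0.asIdeal) := by
  haveI := p0.isPrime
  haveI : IsReduced (Localization.AtPrime p0.asIdeal ⊗[k] AlgebraicClosure k) :=
    key_ring p0.asIdeal
      (fun Q _ hQ => ring_of_geomReducedAt f R c hcf p0 h (AlgebraicClosure k) Q hQ)
  exact isReduced_of_injective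
    (Algebra.TensorProduct.comm k (AlgebraicClosure k) (Localization.AtPrime p0.asIdeal))
    (AlgEquiv.injective _)

theorem geomReducedAt_of_specializes (f : X ⟶ Spec (CommRingCat.of k)) (x x' : X)
    (hsp : x' ⤳ x) (h : FBase.IsGeomReducedAt f x) : FBase.IsGeomReducedAt f x' := by
  obtain ⟨R, alg, c, hco, ⟨p0', hp0'⟩, hcf⟩ := ProdComp.exists_chart' f x
  have hx'r : x' ∈ Set.range ⇑c :=
    hsp.mem_open c.isOpenEmbedding.isOpen_range ⟨p0', hp0'⟩
  obtain ⟨p1', hp1'⟩ := hx'r
  let p0 : PrimeSpectrum R := p0'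
  let p1 : PrimeSpectrum R := p1'
  have hp0 : c p0 = x := hp0'
  have hp1 : c p1 = x' := hp1'
  have hsp' : p1 ⤳ p0 := by
    have h3 : c p1' ⤳ c p0' := by rw [hp0', hp1']; exact hsp
    exact (c.isOpenEmbedding.isInducing.specializes_iff).mp h3
  have hle : p1.asIdeal ≤ p0.asIdeal := (PrimeSpectrum.le_iff_specializes p1 p0).mpr hsp'
  have hbar := geomRed_algClosure f R c hcf p0 (by rw [hp0]; exact h)
  intro K _ _ y hy
  obtain ⟨j, hjo, hjc, hsurj⟩ := CompBCS.chart (K := K) f R c hcf
  haveI := hjo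
  obtain ⟨Q', hQ'⟩ := hsurj y p1' (hy.trans hp1'.symm)
  let Q : PrimeSpectrum (R ⊗[k] K) := Q'
  have hQ : j Q = y := hQ'
  have hc : Topology.IsOpenEmbedding ⇑c := c.isOpenEmbedding
  have hπj : (FBase.bcπ f K) (j Q) = c (PrimeSpectrum.comap (algebraMap R (R ⊗[k] K)) Q) :=
    congrArg (fun m : Spec (CommRingCat.of (R ⊗[k] K)) ⟶ X => m Q) hjc
  have hPQ : PrimeSpectrum.comap (algebraMap R (R ⊗[k] K)) Q = p1 := by
    apply hc.injective
    rw [← hπj, hQ, hp1]
    exact hy
  haveI := Q.isPrime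
  haveI := p0.isPrime
  haveI : IsReduced (Localization.AtPrime p0.asIdeal ⊗[k] K) :=
    GeomRed.isReduced_tensor_of_algClosure hbar
  have hcm : Q.asIdeal.comap (algebraMap R (R ⊗[k] K)) = p1.asIdeal :=
    congrArg PrimeSpectrum.asIdeal hPQ
  have h1 : IsReduced (Localization.AtPrime Q.asIdeal) :=
    isReduced_localization_tensor' Q.asIdeal p0.asIdeal (by rw [hcm]; exact hle)
  have h2 := (GeomRed.isReduced_stalk_iff_of_isOpenImmersion (X := FBase.bc f K) j Q).mpr h1
  rw [hQ] at h2
  exact h2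

theorem isReduced_tensor_of_geomRed {k A B : Type u} [Field k] [CommRing A] [Algebra k A]
    [CommRing B] [Algebra k B] [IsReduced B]
    (hbar : IsReduced (AlgebraicClosure k ⊗[k] A)) : IsReduced (A ⊗[k] B) := by
  haveI : IsReduced (B ⊗[k] A) := by
    refine Groth.Agent.H19.isReduced_tensor_of_family.{u, u, u, u} (fun b hb => ?_)
    have hbn : b ∉ nilradical B := by
      rw [mem_nilradical]
      exact fun hn => hb (IsReduced.eq_zero b hn)
    rw [nilradical_eq_sInf, Ideal.mem_sInf] at hbn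
    push Not at hbn
    obtain ⟨q, hq, hbq⟩ := hbn
    haveI : q.IsPrime := hq
    refine ⟨q.ResidueField, inferInstance, inferInstance,
      IsScalarTower.toAlgHom k B q.ResidueField, ?_, ?_⟩
    · rw [IsScalarTower.coe_toAlgHom', ne_eq, Ideal.algebraMap_residueField_eq_zero]
      exact hbq
    · haveI : IsReduced (A ⊗[k] q.ResidueField) := GeomRed.isReduced_tensor_of_algClosure hbar
      exact isReduced_of_injective (Algebra.TensorProduct.comm k q.ResidueField A)
        (AlgEquiv.injective _)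
  exact isReduced_of_injective (Algebra.TensorProduct.comm k A B) (AlgEquiv.injective _)

theorem isReduced_stalk_prod (f : X ⟶ Spec (CommRingCat.of k)) (g : Y ⟶ Spec (CommRingCat.of k))
    [IsReduced Y] (z : ↥(pullback f g))
    (h : FBase.IsGeomReducedAt f (pullback.fst f g z)) :
    IsReduced ((pullback f g).presheaf.stalk z) := by
  obtain ⟨A, algA, cX, hcXo, ⟨p0', hp0'⟩, hcX⟩ := ProdComp.exists_chart' f (pullback.fst f g z)
  obtain ⟨B, algB, cY, hcYo, ⟨q0', hq0'⟩, hcY⟩ := ProdComp.exists_chart' g (pullback.snd f g z)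
  haveI := hcXo
  haveI := hcYo
  obtain ⟨j, hjo, hj1, hj2, hsurj⟩ := ProdComp.chart2 f g A B cX cY hcX hcY
  haveI := hjo
  obtain ⟨Q', hQ'⟩ := hsurj z ⟨p0', hp0'⟩ ⟨q0', hq0'⟩
  let Q : PrimeSpectrum (A ⊗[k] B) := Q'
  let p0 : PrimeSpectrum A := p0'
  have hQ : j Q = z := hQ'
  have hp0 : cX p0 = pullback.fst f g z := hp0'
  have hπj : (pullback.fst f g) (j Q) = cX (PrimeSpectrum.comap
      (Algebra.TensorProduct.includeLeft : A →ₐ[k] A ⊗[k] B).toRingHom Q) :=
    congrArg (fun m : Spec (CommRingCat.of (A ⊗[k] B)) ⟶ X => m Q) hj1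
  have hPQ : PrimeSpectrum.comap
      (Algebra.TensorProduct.includeLeft : A →ₐ[k] A ⊗[k] B).toRingHom Q = p0 := by
    apply cX.isOpenEmbedding.injective
    rw [← hπj, hQ, hp0]
  haveI : IsReduced (Spec B) := isReduced_of_isOpenImmersion cY
  haveI : _root_.IsReduced B := (affine_isReduced_iff B).mp inferInstance
  have hbar := geomRed_algClosure f A cX hcX p0 (by rw [hp0]; exact h)
  haveI := Q.isPrime
  haveI := p0.isPrime
  haveI : IsReduced (Localization.AtPrime p0.asIdeal ⊗[k] B) := isReduced_tensor_of_geomRed hbar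
  have hcm : Q.asIdeal.comap (algebraMap A (A ⊗[k] B)) = p0.asIdeal :=
    congrArg PrimeSpectrum.asIdeal hPQ
  have h1 : IsReduced (Localization.AtPrime Q.asIdeal) :=
    isReduced_localization_tensor' Q.asIdeal p0.asIdeal (le_of_eq hcm)
  have h2 := (GeomRed.isReduced_stalk_iff_of_isOpenImmersion (X := pullback f g) j Q).mpr h1
  rw [hQ] at h2
  exact h2

end sch

end Groth.Agent.Helper17.GeomRed2
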