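import Mathlib
import Groth.Prelude.Def_FDesc
import Groth.Agent.Lib.Helper17.GeomRed5
import Groth.Agent.Lib.Helper17.GeomIntBC
import Groth.Agent.Lib.Helper17.GeomInt

set_option autoImplicit false
universe u
open CategoryTheory CategoryTheory.Limits AlgebraicGeometry TopologicalSpace Topology TensorProduct

namespace Groth.Agent.Helper17.GeomCount

section top
variable {α : Type*} [TopologicalSpace α]

theorem eq_of_specializes_genericPoint [T0Space α] {Z : Set α}
    (hZ : Z ∈ irreducibleComponents α) {η x : α} (hη : IsGenericPoint η Z) (hx : x ⤳ η) :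
    x = η := by
  have h1 : Z ⊆ closure {x} := by
    rw [← hη.def]
    exact specializes_iff_closure_subset.mp hx
  have h2 : IsIrreducible (closure ({x} : Set α)) := isIrreducible_singleton.closure
  have h3 : closure ({x} : Set α) = Z := le_antisymm (hZ.2 h2 h1) h1
  exact (show IsGenericPoint x Z from h3).eq hη

/-- the canonical map from irreducible components to connected components -/
theorem exists_map :
    ∃ Φ : ↥(irreducibleComponents α) → ConnectedComponents α,
      (∀ (Z : ↥(irreducibleComponents α)) (a : α), a ∈ (Z : Set α) →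
        Φ Z = ConnectedComponents.mk a) ∧ Function.Surjective Φ := by
  have hne : ∀ Z : ↥(irreducibleComponents α), ∃ a : α, a ∈ (Z : Set α) := fun Z => Z.2.1.nonempty
  choose pt hpt using hne
  refine ⟨fun Z => ConnectedComponents.mk (pt Z), ?_, ?_⟩
  · intro Z a ha
    apply ConnectedComponents.coe_eq_coe'.mpr
    have hpre : IsPreconnected (Z : Set α) := Z.2.1.2.isPreconnected
    exact hpre.subset_connectedComponent ha (hpt Z)
  · intro c
    obtain ⟨a, rfl⟩ := ConnectedComponents.surjective_coe c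
    let Z : ↥(irreducibleComponents α) :=
      ⟨irreducibleComponent a, irreducibleComponent_mem_irreducibleComponents a⟩
    refine ⟨Z, ?_⟩
    apply ConnectedComponents.coe_eq_coe'.mpr
    have hpre : IsPreconnected (irreducibleComponent a) :=
      isIrreducible_irreducibleComponent.2.isPreconnected
    exact hpre.subset_connectedComponent mem_irreducibleComponent (hpt Z)

theorem card_eq_of_disjoint (hfin : (irreducibleComponents α).Finite)
    (hdisj : ∀ Z1 ∈ irreducibleComponents α, ∀ Z2 ∈ irreducibleComponents α,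
      (Z1 ∩ Z2).Nonempty → Z1 = Z2) :
    Nat.card ↥(irreducibleComponents α) = Nat.card (ConnectedComponents α) := by
  obtain ⟨Φ, hΦ, hsurj⟩ := exists_map (α := α)
  refine Nat.card_congr (Equiv.ofBijective Φ ⟨?_, hsurj⟩)
  intro Z1 Z2 h
  have hclopen : IsClopen (Z1 : Set α) := by
    refine ⟨isClosed_of_mem_irreducibleComponents _ Z1.2, ?_⟩
    have hc : (Z1 : Set α)ᶜ = ⋃ W ∈ (irreducibleComponents α) \ {(Z1 : Set α)}, W := by
      ext a
      simp only [Set.mem_compl_iff, Set.mem_iUnion, Set.mem_sdiff, Set.mem_singleton_iff]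
      constructor
      · intro ha
        refine ⟨irreducibleComponent a,
          ⟨irreducibleComponent_mem_irreducibleComponents a, ?_⟩, mem_irreducibleComponent⟩
        intro he
        apply ha
        rw [← he]
        exact mem_irreducibleComponent
      · rintro ⟨W, ⟨hW, hne⟩, haW⟩ haZ
        exact hne (hdisj W hW Z1 Z1.2 ⟨a, haW, haZ⟩)
    rw [← isClosed_compl_iff, hc]
    exact (hfin.subset Set.sdiff_subset).isClosed_biUnion
      (fun W hW => isClosed_of_mem_irreducibleComponents W hW.1)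
  obtain ⟨a1, ha1⟩ := Z1.2.1.nonempty
  obtain ⟨a2, ha2⟩ := Z2.2.1.nonempty
  have e1 := hΦ Z1 a1 ha1
  have e2 := hΦ Z2 a2 ha2
  have e3 : ConnectedComponents.mk a2 = ConnectedComponents.mk a1 := by
    rw [← e1, ← e2, h]
  have h4 : a2 ∈ connectedComponent a1 := ConnectedComponents.coe_eq_coe'.mp e3
  have hsub : connectedComponent a1 ⊆ (Z1 : Set α) := hclopen.connectedComponent_subset ha1
  exact Subtype.ext (hdisj Z1 Z1.2 Z2 Z2.2 ⟨a2, hsub h4, ha2⟩)

theorem disjoint_of_card_eq (hfin : (irreducibleComponents α).Finite)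
    (hcard : Nat.card ↥(irreducibleComponents α) = Nat.card (ConnectedComponents α))
    (Z1 Z2 : Set α) (h1 : Z1 ∈ irreducibleComponents α) (h2 : Z2 ∈ irreducibleComponents α)
    (a : α) (ha1 : a ∈ Z1) (ha2 : a ∈ Z2) : Z1 = Z2 := by
  obtain ⟨Φ, hΦ, hsurj⟩ := exists_map (α := α)
  haveI : Finite ↥(irreducibleComponents α) := hfin.to_subtype
  have hbij := hsurj.bijective_of_nat_card_le (le_of_eq hcard)
  have e1 := hΦ ⟨Z1, h1⟩ a ha1
  have e2 := hΦ ⟨Z2, h2⟩ a ha2
  have := hbij.1 (e1.trans e2.symm)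
  exact congrArg Subtype.val this

end top

section sch

theorem irreducibleComponents_eq_of_isDomain_stalk {Y : Scheme.{u}} (y : Y)
    [IsDomain (Y.presheaf.stalk y)]
    {Z1 Z2 : Set Y} (h1 : Z1 ∈ irreducibleComponents Y) (h2 : Z2 ∈ irreducibleComponents Y)
    (hy1 : y ∈ Z1) (hy2 : y ∈ Z2) : Z1 = Z2 := by
  obtain ⟨η1, hη1⟩ := QuasiSober.sober h1.1 (isClosed_of_mem_irreducibleComponents Z1 h1)
  obtain ⟨η2, hη2⟩ := QuasiSober.sober h2.1 (isClosed_of_mem_irreducibleComponents Z2 h2)
  have hs1 : η1 ⤳ y := by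
    rw [specializes_iff_mem_closure, hη1.def]; exact hy1
  have hs2 : η2 ⤳ y := by
    rw [specializes_iff_mem_closure, hη2.def]; exact hy2
  have hr1 : η1 ∈ Set.range (Y.fromSpecStalk y) := by
    rw [Scheme.range_fromSpecStalk]; exact hs1
  have hr2 : η2 ∈ Set.range (Y.fromSpecStalk y) := by
    rw [Scheme.range_fromSpecStalk]; exact hs2
  obtain ⟨p1, hp1⟩ := hr1
  obtain ⟨p2, hp2⟩ := hr2
  let b : PrimeSpectrum (Y.presheaf.stalk y) := ⟨⊥, Ideal.isPrime_bot⟩
  let q1 : PrimeSpectrum (Y.presheaf.stalk y) := p1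
  let q2 : PrimeSpectrum (Y.presheaf.stalk y) := p2
  have hb1 : b ⤳ q1 := (PrimeSpectrum.le_iff_specializes b q1).mp
    (show b.asIdeal ≤ q1.asIdeal from bot_le)
  have hb2 : b ⤳ q2 := (PrimeSpectrum.le_iff_specializes b q2).mp
    (show b.asIdeal ≤ q2.asIdeal from bot_le)
  have hc : Continuous ⇑(Y.fromSpecStalk y) := (Y.fromSpecStalk y).continuous
  have hξ1 : (Y.fromSpecStalk y) b ⤳ η1 := by
    rw [← hp1]; exact hb1.map hc
  have hξ2 : (Y.fromSpecStalk y) b ⤳ η2 := by
    rw [← hp2]; exact hb2.map hc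
  have e1 := eq_of_specializes_genericPoint h1 hη1 hξ1
  have e2 := eq_of_specializes_genericPoint h2 hη2 hξ2
  have e : η1 = η2 := e1.symm.trans e2
  rw [← hη1.def, ← hη2.def, e]

theorem isDomain_stalk_of_disjoint {Y : Scheme.{u}} [IsReduced Y] (y : Y)
    (hdisj : ∀ Z1 ∈ irreducibleComponents Y, ∀ Z2 ∈ irreducibleComponents Y,
      y ∈ Z1 → y ∈ Z2 → Z1 = Z2) :
    IsDomain (Y.presheaf.stalk y) := by
  haveI hred : _root_.IsReduced (Y.presheaf.stalk y) := inferInstance
  have hemb := (Y.fromSpecStalk y).isEmbedding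
  have hc : Continuous ⇑(Y.fromSpecStalk y) := (Y.fromSpecStalk y).continuous
  -- points attached to minimal primes are maximal points
  have hmax : ∀ (P : PrimeSpectrum (Y.presheaf.stalk y)),
      P.asIdeal ∈ (⊥ : Ideal (Y.presheaf.stalk y)).minimalPrimes →
      ∀ x' : Y, x' ⤳ (Y.fromSpecStalk y) P → x' = (Y.fromSpecStalk y) P := by
    intro P hP x' hx'
    have hPy : (Y.fromSpecStalk y) P ⤳ y := by
      have : (Y.fromSpecStalk y) P ∈ Set.range (Y.fromSpecStalk y) := ⟨P, rfl⟩
      rw [Scheme.range_fromSpecStalk] at this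
      exact this
    have hx'y : x' ⤳ y := hx'.trans hPy
    have hr : x' ∈ Set.range (Y.fromSpecStalk y) := by
      rw [Scheme.range_fromSpecStalk]; exact hx'y
    obtain ⟨P', rfl⟩ := hr
    let Q' : PrimeSpectrum (Y.presheaf.stalk y) := P'
    have hsp : Q' ⤳ P := (hemb.isInducing.specializes_iff).mp hx'
    have hle : Q'.asIdeal ≤ P.asIdeal := (PrimeSpectrum.le_iff_specializes Q' P).mpr hsp
    have hle2 : P.asIdeal ≤ Q'.asIdeal := hP.2 ⟨Q'.isPrime, bot_le⟩ hle
    have hQP : Q' = P := PrimeSpectrum.ext (le_antisymm hle hle2)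
    exact congrArg (fun t : PrimeSpectrum (Y.presheaf.stalk y) => (Y.fromSpecStalk y) t) hQP
  have huniq : ∀ P1 P2 : PrimeSpectrum (Y.presheaf.stalk y),
      P1.asIdeal ∈ (⊥ : Ideal (Y.presheaf.stalk y)).minimalPrimes →
      P2.asIdeal ∈ (⊥ : Ideal (Y.presheaf.stalk y)).minimalPrimes → P1 = P2 := by
    intro P1 P2 hP1 hP2
    have hc1 := ProdComp.closure_singleton_mem_irreducibleComponents _ (hmax P1 hP1)
    have hc2 := ProdComp.closure_singleton_mem_irreducibleComponents _ (hmax P2 hP2)
    have hy1 : y ∈ closure ({(Y.fromSpecStalk y) P1} : Set Y) := by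
      have : (Y.fromSpecStalk y) P1 ∈ Set.range (Y.fromSpecStalk y) := ⟨P1, rfl⟩
      rw [Scheme.range_fromSpecStalk] at this
      exact specializes_iff_mem_closure.mp this
    have hy2 : y ∈ closure ({(Y.fromSpecStalk y) P2} : Set Y) := by
      have : (Y.fromSpecStalk y) P2 ∈ Set.range (Y.fromSpecStalk y) := ⟨P2, rfl⟩
      rw [Scheme.range_fromSpecStalk] at this
      exact specializes_iff_mem_closure.mp this
    have heq := hdisj _ hc1 _ hc2 hy1 hy2
    have hg1 : IsGenericPoint ((Y.fromSpecStalk y) P1)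
        (closure ({(Y.fromSpecStalk y) P1} : Set Y)) := isGenericPoint_closure
    have hg2 : IsGenericPoint ((Y.fromSpecStalk y) P2)
        (closure ({(Y.fromSpecStalk y) P1} : Set Y)) := by
      rw [heq]; exact isGenericPoint_closure
    exact hemb.injective (hg1.eq hg2)
  -- a minimal prime exists and is zero
  obtain ⟨p0, hp0, -⟩ := Ideal.exists_minimalPrimes_le
    (I := (⊥ : Ideal (Y.presheaf.stalk y)))
    (J := IsLocalRing.maximalIdeal (Y.presheaf.stalk y)) bot_le
  haveI : p0.IsPrime := hp0.1.1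
  have hp0bot : p0 = ⊥ := by
    rw [eq_bot_iff]
    intro a ha
    have hmem : a ∈ sInf ((⊥ : Ideal (Y.presheaf.stalk y)).minimalPrimes) := by
      rw [Ideal.mem_sInf]
      intro q hq
      haveI : q.IsPrime := hq.1.1
      have := huniq ⟨q, inferInstance⟩ ⟨p0, inferInstance⟩ hq hp0
      have hq0 : q = p0 := congrArg PrimeSpectrum.asIdeal this
      rw [hq0]; exact ha
    rw [Ideal.sInf_minimalPrimes] at hmem
    obtain ⟨n, hn⟩ := hmem
    have hnil : IsNilpotent a := ⟨n, by simpa using hn⟩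
    have := IsReduced.eq_zero a hnil
    rw [this]; exact Ideal.zero_mem _
  haveI : (⊥ : Ideal (Y.presheaf.stalk y)).IsPrime := hp0bot ▸ inferInstance
  exact IsDomain.of_bot_isPrime _

variable {k : Type u} [Field k] {X : Scheme.{u}}

theorem main {Ω : Type u} [Field Ω] [Algebra k Ω] [IsAlgClosed Ω]
    (f : X ⟶ Spec (CommRingCat.of k)) [LocallyOfFiniteType f] [QuasiCompact f] :
    (∀ x : X, FBase.IsGeomPtIntegralAt f x) ↔
      (GeometricallyReduced f ∧
        Nat.card ↥(irreducibleComponents ↥(FBase.bc f Ω)) =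
          Nat.card (_root_.ConnectedComponents ↥(FBase.bc f Ω))) := by
  haveI hlft : LocallyOfFiniteType (FBase.bcStr f Ω) := by
    have hh : LocallyOfFiniteType
        (pullback.snd f (Spec.map (CommRingCat.ofHom (algebraMap k Ω)))) := inferInstance
    exact hh
  haveI hqc : QuasiCompact (FBase.bcStr f Ω) := by
    have hh : QuasiCompact
        (pullback.snd f (Spec.map (CommRingCat.ofHom (algebraMap k Ω)))) := inferInstance
    exact hh
  haveI : IsLocallyNoetherian (FBase.bc f Ω) :=
    LocallyOfFiniteType.isLocallyNoetherian (FBase.bcStr f Ω)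
  haveI : CompactSpace ↥(FBase.bc f Ω) :=
    QuasiCompact.compactSpace_of_compactSpace (FBase.bcStr f Ω)
  haveI : IsNoetherian (FBase.bc f Ω) := ⟨⟩
  have hfin : (irreducibleComponents ↥(FBase.bc f Ω)).Finite :=
    TopologicalSpace.NoetherianSpace.finite_irreducibleComponents
  constructor
  · intro h
    refine ⟨?_, ?_⟩
    · apply GeomRed5.geomReduced_of_forall
      intro x K _ _ x' hx'
      haveI := h x K x' hx'
      infer_instance
    · apply card_eq_of_disjoint hfin
      rintro Z1 h1 Z2 h2 ⟨y, hy1, hy2⟩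
      haveI : IsDomain ((FBase.bc f Ω).presheaf.stalk y) := h ((FBase.bcπ f Ω) y) Ω y rfl
      exact irreducibleComponents_eq_of_isDomain_stalk y h1 h2 hy1 hy2
  · rintro ⟨hgr, hcard⟩ x
    haveI := hgr
    haveI : IsReduced (FBase.bc f Ω) :=
      GeometricallyReduced.geometrically_isReduced (f := f)
        (Spec.map (CommRingCat.ofHom (algebraMap k Ω))) (FBase.bcπ f Ω) (FBase.bcStr f Ω)
        (IsPullback.of_hasPullback _ _)
    obtain ⟨y, hy⟩ := GeomRed5.exists_point_over f Ω x
    have hdom : IsDomain ((FBase.bc f Ω).presheaf.stalk y) :=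
      isDomain_stalk_of_disjoint y
        (fun Z1 h1 Z2 h2 hy1 hy2 => disjoint_of_card_eq hfin hcard Z1 Z2 h1 h2 y hy1 hy2)
    have h1 : FBase.IsGeomPtIntegralAt (FBase.bcStr f Ω) y :=
      GeomInt.main_mpr (FBase.bcStr f Ω) y hdom
    have h2 := GeomIntBC.mpr f y h1
    rw [hy] at h2
    exact h2

end sch

end Groth.Agent.Helper17.GeomCount
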