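import Mathlib
import Groth.Prelude.Def_FDesc
import Groth.Agent.Lib.Helper17.GeomRed5

set_option autoImplicit false
universe u
open CategoryTheory CategoryTheory.Limits AlgebraicGeometry TopologicalSpace Topology TensorProduct

namespace Groth.Agent.Helper17.GeomRed6

theorem isReduced_algClosure_tensor_of_pi {k A : Type u} [Field k] [CommRing A] [Algebra k A]
    (h : ∀ (k' : Type u) [Field k'] [Algebra k k'] [FiniteDimensional k k']
      [IsPurelyInseparable k k'], IsReduced (A ⊗[k] k')) :
    IsReduced (AlgebraicClosure k ⊗[k] A) := by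
  haveI : PerfectField (perfectClosure k (AlgebraicClosure k)) := inferInstance
  haveI : Algebra.IsAlgebraic (perfectClosure k (AlgebraicClosure k)) (AlgebraicClosure k) :=
    Algebra.IsAlgebraic.tower_top (K := k) _
  have hP : IsReduced ((perfectClosure k (AlgebraicClosure k)) ⊗[k] A) := by
    refine Groth.Agent.H19.isReduced_tensor_of_forall_finite (fun L hL => ?_)
    haveI := hL
    haveI : IsPurelyInseparable k L :=
      IsPurelyInseparable.tower_bot k L (perfectClosure k (AlgebraicClosure k))
    haveI : IsReduced (A ⊗[k] L) := h L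
    exact isReduced_of_injective (Algebra.TensorProduct.comm k L A) (AlgEquiv.injective _)
  exact Groth.Agent.H19.isReduced_tensor_of_perfect_tower (k := k)
    (P := perfectClosure k (AlgebraicClosure k)) (E := AlgebraicClosure k) hP

section sch
variable {k : Type u} [Field k] {X : Scheme.{u}}

theorem ring_of_stalks (f : X ⟶ Spec (CommRingCat.of k)) (R : CommRingCat.{u})
    [Algebra k R] (c : Spec R ⟶ X) [IsOpenImmersion c]
    (hcf : c ≫ f = Spec.map (CommRingCat.ofHom (algebraMap k R)))
    (p0 : PrimeSpectrum R) (K : Type u) [Field K] [Algebra k K]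
    (hK : ∀ x' : ↥(FBase.bc f K), (FBase.bcπ f K) x' = c p0 →
      IsReduced ((FBase.bc f K).presheaf.stalk x'))
    (Q : Ideal (R ⊗[k] K)) [Q.IsPrime]
    (hQ : Q.comap (algebraMap R (R ⊗[k] K)) = p0.asIdeal) :
    IsReduced (Localization.AtPrime Q) := by
  obtain ⟨j, hjo, hjc, -⟩ := CompBCS.chart (K := K) f R c hcf
  haveI := hjo
  let Q' : PrimeSpectrum (R ⊗[k] K) := ⟨Q, inferInstance⟩
  have hπj : (FBase.bcπ f K) (j Q') = c (PrimeSpectrum.comap (algebraMap R (R ⊗[k] K)) Q') :=
    congrArg (fun m : Spec (CommRingCat.of (R ⊗[k] K)) ⟶ X => m Q') hjc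
  have hPQ : PrimeSpectrum.comap (algebraMap R (R ⊗[k] K)) Q' = p0 := PrimeSpectrum.ext hQ
  have h1 : IsReduced ((FBase.bc f K).presheaf.stalk (j Q')) :=
    hK (j Q') (by rw [hπj, hPQ])
  exact (GeomRed.isReduced_stalk_iff_of_isOpenImmersion (X := FBase.bc f K) j Q').mp h1

theorem geomReducedAt_of_pi (f : X ⟶ Spec (CommRingCat.of k)) (x : X)
    (h : ∀ (k' : Type u) [Field k'] [Algebra k k'] [FiniteDimensional k k']
      [IsPurelyInseparable k k'] (x' : ↥(FBase.bc f k')), (FBase.bcπ f k') x' = x →
      IsReduced ((FBase.bc f k').presheaf.stalk x')) :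
    FBase.IsGeomReducedAt f x := by
  obtain ⟨R, algR, c, hco, ⟨p0', hp0'⟩, hcf⟩ := ProdComp.exists_chart' f x
  subst hp0'
  haveI := hco
  let p0 : PrimeSpectrum R := p0'
  haveI := p0.isPrime
  apply GeomRed3.geomReducedAt_of_algClosure f R c hcf p0
  apply isReduced_algClosure_tensor_of_pi
  intro k' _ _ _ _
  exact GeomRed2.key_ring p0.asIdeal
    (fun Q _ hQ => ring_of_stalks f R c hcf p0 k' (h k') Q hQ)

theorem geomReduced_of_pi (f : X ⟶ Spec (CommRingCat.of k))
    (h : ∀ (k' : Type u) [Field k'] [Algebra k k'] [FiniteDimensional k k']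
      [IsPurelyInseparable k k'], IsReduced (FBase.bc f k')) :
    GeometricallyReduced f := by
  apply GeomRed5.geomReduced_of_forall
  intro x
  apply geomReducedAt_of_pi
  intro k' _ _ _ _ x' _
  haveI := h k'
  infer_instance

end sch

end Groth.Agent.Helper17.GeomRed6
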