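import Mathlib

set_option autoImplicit false

namespace Groth.Agent.Helper17.Hirz

open MvPolynomial
open scoped Pointwise

variable {k : Type*} [Field k]

/-- exponent sets -/
def E (a b : ℕ) : Set (Fin 4 →₀ ℕ) := {e | e 2 + e 3 = a ∧ e 0 + e 1 = b + e 2}

theorem span_eq (a b : ℕ) :
    Submodule.span k {f : MvPolynomial (Fin 4) k | ∃ e : Fin 4 →₀ ℕ, e 2 + e 3 = a ∧
      e 0 + e 1 = b + e 2 ∧ f = monomial e 1} = restrictSupport k (E a b) := by
  rw [restrictSupport_eq_span]
  congr 1
  ext f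
  constructor
  · rintro ⟨e, h1, h2, rfl⟩
    exact ⟨e, ⟨h1, h2⟩, rfl⟩
  · rintro ⟨e, ⟨h1, h2⟩, rfl⟩
    exact ⟨e, h1, h2, rfl⟩

theorem eq_of_leading {σ : Type*} (mo : MonomialOrder σ) (Es : Set (σ →₀ ℕ))
    (T : Submodule k (MvPolynomial σ k)) (hT : T ≤ restrictSupport k Es)
    (hlead : ∀ e ∈ Es, ∃ g ∈ T, g ≠ 0 ∧ mo.degree g = e) :
    T = restrictSupport k Es := by
  apply le_antisymm hT
  have key : ∀ d : mo.syn, ∀ f ∈ restrictSupport k Es, mo.toSyn (mo.degree f) = d → f ∈ T := by
    intro d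
    induction d using WellFoundedLT.induction with
    | ind d ih =>
      intro f hf hd
      by_cases hf0 : f = 0
      · rw [hf0]; exact T.zero_mem
      have hmem : mo.degree f ∈ Es := hf (Finset.mem_coe.mpr (mo.degree_mem_support hf0))
      obtain ⟨g, hgT, hg0, hgd⟩ := hlead _ hmem
      have hlg : mo.leadingCoeff g ≠ 0 := mo.leadingCoeff_ne_zero_iff.mpr hg0
      obtain ⟨c, hc⟩ : ∃ c : k, c = mo.leadingCoeff f / mo.leadingCoeff g := ⟨_, rfl⟩
      obtain ⟨h, hh⟩ : ∃ h : MvPolynomial σ k, h = f - c • g := ⟨_, rfl⟩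
      have hhmem : h ∈ restrictSupport k Es := by
        rw [hh]
        exact Submodule.sub_mem _ hf (Submodule.smul_mem _ _ (hT hgT))
      have hcoeff : h.coeff (mo.degree f) = 0 := by
        rw [hh, coeff_sub, coeff_smul, smul_eq_mul]
        have h1 : g.coeff (mo.degree f) = mo.leadingCoeff g := by rw [← hgd]; rfl
        have h2 : f.coeff (mo.degree f) = mo.leadingCoeff f := rfl
        rw [h1, h2, hc, div_mul_cancel₀ _ hlg]
        exact sub_self _
      have hle : mo.toSyn (mo.degree h) ≤ mo.toSyn (mo.degree f) := by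
        rw [hh]
        refine mo.degree_sub_le.trans ?_
        apply sup_le le_rfl
        refine (mo.degree_smul_le).trans ?_
        rw [hgd]
      have hfeq : f = h + c • g := by rw [hh]; ring
      by_cases hh0 : h = 0
      · rw [hfeq, hh0, zero_add]; exact T.smul_mem _ hgT
      have hlt : mo.toSyn (mo.degree h) < d := by
        rw [← hd]
        refine lt_of_le_of_ne hle ?_
        intro heq
        have heq' : mo.degree h = mo.degree f := mo.toSyn.injective heq
        have h3 := mo.degree_mem_support hh0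
        rw [heq', mem_support_iff] at h3
        exact h3 hcoeff
      have hhT : h ∈ T := ih _ hlt h hhmem rfl
      rw [hfeq]
      exact T.add_mem hhT (T.smul_mem _ hgT)
  intro f hf
  exact key _ f hf rfl

theorem main (mo : MonomialOrder (Fin 4)) (a b c : ℕ) (W : Submodule k (MvPolynomial (Fin 4) k))
    (hW : W ≤ Submodule.span k {f : MvPolynomial (Fin 4) k | ∃ e : Fin 4 →₀ ℕ, e 2 + e 3 = a ∧ e 0 + e 1 = b + e 2 ∧ f = MvPolynomial.monomial e 1})
    (h₁ : ∀ i j : ℕ, i ≤ a → j * (c + 1) < b + i → ∃ w ∈ W, w ≠ 0 ∧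
      mo.degree w = Finsupp.single 0 (b + i - j * (c + 1)) + Finsupp.single 1 (j * (c + 1)) +
        Finsupp.single 2 i + Finsupp.single 3 (a - i))
    (h₂ : ∀ i : ℕ, i ≤ a → ∃ w ∈ W, w ≠ 0 ∧
      mo.degree w = Finsupp.single 1 (b + i) + Finsupp.single 2 i + Finsupp.single 3 (a - i)) :
    W * Submodule.span k {f : MvPolynomial (Fin 4) k | ∃ e : Fin 4 →₀ ℕ, e 2 + e 3 = 0 ∧ e 0 + e 1 = c + e 2 ∧ f = MvPolynomial.monomial e 1} =
      Submodule.span k {f : MvPolynomial (Fin 4) k | ∃ e : Fin 4 →₀ ℕ, e 2 + e 3 = a ∧ e 0 + e 1 = (b + c) + e 2 ∧ f = MvPolynomial.monomial e 1} := by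
  rw [span_eq] at hW
  rw [span_eq, span_eq]
  apply eq_of_leading mo (E a (b + c))
  · calc W * restrictSupport k (E 0 c)
        ≤ restrictSupport k (E a b) * restrictSupport k (E 0 c) := mul_le_mul' hW le_rfl
      _ = restrictSupport k (E a b + E 0 c) := (restrictSupport_add _ _ _).symm
      _ ≤ restrictSupport k (E a (b + c)) := restrictSupport_mono _ (by
          rintro _ ⟨e, ⟨h1, h2⟩, e', ⟨h1', h2'⟩, rfl⟩
          simp only [E, Set.mem_setOf_eq, Finsupp.add_apply]
          constructor <;> omega)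
  · rintro e ⟨he1, he2⟩
    have hmon : ∀ p q : ℕ, p + q = c →
        (monomial (Finsupp.single 0 p + Finsupp.single 1 q) (1 : k) : MvPolynomial (Fin 4) k) ∈
          restrictSupport k (E 0 c) := by
      intro p q hpq
      rw [monomial_mem_restrictSupport]
      left
      simp only [E, Set.mem_setOf_eq, Finsupp.add_apply, Finsupp.single_apply]
      simp
      omega
    have hdeg : ∀ p q : ℕ, mo.degree (monomial (Finsupp.single 0 p + Finsupp.single 1 q) (1 : k) :
        MvPolynomial (Fin 4) k) = Finsupp.single 0 p + Finsupp.single 1 q := by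
      intro p q
      classical
      rw [mo.degree_monomial, if_neg one_ne_zero]
    have hne : ∀ p q : ℕ, (monomial (Finsupp.single 0 p + Finsupp.single 1 q) (1 : k) :
        MvPolynomial (Fin 4) k) ≠ 0 := by
      intro p q
      rw [Ne, monomial_eq_zero]
      exact one_ne_zero
    have hi : e 2 ≤ a := by omega
    have hr : e 1 % (c + 1) < c + 1 := Nat.mod_lt _ (Nat.succ_pos c)
    have hJ : (e 1 / (c + 1)) * (c + 1) + e 1 % (c + 1) = e 1 := by
      rw [mul_comm]; exact Nat.div_add_mod _ _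
    by_cases hcase : (e 1 / (c + 1)) * (c + 1) < b + e 2
    · obtain ⟨w, hwW, hw0, hwd⟩ := h₁ (e 2) (e 1 / (c + 1)) hi hcase
      refine ⟨w * monomial (Finsupp.single 0 (c - e 1 % (c + 1)) + Finsupp.single 1 (e 1 % (c + 1))) 1,
        Submodule.mul_mem_mul hwW (hmon _ _ (by omega)), mul_ne_zero hw0 (hne _ _), ?_⟩
      rw [mo.degree_mul hw0 (hne _ _), hdeg, hwd]
      generalize (e 1 / (c + 1)) * (c + 1) = J at *
      ext t
      fin_cases t <;> simp [Finsupp.single_apply] <;> omega
    · obtain ⟨w, hwW, hw0, hwd⟩ := h₂ (e 2) hi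
      refine ⟨w * monomial (Finsupp.single 0 (c - (e 1 - (b + e 2))) + Finsupp.single 1 (e 1 - (b + e 2))) 1,
        Submodule.mul_mem_mul hwW (hmon _ _ (by omega)), mul_ne_zero hw0 (hne _ _), ?_⟩
      rw [mo.degree_mul hw0 (hne _ _), hdeg, hwd]
      generalize (e 1 / (c + 1)) * (c + 1) = J at *
      ext t
      fin_cases t <;> simp [Finsupp.single_apply] <;> omega

end Groth.Agent.Helper17.Hirz
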