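import Mathlib
import Groth.Prelude.Def_FDesc
import Groth.Agent.Lib.Helper17.GeomRed5
import Groth.Agent.S1538

set_option autoImplicit false
universe u
open CategoryTheory CategoryTheory.Limits AlgebraicGeometry TopologicalSpace Topology TensorProduct

namespace Groth.Agent.Helper17.IrrSep

theorem irreducibleSpace_of_cover {α : Type*} [TopologicalSpace α] {ι : Type*} [Nonempty ι]
    (V : ι → Set α) (hirr : ∀ i, IsIrreducible (V i))
    (hopen : ∀ i, IsOpen (V i))
    (hcov : ∀ a : α, ∃ i, a ∈ V i) (hmeet : ∀ i j, (V i ∩ V j).Nonempty) :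
    IrreducibleSpace α := by
  obtain ⟨i0⟩ := (inferInstance : Nonempty ι)
  obtain ⟨a0, -⟩ := (hirr i0).1
  haveI : Nonempty α := ⟨a0⟩
  refine (irreducibleSpace_def α).mpr ⟨Set.univ_nonempty, ?_⟩
  intro A B hA hB hAn hBn
  obtain ⟨a, -, haA⟩ := hAn
  obtain ⟨b, -, hbB⟩ := hBn
  obtain ⟨i, hai⟩ := hcov a
  obtain ⟨j, hbj⟩ := hcov b
  -- A meets V j
  have h1 : (V i ∩ (A ∩ V j)).Nonempty :=
    (hirr i).2 A (V j) hA (hopen j) ⟨a, hai, haA⟩ (hmeet i j)
  obtain ⟨a', -, ha'A, ha'j⟩ := h1
  have h2 : (V j ∩ (A ∩ B)).Nonempty :=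
    (hirr j).2 A B hA hB ⟨a', ha'j, ha'A⟩ ⟨b, hbj, hbB⟩
  obtain ⟨z, -, hz⟩ := h2
  exact ⟨z, trivial, hz⟩

section sch
variable {k : Type u} [Field k] {X : Scheme.{u}}

theorem main (f : X ⟶ Spec (CommRingCat.of k))
    (h : ∀ (k' : Type u) [Field k'] [Algebra k k'] [FiniteDimensional k k']
      [Algebra.IsSeparable k k'], IrreducibleSpace ↥(FBase.bc f k')) :
    IrreducibleSpace ↥(FBase.bc f (SeparableClosure k)) := by
  -- X itself is irreducible
  haveI hXk : IrreducibleSpace ↥(FBase.bc f k) := h k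
  haveI hX : IrreducibleSpace ↥X := by
    have hs : Function.Surjective ⇑(FBase.bcπ f k) := fun x => GeomRed5.exists_point_over f k x
    exact hs.irreducibleSpace (FBase.bcπ f k).continuous
  -- charts
  have hch : ∀ x : X, ∃ (R : CommRingCat.{u}) (_ : Algebra k R) (c : Spec R ⟶ X)
      (_ : IsOpenImmersion c), x ∈ Set.range ⇑c ∧
      c ≫ f = Spec.map (CommRingCat.ofHom (algebraMap k R)) := fun x => ProdComp.exists_chart' f x
  choose R algR c hco hxc hcf using hch
  -- charts upstairs
  have hj : ∀ (x : X) (K : Type u) [Field K] [Algebra k K],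
      ∃ j : Spec (CommRingCat.of (R x ⊗[k] K)) ⟶ FBase.bc f K, IsOpenImmersion j ∧
        Set.range ⇑j = ⇑(FBase.bcπ f K) ⁻¹' Set.range ⇑(c x) := by
    intro x K _ _
    haveI := hco x
    obtain ⟨j, hjo, hjc, hsurj⟩ := CompBCS.chart (K := K) f (R x) (c x) (hcf x)
    refine ⟨j, hjo, ?_⟩
    ext y
    constructor
    · rintro ⟨Q, rfl⟩
      have := congrArg (fun m : Spec (CommRingCat.of (R x ⊗[k] K)) ⟶ X => m Q) hjc
      exact ⟨_, this.symm⟩
    · rintro ⟨P, hP⟩
      exact hsurj y P hP.symm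
  -- each chart ring tensor a finite separable extension has irreducible spectrum
  have hfin : ∀ (x : X) (K : Type u) [Field K] [Algebra k K], IrreducibleSpace ↥(FBase.bc f K) →
      IrreducibleSpace (PrimeSpectrum (R x ⊗[k] K)) := by
    intro x K _ _ hK
    obtain ⟨j, hjo, hjr⟩ := hj x K
    haveI := hjo
    haveI : Nonempty ↥(Spec (CommRingCat.of (R x ⊗[k] K))) := by
      obtain ⟨y, hy⟩ := GeomRed5.exists_point_over f K x
      have : y ∈ Set.range ⇑j := by
        rw [hjr, Set.mem_preimage, hy]; exact hxc x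
      obtain ⟨Q, -⟩ := this
      exact ⟨Q⟩
    exact (j.isOpenEmbedding.irreducibleSpace :
      IrreducibleSpace ↥(Spec (CommRingCat.of (R x ⊗[k] K))))
  -- the spectra over the separable closure
  have hsep : ∀ x : X, IrreducibleSpace (PrimeSpectrum (R x ⊗[k] SeparableClosure k)) := by
    intro x
    haveI : Nontrivial (R x) := by
      obtain ⟨P, -⟩ := hxc x
      exact (PrimeSpectrum.nonempty_iff_nontrivial.mp ⟨P⟩)
    haveI : IrreducibleSpace (PrimeSpectrum (SeparableClosure k ⊗[k] R x)) := by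
      refine Groth.Agent.H19.irreducibleSpace_tensor_of_forall_finite (fun L hL => ?_)
      haveI := hL
      haveI : Algebra.IsSeparable k L :=
        Algebra.isSeparable_tower_bot_of_isSeparable k L (SeparableClosure k)
      have h1 := hfin x L (h L)
      have h1' := (Groth.Agent.H19.irreducibleSpace_iff_nilradical_isPrime
        (A := R x ⊗[k] L)).mp h1
      refine (Groth.Agent.H19.irreducibleSpace_iff_nilradical_isPrime
        (A := L ⊗[k] R x)).mpr ?_
      exact Groth.Agent.H19.nilradical_isPrime_of_injective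
        ((Algebra.TensorProduct.comm k L (R x)) : L ⊗[k] R x →+* R x ⊗[k] L)
        (AlgEquiv.injective _) h1'
    have h2' := (Groth.Agent.H19.irreducibleSpace_iff_nilradical_isPrime
      (A := SeparableClosure k ⊗[k] R x)).mp this
    refine (Groth.Agent.H19.irreducibleSpace_iff_nilradical_isPrime
      (A := R x ⊗[k] SeparableClosure k)).mpr ?_
    exact Groth.Agent.H19.nilradical_isPrime_of_injective
      ((Algebra.TensorProduct.comm k (R x) (SeparableClosure k)) :
        R x ⊗[k] SeparableClosure k →+* SeparableClosure k ⊗[k] R x)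
      (AlgEquiv.injective _) h2'
  -- cover
  choose j hjo hjr using fun x => hj x (SeparableClosure k)
  haveI : Nonempty ↥X := hX.toNonempty
  refine irreducibleSpace_of_cover (ι := ↥X) (fun x => Set.range ⇑(j x)) ?_ ?_ ?_ ?_
  · intro x
    haveI : IrreducibleSpace ↥(Spec (CommRingCat.of (R x ⊗[k] SeparableClosure k))) := hsep x
    have := (IrreducibleSpace.isIrreducible_univ
      ↥(Spec (CommRingCat.of (R x ⊗[k] SeparableClosure k)))).image
      ⇑(j x) (j x).continuous.continuousOn
    rw [Set.image_univ] at this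
    exact this
  · intro x
    haveI := hjo x
    exact (j x).isOpenEmbedding.isOpen_range
  · intro y
    refine ⟨(FBase.bcπ f (SeparableClosure k)) y, ?_⟩
    show y ∈ Set.range ⇑(j _)
    rw [hjr, Set.mem_preimage]
    exact hxc _
  · intro x x'
    haveI := hco x
    haveI := hco x'
    have ho1 : IsOpen (Set.range ⇑(c x)) := (c x).isOpenEmbedding.isOpen_range
    have ho2 : IsOpen (Set.range ⇑(c x')) := (c x').isOpenEmbedding.isOpen_range
    obtain ⟨z, hz1, hz2⟩ := nonempty_preirreducible_inter ho1 ho2 ⟨x, hxc x⟩ ⟨x', hxc x'⟩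
    obtain ⟨y, hy⟩ := GeomRed5.exists_point_over f (SeparableClosure k) z
    refine ⟨y, ?_, ?_⟩
    · show y ∈ Set.range ⇑(j x)
      rw [hjr, Set.mem_preimage, hy]; exact hz1
    · show y ∈ Set.range ⇑(j x')
      rw [hjr, Set.mem_preimage, hy]; exact hz2

end sch

end Groth.Agent.Helper17.IrrSep
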