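import Mathlib

open Polynomial

namespace Groth.Agent.Helper17.KdInsep

universe u

section deriv

variable {k E : Type u} [Field k] [Field E] [Algebra k E] (P : E[X]) [Fact (Irreducible P)]
variable {N : Type*} [AddCommGroup N] [Module (AdjoinRoot P) N] [Module E N] [Module k N]
  [IsScalarTower E (AdjoinRoot P) N] [IsScalarTower k E N]

/-- coefficientwise derivation evaluated at the root -/
noncomputable def ev (d₀ : Derivation k E N) (q : E[X]) : N :=
  PolynomialModule.eval (AdjoinRoot.root P)
    (PolynomialModule.map (AdjoinRoot P) (LinearMap.id : N →ₗ[E] N) (d₀.mapCoeffs q))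

lemma ev_add (d₀ : Derivation k E N) (q s : E[X]) :
    ev P d₀ (q + s) = ev P d₀ q + ev P d₀ s := by
  simp only [ev, map_add]

lemma ev_mul (d₀ : Derivation k E N) (q s : E[X]) :
    ev P d₀ (q * s) = AdjoinRoot.mk P q • ev P d₀ s + AdjoinRoot.mk P s • ev P d₀ q := by
  unfold ev
  rw [Derivation.leibniz, map_add, map_add, PolynomialModule.map_smul, PolynomialModule.map_smul,
    PolynomialModule.eval_smul, PolynomialModule.eval_smul, Polynomial.eval_map_algebraMap,
    Polynomial.eval_map_algebraMap, AdjoinRoot.aeval_eq, AdjoinRoot.aeval_eq]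

lemma ev_monomial (d₀ : Derivation k E N) (n : ℕ) (a : E) :
    ev P d₀ (monomial n a) = (AdjoinRoot.root P) ^ n • d₀ a := by
  unfold ev
  rw [Derivation.mapCoeffs_monomial, PolynomialModule.map_single, PolynomialModule.eval_single]
  rfl

lemma ev_C (d₀ : Derivation k E N) (a : E) : ev P d₀ (C a) = d₀ a := by
  rw [← monomial_zero_left, ev_monomial, pow_zero, one_smul]

lemma ev_X (d₀ : Derivation k E N) : ev P d₀ X = 0 := by
  unfold ev
  rw [Derivation.mapCoeffs_X, map_zero, map_zero]

lemma ev_nat {N₂ : Type*} [AddCommGroup N₂] [Module (AdjoinRoot P) N₂] [Module E N₂] [Module k N₂]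
    [IsScalarTower E (AdjoinRoot P) N₂] [IsScalarTower k E N₂]
    (d₁ : Derivation k E N) (g : N →ₗ[AdjoinRoot P] N₂) (q : E[X]) :
    ev P ((g.restrictScalars E).compDer d₁) q = g (ev P d₁ q) := by
  induction q using Polynomial.induction_on' with
  | add p q hp hq => rw [ev_add, ev_add, hp, hq, map_add]
  | monomial n a =>
    rw [ev_monomial, ev_monomial, map_smul]
    rfl

theorem exists_derivation (d₀ : Derivation k E N) (h0 : ev P d₀ P = 0) :
    ∃ δ : Derivation k (AdjoinRoot P) N,
      (∀ a : E, δ (algebraMap E (AdjoinRoot P) a) = d₀ a) ∧ δ (AdjoinRoot.root P) = 0 := by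
  classical
  have hker : ∀ q : E[X], AdjoinRoot.mk P q = 0 → ev P d₀ q = 0 := by
    intro q hq
    obtain ⟨s, rfl⟩ := AdjoinRoot.mk_eq_zero.1 hq
    rw [ev_mul, AdjoinRoot.mk_self, zero_smul, h0, smul_zero, add_zero]
  let e : E[X] →+ N := AddMonoidHom.mk' (ev P d₀) (ev_add P d₀)
  have he : ∀ q, e q = ev P d₀ q := fun _ => rfl
  have hcongr : ∀ q s : E[X], AdjoinRoot.mk P q = AdjoinRoot.mk P s → ev P d₀ q = ev P d₀ s := by
    intro q s h
    have := hker (q - s) (by rw [map_sub, h, sub_self])
    rw [← he, map_sub, sub_eq_zero] at this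
    exact this
  let finv : AdjoinRoot P → E[X] := Function.surjInv (AdjoinRoot.mk_surjective (g := P))
  have hfinv : ∀ x, AdjoinRoot.mk P (finv x) = x := Function.surjInv_eq _
  have hofsmul : ∀ (c : k) (v : N), (AdjoinRoot.of P (algebraMap k E c)) • v = c • v := by
    intro c v
    rw [← AdjoinRoot.algebraMap_eq, algebraMap_smul, algebraMap_smul]
  have hsmulk : ∀ (c : k) (q : E[X]), ev P d₀ (c • q) = c • ev P d₀ q := by
    intro c q
    have : c • q = C (algebraMap k E c) * q := by
      rw [Algebra.smul_def]; rfl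
    rw [this, ev_mul, ev_C, Derivation.map_algebraMap, smul_zero, add_zero, AdjoinRoot.mk_C,
      hofsmul]
  let L : AdjoinRoot P →ₗ[k] N :=
    { toFun := fun x => ev P d₀ (finv x)
      map_add' := by
        intro x y
        refine (hcongr _ (finv x + finv y) ?_).trans (ev_add P d₀ _ _)
        rw [hfinv, map_add, hfinv, hfinv]
      map_smul' := by
        intro c x
        refine (hcongr _ (c • finv x) ?_).trans (hsmulk c _)
        rw [hfinv, Algebra.smul_def, Algebra.smul_def, map_mul, hfinv]
        congr 1 }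
  have hL : ∀ q : E[X], L (AdjoinRoot.mk P q) = ev P d₀ q := by
    intro q
    exact hcongr _ _ (hfinv _)
  have hleib : ∀ x y : AdjoinRoot P, L (x * y) = x • L y + y • L x := by
    intro x y
    obtain ⟨q, rfl⟩ := AdjoinRoot.mk_surjective x
    obtain ⟨s, rfl⟩ := AdjoinRoot.mk_surjective y
    rw [← map_mul, hL, hL, hL, ev_mul]
  refine ⟨Derivation.mk' L hleib, ?_, ?_⟩
  · intro a
    show L (algebraMap E (AdjoinRoot P) a) = d₀ a
    rw [AdjoinRoot.algebraMap_eq, ← AdjoinRoot.mk_C, hL, ev_C]
  · show L (AdjoinRoot.root P) = 0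
    rw [← AdjoinRoot.mk_X, hL, ev_X]

end deriv

section part1

variable {E : Type u} [Field E] (P : E[X]) [Fact (Irreducible P)]

theorem exists_partial (hP : derivative P = 0) :
    ∃ dd : Derivation E (AdjoinRoot P) (AdjoinRoot P), dd (AdjoinRoot.root P) = 1 := by
  have hd : ∀ x : E[X], AdjoinRoot.mkₐ P x = 0 →
      AdjoinRoot.mkₐ P ((derivative' : Derivation E E[X] E[X]) x) = 0 := by
    intro x hx
    rw [AdjoinRoot.coe_mkₐ] at hx ⊢
    obtain ⟨s, rfl⟩ := AdjoinRoot.mk_eq_zero.1 hx
    show AdjoinRoot.mk P (derivative (P * s)) = 0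
    rw [derivative_mul, hP, zero_mul, zero_add, map_mul, AdjoinRoot.mk_self, zero_mul]
  have hs : Function.Surjective (AdjoinRoot.mkₐ P) := AdjoinRoot.mk_surjective
  refine ⟨Derivation.liftOfSurjective hs hd, ?_⟩
  have := Derivation.liftOfSurjective_apply hs hd X
  rw [AdjoinRoot.coe_mkₐ, AdjoinRoot.mk_X] at this
  rw [this]
  show AdjoinRoot.mk P (derivative X) = 1
  rw [derivative_X, map_one]

theorem finrank_kaehler_self (hP : derivative P = 0) :
    Module.finrank (AdjoinRoot P) (KaehlerDifferential E (AdjoinRoot P)) = 1 := by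
  obtain ⟨dd, hdd⟩ := exists_partial P hP
  have hne : KaehlerDifferential.D E (AdjoinRoot P) (AdjoinRoot.root P) ≠ 0 := by
    intro h
    have := dd.liftKaehlerDifferential_comp_D (AdjoinRoot.root P)
    rw [h, map_zero, hdd] at this
    exact zero_ne_one this
  rw [finrank_eq_one_iff_of_nonzero' _ hne]
  intro w
  have hw : w ∈ Submodule.span (AdjoinRoot P)
      (Set.range (KaehlerDifferential.D E (AdjoinRoot P))) := by
    rw [KaehlerDifferential.span_range_derivation]; trivial
  induction hw using Submodule.span_induction with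
  | mem x hx =>
    obtain ⟨y, rfl⟩ := hx
    obtain ⟨q, rfl⟩ := AdjoinRoot.mk_surjective y
    rw [← AdjoinRoot.aeval_eq, Derivation.map_aeval]
    exact ⟨_, rfl⟩
  | zero => exact ⟨0, zero_smul _ _⟩
  | add x y _ _ hx hy =>
    obtain ⟨a, rfl⟩ := hx
    obtain ⟨b, rfl⟩ := hy
    exact ⟨a + b, add_smul _ _ _⟩
  | smul c x _ hx =>
    obtain ⟨a, rfl⟩ := hx
    exact ⟨c * a, mul_smul _ _ _⟩

end part1


section main

variable (k E : Type u) [Field k] [Field E] [Algebra k E] (P : E[X]) [Fact (Irreducible P)]

theorem s11582 (hP : Polynomial.derivative P = 0)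
    [Module.Finite E (KaehlerDifferential k E)] :
    Module.finrank (AdjoinRoot P) (KaehlerDifferential E (AdjoinRoot P)) = 1 ∧
      Module.finrank E (KaehlerDifferential k E) ≤
        Module.finrank (AdjoinRoot P) (KaehlerDifferential k (AdjoinRoot P)) ∧
      Module.finrank (AdjoinRoot P) (KaehlerDifferential k (AdjoinRoot P)) ≤
        Module.finrank E (KaehlerDifferential k E) + 1 := by
  classical
  have h1 := finrank_kaehler_self P hP
  let ρ := KaehlerDifferential.mapBaseChange k E (AdjoinRoot P)
  let μ := KaehlerDifferential.map k E (AdjoinRoot P) (AdjoinRoot P)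
  have hex : Function.Exact ρ μ := KaehlerDifferential.exact_mapBaseChange_map k E (AdjoinRoot P)
  have hsurj : Function.Surjective μ := KaehlerDifferential.map_surjective k E (AdjoinRoot P)
  have hn : Module.finrank (AdjoinRoot P) (TensorProduct E (AdjoinRoot P) (KaehlerDifferential k E))
      = Module.finrank E (KaehlerDifferential k E) := Module.finrank_baseChange
  haveI : FiniteDimensional (AdjoinRoot P) (KaehlerDifferential E (AdjoinRoot P)) :=
    Module.finite_of_finrank_pos (by rw [h1]; exact one_pos)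
  have hker : LinearMap.range ρ = LinearMap.ker μ := (LinearMap.exact_iff.1 hex).symm
  haveI : IsNoetherian (AdjoinRoot P) (KaehlerDifferential k (AdjoinRoot P)) :=
    isNoetherian_of_range_eq_ker ρ μ hker
  have hμ := LinearMap.finrank_range_add_finrank_ker μ
  rw [LinearMap.range_eq_top.2 hsurj, finrank_top, h1, ← hker] at hμ
  have hρ := LinearMap.finrank_range_add_finrank_ker ρ
  rw [hn] at hρ
  -- the kernel of ρ has dimension at most one
  let d₁ : Derivation k E (TensorProduct E (AdjoinRoot P) (KaehlerDifferential k E)) :=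
    (TensorProduct.mk E (AdjoinRoot P) (KaehlerDifferential k E) 1).compDer
      (KaehlerDifferential.D k E)
  let ω := ev P d₁ P
  let W : Submodule (AdjoinRoot P) (TensorProduct E (AdjoinRoot P) (KaehlerDifferential k E)) :=
    Submodule.span (AdjoinRoot P) {ω}
  let d₀ : Derivation k E (TensorProduct E (AdjoinRoot P) (KaehlerDifferential k E) ⧸ W) :=
    (W.mkQ.restrictScalars E).compDer d₁
  have h0 : ev P d₀ P = 0 := by
    rw [ev_nat]
    exact (Submodule.Quotient.mk_eq_zero W).2 (Submodule.mem_span_singleton_self ω)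
  obtain ⟨δ, hδ, -⟩ := exists_derivation P d₀ h0
  let L' := δ.liftKaehlerDifferential
  have hL1 : ∀ w : KaehlerDifferential k E,
      L' (KaehlerDifferential.map k k E (AdjoinRoot P) w) = W.mkQ ((1 : AdjoinRoot P) ⊗ₜ[E] w) := by
    intro w
    have hw : w ∈ Submodule.span E (Set.range (KaehlerDifferential.D k E)) := by
      rw [KaehlerDifferential.span_range_derivation]; trivial
    induction hw using Submodule.span_induction with
    | mem x hx =>
      obtain ⟨a, rfl⟩ := hx
      rw [KaehlerDifferential.map_D, Derivation.liftKaehlerDifferential_comp_D, hδ]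
      rfl
    | zero => simp
    | add x y _ _ hx hy => rw [map_add, map_add, hx, hy, TensorProduct.tmul_add, map_add]
    | smul c x _ hx =>
      rw [map_smul, TensorProduct.tmul_smul, ← algebraMap_smul (AdjoinRoot P) c, map_smul, hx,
        ← algebraMap_smul (AdjoinRoot P) c ((1 : AdjoinRoot P) ⊗ₜ[E] x), map_smul]
  have hL : ∀ z, L' (ρ z) = W.mkQ z := by
    intro z
    induction z using TensorProduct.induction_on with
    | zero => simp
    | tmul x w =>
      rw [KaehlerDifferential.mapBaseChange_tmul, map_smul, hL1, ← map_smul,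
        TensorProduct.smul_tmul', smul_eq_mul, mul_one]
    | add x y hx hy => rw [map_add, map_add, hx, hy, map_add]
  have hkerle : LinearMap.ker ρ ≤ W := by
    intro z hz
    have := hL z
    rw [LinearMap.mem_ker.1 hz, map_zero] at this
    exact (Submodule.Quotient.mk_eq_zero W).1 this.symm
  have hW : Module.finrank (AdjoinRoot P) W ≤ 1 := by
    by_cases hω : ω = 0
    · have : W = ⊥ := by
        show Submodule.span (AdjoinRoot P) {ω} = ⊥
        rw [hω, Submodule.span_singleton_eq_bot]
      rw [this, finrank_bot]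
      exact zero_le_one
    · exact (finrank_span_singleton hω).le
  have hk1 : Module.finrank (AdjoinRoot P) (LinearMap.ker ρ) ≤ 1 :=
    (Submodule.finrank_mono hkerle).trans hW
  have hrle := LinearMap.finrank_range_le ρ
  rw [hn] at hrle
  refine ⟨h1, ?_, ?_⟩ <;> omega

end main

end Groth.Agent.Helper17.KdInsep
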