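import Mathlib
import Groth.Prelude.Def_LocRes
import Groth.Prelude.Def_W4bk4goldsch23FF
import Groth.Prelude.Def_W4bk4goldsch23Ext

/-! Laurent expansions: valuation/order API and the lift of `d ∘ φ` to Kähler differentials. -/

namespace Groth.Agent.Helper17.LR

open LaurentSeries HahnSeries

section val

variable {F : Type*} [Field F]

lemma lt_exp_iff_le (x : WithZero (Multiplicative ℤ)) (n : ℤ) :
    x < WithZero.exp n ↔ x ≤ WithZero.exp (n - 1) := by
  rcases eq_or_ne x 0 with rfl | hx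
  · simp
  · obtain ⟨m, rfl⟩ : ∃ m, x = WithZero.exp m := ⟨WithZero.log x, (WithZero.exp_log hx).symm⟩
    rw [WithZero.exp_lt_exp, WithZero.exp_le_exp]
    omega

lemma val_eq_exp_neg_order {f : F⸨X⸩} (hf : f ≠ 0) :
    Valued.v f = WithZero.exp (-f.order) := by
  apply le_antisymm
  · exact (LaurentSeries.valuation_le_iff_coeff_lt_eq_zero F).2
      (fun n hn => HahnSeries.coeff_eq_zero_of_lt_order hn)
  · by_contra hcon
    rw [not_le, lt_exp_iff_le] at hcon
    have h1 : -f.order - 1 = -(f.order + 1) := by ring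
    rw [h1] at hcon
    have h2 := (LaurentSeries.valuation_le_iff_coeff_lt_eq_zero F).1 hcon f.order (by omega)
    exact hf (HahnSeries.coeff_order_eq_zero.1 h2)

lemma val_ne_zero {f : F⸨X⸩} (hf : f ≠ 0) : Valued.v f ≠ 0 := by
  rw [val_eq_exp_neg_order hf]; exact WithZero.exp_ne_zero

lemma val_le_exp_neg_iff {f : F⸨X⸩} (D : ℤ) :
    Valued.v f ≤ WithZero.exp (-D) ↔ ∀ n : ℤ, n < D → f.coeff n = 0 :=
  LaurentSeries.valuation_le_iff_coeff_lt_eq_zero F

/-- differentiation lowers the order by at most one -/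
lemma val_D_le (f : F⸨X⸩) (D : ℤ) (h : Valued.v f ≤ WithZero.exp (-D)) :
    Valued.v (LocRes.D F f) ≤ WithZero.exp (-(D - 1)) := by
  rw [val_le_exp_neg_iff] at h ⊢
  intro n hn
  rw [LocRes.D_coeff, h (n + 1) (by omega), smul_zero]

lemma ne_zero_of_val_eq {f : F⸨X⸩} {n : ℤ} (hf : Valued.v f = WithZero.exp (-n)) : f ≠ 0 := by
  rintro rfl
  rw [map_zero] at hf
  exact WithZero.exp_ne_zero hf.symm

lemma order_eq_of_val_eq {f : F⸨X⸩} {n : ℤ} (hf : Valued.v f = WithZero.exp (-n)) :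
    f.order = n := by
  have h0 := ne_zero_of_val_eq hf
  rw [val_eq_exp_neg_order h0] at hf
  have := WithZero.exp_injective hf
  omega

lemma coeff_ne_zero_of_val_eq {f : F⸨X⸩} {n : ℤ} (hf : Valued.v f = WithZero.exp (-n)) :
    f.coeff n ≠ 0 := by
  have h0 := ne_zero_of_val_eq hf
  rw [← order_eq_of_val_eq hf]
  exact fun h => h0 (HahnSeries.coeff_order_eq_zero.1 h)

/-- if `n ≠ 0` in `F`, differentiation lowers the order `n` by exactly one -/
lemma val_D_eq {f : F⸨X⸩} {n : ℤ} (hf : Valued.v f = WithZero.exp (-n)) (hn : (n : F) ≠ 0) :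
    Valued.v (LocRes.D F f) = WithZero.exp (-(n - 1)) := by
  apply le_antisymm (val_D_le f n hf.le)
  by_contra hcon
  rw [not_le, lt_exp_iff_le] at hcon
  have h1 : -(n - 1) - 1 = -n := by ring
  rw [h1, val_le_exp_neg_iff] at hcon
  have h2 := hcon (n - 1) (by omega)
  rw [LocRes.D_coeff, sub_add_cancel, zsmul_eq_mul] at h2
  rcases mul_eq_zero.1 h2 with h3 | h3
  · exact hn h3
  · exact coeff_ne_zero_of_val_eq hf h3

/-- if `n = 0` in `F`, differentiation does not lower the order `n`. -/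
lemma val_D_le_of_cast_eq_zero {f : F⸨X⸩} {n : ℤ} (hf : Valued.v f = WithZero.exp (-n))
    (hn : (n : F) = 0) : Valued.v (LocRes.D F f) ≤ WithZero.exp (-n) := by
  have h1 := (val_le_exp_neg_iff n).1 hf.le
  rw [val_le_exp_neg_iff]
  intro m hm
  rw [LocRes.D_coeff]
  rcases lt_or_eq_of_le (show m + 1 ≤ n by omega) with h | h
  · rw [h1 _ h, smul_zero]
  · rw [h, zsmul_eq_mul, hn, zero_mul]

end val

section omega

universe u v w

variable {k : Type u} {K : Type v} {F : Type w} [CommRing k] [CommRing K] [Field F]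
  [Algebra k K] [Algebra k F]

open scoped KaehlerDifferential

/-- the lift of `v ↦ (φ v)'` to Kähler differentials -/
noncomputable def omegaExp (φ : K →ₐ[k] F⸨X⸩) : Ω[K⁄k] →ₗ[k] F⸨X⸩ :=
  letI := φ.toRingHom.toAlgebra
  haveI : IsScalarTower k K F⸨X⸩ := LocRes.isScalarTower_exp φ
  ((LocRes.dExp φ).liftKaehlerDifferential).restrictScalars k

theorem omegaExp_smul_D (φ : K →ₐ[k] F⸨X⸩) (u v : K) :
    omegaExp φ (u • KaehlerDifferential.D k K v) = φ u * LocRes.D F (φ v) := by
  let _i := φ.toRingHom.toAlgebra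
  have _t : IsScalarTower k K F⸨X⸩ := LocRes.isScalarTower_exp φ
  simp only [omegaExp, LinearMap.coe_restrictScalars, map_smul,
    Derivation.liftKaehlerDifferential_comp_D]
  rfl

theorem omegaExp_D (φ : K →ₐ[k] F⸨X⸩) (v : K) :
    omegaExp φ (KaehlerDifferential.D k K v) = LocRes.D F (φ v) := by
  rw [← one_smul K (KaehlerDifferential.D k K v), omegaExp_smul_D, map_one, one_mul]

/-- if `dx' = h dx` then `(φ x')' = φ h (φ x)'`. -/
theorem D_exp_eq_of_smul (φ : K →ₐ[k] F⸨X⸩) {x x' h : K}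
    (hh : h • KaehlerDifferential.D k K x = KaehlerDifferential.D k K x') :
    LocRes.D F (φ x') = φ h * LocRes.D F (φ x) := by
  rw [← omegaExp_D, ← hh, omegaExp_smul_D]

lemma vDiff_one (φ : K →ₐ[k] F⸨X⸩) (x : K) :
    LocRes.vDiff φ 1 x = Valued.v (LocRes.D F (φ x)) := by
  unfold LocRes.vDiff
  rw [map_one, one_mul]

end omega

end Groth.Agent.Helper17.LR
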