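import Mathlib
import Groth.Agent.Lib.Helper17.LR
import Groth.Agent.Lib.Helper17.FFSep

/-! Different exponents through expansions: independence of the differential. -/

namespace Groth.Agent.Helper17.LR

open LaurentSeries HahnSeries FunFld

universe u v w

variable {k : Type u} {K K' : Type v} [Field k] [Field K] [Field K'] [Algebra k K] [Algebra K K']
  [Algebra k K'] [IsScalarTower k K K']

/-- the expansion of `K` obtained by restricting an expansion of `K'`. -/
noncomputable def restr {F' : Type w} [Field F'] [Algebra k F'] (ψ : K' →ₐ[k] LaurentSeries F') :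
    K →ₐ[k] LaurentSeries F' := ψ.comp (IsScalarTower.toAlgHom k K K')

@[simp] lemma restr_apply {F' : Type w} [Field F'] [Algebra k F'] (ψ : K' →ₐ[k] LaurentSeries F')
    (x : K) : restr ψ x = ψ (algebraMap K K' x) := rfl

lemma vDiff_restr {F' : Type w} [Field F'] [Algebra k F'] (ψ : K' →ₐ[k] LaurentSeries F')
    (u x : K) : LocRes.vDiff (restr ψ) u x = LocRes.vDiff ψ (algebraMap K K' u) (algebraMap K K' x) :=
  rfl

/-- `dx' = h dx` for some `h`, when `dx ≠ 0` read through an expansion. -/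
theorem exists_smul_D_eq (hK : IsFunctionField k K) (hg : IsGeometric k K)
    {F : Type w} [Field F] [Algebra k F] (φ : K →ₐ[k] LaurentSeries F) {x : K}
    (hx : LocRes.vDiff φ 1 x ≠ 0) (x' : K) :
    ∃ h : K, h • KaehlerDifferential.D k K x = KaehlerDifferential.D k K x' := by
  have hrank := Groth.Agent.Helper17.FF.finrank_kaehler hK hg
  have hD : KaehlerDifferential.D k K x ≠ 0 := by
    intro h0
    apply hx
    rw [vDiff_one, ← omegaExp_D, h0, map_zero, map_zero]
  exact exists_smul_eq_of_finrank_eq_one hrank hD _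

theorem vDiff_eq_of_smul {F : Type w} [Field F] [Algebra k F] (φ : K →ₐ[k] LaurentSeries F)
    {x x' h : K} (hh : h • KaehlerDifferential.D k K x = KaehlerDifferential.D k K x') :
    LocRes.vDiff φ 1 x' = Valued.v (φ h) * LocRes.vDiff φ 1 x := by
  rw [vDiff_one, vDiff_one, D_exp_eq_of_smul φ hh, map_mul]

theorem diffExp_indep (hK : IsFunctionField k K) (hg : IsGeometric k K)
    {F F' : Type w} [Field F] [Algebra k F] [Field F'] [Algebra k F']
    (P : Place k K) (Q : Place k K') (e : ℕ) (he : IsOverWith Q P e)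
    (φ : K →ₐ[k] LaurentSeries F) (hφ : LocRes.IsExpansionAt P.1 φ)
    (ψ : K' →ₐ[k] LaurentSeries F') (hψ : LocRes.IsExpansionAt Q.1 ψ)
    (x : K) (hx : LocRes.vDiff φ 1 x ≠ 0) (hx' : LocRes.vDiff ψ 1 (algebraMap K K' x) ≠ 0)
    (x' : K) (hx2 : LocRes.vDiff φ 1 x' ≠ 0) (hx2' : LocRes.vDiff ψ 1 (algebraMap K K' x') ≠ 0) :
    LocRes.diffExp φ ψ e x = LocRes.diffExp φ ψ e x' := by
  obtain ⟨h, hh⟩ := exists_smul_D_eq hK hg φ hx x'
  have h1 := vDiff_eq_of_smul φ hh
  have h2 := vDiff_eq_of_smul (restr ψ) hh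
  have e1 : LocRes.vDiff (restr ψ) 1 x = LocRes.vDiff ψ 1 (algebraMap K K' x) := by
    rw [vDiff_restr, map_one]
  have e2 : LocRes.vDiff (restr ψ) 1 x' = LocRes.vDiff ψ 1 (algebraMap K K' x') := by
    rw [vDiff_restr, map_one]
  rw [e1, e2, restr_apply, hψ.1, he h] at h2
  rw [hφ.1] at h1
  have hPh : P.1 h ≠ 0 := by
    intro h0
    rw [h0, zero_mul] at h1
    exact hx2 h1
  unfold LocRes.diffExp LocRes.ordDiff
  rw [h1, h2, WithZero.log_mul hPh hx, WithZero.log_mul (pow_ne_zero e hPh) hx', WithZero.log_pow]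
  simp only [smul_eq_mul, nsmul_eq_mul]
  ring

theorem diffExp_tame_wild (hK : IsFunctionField k K) (hg : IsGeometric k K)
    {F F' : Type w} [Field F] [Algebra k F] [Field F'] [Algebra k F']
    (P : Place k K) (Q : Place k K') (e : ℕ) (he : IsOverWith Q P e)
    (φ : K →ₐ[k] LaurentSeries F) (hφ : LocRes.IsExpansionAt P.1 φ)
    (ψ : K' →ₐ[k] LaurentSeries F') (hψ : LocRes.IsExpansionAt Q.1 ψ)
    (x : K) (hx : LocRes.vDiff φ 1 x ≠ 0) (hx' : LocRes.vDiff ψ 1 (algebraMap K K' x) ≠ 0) :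
    (¬ (ringChar K ∣ e) → LocRes.diffExp φ ψ e x = (e : ℤ) - 1) ∧
    (ringChar K ∣ e → (e : ℤ) ≤ LocRes.diffExp φ ψ e x) := by
  obtain ⟨t, ht⟩ := hφ.2.2
  have hvt : Valued.v (φ t) = WithZero.exp (-(1 : ℤ)) := by rw [hφ.1, ht]
  have hDt : Valued.v (LocRes.D F (φ t)) = WithZero.exp (-((1 : ℤ) - 1)) :=
    val_D_eq hvt (by simp)
  have hvDt : LocRes.vDiff φ 1 t = 1 := by
    rw [vDiff_one, hDt]; simp
  have hvt_ne : LocRes.vDiff φ 1 t ≠ 0 := by rw [hvDt]; exact one_ne_zero
  have hvψt : Valued.v (ψ (algebraMap K K' t)) = WithZero.exp (-(e : ℤ)) := by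
    rw [hψ.1, he t, ht, ← WithZero.exp_nsmul]
    congr 1
    simp
  obtain ⟨h, hh⟩ := exists_smul_D_eq hK hg φ hvt_ne x
  have h2 := vDiff_eq_of_smul (restr ψ) hh
  have e1 : LocRes.vDiff (restr ψ) 1 x = LocRes.vDiff ψ 1 (algebraMap K K' x) := by
    rw [vDiff_restr, map_one]
  have e2 : LocRes.vDiff (restr ψ) 1 t = LocRes.vDiff ψ 1 (algebraMap K K' t) := by
    rw [vDiff_restr, map_one]
  rw [e1, e2] at h2
  have hψt_ne : LocRes.vDiff ψ 1 (algebraMap K K' t) ≠ 0 := by
    intro h0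
    rw [h0, mul_zero] at h2
    exact hx' h2
  have key := diffExp_indep hK hg P Q e he φ hφ ψ hψ x hx hx' t hvt_ne hψt_ne
  rw [key]
  have hord0 : LocRes.ordDiff φ 1 t = 0 := by
    unfold LocRes.ordDiff
    rw [hvDt]; simp
  have hchar : ringChar F' = ringChar K := by
    rw [← Algebra.ringChar_eq k F', ← Algebra.ringChar_eq k K]
  have hvψ1 : LocRes.vDiff ψ 1 (algebraMap K K' t) =
      Valued.v (LocRes.D F' (ψ (algebraMap K K' t))) := by
    unfold LocRes.vDiff
    rw [map_one, one_mul]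
  unfold LocRes.diffExp
  rw [hord0, mul_zero, sub_zero]
  constructor
  · intro hnd
    have hne : (((e : ℕ) : ℤ) : F') ≠ 0 := by
      rw [Int.cast_natCast]
      intro h0
      apply hnd
      rw [← hchar]
      exact (ringChar.spec F' e).1 h0
    have := val_D_eq hvψt hne
    unfold LocRes.ordDiff
    rw [hvψ1, this, WithZero.log_exp]
    ring
  · intro hd
    have heq : (((e : ℕ) : ℤ) : F') = 0 := by
      rw [Int.cast_natCast]
      rw [← hchar] at hd
      exact (ringChar.spec F' e).2 hd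
    have := val_D_le_of_cast_eq_zero hvψt heq
    unfold LocRes.ordDiff
    rw [hvψ1] at hψt_ne ⊢
    have h3 := (WithZero.log_le_iff_le_exp hψt_ne).2 this
    linarith

end Groth.Agent.Helper17.LR
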