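import Mathlib
import Groth.Agent.Lib.Helper17.Cub

open MvPolynomial

namespace Groth.Agent.Helper17.LinMat

universe u
variable {k : Type u} [Field k]

section L
variable {V : Type*} [AddCommGroup V] [Module k V]

lemma eq_smul_of_ker_le (a b : V →ₗ[k] k) (h : ∀ x, a x = 0 → b x = 0) :
    ∃ c : k, ∀ x, b x = c * a x := by
  by_cases ha : ∀ x, a x = 0
  · exact ⟨0, fun x => by rw [h x (ha x), zero_mul]⟩
  · push Not at ha
    obtain ⟨w₀, hw₀⟩ := ha
    refine ⟨b w₀ / a w₀, fun x => ?_⟩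
    have := h (x - (a x / a w₀) • w₀)
      (by rw [map_sub, map_smul, smul_eq_mul, div_mul_cancel₀ _ hw₀, sub_self])
    rw [map_sub, map_smul, smul_eq_mul, sub_eq_zero] at this
    rw [this]
    field_simp

lemma prod_zero (a b c : V →ₗ[k] k) (h : ∀ x, a x = 0 → b x * c x = 0) :
    (∃ l : k, ∀ x, b x = l * a x) ∨ (∃ l : k, ∀ x, c x = l * a x) := by
  by_contra hcon
  push Not at hcon
  obtain ⟨hb, hc⟩ := hcon
  have hb' : ∃ x, a x = 0 ∧ b x ≠ 0 := by
    by_contra h1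
    push Not at h1
    obtain ⟨l, hl⟩ := eq_smul_of_ker_le a b h1
    obtain ⟨x, hx⟩ := hb l
    exact hx (hl x)
  have hc' : ∃ x, a x = 0 ∧ c x ≠ 0 := by
    by_contra h1
    push Not at h1
    obtain ⟨l, hl⟩ := eq_smul_of_ker_le a c h1
    obtain ⟨x, hx⟩ := hc l
    exact hx (hl x)
  obtain ⟨x, hax, hbx⟩ := hb'
  obtain ⟨y, hay, hcy⟩ := hc'
  have hcx : c x = 0 := (mul_eq_zero.1 (h x hax)).resolve_left hbx
  have hby : b y = 0 := (mul_eq_zero.1 (h y hay)).resolve_right hcy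
  have h3 := h (x + y) (by rw [map_add, hax, hay, add_zero])
  rw [map_add, map_add, hcx, hby, add_zero, zero_add] at h3
  exact (mul_ne_zero hbx hcy) h3

lemma singular_pencil (a b c d : V →ₗ[k] k) (h : ∀ x, a x * d x = b x * c x) :
    (∃ v₀ v₁ : k, (v₀ ≠ 0 ∨ v₁ ≠ 0) ∧
      ∀ x, v₀ * a x + v₁ * b x = 0 ∧ v₀ * c x + v₁ * d x = 0) ∨
    (∃ u₀ u₁ : k, (u₀ ≠ 0 ∨ u₁ ≠ 0) ∧
      ∀ x, u₀ * a x + u₁ * c x = 0 ∧ u₀ * b x + u₁ * d x = 0) := by
  have hP := prod_zero a b c (fun x hx => by rw [← h, hx, zero_mul])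
  by_cases ha : ∀ x, a x = 0
  · rcases hP with ⟨l, hl⟩ | ⟨l, hl⟩
    · right
      exact ⟨1, 0, Or.inl one_ne_zero, fun x => ⟨by rw [ha x]; ring, by rw [hl x, ha x]; ring⟩⟩
    · left
      exact ⟨1, 0, Or.inl one_ne_zero, fun x => ⟨by rw [ha x]; ring, by rw [hl x, ha x]; ring⟩⟩
  · have hzero : ∀ (f : V →ₗ[k] k), (∀ x, a x * f x = 0) → ∀ x, f x = 0 := by
      intro f hf
      have := prod_zero (0 : V →ₗ[k] k) a f (fun x _ => hf x)
      rcases this with ⟨l, hl⟩ | ⟨l, hl⟩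
      · exfalso
        apply ha
        intro x
        rw [hl x]
        simp
      · intro x
        rw [hl x]
        simp
    rcases hP with ⟨l, hl⟩ | ⟨l, hl⟩
    · have hd := hzero (d - l • c) (fun x => by
        simp only [LinearMap.sub_apply, LinearMap.smul_apply, smul_eq_mul]
        have := h x
        rw [hl x] at this
        linear_combination this)
      left
      refine ⟨l, -1, Or.inr (by simp), fun x => ⟨by rw [hl x]; ring, ?_⟩⟩
      have := hd x
      simp only [LinearMap.sub_apply, LinearMap.smul_apply, smul_eq_mul] at this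
      linear_combination -this
    · have hd := hzero (d - l • b) (fun x => by
        simp only [LinearMap.sub_apply, LinearMap.smul_apply, smul_eq_mul]
        have := h x
        rw [hl x] at this
        linear_combination this)
      right
      refine ⟨l, -1, Or.inr (by simp), fun x => ⟨by rw [hl x]; ring, ?_⟩⟩
      have := hd x
      simp only [LinearMap.sub_apply, LinearMap.smul_apply, smul_eq_mul] at this
      linear_combination -this

end L

lemma exists_perp (s t : k) : ∃ p q : k, (p ≠ 0 ∨ q ≠ 0) ∧ p * s + q * t = 0 := by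
  by_cases h : s = 0 ∧ t = 0
  · exact ⟨1, 0, Or.inl one_ne_zero, by rw [h.1, h.2]; ring⟩
  · refine ⟨t, -s, ?_, by ring⟩
    by_contra hcon
    push Not at hcon
    exact h ⟨neg_eq_zero.1 hcon.2, hcon.1⟩

lemma exists_gl_row (u₀ u₁ : k) (hu : u₀ ≠ 0 ∨ u₁ ≠ 0) :
    ∃ g : GL (Fin 2) k, g.val 0 0 = u₀ ∧ g.val 0 1 = u₁ := by
  by_cases h0 : u₀ = 0
  · have h1 : u₁ ≠ 0 := hu.resolve_left (fun h => h h0)
    refine ⟨Matrix.GeneralLinearGroup.mkOfDetNeZero !![u₀, u₁; 1, 0] ?_, rfl, rfl⟩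
    rw [Matrix.det_fin_two_of]
    simpa using h1
  · refine ⟨Matrix.GeneralLinearGroup.mkOfDetNeZero !![u₀, u₁; 0, 1] ?_, rfl, rfl⟩
    rw [Matrix.det_fin_two_of]
    simpa using h0

lemma exists_gl_col (v₀ v₁ : k) (hv : v₀ ≠ 0 ∨ v₁ ≠ 0) :
    ∃ g : GL (Fin 2) k, g.val 0 1 = v₀ ∧ g.val 1 1 = v₁ := by
  by_cases h1 : v₁ = 0
  · have h0 : v₀ ≠ 0 := hv.resolve_right (fun h => h h1)
    refine ⟨Matrix.GeneralLinearGroup.mkOfDetNeZero !![0, v₀; 1, v₁] ?_, rfl, rfl⟩
    rw [Matrix.det_fin_two_of]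
    simpa using h0
  · refine ⟨Matrix.GeneralLinearGroup.mkOfDetNeZero !![1, v₀; 0, v₁] ?_, rfl, rfl⟩
    rw [Matrix.det_fin_two_of]
    simpa using h1

lemma exists_functional {ℓ : MvPolynomial (Fin 3) k} (hℓ : ℓ.IsHomogeneous 1) :
    ∃ φ : (Fin 3 → k) →ₗ[k] k, ∀ w, φ w = eval w ℓ := by
  obtain ⟨a, ha⟩ := Cub.linear_form hℓ
  refine ⟨∑ i, a i • LinearMap.proj i, fun w => ?_⟩
  rw [ha w]
  simp [LinearMap.sum_apply, mul_comm]

lemma hom_entry (G H : Matrix (Fin 2) (Fin 2) k)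
    (M : Matrix (Fin 2) (Fin 2) (MvPolynomial (Fin 3) k))
    (hM : ∀ a b : Fin 2, (M a b).IsHomogeneous 1) (i j : Fin 2) :
    (((MvPolynomial.C : k →+* MvPolynomial (Fin 3) k).mapMatrix G * M *
        (MvPolynomial.C : k →+* MvPolynomial (Fin 3) k).mapMatrix H) i j).IsHomogeneous 1 := by
  simp only [Matrix.mul_apply, RingHom.mapMatrix_apply, Matrix.map_apply]
  apply IsHomogeneous.sum
  intro b _
  rw [mul_comm]
  apply IsHomogeneous.C_mul
  apply IsHomogeneous.sum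
  intro a _
  exact (hM a b).C_mul _

theorem s13912 (k : Type u) [Field k] [IsAlgClosed k] [CharZero k]
    (M : Matrix (Fin 2) (Fin 2) (MvPolynomial (Fin 3) k))
    (hM : ∀ a b : Fin 2, (M a b).IsHomogeneous 1) :
    (∃ l₁ l₂ : MvPolynomial (Fin 3) k, l₁.IsHomogeneous 1 ∧ l₂.IsHomogeneous 1 ∧
      M.det = l₁ * l₂) ↔
    ∃ g h : GL (Fin 2) k,
      ((MvPolynomial.C : k →+* MvPolynomial (Fin 3) k).mapMatrix g.val * M *
        (MvPolynomial.C : k →+* MvPolynomial (Fin 3) k).mapMatrix h.val) 0 1 = 0 := by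
  constructor
  · rintro ⟨l₁, l₂, hl₁, hl₂, hdet⟩
    obtain ⟨fa, hfa⟩ := exists_functional (hM 0 0)
    obtain ⟨fb, hfb⟩ := exists_functional (hM 0 1)
    obtain ⟨fc, hfc⟩ := exists_functional (hM 1 0)
    obtain ⟨fd, hfd⟩ := exists_functional (hM 1 1)
    obtain ⟨f1, hf1⟩ := exists_functional hl₁
    obtain ⟨f2, hf2⟩ := exists_functional hl₂
    have hev : ∀ w, fa w * fd w - fb w * fc w = f1 w * f2 w := by
      intro w
      have := congrArg (eval w) hdet
      rw [Matrix.det_fin_two, map_sub, map_mul, map_mul, map_mul] at this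
      rw [hfa, hfb, hfc, hfd, hf1, hf2]
      exact this
    have key : ∃ u₀ u₁ v₀ v₁ : k, (u₀ ≠ 0 ∨ u₁ ≠ 0) ∧ (v₀ ≠ 0 ∨ v₁ ≠ 0) ∧
        ∀ w, u₀ * v₀ * fa w + u₀ * v₁ * fb w + u₁ * v₀ * fc w + u₁ * v₁ * fd w = 0 := by
      let ι := (LinearMap.ker f1).subtype
      have hpen := singular_pencil (fa.comp ι) (fb.comp ι) (fc.comp ι) (fd.comp ι) (by
        intro x
        have h1 := hev x.1
        have h2 : f1 x.1 = 0 := x.2
        rw [h2, zero_mul, sub_eq_zero] at h1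
        exact h1)
      rcases hpen with ⟨v₀, v₁, hv, hvx⟩ | ⟨u₀, u₁, hu, hux⟩
      · obtain ⟨s, hs⟩ := eq_smul_of_ker_le f1 (v₀ • fa + v₁ • fb) (by
          intro x hx
          have := (hvx ⟨x, hx⟩).1
          simpa [ι] using this)
        obtain ⟨t, ht⟩ := eq_smul_of_ker_le f1 (v₀ • fc + v₁ • fd) (by
          intro x hx
          have := (hvx ⟨x, hx⟩).2
          simpa [ι] using this)
        obtain ⟨u₀, u₁, hu, hust⟩ := exists_perp s t
        refine ⟨u₀, u₁, v₀, v₁, hu, hv, fun w => ?_⟩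
        have h1 := hs w
        have h2 := ht w
        simp only [LinearMap.add_apply, LinearMap.smul_apply, smul_eq_mul] at h1 h2
        linear_combination u₀ * h1 + u₁ * h2 + f1 w * hust
      · obtain ⟨s, hs⟩ := eq_smul_of_ker_le f1 (u₀ • fa + u₁ • fc) (by
          intro x hx
          have := (hux ⟨x, hx⟩).1
          simpa [ι] using this)
        obtain ⟨t, ht⟩ := eq_smul_of_ker_le f1 (u₀ • fb + u₁ • fd) (by
          intro x hx
          have := (hux ⟨x, hx⟩).2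
          simpa [ι] using this)
        obtain ⟨v₀, v₁, hv, hvst⟩ := exists_perp s t
        refine ⟨u₀, u₁, v₀, v₁, hu, hv, fun w => ?_⟩
        have h1 := hs w
        have h2 := ht w
        simp only [LinearMap.add_apply, LinearMap.smul_apply, smul_eq_mul] at h1 h2
        linear_combination v₀ * h1 + v₁ * h2 + f1 w * hvst
    obtain ⟨u₀, u₁, v₀, v₁, hu, hv, hkey⟩ := key
    obtain ⟨g, hg0, hg1⟩ := exists_gl_row u₀ u₁ hu
    obtain ⟨h, hh0, hh1⟩ := exists_gl_col v₀ v₁ hv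
    refine ⟨g, h, ?_⟩
    apply MvPolynomial.funext
    intro w
    simp only [Matrix.mul_apply, Fin.sum_univ_two, RingHom.mapMatrix_apply, Matrix.map_apply,
      map_add, map_mul, eval_C, map_zero]
    rw [hg0, hg1, hh0, hh1, ← hfa, ← hfb, ← hfc, ← hfd]
    linear_combination hkey w
  · rintro ⟨g, h, h01⟩
    set N := (MvPolynomial.C : k →+* MvPolynomial (Fin 3) k).mapMatrix g.val * M *
        (MvPolynomial.C : k →+* MvPolynomial (Fin 3) k).mapMatrix h.val with hN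
    have hdetN : N.det = C (g.val.det) * M.det * C (h.val.det) := by
      rw [hN, Matrix.det_mul, Matrix.det_mul, ← RingHom.map_det, ← RingHom.map_det]
    have hN2 : N.det = N 0 0 * N 1 1 := by
      rw [Matrix.det_fin_two, h01]
      ring
    have hg : g.val.det ≠ 0 := ((Matrix.isUnit_iff_isUnit_det _).1 (Units.isUnit g)).ne_zero
    have hh : h.val.det ≠ 0 := ((Matrix.isUnit_iff_isUnit_det _).1 (Units.isUnit h)).ne_zero
    refine ⟨C ((g.val.det)⁻¹ * (h.val.det)⁻¹) * N 0 0, N 1 1,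
      (hom_entry g.val h.val M hM 0 0).C_mul _, hom_entry g.val h.val M hM 1 1, ?_⟩
    rw [mul_assoc, ← hN2, hdetN]
    have : (C ((g.val.det)⁻¹ * (h.val.det)⁻¹) : MvPolynomial (Fin 3) k) * (C (g.val.det) * M.det * C (h.val.det))
        = C ((g.val.det)⁻¹ * (h.val.det)⁻¹ * g.val.det * h.val.det) * M.det := by
      simp only [map_mul]
      ring
    rw [this]
    have h1 : (g.val.det)⁻¹ * (h.val.det)⁻¹ * g.val.det * h.val.det = 1 := by
      field_simp
    rw [h1, map_one, one_mul]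

end Groth.Agent.Helper17.LinMat
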