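import Mathlib
import Groth.Prelude.Def_Flat
import Groth.Agent.Lib.Helper17.FieldBC

set_option autoImplicit false
universe u
open CategoryTheory CategoryTheory.Limits AlgebraicGeometry TopologicalSpace Topology TensorProduct

namespace Groth.Agent.Helper17.LocDimBC

open Groth.Agent.Helper17.FieldBC

section Top
variable {X Y : Type*} [TopologicalSpace X] [TopologicalSpace Y]

theorem dim_eq_spec (X : Type*) [TopologicalSpace X] [QuasiSober X] [T0Space X] :
    topologicalKrullDim X = @Order.krullDim X (specializationPreorder X) := by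
  letI := specializationOrder X
  exact Order.krullDim_eq_of_orderIso irreducibleSetEquivPoints

theorem dim_image_le [QuasiSober X] [T0Space X] [QuasiSober Y] [T0Space Y] (f : X → Y)
    (hf : Continuous f) (hg : GeneralizingMap f) (W : Set X) (hW : IsOpen W)
    (hfW : IsOpen (f '' W)) :
    topologicalKrullDim ↥(f '' W) ≤ topologicalKrullDim ↥W := by
  haveI : QuasiSober ↥W := hW.isOpenEmbedding_subtypeVal.quasiSober
  haveI : QuasiSober ↥(f '' W) := hfW.isOpenEmbedding_subtypeVal.quasiSober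
  rw [dim_eq_spec, dim_eq_spec]
  let g : ↥W → ↥(f '' W) := fun w => ⟨f w, w, w.2, rfl⟩
  refine @krullDim_le_of_fibration _ _ (specializationPreorder _) (specializationPreorder _) g
    ?_ ?_ ?_
  · intro a b hab
    show g b ⤳ g a
    rw [subtype_specializes_iff]
    exact ((subtype_specializes_iff _ _).mp hab).map hf
  · intro a b hab
    have h1 : (b : Y) ⤳ f a := (subtype_specializes_iff _ _).mp hab
    obtain ⟨a', ha', hfa'⟩ := hg h1
    have ha'W : a' ∈ W := ha'.mem_open hW a.2
    exact ⟨⟨a', ha'W⟩, (subtype_specializes_iff _ _).mpr ha', Subtype.ext hfa'⟩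
  · rintro ⟨_, w, hw, rfl⟩
    exact ⟨⟨w, hw⟩, rfl⟩

theorem localDim_le_of_homeo (e : X ≃ₜ Y) (x : X) :
    FlatMor.localDim Y (e x) ≤ FlatMor.localDim X x := by
  unfold FlatMor.localDim
  refine le_iInf fun U => ?_
  refine iInf_le_of_le ⟨⟨e '' U.1, e.isOpenMap _ U.1.2⟩, ⟨x, U.2, rfl⟩⟩ ?_
  exact (IsHomeomorph.topologicalKrullDim_eq _ (e.image U.1.1).isHomeomorph).ge

theorem localDim_homeo (e : X ≃ₜ Y) (x : X) :
    FlatMor.localDim Y (e x) = FlatMor.localDim X x := by
  apply le_antisymm (localDim_le_of_homeo e x)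
  have := localDim_le_of_homeo e.symm (e x)
  rwa [e.symm_apply_apply] at this

end Top

theorem dim_preimage_open {k K : Type u} [Field k] [Field K] (ψ : k →+* K) {Z P : Scheme.{u}}
    (h : Z ⟶ Spec (CommRingCat.of k)) [LocallyOfFiniteType h] (π : P ⟶ Z)
    (q : P ⟶ Spec (CommRingCat.of K)) (hp : IsPullback π q h (Spec.map (CommRingCat.ofHom ψ)))
    (U : Z.Opens) :
    topologicalKrullDim ↥(π ⁻¹ᵁ U) = topologicalKrullDim ↥U := by
  have h1 : IsPullback (π ∣_ U) (π ⁻¹ᵁ U).ι U.ι π := isPullback_morphismRestrict π U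
  have h2 := h1.paste_vert hp
  exact dim_eq_of_isPullback ψ (U.ι ≫ h) (π ∣_ U) ((π ⁻¹ᵁ U).ι ≫ q) h2

section Main
variable {k S K : Type u} [Field k] [CommRing S] [Algebra k S] [Algebra.FiniteType k S] [Field K]
  [Algebra k K]

theorem hp_spec : IsPullback
    (Spec.map (CommRingCat.ofHom (Algebra.TensorProduct.includeLeftRingHom : S →+* S ⊗[k] K)))
    (Spec.map (CommRingCat.ofHom
      ((Algebra.TensorProduct.includeRight : K →ₐ[k] S ⊗[k] K).toRingHom)))
    (Spec.map (CommRingCat.ofHom (algebraMap k S)))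
    (Spec.map (CommRingCat.ofHom (algebraMap k K))) :=
  isPullback_SpecMap_of_isPushout _ _ _ _ (CommRingCat.isPushout_tensorProduct k S K)

theorem localDim_T' (y : PrimeSpectrum (S ⊗[k] K)) :
    FlatMor.localDim (PrimeSpectrum (S ⊗[k] K)) y =
      FlatMor.localDim (PrimeSpectrum S) (PrimeSpectrum.comap (algebraMap S (S ⊗[k] K)) y) := by
  set π := PrimeSpectrum.comap (algebraMap S (S ⊗[k] K)) with hπ
  have hcont : Continuous π := PrimeSpectrum.continuous_comap _
  have hopen : IsOpenMap π := PrimeSpectrum.isOpenMap_comap_algebraMap_tensorProduct_of_field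
  have hgen : GeneralizingMap π :=
    RingHom.Flat.generalizingMap_comap (RingHom.flat_algebraMap_iff.mpr inferInstance)
  haveI : LocallyOfFiniteType (Spec.map (CommRingCat.ofHom (algebraMap k S))) :=
    (HasRingHomProperty.Spec_iff (P := @LocallyOfFiniteType)).mpr
      (RingHom.finiteType_algebraMap.mpr inferInstance)
  have hA : ∀ U : Opens (PrimeSpectrum S),
      topologicalKrullDim ↥(π ⁻¹' (U : Set (PrimeSpectrum S))) =
        topologicalKrullDim ↥(U : Set (PrimeSpectrum S)) := by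
    intro U
    exact dim_preimage_open (algebraMap k K) (Spec.map (CommRingCat.ofHom (algebraMap k S)))
      _ _ (hp_spec (k := k) (S := S) (K := K)) U
  apply le_antisymm
  · unfold FlatMor.localDim
    refine le_iInf fun U => ?_
    refine iInf_le_of_le ⟨⟨π ⁻¹' U.1, U.1.2.preimage hcont⟩, U.2⟩ ?_
    exact (hA U.1).le
  · unfold FlatMor.localDim
    refine le_iInf fun W => ?_
    refine iInf_le_of_le ⟨⟨π '' W.1, hopen _ W.1.2⟩, ⟨y, W.2, rfl⟩⟩ ?_
    exact dim_image_le π hcont hgen W.1 W.1.2 (hopen _ W.1.2)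

theorem s2142 (q : Ideal S) [q.IsPrime] (qK : Ideal (K ⊗[k] S)) [qK.IsPrime]
    (hq : qK.comap (Algebra.TensorProduct.includeRight.toRingHom : S →+* K ⊗[k] S) = q) :
    FlatMor.localDim (PrimeSpectrum (K ⊗[k] S)) ⟨qK, inferInstance⟩ =
      FlatMor.localDim (PrimeSpectrum S) ⟨q, inferInstance⟩ := by
  let e : (K ⊗[k] S) ≃+* (S ⊗[k] K) := (Algebra.TensorProduct.comm k K S).toRingEquiv
  let he := PrimeSpectrum.homeomorphOfRingEquiv e
  rw [← localDim_homeo he ⟨qK, inferInstance⟩, localDim_T']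
  congr 1
  apply PrimeSpectrum.ext
  show Ideal.comap (algebraMap S (S ⊗[k] K)) (Ideal.comap (e.symm : (S ⊗[k] K) →+* (K ⊗[k] S)) qK)
    = q
  rw [Ideal.comap_comap, ← hq]
  congr 1
  all_goals (ext s; simp [e])

end Main

end Groth.Agent.Helper17.LocDimBC
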