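import Mathlib

set_option autoImplicit false

namespace Groth.Agent.Helper17.LocTri

open CategoryTheory CategoryTheory.Limits CategoryTheory.Pretriangulated

universe u v u' v'

theorem isZero_of_retract {C : Type u} [Category.{v} C] {X W : C} (i : X ⟶ W) (p : W ⟶ X)
    (h : i ≫ p = 𝟙 X) (hW : IsZero W) : IsZero X := by
  constructor
  · intro Y
    refine ⟨⟨⟨i ≫ hW.to_ Y⟩, fun g => ?_⟩⟩
    calc g = (i ≫ p) ≫ g := by rw [h, Category.id_comp]
      _ = i ≫ (p ≫ g) := Category.assoc _ _ _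
      _ = i ≫ hW.to_ Y := by rw [hW.eq_of_src (p ≫ g) (hW.to_ Y)]
  · intro Y
    refine ⟨⟨⟨hW.from_ Y ≫ p⟩, fun g => ?_⟩⟩
    calc g = g ≫ (i ≫ p) := by rw [h, Category.comp_id]
      _ = (g ≫ i) ≫ p := (Category.assoc _ _ _).symm
      _ = hW.from_ Y ≫ p := by rw [hW.eq_of_tgt (g ≫ i) (hW.from_ Y)]

section General

variable {C : Type u} [Category.{v} C] [Preadditive C] [HasZeroObject C] [HasShift C ℤ]
    [∀ n : ℤ, (shiftFunctor C n).Additive] [Pretriangulated C]
    {E : Type u'} [Category.{v'} E] [Preadditive E] [HasZeroObject E] [HasShift E ℤ]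
    [∀ n : ℤ, (shiftFunctor E n).Additive] [Pretriangulated E]
    (L : C ⥤ E) [L.CommShift ℤ] [L.IsTriangulated]

theorem isZero_obj₃_iff (T : Triangle C) (hT : T ∈ distTriang C) :
    IsZero (L.obj T.obj₃) ↔ IsIso (L.map T.mor₁) :=
  Triangle.isZero₃_iff_isIso₁ _ (L.map_distinguished T hT)

theorem trW_isZero_iff {X Y : C} (f : X ⟶ Y) :
    ObjectProperty.trW (fun Z : C => IsZero (L.obj Z)) f ↔ IsIso (L.map f) := by
  constructor
  · rintro ⟨Z, g, h, hT, hZ⟩
    exact (isZero_obj₃_iff L _ hT).1 hZ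
  · intro hf
    obtain ⟨Z, g, h, hT⟩ := distinguished_cocone_triangle f
    exact ⟨Z, g, h, hT, (isZero_obj₃_iff L _ hT).2 hf⟩

end General

section Loc

variable {D : Type u} [Category.{v} D] [Preadditive D] [HasZeroObject D] [HasShift D ℤ]
    [∀ n : ℤ, (shiftFunctor D n).Additive] [Pretriangulated D]
    (S : MorphismProperty D) [S.HasLeftCalculusOfFractions]
    {E : Type u'} [Category.{v'} E] (Q : D ⥤ E) [Q.IsLocalization S]

omit [HasZeroObject D] [∀ (n : ℤ), (shiftFunctor D n).Additive] [Pretriangulated D] in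
theorem isZero_of_zero_mem_right {Z' Z : D} (h : S (0 : Z' ⟶ Z)) : IsZero (Q.obj Z) := by
  letI : Preadditive E := Localization.preadditive Q S
  haveI : Q.Additive := Localization.functor_additive Q S
  haveI : IsIso (Q.map (0 : Z' ⟶ Z)) := Localization.inverts Q S _ h
  have h0 : Q.map (0 : Z' ⟶ Z) = 0 := Q.map_zero _ _
  rw [IsZero.iff_id_eq_zero]
  exact (IsIso.inv_hom_id (Q.map (0 : Z' ⟶ Z))).symm.trans
    ((congrArg (fun x => inv (Q.map (0 : Z' ⟶ Z)) ≫ x) h0).trans comp_zero)

omit [HasZeroObject D] [∀ (n : ℤ), (shiftFunctor D n).Additive] [Pretriangulated D] in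
theorem isZero_of_zero_mem_left {Z Z' : D} (h : S (0 : Z ⟶ Z')) : IsZero (Q.obj Z) := by
  letI : Preadditive E := Localization.preadditive Q S
  haveI : Q.Additive := Localization.functor_additive Q S
  haveI : IsIso (Q.map (0 : Z ⟶ Z')) := Localization.inverts Q S _ h
  have h0 : Q.map (0 : Z ⟶ Z') = 0 := Q.map_zero _ _
  rw [IsZero.iff_id_eq_zero]
  exact (IsIso.hom_inv_id (Q.map (0 : Z ⟶ Z'))).symm.trans
    ((congrArg (fun x => x ≫ inv (Q.map (0 : Z ⟶ Z'))) h0).trans zero_comp)

variable [S.IsCompatibleWithTriangulation]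

include S in
theorem isZero_obj₃_iff_loc (T : Triangle D) (hT : T ∈ distTriang D) :
    IsZero (Q.obj T.obj₃) ↔ IsIso (Q.map T.mor₁) := by
  letI : Preadditive E := Localization.preadditive Q S
  haveI : Q.Additive := Localization.functor_additive Q S
  letI : HasShift E ℤ := HasShift.localized Q S ℤ
  letI : Q.CommShift ℤ := Functor.CommShift.localized Q S ℤ
  haveI : HasZeroObject E := Q.hasZeroObject_of_additive
  haveI : ∀ n : ℤ, (shiftFunctor E n).Additive := fun n => by
    rw [Localization.functor_additive_iff Q S]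
    exact Functor.additive_of_iso (Q.commShiftIso n)
  letI : Pretriangulated E := Triangulated.Localization.pretriangulated Q S
  haveI : Q.IsTriangulated := Triangulated.Localization.isTriangulated_functor Q S
  exact isZero_obj₃_iff Q T hT

include S in
theorem trW_ker_iff {X Y : D} (f : X ⟶ Y) :
    ObjectProperty.trW (fun Z : D => IsZero (Q.obj Z)) f ↔ IsIso (Q.map f) := by
  constructor
  · rintro ⟨Z, g, h, hT, hZ⟩
    exact (isZero_obj₃_iff_loc S Q _ hT).1 hZ
  · intro hf
    obtain ⟨Z, g, h, hT⟩ := distinguished_cocone_triangle f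
    exact ⟨Z, g, h, hT, (isZero_obj₃_iff_loc S Q _ hT).2 hf⟩

end Loc

section Split

variable {D : Type u} [Category.{v} D] [Preadditive D] [HasZeroObject D] [HasShift D ℤ]
    [∀ n : ℤ, (shiftFunctor D n).Additive] [Pretriangulated D]

/-- A distinguished triangle whose first map is zero has third object a biproduct. -/
theorem exists_iso_of_mor₁_zero {W Z C : D} (g : Z ⟶ C) (h : C ⟶ (shiftFunctor D (1:ℤ)).obj W)
    (hT : Triangle.mk (0 : W ⟶ Z) g h ∈ distTriang D) :
    ∃ e : C ≅ Z ⊞ (shiftFunctor D (1:ℤ)).obj W, g ≫ e.hom = biprod.inl ∧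
      h = e.hom ≫ biprod.snd := by
  have hz : (Triangle.mk (0 : W ⟶ Z) g h).rotate.mor₃ = 0 := by
    show -((shiftFunctor D (1:ℤ)).map (0 : W ⟶ Z)) = 0
    rw [Functor.map_zero, neg_zero]
  obtain ⟨e, h1, h2⟩ := exists_iso_binaryBiproduct_of_distTriang _ (rot_of_distTriang _ hT) hz
  exact ⟨e, h1, h2⟩

end Split

end Groth.Agent.Helper17.LocTri
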