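import Mathlib
import Groth.Agent.Lib.Helper17.NilDesc

set_option autoImplicit false
universe u
open TensorProduct

namespace Groth.Agent.Helper17.NilDesc2
open Groth.Agent.H19 Groth.Agent.Helper17.NilDesc

theorem nilradical_eq_map' {k : Type u} {E : Type u} {A : Type u} [Field k] [Field E] [Algebra k E]
    [Algebra.IsAlgebraic k E] [CommRing A] [Algebra k A] [IsNoetherianRing (E ⊗[k] A)] :
    ∃ L : IntermediateField k E, FiniteDimensional k L ∧
      nilradical (E ⊗[k] A) =
        Ideal.map (Algebra.TensorProduct.map L.val (AlgHom.id k A)).toRingHom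
          (nilradical (L ⊗[k] A)) := by
  obtain ⟨S, hS⟩ : (nilradical (E ⊗[k] A)).FG := IsNoetherian.noetherian _
  obtain ⟨L, hL, hLS⟩ := exists_level_finset (k := k) S
  refine ⟨L, hL, le_antisymm ?_ ?_⟩
  · rw [← hS, Ideal.span_le]
    intro n hn
    obtain ⟨m, hm'⟩ := hLS n hn
    have hm : (Algebra.TensorProduct.map L.val (AlgHom.id k A)) m = n := hm'
    have hnnil : IsNilpotent n := by
      have : n ∈ nilradical (E ⊗[k] A) := by rw [← hS]; exact Ideal.subset_span hn
      exact mem_nilradical.mp this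
    have hmnil : IsNilpotent m := by
      obtain ⟨e, he⟩ := hnnil
      refine ⟨e, map_val_injective (S := A) L ?_⟩
      rw [map_pow, hm, he, map_zero]
    rw [← hm]
    exact Ideal.mem_map_of_mem (Algebra.TensorProduct.map L.val (AlgHom.id k A)).toRingHom
      (mem_nilradical.mpr hmnil)
  · rw [Ideal.map_le_iff_le_comap]
    intro m hm
    rw [Ideal.mem_comap, mem_nilradical]
    exact (mem_nilradical.mp hm).map _

/-- all primes of `k' ⊗[k] K` coincide when `k'/k` is purely inseparable and `K` is a field -/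
theorem prime_unique {k k' K : Type u} [Field k] [Field k'] [Field K] [Algebra k k'] [Algebra k K]
    [IsPurelyInseparable k k'] (p q : Ideal (k' ⊗[k] K)) [p.IsPrime] [q.IsPrime] : p = q := by
  let c : (K ⊗[k] k') ≃ₐ[k] (k' ⊗[k] K) := Algebra.TensorProduct.comm k K k'
  have hh := PrimeSpectrum.isHomeomorph_comap_of_isPurelyInseparable k k' K
  let P : PrimeSpectrum (k' ⊗[k] K) := ⟨p, inferInstance⟩
  let Q : PrimeSpectrum (k' ⊗[k] K) := ⟨q, inferInstance⟩
  let P' : PrimeSpectrum (K ⊗[k] k') := PrimeSpectrum.comap (c : (K ⊗[k] k') →+* (k' ⊗[k] K)) P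
  let Q' : PrimeSpectrum (K ⊗[k] k') := PrimeSpectrum.comap (c : (K ⊗[k] k') →+* (k' ⊗[k] K)) Q
  have h1 : PrimeSpectrum.comap (algebraMap K (K ⊗[k] k')) P' =
      PrimeSpectrum.comap (algebraMap K (K ⊗[k] k')) Q' := Subsingleton.elim _ _
  have h2 : P' = Q' := hh.injective h1
  have h3 : P = Q := by
    have hinj : Function.Injective
        (PrimeSpectrum.comap (c : (K ⊗[k] k') →+* (k' ⊗[k] K))) :=
      PrimeSpectrum.comap_injective_of_surjective _ c.surjective
    exact hinj h2
  exact congrArg PrimeSpectrum.asIdeal h3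

theorem maximal_eq_nilradical {k k' K : Type u} [Field k] [Field k'] [Field K] [Algebra k k']
    [Algebra k K] [IsPurelyInseparable k k'] (m : Ideal (k' ⊗[k] K)) (hm : m.IsMaximal) :
    m = nilradical (k' ⊗[k] K) := by
  haveI : m.IsPrime := hm.isPrime
  apply le_antisymm
  · rw [nilradical_eq_sInf, le_sInf_iff]
    intro q hq
    haveI : q.IsPrime := hq
    rw [prime_unique m q]
  · exact nilradical_le_prime m

theorem main (k K : Type u) [Field k] [Field K] [Algebra k K] [Algebra.EssFiniteType k K] :
    ∃ (k' : Type u) (_ : Field k') (_ : Algebra k k'), FiniteDimensional k k' ∧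
      IsPurelyInseparable k k' ∧
      ∀ (m : Ideal (k' ⊗[k] K)), m.IsMaximal →
        Algebra.IsGeometricallyReduced k' ((k' ⊗[k] K) ⧸ m) := by
  haveI : IsNoetherianRing ((perfectClosure k (AlgebraicClosure k)) ⊗[k] K) :=
    Algebra.EssFiniteType.isNoetherianRing (perfectClosure k (AlgebraicClosure k))
      ((perfectClosure k (AlgebraicClosure k)) ⊗[k] K)
  obtain ⟨L, hL, hN⟩ := nilradical_eq_map' (k := k)
    (E := perfectClosure k (AlgebraicClosure k)) (A := K)
  haveI := hL
  haveI : IsPurelyInseparable k L :=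
    IsPurelyInseparable.tower_bot k L (perfectClosure k (AlgebraicClosure k))
  refine ⟨L, inferInstance, inferInstance, inferInstance, inferInstance, ?_⟩
  have hval : IsScalarTower.toAlgHom k L (perfectClosure k (AlgebraicClosure k)) = L.val :=
    AlgHom.ext (fun _ => rfl)
  rw [← hval] at hN
  have hmain := core2 (k := k) (A := K) L (perfectClosure k (AlgebraicClosure k))
    (AlgebraicClosure k) hN
  intro m hm
  have hmn := maximal_eq_nilradical (k := k) (k' := L) (K := K) m hm
  rw [hmn]
  exact hmain

end Groth.Agent.Helper17.NilDesc2
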