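import Mathlib
set_option autoImplicit false
universe u
open CategoryTheory PreGaloisCategory ProfiniteGrp ProfiniteGrp.ProfiniteCompletion

namespace Groth.Agent.Helper17.PCAut

variable (G : Type u) [Group G]

/-- finite discrete permutation group as profinite group -/
noncomputable def PX (X : Action FintypeCat.{u} G) : ProfiniteGrp.{u} :=
  ProfiniteGrp.ofFiniteGrp (FiniteGrp.of (Equiv.Perm X.V))

instance (X : Action FintypeCat.{u} G) : DiscreteTopology (PX G X) := ⟨rfl⟩

/-- identity -/
noncomputable def toPerm (X : Action FintypeCat.{u} G) : PX G X →* Equiv.Perm X.V := MonoidHom.id _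

noncomputable def rhoHom (X : Action FintypeCat.{u} G) : GrpCat.of G ⟶ GrpCat.of (PX G X) :=
  GrpCat.ofHom (MulAction.toPermHom G X.V)

noncomputable def psi (X : Action FintypeCat.{u} G) : completion (GrpCat.of G) →ₜ* PX G X :=
  (lift (rhoHom G X)).hom

lemma psi_eta (X : Action FintypeCat.{u} G) (g : G) :
    toPerm G X (psi G X (etaFn (GrpCat.of G) g)) = MulAction.toPermHom G X.V g := by
  have := ConcreteCategory.congr_hom (lift_eta (rhoHom G X)) g
  exact this

lemma dense_ind {T : Type*} [TopologicalSpace T] [DiscreteTopology T]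
    (c : completion (GrpCat.of G) → T) (hc : Continuous c)
    (P : T → Prop) (h : ∀ g : G, P (c (etaFn (GrpCat.of G) g))) (a : completion (GrpCat.of G)) :
    P (c a) := by
  have hcl : IsClosed {a : completion (GrpCat.of G) | P (c a)} :=
    (isClosed_discrete {t | P t}).preimage hc
  have hsub : Set.range (etaFn (GrpCat.of G)) ⊆ {a | P (c a)} := by
    rintro _ ⟨g, rfl⟩; exact h g
  have := closure_minimal hsub hcl
  rw [(denseRange (GrpCat.of G)).closure_range] at this
  exact this (Set.mem_univ a)

noncomputable instance actInst (X : Action FintypeCat.{u} G) :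
    MulAction (completion (GrpCat.of G)) ((Action.forget FintypeCat.{u} G).obj X) :=
  MulAction.compHom X.V ((toPerm G X).comp (psi G X).toMonoidHom)

lemma smul_def (X : Action FintypeCat.{u} G) (a : completion (GrpCat.of G))
    (x : (Action.forget FintypeCat.{u} G).obj X) :
    a • x = (toPerm G X (psi G X a)) x := rfl

lemma eta_smul (X : Action FintypeCat.{u} G) (g : G)
    (x : (Action.forget FintypeCat.{u} G).obj X) :
    (etaFn (GrpCat.of G) g) • x = (X.ρ g).hom x := by
  rw [smul_def, psi_eta]
  rfl

instance natInst : IsNaturalSMul (Action.forget FintypeCat.{u} G) (completion (GrpCat.of G)) where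
  naturality a X Y f x := by
    have key := dense_ind G (T := PX G X × PX G Y) (fun a => (psi G X a, psi G Y a))
      ((psi G X).continuous.prodMk (psi G Y).continuous)
      (fun t => ∀ x : X.V, f.hom.hom (toPerm G X t.1 x) = toPerm G Y t.2 (f.hom.hom x)) ?_ a
    · exact key x
    · intro g x
      show f.hom.hom (toPerm G X (psi G X (etaFn (GrpCat.of G) g)) x)
        = toPerm G Y (psi G Y (etaFn (GrpCat.of G) g)) (f.hom.hom x)
      rw [psi_eta, psi_eta]
      exact ConcreteCategory.congr_hom (f.comm g) x

lemma trans_of_conn (X : Action FintypeCat.{u} G) [IsConnected X] :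
    MulAction.IsPretransitive (completion (GrpCat.of G))
      ((Action.forget FintypeCat.{u} G).obj X) := by
  haveI := FintypeCat.Action.pretransitive_of_isConnected G X
  refine ⟨fun x y => ?_⟩
  obtain ⟨g, hg⟩ := MulAction.exists_smul_eq (α := X.V) G x y
  exact ⟨etaFn (GrpCat.of G) g, (eta_smul G X g x).trans hg⟩

/-- the action map -/
noncomputable def act (X : Action FintypeCat.{u} G) (q : PX G X)
    (x : (Action.forget FintypeCat.{u} G).obj X) : (Action.forget FintypeCat.{u} G).obj X :=
  toPerm G X q x

lemma cont_smul (X : Action FintypeCat.{u} G) :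
    ContinuousSMul (completion (GrpCat.of G)) ((Action.forget FintypeCat.{u} G).obj X) := by
  refine ⟨?_⟩
  have h1 : Continuous (fun p : completion (GrpCat.of G) × ((Action.forget FintypeCat.{u} G).obj X)
      => (psi G X p.1, p.2)) :=
    ((psi G X).continuous.comp continuous_fst).prodMk continuous_snd
  have h2 : Continuous (fun q : PX G X × ((Action.forget FintypeCat.{u} G).obj X)
      => act G X q.1 q.2) := continuous_of_discreteTopology
  exact h2.comp h1

/-- the finite G-set G/U -/
noncomputable def XU (U : FiniteIndexNormalSubgroup G) : Action FintypeCat.{u} G :=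
  haveI : Fintype (G ⧸ U.toSubgroup) := Fintype.ofFinite _
  Action.FintypeCat.ofMulAction G (FintypeCat.of (G ⧸ U.toSubgroup))

instance (U : FiniteIndexNormalSubgroup G) :
    DiscreteTopology ((diagram (GrpCat.of G)).obj U) := ⟨rfl⟩

lemma cont_proj (U : FiniteIndexNormalSubgroup G) :
    Continuous (fun a : completion (GrpCat.of G) => (a.1 U : (diagram (GrpCat.of G)).obj U)) :=
  (continuous_apply U).comp continuous_induced_dom

/-- identity -/
def toQ (U : FiniteIndexNormalSubgroup G) (q : (diagram (GrpCat.of G)).obj U) : G ⧸ U.toSubgroup := q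

/-- identity -/
noncomputable def toQ' (U : FiniteIndexNormalSubgroup G) (q : (XU G U).V) : G ⧸ U.toSubgroup := q

/-- identity -/
noncomputable def ofQ' (U : FiniteIndexNormalSubgroup G) (q : G ⧸ U.toSubgroup) : (XU G U).V := q

lemma psi_XU (U : FiniteIndexNormalSubgroup G) (a : completion (GrpCat.of G))
    (x : G ⧸ U.toSubgroup) :
    toQ' G U (toPerm G (XU G U) (psi G (XU G U) a) (ofQ' G U x)) = toQ G U (a.1 U) * x := by
  have key := dense_ind G (T := PX G (XU G U) × (diagram (GrpCat.of G)).obj U)
    (fun a => (psi G (XU G U) a, a.1 U))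
    ((psi G (XU G U)).continuous.prodMk (cont_proj G U))
    (fun t => ∀ x : G ⧸ U.toSubgroup,
      toQ' G U (toPerm G (XU G U) t.1 (ofQ' G U x)) = toQ G U t.2 * x) ?_ a
  · exact key x
  · intro g x
    show toQ' G U (toPerm G (XU G U) (psi G (XU G U) (etaFn (GrpCat.of G) g)) (ofQ' G U x))
      = (QuotientGroup.mk g : G ⧸ U.toSubgroup) * x
    rw [psi_eta]
    induction x using QuotientGroup.induction_on with
    | H h => rfl

lemma nontriv (a : completion (GrpCat.of G))
    (h : ∀ (X : Action FintypeCat.{u} G) (x : (Action.forget FintypeCat.{u} G).obj X), a • x = x) :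
    a = 1 := by
  apply Subtype.ext
  funext U
  have h1 : toQ' G U (toPerm G (XU G U) (psi G (XU G U) a) (ofQ' G U 1)) = 1 :=
    h (XU G U) (ofQ' G U 1)
  have h2 := psi_XU G U a 1
  rw [mul_one] at h2
  exact h2.symm.trans h1

instance fundInst : IsFundamentalGroup (Action.forget FintypeCat.{u} G) (completion (GrpCat.of G)) where
  transitive_of_isGalois X _ := trans_of_conn G X
  continuous_smul X := cont_smul G X
  non_trivial' a h := nontriv G a h

theorem main : ∃ φ : (completion (GrpCat.of G)) ≃ₜ* Aut (Action.forget FintypeCat.{u} G),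
      ∀ (g : G) (X : Action FintypeCat.{u} G) (x : X.V),
        (φ (etaFn (GrpCat.of G) g)).hom.app X x = (X.ρ g).hom x := by
  refine ⟨{ toAutMulEquiv (Action.forget FintypeCat.{u} G) (completion (GrpCat.of G)) with
      continuous_toFun := toAut_continuous (Action.forget FintypeCat.{u} G) (completion (GrpCat.of G))
      continuous_invFun := Continuous.continuous_symm_of_equiv_compact_to_t2
        (f := (toAutMulEquiv (Action.forget FintypeCat.{u} G) (completion (GrpCat.of G))).toEquiv)
        (toAut_continuous (Action.forget FintypeCat.{u} G) (completion (GrpCat.of G))) }, ?_⟩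
  intro g X x
  exact eta_smul G X g x

end Groth.Agent.Helper17.PCAut
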