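import Mathlib
set_option autoImplicit false
universe u
open CategoryTheory PreGaloisCategory
open scoped FintypeCatDiscrete

namespace Groth.Agent.Helper17.PCCont

variable (G : Type u) [Group G] [TopologicalSpace G]

abbrev CA := ContAction FintypeCat.{u} G
abbrev FF : CA G ⥤ FintypeCat.{u} := forget₂ (ContAction FintypeCat.{u} G) FintypeCat.{u}

example (X : CA G) : (FF G).obj X = X.obj.V := rfl
example (X Y : CA G) (f : X ⟶ Y) : (FF G).map f = f.hom.hom := rfl

noncomputable instance actInst (X : CA G) : MulAction G ((FF G).obj X) :=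
  inferInstanceAs (MulAction G X.obj.V)

lemma smul_def (X : CA G) (g : G) (x : (FF G).obj X) : g • x = (X.obj.ρ g).hom x := rfl

instance natInst : IsNaturalSMul (FF G) G where
  naturality g X Y f x := (ConcreteCategory.congr_hom (f.hom.comm g) x)

/-- the canonical map -/
noncomputable def iota : G →* Aut (FF G) := toAut (FF G) G

lemma iota_apply (g : G) (X : CA G) (x : X.obj.V) :
    ((iota G) g).hom.app X x = (X.obj.ρ g).hom x := rfl

/-- openness of transporter sets -/
lemma isOpen_trans (X : CA G) (x x' : X.obj.V) : IsOpen {g : G | (X.obj.ρ g).hom x = x'} := by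
  have h := X.2
  haveI : DiscreteTopology ((forget₂ (Action FintypeCat.{u} G) TopCat).obj X.obj) := ⟨rfl⟩
  have h1 : Continuous (fun g : G => (g, x) : G → G × ((forget₂ (Action FintypeCat.{u} G) TopCat).obj X.obj)) :=
    Continuous.prodMk continuous_id continuous_const
  have h2 := h.continuous_smul.comp h1
  exact (isOpen_discrete ({x'} : Set ((forget₂ (Action FintypeCat.{u} G) TopCat).obj X.obj))).preimage h2

/-- build a continuous finite `G`-set -/
noncomputable def mkCA (S : Type u) [Fintype S] [MulAction G S]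
    (h : ∀ s s' : S, IsOpen {g : G | g • s = s'}) : CA G :=
  ⟨Action.FintypeCat.ofMulAction G (FintypeCat.of S), by
    haveI : DiscreteTopology ((forget₂ (Action FintypeCat.{u} G) TopCat).obj
      (Action.FintypeCat.ofMulAction G (FintypeCat.of S))) := ⟨rfl⟩
    haveI : DiscreteTopology ((forget₂ FintypeCat.{u} TopCat).obj
      (Action.FintypeCat.ofMulAction G (FintypeCat.of S)).V) := ⟨rfl⟩
    rw [Action.isContinuous_def, continuous_prod_of_discrete_right]
    intro s
    rw [continuous_discrete_rng]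
    intro s'
    exact h s s'⟩

lemma mkCA_smul (S : Type u) [Fintype S] [MulAction G S]
    (h : ∀ s s' : S, IsOpen {g : G | g • s = s'}) (g : G) (s : S) :
    (((mkCA G S h).obj.ρ g).hom (show (mkCA G S h).obj.V from s) : S) = g • s := rfl

/-- build a morphism out of `mkCA` -/
noncomputable def mkHom (S : Type u) [Fintype S] [MulAction G S]
    (h : ∀ s s' : S, IsOpen {g : G | g • s = s'}) (Y : CA G) (m : S → Y.obj.V)
    (hm : ∀ (g : G) (s : S), m (g • s) = (Y.obj.ρ g).hom (m s)) : mkCA G S h ⟶ Y :=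
  ObjectProperty.homMk ⟨FintypeCat.homMk m, fun g => by
    ext s
    exact hm g s⟩

lemma mkHom_apply (S : Type u) [Fintype S] [MulAction G S]
    (h : ∀ s s' : S, IsOpen {g : G | g • s = s'}) (Y : CA G) (m : S → Y.obj.V)
    (hm : ∀ (g : G) (s : S), m (g • s) = (Y.obj.ρ g).hom (m s)) (s : S) :
    ((FF G).map (mkHom G S h Y m hm)) (show (mkCA G S h).obj.V from s) = m s := rfl

lemma iota_continuous : Continuous (iota G) := by
  rw [continuous_induced_rng, continuous_pi_iff]
  intro X
  rw [continuous_discrete_rng]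
  intro σ
  have : (fun g => (autEmbedding (FF G) ∘ (iota G)) g X) ⁻¹' {σ}
      = ⋂ x : X.obj.V, {g : G | (X.obj.ρ g).hom x = σ.hom x} := by
    ext g
    simp only [Set.mem_preimage, Set.mem_singleton_iff, Set.mem_iInter, Set.mem_ofPred_eq,
      Function.comp_apply]
    constructor
    · intro h x
      rw [← h]
      rfl
    · intro h
      apply Iso.ext
      ext x
      exact h x
  rw [this]
  exact isOpen_iInter_of_finite fun x => isOpen_trans G X x _

section approx

variable {n : ℕ} (X : Fin n → CA G)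

/-- index type -/
abbrev JJ := Σ i : Fin n, (X i).obj.V
/-- the big product -/
abbrev ZZ := ∀ j : JJ G X, (X j.1).obj.V
/-- the universal point -/
def pp : ZZ G X := fun j => j.2
/-- its orbit -/
abbrev OO := MulAction.orbit G (pp G X)

noncomputable instance : Fintype (OO G X) := Fintype.ofFinite _

lemma hOO (s s' : OO G X) : IsOpen {g : G | g • s = s'} := by
  have : {g : G | g • s = s'}
      = ⋂ j : JJ G X, {g : G | ((X j.1).obj.ρ g).hom (s.1 j) = s'.1 j} := by
    ext g
    simp only [Set.mem_ofPred_eq, Set.mem_iInter]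
    constructor
    · intro h j
      have := congrArg (fun z : OO G X => z.1 j) h
      exact this
    · intro h
      apply Subtype.ext
      funext j
      exact h j
  rw [this]
  exact isOpen_iInter_of_finite fun j => isOpen_trans G (X j.1) _ _

/-- identity -/
noncomputable def toV (S : Type u) [Fintype S] [MulAction G S]
    (h : ∀ s s' : S, IsOpen {g : G | g • s = s'}) (s : S) : (mkCA G S h).obj.V := s
/-- identity -/
noncomputable def ofV (S : Type u) [Fintype S] [MulAction G S]
    (h : ∀ s s' : S, IsOpen {g : G | g • s = s'}) (s : (mkCA G S h).obj.V) : S := s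

lemma approx (t : Aut (FF G)) :
    ∃ g : G, ∀ (i : Fin n) (x : (X i).obj.V), ((X i).obj.ρ g).hom x = t.hom.app (X i) x := by
  let p' : OO G X := ⟨pp G X, MulAction.mem_orbit_self _⟩
  let q : OO G X := ofV G (OO G X) (hOO G X)
    (t.hom.app (mkCA G (OO G X) (hOO G X)) (toV G (OO G X) (hOO G X) p'))
  obtain ⟨g, hg⟩ := q.2
  refine ⟨g, fun i x => ?_⟩
  let m : mkCA G (OO G X) (hOO G X) ⟶ X i :=
    mkHom G (OO G X) (hOO G X) (X i) (fun z => z.1 ⟨i, x⟩) (fun g z => rfl)
  have nat := FunctorToFintypeCat.naturality (FF G) (FF G) t.hom m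
    (toV G (OO G X) (hOO G X) p')
  have e1 : ((FF G).map m) (toV G (OO G X) (hOO G X) p') = x := rfl
  have e2 : ((FF G).map m) (t.hom.app (mkCA G (OO G X) (hOO G X)) (toV G (OO G X) (hOO G X) p'))
      = q.1 ⟨i, x⟩ := rfl
  rw [e1, e2, ← hg] at nat
  exact nat.symm

lemma approx' (t : Aut (FF G)) :
    ∃ g : G, ∀ Y : CA G, Y ∈ Set.range X → ∀ x : Y.obj.V,
      (Y.obj.ρ g).hom x = t.hom.app Y x := by
  obtain ⟨g, hg⟩ := approx G X t
  refine ⟨g, ?_⟩
  rintro _ ⟨i, rfl⟩ x
  exact hg i x

end approx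

lemma iota_dense : DenseRange (iota G) := by
  intro t
  rw [mem_closure_iff]
  intro o ho hto
  obtain ⟨s, hs, rfl⟩ := isOpen_induced_iff.mp ho
  obtain ⟨I, u, hu, hsub⟩ := isOpen_pi_iff.mp hs _ hto
  classical
  obtain ⟨g, hg⟩ := approx' G (fun i : Fin I.card => (I.equivFin.symm i).1) t
  refine ⟨iota G g, ?_, ⟨g, rfl⟩⟩
  apply hsub
  intro X hX
  have hmem : X ∈ Set.range (fun i : Fin I.card => (I.equivFin.symm i).1) :=
    ⟨I.equivFin ⟨X, hX⟩, by simp⟩
  have : autEmbedding (FF G) (iota G g) X = autEmbedding (FF G) t X := by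
    apply Iso.ext
    ext x
    exact hg X hmem x
  rw [this]
  exact (hu X hX).2

section UP

variable (Q : Type u) [Group Q] [Finite Q] [TopologicalSpace Q] [DiscreteTopology Q]
  (π : G →* Q) (hπ : Continuous π)

/-- `Q` as a `G`-set via `π` -/
def QQ (_π : G →* Q) : Type u := Q

noncomputable instance : Fintype (QQ G Q π) := @Fintype.ofFinite Q _
noncomputable instance : MulAction G (QQ G Q π) := MulAction.compHom Q π

/-- identity -/
def toQQ (q : Q) : QQ G Q π := q
/-- identity -/
def ofQQ (q : QQ G Q π) : Q := q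

lemma smul_QQ (g : G) (q : QQ G Q π) : ofQQ G Q π (g • q) = π g * ofQQ G Q π q := rfl

include hπ in
lemma hQQ (s s' : QQ G Q π) : IsOpen {g : G | g • s = s'} := by
  have : {g : G | g • s = s'} = π ⁻¹' {ofQQ G Q π s' * (ofQQ G Q π s)⁻¹} := by
    ext g
    simp only [Set.mem_ofPred_eq, Set.mem_preimage, Set.mem_singleton_iff]
    constructor
    · intro h
      rw [← h, smul_QQ, mul_inv_cancel_right]
    · intro h
      show π g * ofQQ G Q π s = ofQQ G Q π s'
      rw [h, inv_mul_cancel_right]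
  rw [this]
  exact (isOpen_discrete _).preimage hπ

/-- `Q` as continuous `G`-set -/
noncomputable def XQ : CA G := mkCA G (QQ G Q π) (hQQ G Q π hπ)

/-- embed -/
noncomputable def inQ (q : Q) : (XQ G Q π hπ).obj.V := toV G (QQ G Q π) (hQQ G Q π hπ) (toQQ G Q π q)
/-- project -/
noncomputable def outQ (x : (XQ G Q π hπ).obj.V) : Q := ofQQ G Q π (ofV G (QQ G Q π) (hQQ G Q π hπ) x)

/-- right multiplication -/
noncomputable def rmul (q : Q) : XQ G Q π hπ ⟶ XQ G Q π hπ :=
  mkHom G (QQ G Q π) (hQQ G Q π hπ) (XQ G Q π hπ)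
    (fun s => inQ G Q π hπ (ofQQ G Q π s * q)) (fun g s => by
      show inQ G Q π hπ (π g * ofQQ G Q π s * q) = inQ G Q π hπ (π g * (ofQQ G Q π s * q))
      rw [mul_assoc])

lemma rmul_apply (q r : Q) : ((FF G).map (rmul G Q π hπ q)) (inQ G Q π hπ r) = inQ G Q π hπ (r * q) := rfl

lemma aut_XQ (t : Aut (FF G)) (q : Q) :
    outQ G Q π hπ (t.hom.app (XQ G Q π hπ) (inQ G Q π hπ q))
      = outQ G Q π hπ (t.hom.app (XQ G Q π hπ) (inQ G Q π hπ 1)) * q := by
  have nat := FunctorToFintypeCat.naturality (FF G) (FF G) t.hom (rmul G Q π hπ q)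
    (inQ G Q π hπ 1)
  rw [rmul_apply, one_mul] at nat
  rw [nat]
  rfl

/-- the factorisation -/
noncomputable def psiQ : Aut (FF G) →* Q where
  toFun t := outQ G Q π hπ (t.hom.app (XQ G Q π hπ) (inQ G Q π hπ 1))
  map_one' := rfl
  map_mul' t s := by
    have h := aut_XQ G Q π hπ t (outQ G Q π hπ (s.hom.app (XQ G Q π hπ) (inQ G Q π hπ 1)))
    exact h

lemma psiQ_cont : Continuous (psiQ G Q π hπ) := by
  have h1 : Continuous (fun t : Aut (FF G) => autEmbedding (FF G) t (XQ G Q π hπ)) :=
    (continuous_apply (XQ G Q π hπ)).comp continuous_induced_dom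
  have h2 : Continuous (fun σ : Aut ((FF G).obj (XQ G Q π hπ)) =>
      outQ G Q π hπ (σ.hom (inQ G Q π hπ 1))) := continuous_of_discreteTopology
  exact h2.comp h1

lemma psiQ_iota : (psiQ G Q π hπ).comp (iota G) = π := by
  ext g
  show π g * 1 = π g
  rw [mul_one]

end UP

theorem main [IsTopologicalGroup G] :
    ∃ ι : G →* Aut (forget₂ (ContAction FintypeCat.{u} G) FintypeCat.{u}),
      Continuous ι ∧
      (∀ (g : G) (X : ContAction FintypeCat.{u} G) (x : X.obj.V), (ι g).hom.app X x = (X.obj.ρ g).hom x) ∧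
      DenseRange ι ∧
      ∀ (Q : Type u) [Group Q] [Finite Q] [TopologicalSpace Q] [DiscreteTopology Q] (π : G →* Q),
        Continuous π → ∃! ψ : Aut (forget₂ (ContAction FintypeCat.{u} G) FintypeCat.{u}) →* Q,
          Continuous ψ ∧ ψ.comp ι = π := by
  refine ⟨iota G, iota_continuous G, fun g X x => rfl, iota_dense G, ?_⟩
  intro Q _ _ _ _ π hπ
  refine ⟨psiQ G Q π hπ, ⟨psiQ_cont G Q π hπ, psiQ_iota G Q π hπ⟩, ?_⟩
  rintro ψ' ⟨hc, he⟩
  apply DFunLike.coe_injective
  refine (iota_dense G).equalizer hc (psiQ_cont G Q π hπ) ?_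
  funext g
  have h1 := DFunLike.congr_fun he g
  have h2 := DFunLike.congr_fun (psiQ_iota G Q π hπ) g
  exact h1.trans h2.symm

end Groth.Agent.Helper17.PCCont
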