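import Mathlib
import Groth.Prelude.Def_PP16

set_option autoImplicit false
universe u

namespace Groth.Agent.Helper17.PPsec

open scoped TensorProduct
open PP16

variable (R SY SX : Type u) [CommRing R] [CommRing SY] [CommRing SX] [Algebra R SY] [Algebra R SX]
  [Algebra SY SX] [IsScalarTower R SY SX] (σ : SX →ₐ[R] R)

variable {SX}

/-- the difference element `1 ⊗ s - s ⊗ 1` -/
noncomputable def del (s : SX) : SX ⊗[R] SX := (1 : SX) ⊗ₜ[R] s - s ⊗ₜ[R] (1 : SX)

lemma del_mem (s : SX) : del R s ∈ KaehlerDifferential.ideal R SX :=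
  KaehlerDifferential.one_smul_sub_smul_one_mem_ideal R s

lemma del_mul (a b : SX) :
    del R (a * b) = del R a * del R b + (a ⊗ₜ[R] (1 : SX)) * del R b +
      (b ⊗ₜ[R] (1 : SX)) * del R a := by
  unfold del
  simp only [mul_sub, sub_mul, Algebra.TensorProduct.tmul_mul_tmul, one_mul, mul_one]
  rw [mul_comm b a]
  abel

lemma del_algebraMap (r : R) : del R (algebraMap R SX r) = 0 := by
  unfold del
  rw [Algebra.algebraMap_eq_smul_one, TensorProduct.tmul_smul, TensorProduct.smul_tmul', sub_self]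

lemma del_sub (a b : SX) : del R (a - b) = del R a - del R b := by
  unfold del
  rw [TensorProduct.tmul_sub, TensorProduct.sub_tmul]
  abel

variable (SX)

/-- evaluate the first factor at the section -/
noncomputable def Psi : SX ⊗[R] SX →ₐ[R] SX :=
  Algebra.TensorProduct.lift ((Algebra.ofId R SX).comp σ) (AlgHom.id R SX)
    (fun _ _ => Commute.all _ _)

variable {SX}

lemma Psi_tmul (x y : SX) : Psi R SX σ (x ⊗ₜ[R] y) = algebraMap R SX (σ x) * y := by
  simp [Psi, Algebra.TensorProduct.lift_tmul, Algebra.ofId_apply]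

lemma Psi_del (s : SX) : Psi R SX σ (del R s) = s - algebraMap R SX (σ s) := by
  unfold del
  rw [map_sub, Psi_tmul, Psi_tmul, map_one, map_one, one_mul, mul_one]

lemma Psi_mem_ker {z : SX ⊗[R] SX} (hz : z ∈ KaehlerDifferential.ideal R SX) :
    Psi R SX σ z ∈ RingHom.ker σ.toRingHom := by
  rw [← KaehlerDifferential.span_range_eq_ideal] at hz
  refine Submodule.span_induction ?_ ?_ ?_ ?_ hz
  · rintro _ ⟨s, rfl⟩
    have := Psi_del R σ s
    unfold del at this
    rw [this, RingHom.mem_ker]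
    show σ (s - algebraMap R SX (σ s)) = 0
    rw [map_sub, AlgHom.commutes]
    simp
  · rw [map_zero]; exact Submodule.zero_mem _
  · intro x y _ _ hx hy
    rw [map_add]; exact Submodule.add_mem _ hx hy
  · intro w x _ hx
    rw [smul_eq_mul, map_mul]
    exact Ideal.mul_mem_left _ _ hx

lemma Psi_mem_pow (n : ℕ) {z : SX ⊗[R] SX} (hz : z ∈ KaehlerDifferential.ideal R SX ^ n) :
    Psi R SX σ z ∈ RingHom.ker σ.toRingHom ^ n := by
  have h1 : (KaehlerDifferential.ideal R SX).map (Psi R SX σ).toRingHom ≤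
      RingHom.ker σ.toRingHom := by
    rw [Ideal.map_le_iff_le_comap]
    intro z hz
    exact Psi_mem_ker R σ hz
  have h2 := Ideal.pow_right_mono h1 n
  rw [← Ideal.map_pow] at h2
  exact h2 (Ideal.mem_map_of_mem _ hz)

/-- the induced map on principal parts -/
noncomputable def PsiBar (n : ℕ) : P n R SX →+* SX ⧸ (RingHom.ker σ.toRingHom ^ (n + 1)) :=
  Ideal.Quotient.lift _ ((Ideal.Quotient.mk _).comp (Psi R SX σ).toRingHom) (by
    intro z hz
    rw [RingHom.comp_apply, Ideal.Quotient.eq_zero_iff_mem]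
    exact Psi_mem_pow R σ (n + 1) hz)

lemma PsiBar_mk (n : ℕ) (z : SX ⊗[R] SX) :
    PsiBar R σ n (Ideal.Quotient.mk _ z) = Ideal.Quotient.mk _ (Psi R SX σ z) := rfl

lemma algebraMap_P (n : ℕ) (b : SX) :
    algebraMap SX (P n R SX) b = Ideal.Quotient.mk _ (b ⊗ₜ[R] (1 : SX)) := rfl

lemma PsiBar_smul (n : ℕ) (t : P n R SX)
    (ht : t ∈ RingHom.ker σ.toRingHom • (augIdeal n R SX).restrictScalars SX) :
    PsiBar R σ n t = 0 := by
  refine Submodule.smul_induction_on ht ?_ ?_
  · intro i hi t _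
    rw [Algebra.smul_def, map_mul, algebraMap_P, PsiBar_mk, Psi_tmul, mul_one]
    have : σ i = 0 := hi
    rw [this, map_zero, map_zero, zero_mul]
  · intro x y hx hy
    rw [map_add, hx, hy, add_zero]

/-- the module `I • T` is stable under multiplication -/
lemma mul_mem_smul (n : ℕ) (w t : P n R SX)
    (ht : t ∈ RingHom.ker σ.toRingHom • (augIdeal n R SX).restrictScalars SX) :
    w * t ∈ RingHom.ker σ.toRingHom • (augIdeal n R SX).restrictScalars SX := by
  refine Submodule.smul_induction_on ht ?_ ?_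
  · intro i hi t ht
    rw [mul_smul_comm]
    exact Submodule.smul_mem_smul hi (Ideal.mul_mem_left _ w ht)
  · intro x y hx hy
    rw [mul_add]; exact Submodule.add_mem _ hx hy

/-- the submodule `I • T` -/
noncomputable def Nsub (n : ℕ) : Submodule SX (P n R SX) :=
  RingHom.ker σ.toRingHom • (augIdeal n R SX).restrictScalars SX

/-- the ideal of elements whose class lies in `I • T` -/
noncomputable def Aid (n : ℕ) : Ideal (SX ⊗[R] SX) where
  carrier := {z | (Ideal.Quotient.mk (KaehlerDifferential.ideal R SX ^ (n + 1)) z : P n R SX) ∈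
    Nsub R σ n}
  add_mem' := by
    intro a b ha hb
    show (Ideal.Quotient.mk (KaehlerDifferential.ideal R SX ^ (n + 1)) (a + b) : P n R SX) ∈
      Nsub R σ n
    rw [map_add]; exact Submodule.add_mem _ ha hb
  zero_mem' := by
    show (Ideal.Quotient.mk (KaehlerDifferential.ideal R SX ^ (n + 1)) (0 : SX ⊗[R] SX) :
      P n R SX) ∈ Nsub R σ n
    rw [map_zero]; exact Submodule.zero_mem _
  smul_mem' := by
    intro w z hz
    show (Ideal.Quotient.mk (KaehlerDifferential.ideal R SX ^ (n + 1)) (w • z) : P n R SX) ∈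
      Nsub R σ n
    rw [smul_eq_mul, map_mul]
    exact mul_mem_smul R σ n _ _ hz

lemma mem_Aid (n : ℕ) (z : SX ⊗[R] SX) : z ∈ Aid R σ n ↔
    (Ideal.Quotient.mk (KaehlerDifferential.ideal R SX ^ (n + 1)) z : P n R SX) ∈
    RingHom.ker σ.toRingHom • (augIdeal n R SX).restrictScalars SX := Iff.rfl

lemma pow_le_Aid (n : ℕ) : KaehlerDifferential.ideal R SX ^ (n + 1) ≤ Aid R σ n := by
  intro z hz
  rw [mem_Aid, Ideal.Quotient.eq_zero_iff_mem.2 hz]
  exact Submodule.zero_mem _

lemma tmul_mul_mem_Aid (n : ℕ) {i : SX} (hi : i ∈ RingHom.ker σ.toRingHom) {j : SX ⊗[R] SX}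
    (hj : j ∈ KaehlerDifferential.ideal R SX) : (i ⊗ₜ[R] (1 : SX)) * j ∈ Aid R σ n := by
  rw [mem_Aid, map_mul]
  have : (Ideal.Quotient.mk (KaehlerDifferential.ideal R SX ^ (n + 1)) (i ⊗ₜ[R] (1 : SX)) : P n R SX) *
      Ideal.Quotient.mk _ j = i • (Ideal.Quotient.mk _ j : P n R SX) := by
    rw [Algebra.smul_def, algebraMap_P]
  rw [this]
  exact Submodule.smul_mem_smul hi (Ideal.mem_map_of_mem _ hj)

/-- key: `δ(c) ∈ J^m + 𝔞` for `c ∈ I^m` -/
lemma del_mem_sup (𝔞 : Ideal (SX ⊗[R] SX))
    (h𝔞 : ∀ i ∈ RingHom.ker σ.toRingHom, ∀ j ∈ KaehlerDifferential.ideal R SX,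
      (i ⊗ₜ[R] (1 : SX)) * j ∈ 𝔞) :
    ∀ m : ℕ, ∀ c ∈ RingHom.ker σ.toRingHom ^ (m + 1),
      del R c ∈ KaehlerDifferential.ideal R SX ^ (m + 1) ⊔ 𝔞 := by
  intro m
  induction m with
  | zero =>
    intro c _
    rw [zero_add, pow_one]
    exact Ideal.mem_sup_left (del_mem R c)
  | succ m ih =>
    intro c hc
    rw [pow_succ'] at hc
    refine Submodule.mul_induction_on hc ?_ ?_
    · intro i hi c' hc'
      have hc'I : c' ∈ RingHom.ker σ.toRingHom := by
        have := Ideal.pow_le_self (I := RingHom.ker σ.toRingHom) (n := m + 1) (by omega)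
        exact this hc'
      rw [del_mul]
      refine Submodule.add_mem _ (Submodule.add_mem _ ?_ ?_) ?_
      · obtain ⟨u, hu, v, hv, huv⟩ := Submodule.mem_sup.1 (ih c' hc')
        rw [← huv, mul_add]
        refine Submodule.add_mem _ (Ideal.mem_sup_left ?_) (Ideal.mem_sup_right ?_)
        · rw [pow_succ']
          exact Ideal.mul_mem_mul (del_mem R i) hu
        · exact Ideal.mul_mem_left _ _ hv
      · exact Ideal.mem_sup_right (h𝔞 i hi _ (del_mem R c'))
      · exact Ideal.mem_sup_right (h𝔞 c' hc'I _ (del_mem R i))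
    · intro x y hx hy
      have : del R (x + y) = del R x + del R y := by
        unfold del
        rw [TensorProduct.tmul_add, TensorProduct.add_tmul]
        abel
      rw [this]
      exact Submodule.add_mem _ hx hy

theorem core (n : ℕ) :
    (∀ y ∈ augIdeal n R SY,
        PP16.map n R SY R SX y ∈
          RingHom.ker σ.toRingHom • (augIdeal n R SX).restrictScalars SX) ↔
      (∀ b : SY, algebraMap SY SX b ∈ RingHom.ker σ.toRingHom →
        algebraMap SY SX b ∈ RingHom.ker σ.toRingHom ^ (n + 1)) := by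
  constructor
  · intro H b hb
    have hy : (Ideal.Quotient.mk (KaehlerDifferential.ideal R SY ^ (n + 1))
        ((1 : SY) ⊗ₜ[R] b - b ⊗ₜ[R] (1 : SY)) : P n R SY) ∈ augIdeal n R SY :=
      Ideal.mem_map_of_mem _ (KaehlerDifferential.one_smul_sub_smul_one_mem_ideal R b)
    have h1 := PsiBar_smul R σ n _ (H _ hy)
    rw [map_mk, map_sub, tensorMap_tmul, tensorMap_tmul, map_one, PsiBar_mk] at h1
    have h2 : Psi R SX σ ((1 : SX) ⊗ₜ[R] algebraMap SY SX b - algebraMap SY SX b ⊗ₜ[R] (1 : SX)) =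
        algebraMap SY SX b := by
      have := Psi_del R σ (algebraMap SY SX b)
      unfold del at this
      rw [this]
      have hb' : σ (algebraMap SY SX b) = 0 := hb
      rw [hb', map_zero, sub_zero]
    rw [h2, Ideal.Quotient.eq_zero_iff_mem] at h1
    exact h1
  · intro H y hy
    obtain ⟨z, hz, rfl⟩ := (Ideal.mem_map_iff_of_surjective _ Ideal.Quotient.mk_surjective).1 hy
    rw [map_mk, ← mem_Aid]
    rw [← KaehlerDifferential.span_range_eq_ideal] at hz
    refine Submodule.span_induction ?_ ?_ ?_ ?_ hz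
    · rintro _ ⟨b, rfl⟩
      rw [map_sub, tensorMap_tmul, tensorMap_tmul, map_one]
      -- replace b by b - σ(φ b)
      obtain ⟨c, hc⟩ : ∃ c : SX, c = algebraMap SY SX b -
          algebraMap R SX (σ (algebraMap SY SX b)) := ⟨_, rfl⟩
      have hcI : c ∈ RingHom.ker σ.toRingHom := by
        rw [RingHom.mem_ker, hc]
        show σ (algebraMap SY SX b - algebraMap R SX (σ (algebraMap SY SX b))) = 0
        rw [map_sub, AlgHom.commutes]
        simp
      have hcimg : c = algebraMap SY SX (b - algebraMap R SY (σ (algebraMap SY SX b))) := by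
        rw [hc, map_sub, ← IsScalarTower.algebraMap_apply]
      have hcpow : c ∈ RingHom.ker σ.toRingHom ^ (n + 1) := by
        rw [hcimg]
        apply H
        rw [← hcimg]
        exact hcI
      have hdel : (1 : SX) ⊗ₜ[R] algebraMap SY SX b - algebraMap SY SX b ⊗ₜ[R] (1 : SX) =
          del R c := by
        rw [hc, del_sub, del_algebraMap, sub_zero]
        rfl
      rw [hdel]
      have := del_mem_sup R σ (Aid R σ n) (fun i hi j hj => tmul_mul_mem_Aid R σ n hi hj) n c hcpow
      rw [sup_eq_right.2 (pow_le_Aid R σ n)] at this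
      exact this
    · rw [map_zero]; exact Submodule.zero_mem _
    · intro x y _ _ hx hy
      rw [map_add]; exact Submodule.add_mem _ hx hy
    · intro w x _ hx
      rw [smul_eq_mul, map_mul]
      exact Ideal.mul_mem_left _ _ hx

end Groth.Agent.Helper17.PPsec
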