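import Mathlib

set_option autoImplicit false

open Polynomial

namespace Groth.Agent.Helper17.PW

variable {k : Type*} [Field k] {m : ℕ} (r : Fin m → k) (a : Fin m → ℕ)

noncomputable def Es (s : Finset (Fin m)) : k[X] := ∏ j ∈ s, (X - C (r j)) ^ (a j)
noncomputable def Rs (s : Finset (Fin m)) : k[X] := ∏ j ∈ s, (X - C (r j))
noncomputable def Ss (s : Finset (Fin m)) : k[X] :=
  ∑ i ∈ s, C (a i : k) * ∏ j ∈ s.erase i, (X - C (r j))
noncomputable def Ds (s : Finset (Fin m)) : k[X] := ∏ j ∈ s, (X - C (r j)) ^ (a j + 1)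

lemma Ds_eq (s : Finset (Fin m)) : Ds r a s = Es r a s * Rs r s := by
  unfold Ds Es Rs
  rw [← Finset.prod_mul_distrib]
  exact Finset.prod_congr rfl fun j _ => pow_succ _ _

lemma Es_insert {i : Fin m} {s : Finset (Fin m)} (hi : i ∉ s) :
    Es r a (insert i s) = (X - C (r i)) ^ (a i) * Es r a s := Finset.prod_insert hi

lemma Rs_insert {i : Fin m} {s : Finset (Fin m)} (hi : i ∉ s) :
    Rs r (insert i s) = (X - C (r i)) * Rs r s := Finset.prod_insert hi

lemma Ss_insert {i : Fin m} {s : Finset (Fin m)} (hi : i ∉ s) :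
    Ss r a (insert i s) = C (a i : k) * Rs r s + (X - C (r i)) * Ss r a s := by
  unfold Ss Rs
  rw [Finset.sum_insert hi, Finset.erase_insert hi, Finset.mul_sum]
  congr 1
  refine Finset.sum_congr rfl fun l hl => ?_
  have hne : i ≠ l := fun h => hi (h ▸ hl)
  rw [Finset.erase_insert_of_ne hne,
    Finset.prod_insert (fun h => hi (Finset.mem_of_mem_erase h))]
  ring

lemma Es_univ (i : Fin m) :
    Es r a Finset.univ = (X - C (r i)) ^ (a i) * Es r a (Finset.univ.erase i) := by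
  have h := Es_insert r a (Finset.notMem_erase i Finset.univ)
  rwa [Finset.insert_erase (Finset.mem_univ i)] at h

lemma Rs_univ (i : Fin m) :
    Rs r Finset.univ = (X - C (r i)) * Rs r (Finset.univ.erase i) := by
  have h := Rs_insert r (Finset.notMem_erase i Finset.univ)
  rwa [Finset.insert_erase (Finset.mem_univ i)] at h

lemma Ss_univ (i : Fin m) :
    Ss r a Finset.univ = C (a i : k) * Rs r (Finset.univ.erase i) +
      (X - C (r i)) * Ss r a (Finset.univ.erase i) := by
  have h := Ss_insert r a (Finset.notMem_erase i Finset.univ)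
  rwa [Finset.insert_erase (Finset.mem_univ i)] at h

lemma der_pow_mul (c : k) (n : ℕ) :
    derivative ((X - C c) ^ n) * (X - C c) = C (n : k) * (X - C c) ^ n := by
  cases n with
  | zero => simp
  | succ n =>
    rw [derivative_X_sub_C_pow, Nat.add_sub_cancel, pow_succ]
    ring

lemma key (s : Finset (Fin m)) :
    derivative (Es r a s) * Rs r s = Es r a s * Ss r a s := by
  induction s using Finset.induction_on with
  | empty => simp [Es, Rs, Ss]
  | insert i s hi ih =>
    rw [Es_insert r a hi, Rs_insert r hi, Ss_insert r a hi, derivative_mul]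
    have h1 := der_pow_mul (r i) (a i)
    linear_combination (Es r a s * Rs r s) * h1 +
      ((X - C (r i)) ^ (a i) * (X - C (r i))) * ih

noncomputable def Phi : k[X] →ₗ[k] k[X] :=
  (LinearMap.mulRight k (Rs r Finset.univ)).comp (derivative (R := k)) -
    LinearMap.mulRight k (Ss r a Finset.univ)

lemma Phi_apply (G : k[X]) :
    Phi r a G = derivative G * Rs r Finset.univ - G * Ss r a Finset.univ := by
  simp [Phi]

lemma Phi_E_mul (Q : k[X]) :
    Phi r a (Es r a Finset.univ * Q) = Ds r a Finset.univ * derivative Q := by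
  rw [Phi_apply, Ds_eq, derivative_mul]
  linear_combination Q * key r a Finset.univ

noncomputable def Top (ρ : k) (α : ℕ) : k[X] →ₗ[k] k[X] :=
  (LinearMap.mulLeft k (X - C ρ)).comp (derivative (R := k)) - LinearMap.mulLeft k (C (α : k))

lemma Top_apply (ρ : k) (α : ℕ) (u : k[X]) :
    Top ρ α u = (X - C ρ) * derivative u - C (α : k) * u := by
  simp [Top]

lemma Phi_Ei_mul (i : Fin m) (u : k[X]) :
    Phi r a (Es r a (Finset.univ.erase i) * u) =
      Ds r a (Finset.univ.erase i) * Top (r i) (a i) u := by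
  rw [Phi_apply, Top_apply, Ds_eq, derivative_mul, Rs_univ r i, Ss_univ r a i]
  linear_combination (u * (X - C (r i))) * key r a (Finset.univ.erase i)

lemma coeff_Top (ρ : k) (α : ℕ) (u : k[X]) (j : ℕ) :
    (Top ρ α u).coeff j =
      ((j : k) - α) * u.coeff j - ρ * ((j : k) + 1) * u.coeff (j + 1) := by
  rw [Top_apply, sub_mul, coeff_sub, coeff_sub, coeff_C_mul, coeff_C_mul, coeff_derivative]
  cases j with
  | zero => rw [coeff_X_mul_zero]; push_cast; ring
  | succ n => rw [coeff_X_mul, coeff_derivative]; push_cast; ring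

lemma Top_mem (ρ : k) (α : ℕ) {n : ℕ} {u : k[X]} (hu : u ∈ degreeLT k n) :
    Top ρ α u ∈ degreeLT k n := by
  rw [mem_degreeLT, degree_lt_iff_coeff_zero] at hu ⊢
  intro j hj
  rw [coeff_Top, hu j hj, hu (j + 1) (by omega)]
  ring

lemma Top_inj [CharZero k] (ρ : k) (α : ℕ) {n : ℕ} (hn : n ≤ α) {u : k[X]}
    (hu : u ∈ degreeLT k n) (h0 : Top ρ α u = 0) : u = 0 := by
  by_contra hne
  have hdeg : u.natDegree < n := (natDegree_lt_iff_degree_lt hne).2 (mem_degreeLT.1 hu)
  have h1 := coeff_Top ρ α u u.natDegree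
  rw [h0, coeff_zero, coeff_eq_zero_of_natDegree_lt (Nat.lt_succ_self _), mul_zero,
    sub_zero] at h1
  rcases mul_eq_zero.1 h1.symm with h2 | h2
  · have h3 : (u.natDegree : k) = (α : k) := sub_eq_zero.1 h2
    have := Nat.cast_injective h3
    omega
  · exact hne (leadingCoeff_eq_zero.1 h2)

lemma Top_surj [CharZero k] (ρ : k) (α : ℕ) {n : ℕ} (hn : n ≤ α) {v : k[X]}
    (hv : v ∈ degreeLT k n) : ∃ u ∈ degreeLT k n, Top ρ α u = v := by
  let T' : degreeLT k n →ₗ[k] degreeLT k n :=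
    (Top ρ α).restrict (fun u hu => Top_mem ρ α hu)
  have hinj : Function.Injective T' := by
    rw [← LinearMap.ker_eq_bot, LinearMap.ker_eq_bot']
    intro u hu
    have h0 : Top ρ α u.1 = 0 := by
      have := congrArg Subtype.val hu
      simpa [T'] using this
    exact Subtype.ext (Top_inj ρ α hn u.2 h0)
  obtain ⟨u, hu⟩ := LinearMap.surjective_of_injective hinj ⟨v, hv⟩
  refine ⟨u.1, u.2, ?_⟩
  have := congrArg Subtype.val hu
  simpa [T'] using this

lemma exists_antideriv [CharZero k] (n : ℕ) {f : k[X]} (hf : f ∈ degreeLT k n) :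
    ∃ Q ∈ degreeLT k (n + 1), derivative Q = f := by
  classical
  have : degreeLT k n ≤ (degreeLT k (n + 1)).map (derivative (R := k)) := by
    rw [degreeLT_eq_span_X_pow, Submodule.span_le]
    intro g hg
    simp only [Finset.coe_image, Set.mem_image, Finset.mem_coe, Finset.mem_range] at hg
    obtain ⟨i, hi, rfl⟩ := hg
    refine ⟨C ((i + 1 : k)⁻¹) * X ^ (i + 1), ?_, ?_⟩
    · rw [SetLike.mem_coe, mem_degreeLT]
      calc degree (C ((i + 1 : k)⁻¹) * X ^ (i + 1)) ≤ ((i + 1 : ℕ) : WithBot ℕ) :=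
            degree_C_mul_X_pow_le _ _
        _ < ((n + 1 : ℕ) : WithBot ℕ) := by exact_mod_cast Nat.succ_lt_succ hi
    · show derivative (C ((i + 1 : k)⁻¹) * X ^ (i + 1)) = X ^ i
      rw [derivative_C_mul_X_pow, Nat.add_sub_cancel]
      have h1 : ((i + 1 : k)⁻¹) * ((i + 1 : ℕ) : k) = 1 := by
        push_cast
        exact inv_mul_cancel₀ (Nat.cast_add_one_ne_zero i)
      rw [h1, C_1, one_mul]
  obtain ⟨Q, hQ, hQf⟩ := this hf
  exact ⟨Q, hQ, hQf⟩

lemma mem_degreeLT_iff_natDegree {f : k[X]} {n : ℕ} (hf : f ≠ 0) :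
    f ∈ degreeLT k n ↔ f.natDegree < n := by
  rw [mem_degreeLT, natDegree_lt_iff_degree_lt hf]

lemma monic_mul_mem {P : k[X]} (hP : P.Monic) {p c : ℕ} (hp : P.natDegree = p) {Q : k[X]}
    (hQ : Q ∈ degreeLT k c) : P * Q ∈ degreeLT k (p + c) := by
  by_cases hQ0 : Q = 0
  · rw [hQ0, mul_zero]; exact Submodule.zero_mem _
  rw [mem_degreeLT_iff_natDegree hQ0] at hQ
  rw [mem_degreeLT_iff_natDegree (mul_ne_zero hP.ne_zero hQ0), hP.natDegree_mul' hQ0, hp]
  omega

lemma mem_of_monic_mul_mem {P : k[X]} (hP : P.Monic) {p c : ℕ} (hp : P.natDegree = p)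
    {H : k[X]} (h : P * H ∈ degreeLT k (p + c)) : H ∈ degreeLT k c := by
  by_cases hH : H = 0
  · rw [hH]; exact Submodule.zero_mem _
  rw [mem_degreeLT_iff_natDegree (mul_ne_zero hP.ne_zero hH), hP.natDegree_mul' hH, hp] at h
  rw [mem_degreeLT_iff_natDegree hH]
  omega

lemma derivative_mem {Q : k[X]} {c : ℕ} (hQ : Q ∈ degreeLT k (c + 1)) :
    derivative Q ∈ degreeLT k c := by
  rw [mem_degreeLT, degree_lt_iff_coeff_zero] at hQ ⊢
  intro j hj
  rw [coeff_derivative, hQ (j + 1) (by omega), zero_mul]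

lemma Es_monic (s : Finset (Fin m)) : (Es r a s).Monic :=
  monic_prod_of_monic _ _ fun j _ => (monic_X_sub_C _).pow _

lemma Es_natDegree (s : Finset (Fin m)) : (Es r a s).natDegree = ∑ j ∈ s, a j := by
  unfold Es
  rw [natDegree_prod_of_monic _ _ fun j _ => (monic_X_sub_C _).pow _]
  refine Finset.sum_congr rfl fun j _ => ?_
  rw [(monic_X_sub_C (r j)).natDegree_pow, natDegree_X_sub_C, mul_one]

lemma Es_mem (s : Finset (Fin m)) : Es r a s ∈ degreeLT k ((∑ j ∈ s, a j) + 1) := by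
  rw [mem_degreeLT_iff_natDegree (Es_monic r a s).ne_zero, Es_natDegree]
  omega

lemma eval_Rs_ne {q : k} (hq : ∀ j, q ≠ r j) (s : Finset (Fin m)) : (Rs r s).eval q ≠ 0 := by
  unfold Rs
  rw [eval_prod]
  exact Finset.prod_ne_zero_iff.2 fun j _ => by simpa [sub_eq_zero] using hq j

lemma eval_Es_ne {q : k} (hq : ∀ j, q ≠ r j) (s : Finset (Fin m)) :
    (Es r a s).eval q ≠ 0 := by
  unfold Es
  rw [eval_prod]
  exact Finset.prod_ne_zero_iff.2 fun j _ => by
    simpa [sub_eq_zero] using fun h => absurd h (hq j)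

lemma finrank_degreeLT (n : ℕ) : Module.finrank k (degreeLT k n) = n := by
  rw [Module.finrank_eq_card_basis (degreeLT.basis k n), Fintype.card_fin]

/-- The subspace of the statements. -/
noncomputable def Vc (c : ℕ) : Submodule k k[X] :=
  (degreeLT k c).map (LinearMap.mulLeft k (Ds r a Finset.univ)) ⊔
    ⨆ i, (degreeLT k (a i)).map (LinearMap.mulLeft k (Ds r a (Finset.univ.erase i)))

lemma Vc_le [CharZero k] (c : ℕ) :
    Vc r a c ≤ (degreeLT k ((∑ j, a j) + (c + 1))).map (Phi r a) := by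
  refine sup_le ?_ (iSup_le fun i => ?_)
  · rintro _ ⟨f, hf, rfl⟩
    obtain ⟨Q, hQ, rfl⟩ := exists_antideriv c hf
    refine ⟨Es r a Finset.univ * Q,
      monic_mul_mem (Es_monic r a _) (Es_natDegree r a _) hQ, ?_⟩
    rw [Phi_E_mul]; rfl
  · rintro _ ⟨v, hv, rfl⟩
    obtain ⟨u, hu, rfl⟩ := Top_surj (r i) (a i) le_rfl hv
    refine ⟨Es r a (Finset.univ.erase i) * u, ?_, ?_⟩
    · have h1 := monic_mul_mem (Es_monic r a (Finset.univ.erase i)) (Es_natDegree r a _) hu
      refine degreeLT_mono ?_ h1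
      have := Finset.add_sum_erase Finset.univ a (Finset.mem_univ i)
      omega
    · rw [Phi_Ei_mul]; rfl

lemma pf (hr : Function.Injective r) (c : ℕ) :
    degreeLT k ((∑ j, a j) + c) ≤
      (degreeLT k c).map (LinearMap.mulLeft k (Es r a Finset.univ)) ⊔
      ⨆ i, (degreeLT k (a i)).map (LinearMap.mulLeft k (Es r a (Finset.univ.erase i))) := by
  classical
  let ψ : (degreeLT k c × (∀ i : Fin m, degreeLT k (a i))) →ₗ[k] k[X] :=
    ((LinearMap.mulLeft k (Es r a Finset.univ)).comp (degreeLT k c).subtype).coprod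
      (∑ i : Fin m, ((LinearMap.mulLeft k (Es r a (Finset.univ.erase i))).comp
        (degreeLT k (a i)).subtype).comp (LinearMap.proj i))
  have hψ : ∀ x, ψ x = Es r a Finset.univ * (x.1 : k[X]) +
      ∑ i, Es r a (Finset.univ.erase i) * (x.2 i : k[X]) := by
    intro x
    simp [ψ, LinearMap.sum_apply]
  have hdegi : ∀ (i : Fin m) (u : degreeLT k (a i)),
      Es r a (Finset.univ.erase i) * (u : k[X]) ∈ degreeLT k ((∑ j, a j) + c) := by
    intro i u
    have h1 := monic_mul_mem (Es_monic r a (Finset.univ.erase i)) (Es_natDegree r a _) u.2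
    refine degreeLT_mono ?_ h1
    have := Finset.add_sum_erase Finset.univ a (Finset.mem_univ i)
    omega
  have hrange_le_deg : LinearMap.range ψ ≤ degreeLT k ((∑ j, a j) + c) := by
    rintro _ ⟨x, rfl⟩
    rw [hψ]
    refine Submodule.add_mem _
      (monic_mul_mem (Es_monic r a _) (Es_natDegree r a _) x.1.2)
      (Submodule.sum_mem _ fun i _ => hdegi i (x.2 i))
  have hrange_le_W : LinearMap.range ψ ≤
      (degreeLT k c).map (LinearMap.mulLeft k (Es r a Finset.univ)) ⊔
      ⨆ i, (degreeLT k (a i)).map (LinearMap.mulLeft k (Es r a (Finset.univ.erase i))) := by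
    rintro _ ⟨x, rfl⟩
    rw [hψ]
    refine Submodule.add_mem _ (Submodule.mem_sup_left ⟨x.1, x.1.2, rfl⟩)
      (Submodule.mem_sup_right (Submodule.sum_mem _ fun i _ =>
        Submodule.mem_iSup_of_mem i ⟨x.2 i, (x.2 i).2, rfl⟩))
  have hinj : Function.Injective ψ := by
    rw [← LinearMap.ker_eq_bot, LinearMap.ker_eq_bot']
    intro x hx
    rw [hψ] at hx
    have hu : ∀ i, (x.2 i : k[X]) = 0 := by
      intro i
      obtain ⟨P, hP⟩ : ∃ P : k[X], P = (X - C (r i)) ^ (a i) := ⟨_, rfl⟩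
      have hdvdE : P ∣ Es r a Finset.univ := by
        rw [Es_univ r a i, hP]; exact dvd_mul_right _ _
      have hdvdj : ∀ j ∈ Finset.univ.erase i,
          P ∣ Es r a (Finset.univ.erase j) * (x.2 j : k[X]) := by
        intro j hj
        have hij : i ∈ Finset.univ.erase j :=
          Finset.mem_erase.2 ⟨(Finset.ne_of_mem_erase hj).symm, Finset.mem_univ _⟩
        rw [hP]
        exact Dvd.dvd.mul_right
          (Finset.dvd_prod_of_mem (fun l => (X - C (r l)) ^ (a l)) hij) _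
      have hsum : Es r a (Finset.univ.erase i) * (x.2 i : k[X]) =
          -(Es r a Finset.univ * (x.1 : k[X]) +
            ∑ j ∈ Finset.univ.erase i, Es r a (Finset.univ.erase j) * (x.2 j : k[X])) := by
        rw [← Finset.add_sum_erase Finset.univ
          (fun j => Es r a (Finset.univ.erase j) * (x.2 j : k[X])) (Finset.mem_univ i)] at hx
        linear_combination hx
      have hdvd : P ∣ Es r a (Finset.univ.erase i) * (x.2 i : k[X]) := by
        rw [hsum]
        exact (dvd_neg).2 (dvd_add (Dvd.dvd.mul_right hdvdE _) (Finset.dvd_sum hdvdj))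
      have hcop : IsCoprime P (Es r a (Finset.univ.erase i)) := by
        rw [hP]
        refine IsCoprime.prod_right fun j hj => ?_
        refine IsCoprime.pow ?_
        exact isCoprime_X_sub_C_of_isUnit_sub
          (sub_ne_zero.2 (fun h => (Finset.ne_of_mem_erase hj) (hr h).symm)).isUnit
      have hdvd' : P ∣ (x.2 i : k[X]) := hcop.dvd_of_dvd_mul_left hdvd
      refine eq_zero_of_dvd_of_degree_lt hdvd' ?_
      have h2 := mem_degreeLT.1 (x.2 i).2
      rw [hP, degree_pow, degree_X_sub_C, nsmul_one]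
      exact h2
    have hQ : (x.1 : k[X]) = 0 := by
      simp only [hu, mul_zero, Finset.sum_const_zero, add_zero] at hx
      exact (mul_eq_zero.1 hx).resolve_left (Es_monic r a _).ne_zero
    exact Prod.ext (Subtype.ext hQ) (funext fun i => Subtype.ext (hu i))
  have hfr : Module.finrank k (LinearMap.range ψ) = (∑ j, a j) + c := by
    rw [LinearMap.finrank_range_of_inj hinj, Module.finrank_prod, Module.finrank_pi_fintype]
    simp only [finrank_degreeLT]
    omega
  have heq : LinearMap.range ψ = degreeLT k ((∑ j, a j) + c) :=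
    Submodule.eq_of_le_of_finrank_eq hrange_le_deg (by rw [hfr, finrank_degreeLT])
  rw [← heq]
  exact hrange_le_W

lemma le_Vc [CharZero k] (hr : Function.Injective r) (c : ℕ) :
    (degreeLT k ((∑ j, a j) + (c + 1))).map (Phi r a) ≤ Vc r a c := by
  rintro _ ⟨G, hG, rfl⟩
  have hG' := pf r a hr (c + 1) hG
  obtain ⟨y, hy, z, hz, rfl⟩ := Submodule.mem_sup.1 hG'
  rw [map_add]
  refine Submodule.add_mem _ ?_ ?_
  · obtain ⟨Q, hQ, rfl⟩ := hy
    refine Submodule.mem_sup_left ⟨derivative Q, derivative_mem hQ, ?_⟩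
    show Ds r a Finset.univ * derivative Q = Phi r a (Es r a Finset.univ * Q)
    rw [Phi_E_mul]
  · refine Submodule.mem_sup_right ?_
    have : (⨆ i, (degreeLT k (a i)).map (LinearMap.mulLeft k (Es r a (Finset.univ.erase i)))) ≤
        (⨆ i, (degreeLT k (a i)).map
          (LinearMap.mulLeft k (Ds r a (Finset.univ.erase i)))).comap (Phi r a) := by
      refine iSup_le fun i => ?_
      rintro _ ⟨u, hu, rfl⟩
      refine Submodule.mem_iSup_of_mem i ⟨Top (r i) (a i) u, Top_mem _ _ hu, ?_⟩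
      show Ds r a (Finset.univ.erase i) * Top (r i) (a i) u =
        Phi r a (Es r a (Finset.univ.erase i) * u)
      rw [Phi_Ei_mul]
    exact this hz

lemma Vc_eq [CharZero k] (hr : Function.Injective r) (c : ℕ) :
    Vc r a c = (degreeLT k ((∑ j, a j) + (c + 1))).map (Phi r a) :=
  le_antisymm (Vc_le r a c) (le_Vc r a hr c)

lemma Phi_E : Phi r a (Es r a Finset.univ) = 0 := by
  have := Phi_E_mul r a (1 : k[X])
  rwa [mul_one, derivative_one, mul_zero] at this

lemma Phi_sub_smul_E (G : k[X]) (c : k) :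
    Phi r a (G - c • Es r a Finset.univ) = Phi r a G := by
  rw [map_sub, map_smul, Phi_E, smul_zero, sub_zero]

noncomputable def Bq (q : k) (n : ℕ) (H : k[X]) : k[X] :=
  (C ((n : k) + 1) * H + (X - C q) * derivative H) * Rs r Finset.univ -
    (X - C q) * H * Ss r a Finset.univ

lemma Phi_pow_mul (q : k) (n : ℕ) (H : k[X]) :
    Phi r a ((X - C q) ^ (n + 1) * H) = (X - C q) ^ n * Bq r a q n H := by
  rw [Phi_apply, Bq, derivative_mul, derivative_X_sub_C_pow, Nat.add_sub_cancel]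
  simp only [Nat.cast_add, Nat.cast_one]
  ring

lemma eval_Bq (q : k) (n : ℕ) (H : k[X]) :
    (Bq r a q n H).eval q = ((n : k) + 1) * H.eval q * (Rs r Finset.univ).eval q := by
  simp [Bq]

lemma exists_dvd_of_dvd_Phi [CharZero k] {q : k} (hq : ∀ j, q ≠ r j) (n : ℕ) (G : k[X])
    (h : (X - C q) ^ n ∣ Phi r a G) :
    ∃ c : k, (X - C q) ^ (n + 1) ∣ G - c • Es r a Finset.univ := by
  have hE := eval_Es_ne r a hq Finset.univ
  have hR := eval_Rs_ne r hq Finset.univ
  refine ⟨G.eval q / (Es r a Finset.univ).eval q, ?_⟩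
  obtain ⟨G₁, hG₁⟩ : ∃ G₁ : k[X],
    G₁ = G - (G.eval q / (Es r a Finset.univ).eval q) • Es r a Finset.univ := ⟨_, rfl⟩
  rw [← hG₁]
  have hroot : G₁.eval q = 0 := by
    rw [hG₁, eval_sub, eval_smul, smul_eq_mul, div_mul_cancel₀ _ hE, sub_self]
  by_cases h0 : G₁ = 0
  · rw [h0]; exact dvd_zero _
  have hΦ : Phi r a G₁ = Phi r a G := by rw [hG₁]; exact Phi_sub_smul_E r a G _
  obtain ⟨v, H, hH, hndvd, hvpos⟩ : ∃ (v : ℕ) (H : k[X]),
      G₁ = (X - C q) ^ v * H ∧ ¬ (X - C q) ∣ H ∧ 0 < v := by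
    obtain ⟨H, hH, hndvd⟩ := exists_eq_pow_rootMultiplicity_mul_and_not_dvd G₁ h0 q
    exact ⟨_, H, hH, hndvd, (rootMultiplicity_pos h0).2 hroot⟩
  obtain ⟨w, rfl⟩ : ∃ w, v = w + 1 := ⟨v - 1, by omega⟩
  have hHq : H.eval q ≠ 0 := fun h' => hndvd (dvd_iff_isRoot.2 h')
  have hB : (Bq r a q w H).eval q ≠ 0 := by
    rw [eval_Bq]
    exact mul_ne_zero (mul_ne_zero (Nat.cast_add_one_ne_zero w) hHq) hR
  rw [← hΦ, hH, Phi_pow_mul] at h
  by_contra hcon
  have hnw : w < n := by
    by_contra hle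
    push Not at hle
    apply hcon
    rw [hH]
    exact Dvd.dvd.mul_right (pow_dvd_pow _ (by omega)) _
  have h2 : (X - C q) ^ (w + 1) ∣ (X - C q) ^ w * Bq r a q w H :=
    (pow_dvd_pow _ (by omega)).trans h
  rw [pow_succ, mul_dvd_mul_iff_left (pow_ne_zero _ (X_sub_C_ne_zero q))] at h2
  exact hB (dvd_iff_isRoot.1 h2)

lemma dvd_Phi_of_dvd (q : k) (n : ℕ) (H : k[X]) :
    (X - C q) ^ n ∣ Phi r a ((X - C q) ^ (n + 1) * H) := by
  rw [Phi_pow_mul]; exact dvd_mul_right _ _

lemma monic_pow_natDegree (q : k) (n : ℕ) :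
    ((X - C q) ^ n).Monic ∧ ((X - C q) ^ n).natDegree = n := by
  refine ⟨(monic_X_sub_C q).pow n, ?_⟩
  rw [(monic_X_sub_C q).natDegree_pow, natDegree_X_sub_C, mul_one]

/-- F5: the members of `V` divisible by `(X-q)^n` at an unmarked point. -/
lemma F5 [CharZero k] {b N : ℕ} (hN : N = (∑ j, a j) + b) {q : k} (hq : ∀ j, q ≠ r j)
    {n : ℕ} (hn : n ≤ N) {h : k[X]} (hV : h ∈ Vc r a b) (hdvd : (X - C q) ^ n ∣ h) :
    ∃ H ∈ degreeLT k (N - n), h = Phi r a ((X - C q) ^ (n + 1) * H) := by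
  obtain ⟨G, hG, rfl⟩ := Vc_le r a b hV
  obtain ⟨c, H, hH⟩ := exists_dvd_of_dvd_Phi r a hq n G hdvd
  have hmem : G - c • Es r a Finset.univ ∈ degreeLT k ((∑ j, a j) + (b + 1)) := by
    refine Submodule.sub_mem _ hG (Submodule.smul_mem _ _ ?_)
    exact degreeLT_mono (by omega) (Es_mem r a Finset.univ)
  refine ⟨H, ?_, ?_⟩
  · rw [hH] at hmem
    have hm := monic_pow_natDegree q (n + 1)
    refine mem_of_monic_mul_mem hm.1 hm.2 ?_
    have : n + 1 + (N - n) = (∑ j, a j) + (b + 1) := by omega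
    rw [this]; exact hmem
  · rw [← hH, Phi_sub_smul_E]

lemma exists_unmarked [CharZero k] : ∃ q : k, ∀ j, q ≠ r j := by
  classical
  obtain ⟨q, hq⟩ := Infinite.exists_notMem_finset (Finset.univ.image r)
  exact ⟨q, fun j h => hq (Finset.mem_image.2 ⟨j, Finset.mem_univ _, h.symm⟩)⟩

lemma ker_Phi [CharZero k] {n : ℕ} {G : k[X]} (hn : (∑ j, a j) + 1 ≤ n)
    (hG : G ∈ degreeLT k n) (h0 : Phi r a G = 0) :
    ∃ c : k, G = c • Es r a Finset.univ := by
  obtain ⟨q, hq⟩ := exists_unmarked r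
  obtain ⟨c, hc⟩ := exists_dvd_of_dvd_Phi r a hq n G (by rw [h0]; exact dvd_zero _)
  refine ⟨c, ?_⟩
  have hmem : G - c • Es r a Finset.univ ∈ degreeLT k n := by
    refine Submodule.sub_mem _ hG (Submodule.smul_mem _ _ ?_)
    exact degreeLT_mono hn (Es_mem r a Finset.univ)
  have := eq_zero_of_dvd_of_degree_lt hc (by
    have h1 := mem_degreeLT.1 hmem
    rw [degree_pow, degree_X_sub_C, nsmul_one]
    refine h1.trans ?_
    exact_mod_cast Nat.lt_succ_self n)
  exact sub_eq_zero.1 this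

lemma ker_Phi' [CharZero k] {G : k[X]} (h0 : Phi r a G = 0) :
    ∃ c : k, G = c • Es r a Finset.univ := by
  refine ker_Phi r a (n := max ((∑ j, a j) + 1) (G.natDegree + 1)) (le_max_left _ _) ?_ h0
  rw [mem_degreeLT]
  refine lt_of_le_of_lt degree_le_natDegree ?_
  exact_mod_cast lt_of_lt_of_le (Nat.lt_succ_self _) (le_max_right _ _)

noncomputable def gq (q : k) (n : ℕ) : k[X] →ₗ[k] k[X] :=
  (Phi r a).comp (LinearMap.mulLeft k ((X - C q) ^ (n + 1)))

lemma gq_apply (q : k) (n : ℕ) (H : k[X]) :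
    gq r a q n H = Phi r a ((X - C q) ^ (n + 1) * H) := rfl

lemma gq_injective [CharZero k] {q : k} (hq : ∀ j, q ≠ r j) (n : ℕ) :
    Function.Injective (gq r a q n) := by
  rw [← LinearMap.ker_eq_bot, LinearMap.ker_eq_bot']
  intro H hH
  rw [gq_apply] at hH
  obtain ⟨c, hc⟩ := ker_Phi' r a hH
  have hc0 : c = 0 := by
    have h1 := congrArg (eval q) hc
    rw [eval_mul, eval_pow, eval_sub, eval_X, eval_C, sub_self, zero_pow (Nat.succ_ne_zero n),
      zero_mul, eval_smul, smul_eq_mul] at h1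
    exact (mul_eq_zero.1 h1.symm).resolve_right (eval_Es_ne r a hq _)
  rw [hc0, zero_smul] at hc
  exact (mul_eq_zero.1 hc).resolve_left (pow_ne_zero _ (X_sub_C_ne_zero q))

lemma mem_span_pow_iff {q : k} {n : ℕ} {h : k[X]} :
    h ∈ (Ideal.span {(X - C q) ^ n}).restrictScalars k ↔ (X - C q) ^ n ∣ h := by
  rw [Submodule.restrictScalars_mem, Ideal.mem_span_singleton]

lemma Vc_inf_eq [CharZero k] (hr : Function.Injective r) {b N : ℕ} (hN : N = (∑ j, a j) + b)
    {q : k} (hq : ∀ j, q ≠ r j) {n : ℕ} (hn : n ≤ N) :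
    Vc r a b ⊓ (Ideal.span {(X - C q) ^ n}).restrictScalars k =
      (degreeLT k (N - n)).map (gq r a q n) := by
  apply le_antisymm
  · rintro h ⟨hV, hd⟩
    obtain ⟨H, hH, rfl⟩ := F5 r a hN hq hn hV (mem_span_pow_iff.1 hd)
    exact ⟨H, hH, rfl⟩
  · rintro _ ⟨H, hH, rfl⟩
    refine ⟨?_, mem_span_pow_iff.2 (dvd_Phi_of_dvd r a q n H)⟩
    have hm := monic_pow_natDegree q (n + 1)
    have h1 := monic_mul_mem hm.1 hm.2 hH
    have h2 : n + 1 + (N - n) = (∑ j, a j) + (b + 1) := by omega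
    rw [h2] at h1
    have h3 := le_Vc r a hr b (Submodule.mem_map_of_mem (f := Phi r a) h1)
    rw [gq_apply]
    exact h3

lemma finrank_Vc_inf [CharZero k] (hr : Function.Injective r) {b N : ℕ}
    (hN : N = (∑ j, a j) + b) {q : k} (hq : ∀ j, q ≠ r j) {n : ℕ} (hn : n ≤ N) :
    Module.finrank k ↥(Vc r a b ⊓ (Ideal.span {(X - C q) ^ n}).restrictScalars k) = N - n := by
  rw [Vc_inf_eq r a hr hN hq hn,
    ← LinearEquiv.finrank_eq (Submodule.equivMapOfInjective _ (gq_injective r a hq n) _),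
    finrank_degreeLT]

lemma finrank_Vc [CharZero k] (hr : Function.Injective r) {b N : ℕ}
    (hN : N = (∑ j, a j) + b) : Module.finrank k ↥(Vc r a b) = N := by
  obtain ⟨q, hq⟩ := exists_unmarked r
  have h := finrank_Vc_inf r a hr hN hq (Nat.zero_le N)
  have h2 : (Ideal.span {(X - C q) ^ 0}).restrictScalars k = (⊤ : Submodule k k[X]) := by
    rw [pow_zero, Ideal.span_singleton_one]; rfl
  rwa [h2, inf_top_eq, Nat.sub_zero] at h

instance Vc_finite [CharZero k] (c : ℕ) : Module.Finite k ↥(Vc r a c) := by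
  have h : Vc r a c ≤ (degreeLT k ((∑ j, a j) + (c + 1))).map (Phi r a) := Vc_le r a c
  exact Submodule.finiteDimensional_of_le h

lemma degreeLT_succ_le {W : Submodule k k[X]} {n : ℕ} (hW : degreeLT k n ≤ W) {P : k[X]}
    (hPW : P ∈ W) (hP : P ∈ degreeLT k (n + 1)) (hc : P.coeff n ≠ 0) :
    degreeLT k (n + 1) ≤ W := by
  intro F hF
  have h1 : F - C (F.coeff n / P.coeff n) * P ∈ degreeLT k n := by
    rw [mem_degreeLT, degree_lt_iff_coeff_zero] at hF hP ⊢
    intro j hj
    rw [coeff_sub, coeff_C_mul]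
    rcases Nat.eq_or_lt_of_le hj with rfl | hlt
    · rw [div_mul_cancel₀ _ hc, sub_self]
    · rw [hF j (by omega), hP j (by omega), mul_zero, sub_zero]
  have h2 : F = (F - C (F.coeff n / P.coeff n) * P) + (F.coeff n / P.coeff n) • P := by
    rw [smul_eq_C_mul]; ring
  rw [h2]
  exact W.add_mem (hW h1) (W.smul_mem _ hPW)

end Groth.Agent.Helper17.PW
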