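import Groth.Agent.Lib.Helper17.PW1

set_option autoImplicit false

open Polynomial

namespace Groth.Agent.Helper17.PW

variable {k : Type*} [Field k] {m : ℕ} (r : Fin m → k) (a : Fin m → ℕ)

lemma eq_zero_of_mem_degreeLT_zero {H : k[X]} (h : H ∈ degreeLT k 0) : H = 0 := by
  rw [mem_degreeLT, degree_lt_iff_coeff_zero] at h
  ext j
  simpa using h j (Nat.zero_le _)

lemma eq_C_of_mem_degreeLT_one {H : k[X]} (h : H ∈ degreeLT k 1) : H = C (H.coeff 0) := by
  rw [mem_degreeLT, degree_lt_iff_coeff_zero] at h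
  ext j
  rcases Nat.eq_zero_or_pos j with rfl | hj
  · simp
  · rw [h j hj, coeff_C, if_neg (by omega)]

theorem s17242 [CharZero k] {b N : ℕ} (hN : N = (∑ j, a j) + b) {V : Submodule k k[X]}
    (hV : V = Vc r a b) {q : k} (hq : ∀ j, q ≠ r j) :
    V ⊓ (Ideal.span {(X - C q) ^ N}).restrictScalars k = ⊥ := by
  rw [hV, eq_bot_iff]
  rintro h ⟨hV', hd⟩
  obtain ⟨H, hH, rfl⟩ := F5 r a hN hq le_rfl hV' (mem_span_pow_iff.1 hd)
  rw [Nat.sub_self] at hH
  rw [eq_zero_of_mem_degreeLT_zero hH, mul_zero, map_zero]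
  exact Submodule.zero_mem _

lemma pow_mem_of_ne_bot [CharZero k] {b N : ℕ} (hN : N = (∑ j, a j) + b) (hN1 : 1 ≤ N)
    {q : k} (hq : ∀ j, q ≠ r j) {V₁ : Submodule k k[X]} (hV₁ : V₁ ≤ Vc r a b)
    (hne : V₁ ⊓ (Ideal.span {(X - C q) ^ (N - 1)}).restrictScalars k ≠ ⊥) :
    Phi r a ((X - C q) ^ N) ∈ V₁ := by
  obtain ⟨x, ⟨hx1, hxd⟩, hx0⟩ := (Submodule.ne_bot_iff _).1 hne
  obtain ⟨H, hH, hxH⟩ := F5 r a hN hq (Nat.sub_le N 1) (hV₁ hx1) (mem_span_pow_iff.1 hxd)
  have h1 : N - (N - 1) = 1 := by omega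
  have h2 : N - 1 + 1 = N := by omega
  rw [h1] at hH
  rw [h2, eq_C_of_mem_degreeLT_one hH, mul_comm, ← smul_eq_C_mul, map_smul] at hxH
  have hc : H.coeff 0 ≠ 0 := by
    intro h0
    rw [h0, zero_smul] at hxH
    exact hx0 hxH
  have h3 : Phi r a ((X - C q) ^ N) = (H.coeff 0)⁻¹ • x := by
    rw [hxH, smul_smul, inv_mul_cancel₀ hc, one_smul]
  rw [h3]
  exact V₁.smul_mem _ hx1

lemma pow_monic_mem (q : k) (n : ℕ) :
    (X - C q) ^ n ∈ degreeLT k (n + 1) ∧ ((X - C q) ^ n).coeff n = 1 := by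
  have hm := monic_pow_natDegree q n
  refine ⟨?_, ?_⟩
  · rw [mem_degreeLT_iff_natDegree hm.1.ne_zero, hm.2]; omega
  · have := hm.1.coeff_natDegree
    rwa [hm.2] at this

lemma coeff_pow_pred (q : k) (n : ℕ) :
    ((X - C q) ^ (n + 1)).coeff n = -q * ((n : k) + 1) := by
  rw [sub_eq_add_neg, ← C_neg, coeff_X_add_C_pow, Nat.choose_succ_self_right]
  have : n + 1 - n = 1 := by omega
  rw [this, pow_one]
  push_cast
  ring

/-- Common setup for hyperplanes: if `Φ` maps `degreeLT (N+1)` into `V₁` we get a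
contradiction with the dimension. -/
lemma not_le_comap [CharZero k] (hr : Function.Injective r) {b N : ℕ}
    (hN : N = (∑ j, a j) + b) {V₁ : Submodule k k[X]} (hV₁ : V₁ ≤ Vc r a b)
    (hfin : Module.finrank k ↥V₁ + 1 = N) :
    ¬ degreeLT k (N + 1) ≤ V₁.comap (Phi r a) := by
  intro hle
  have h1 : Vc r a b ≤ V₁ := by
    rw [Vc_eq r a hr b]
    have : (∑ j, a j) + (b + 1) = N + 1 := by omega
    rw [this]
    exact Submodule.map_le_iff_le_comap.2 hle
  haveI : Module.Finite k ↥V₁ := Submodule.finiteDimensional_of_le hV₁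
  have h2 := Submodule.finrank_mono h1
  rw [finrank_Vc r a hr hN] at h2
  omega

/-- If `V₁ ⊇ Φ(degreeLT (N-1))` is a hyperplane, then it contains no two "independent top"
elements. -/
lemma top_contra [CharZero k] (hr : Function.Injective r) {b N : ℕ}
    (hN : N = (∑ j, a j) + b) (hN1 : 1 ≤ N) {V₁ : Submodule k k[X]} (hV₁ : V₁ ≤ Vc r a b)
    (hfin : Module.finrank k ↥V₁ + 1 = N)
    (hW0 : degreeLT k (N - 1) ≤ V₁.comap (Phi r a))
    {P₁ P₂ : k[X]} (h1W : Phi r a P₁ ∈ V₁) (h2W : Phi r a P₂ ∈ V₁)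
    (h1d : P₁ ∈ degreeLT k N) (h1c : P₁.coeff (N - 1) ≠ 0)
    (h2d : P₂ ∈ degreeLT k (N + 1)) (h2c : P₂.coeff N ≠ 0) : False := by
  have hN' : N - 1 + 1 = N := by omega
  have hA : degreeLT k (N - 1 + 1) ≤ V₁.comap (Phi r a) :=
    degreeLT_succ_le hW0 h1W (by rw [hN']; exact h1d) h1c
  rw [hN'] at hA
  have hB : degreeLT k (N + 1) ≤ V₁.comap (Phi r a) := degreeLT_succ_le hA h2W h2d h2c
  exact not_le_comap r a hr hN hV₁ hfin hB

lemma hW0_of_hU [CharZero k] (hr : Function.Injective r) {b N : ℕ}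
    (hN : N = (∑ j, a j) + b) (hb : 1 ≤ b) {V₁ : Submodule k k[X]}
    (hU : Vc r a (b - 2) ≤ V₁) : degreeLT k (N - 1) ≤ V₁.comap (Phi r a) := by
  intro G hG
  refine hU (le_Vc r a hr (b - 2) ⟨G, degreeLT_mono (by omega) hG, rfl⟩)

/-- The weight bound: at most a line of members divisible by `(X-q)^(N-2)`, given a witness
in `(X-q)^(N-1) · degreeLT 2` whose image is not in `V₁`. -/
lemma finrank_le_one_of_witness [CharZero k] (hr : Function.Injective r) {b N : ℕ}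
    (hN : N = (∑ j, a j) + b) (hN2 : 2 ≤ N) {q : k} (hq : ∀ j, q ≠ r j)
    {V₁ : Submodule k k[X]} (hV₁ : V₁ ≤ Vc r a b)
    (hwit : ∃ H ∈ degreeLT k 2, Phi r a ((X - C q) ^ (N - 1) * H) ∉ V₁) :
    Module.finrank k ↥(V₁ ⊓ (Ideal.span {(X - C q) ^ (N - 2)}).restrictScalars k) ≤ 1 := by
  by_contra hcon
  push Not at hcon
  have hfr := finrank_Vc_inf r a hr hN hq (Nat.sub_le N 2)
  have h22 : N - (N - 2) = 2 := by omega
  rw [h22] at hfr
  have hle : V₁ ⊓ (Ideal.span {(X - C q) ^ (N - 2)}).restrictScalars k ≤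
      Vc r a b ⊓ (Ideal.span {(X - C q) ^ (N - 2)}).restrictScalars k :=
    inf_le_inf_right _ hV₁
  haveI : Module.Finite k ↥(Vc r a b ⊓ (Ideal.span {(X - C q) ^ (N - 2)}).restrictScalars k) :=
    Submodule.finiteDimensional_of_le inf_le_left
  have heq := Submodule.eq_of_le_of_finrank_le hle (by rw [hfr]; omega)
  obtain ⟨H, hH, hnot⟩ := hwit
  apply hnot
  have hmem : Phi r a ((X - C q) ^ (N - 1) * H) ∈
      Vc r a b ⊓ (Ideal.span {(X - C q) ^ (N - 2)}).restrictScalars k := by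
    rw [Vc_inf_eq r a hr hN hq (Nat.sub_le N 2), h22]
    refine ⟨H, hH, ?_⟩
    rw [gq_apply]
    have : N - 2 + 1 = N - 1 := by omega
    rw [this]
  rw [← heq] at hmem
  exact hmem.1

theorem s17243 [CharZero k] (hr : Function.Injective r) {b N : ℕ} (hb : 1 ≤ b)
    (hN : N = (∑ j, a j) + b) {V V₁ : Submodule k k[X]} (hV : V = Vc r a b) (hV₁ : V₁ ≤ V)
    (hfin : Module.finrank k ↥V₁ + 1 = N) (hU : Vc r a (b - 2) ≤ V₁) :
    (∀ q : k, (∀ j, q ≠ r j) →
      (V₁ ⊓ (Ideal.span {(X - C q) ^ N}).restrictScalars k) = ⊥ ∧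
      Module.finrank k ↥(V₁ ⊓ (Ideal.span {(X - C q) ^ (N - 2)}).restrictScalars k) ≤ 1) ∧
    (∀ q q' : k, (∀ j, q ≠ r j) → (∀ j, q' ≠ r j) →
      (V₁ ⊓ (Ideal.span {(X - C q) ^ (N - 1)}).restrictScalars k) ≠ ⊥ →
      (V₁ ⊓ (Ideal.span {(X - C q') ^ (N - 1)}).restrictScalars k) ≠ ⊥ → q = q') := by
  subst hV
  have hN1 : 1 ≤ N := by omega
  have hW0 := hW0_of_hU r a hr hN hb hU
  haveI : Module.Finite k ↥V₁ := Submodule.finiteDimensional_of_le hV₁
  refine ⟨fun q hq => ⟨?_, ?_⟩, ?_⟩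
  · rw [eq_bot_iff, ← s17242 r a hN rfl hq]
    exact inf_le_inf_right _ hV₁
  · by_cases hN2 : 2 ≤ N
    · refine finrank_le_one_of_witness r a hr hN hN2 hq hV₁ ?_
      by_contra hall
      push Not at hall
      have hX : (X : k[X]) ∈ degreeLT k 2 := by
        rw [mem_degreeLT_iff_natDegree X_ne_zero, natDegree_X]; omega
      have h1 : (1 : k[X]) ∈ degreeLT k 2 := by
        rw [mem_degreeLT_iff_natDegree one_ne_zero, natDegree_one]; omega
      have hP1 := hall 1 h1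
      have hP2 := hall X hX
      rw [mul_one] at hP1
      have hm := pow_monic_mem q (N - 1)
      have hN' : N - 1 + 1 = N := by omega
      rw [hN'] at hm
      have hmon : ((X - C q) ^ (N - 1) * X).Monic := ((monic_X_sub_C q).pow _).mul monic_X
      have hnd : ((X - C q) ^ (N - 1) * X).natDegree = N := by
        rw [((monic_X_sub_C q).pow _).natDegree_mul monic_X, natDegree_X,
          (monic_pow_natDegree q (N - 1)).2]
        omega
      refine top_contra r a hr hN hN1 hV₁ hfin hW0 hP1 hP2 hm.1 (by rw [hm.2]; exact one_ne_zero)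
        ?_ ?_
      · rw [mem_degreeLT_iff_natDegree hmon.ne_zero, hnd]; omega
      · have := hmon.coeff_natDegree
        rw [hnd] at this
        rw [this]; exact one_ne_zero
    · have h0 : Module.finrank k ↥V₁ = 0 := by omega
      have := Submodule.finrank_mono (inf_le_left :
        V₁ ⊓ (Ideal.span {(X - C q) ^ (N - 2)}).restrictScalars k ≤ V₁)
      omega
  · intro q q' hq hq' hne hne'
    by_contra hqq
    have hP := pow_mem_of_ne_bot r a hN hN1 hq hV₁ hne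
    have hP' := pow_mem_of_ne_bot r a hN hN1 hq' hV₁ hne'
    obtain ⟨N', rfl⟩ : ∃ N', N = N' + 1 := ⟨N - 1, by omega⟩
    have hd : Phi r a ((X - C q) ^ (N' + 1) - (X - C q') ^ (N' + 1)) ∈ V₁ := by
      rw [map_sub]; exact V₁.sub_mem hP hP'
    have hm := pow_monic_mem q (N' + 1)
    have hm' := pow_monic_mem q' (N' + 1)
    refine top_contra r a hr hN hN1 hV₁ hfin hW0 hd hP ?_ ?_ hm.1
      (by rw [hm.2]; exact one_ne_zero)
    · have h1 := hm.1
      have h2 := hm'.1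
      rw [mem_degreeLT, degree_lt_iff_coeff_zero] at h1 h2 ⊢
      intro j hj
      rw [coeff_sub]
      rcases Nat.eq_or_lt_of_le hj with rfl | hlt
      · rw [hm.2, hm'.2, sub_self]
      · rw [h1 j (by omega), h2 j (by omega), sub_zero]
    · rw [Nat.add_sub_cancel, coeff_sub, coeff_pow_pred, coeff_pow_pred]
      have h3 : -q * ((N' : k) + 1) - -q' * ((N' : k) + 1) = (q' - q) * ((N' : k) + 1) := by ring
      rw [h3]
      exact mul_ne_zero (sub_ne_zero.2 (Ne.symm hqq)) (Nat.cast_add_one_ne_zero N')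

lemma eval_Phi_pow [CharZero k] (p q : k) (n : ℕ) :
    (Phi r a ((X - C q) ^ (n + 1))).eval p =
      (p - q) ^ n * (((n : k) + 1) * (Rs r Finset.univ).eval p -
        (p - q) * (Ss r a Finset.univ).eval p) := by
  rw [Phi_apply, derivative_X_sub_C_pow, Nat.add_sub_cancel]
  simp only [eval_sub, eval_mul, eval_pow, eval_X, eval_C, Nat.cast_add, Nat.cast_one]
  ring

theorem s17245 [CharZero k] (hr : Function.Injective r) {b N : ℕ} (hb : 1 ≤ b)
    (hN : N = (∑ j, a j) + b) {V V₁ : Submodule k k[X]} (hV : V = Vc r a b)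
    {p : k} (hp : ∀ j, p ≠ r j)
    (hV₁ : V₁ = V ⊓ (Ideal.span {X - C p}).restrictScalars k) :
    Module.finrank k ↥V₁ + 1 = N ∧
    (V₁ ⊓ (Ideal.span {(X - C p) ^ N}).restrictScalars k) = ⊥ ∧
    (∀ q : k, (∀ j, q ≠ r j) → q ≠ p →
      (V₁ ⊓ (Ideal.span {(X - C q) ^ N}).restrictScalars k) = ⊥ ∧
      Module.finrank k ↥(V₁ ⊓ (Ideal.span {(X - C q) ^ (N - 2)}).restrictScalars k) ≤ 1) ∧
    (∀ q q' : k, (∀ j, q ≠ r j) → q ≠ p → (∀ j, q' ≠ r j) → q' ≠ p →
      (V₁ ⊓ (Ideal.span {(X - C q) ^ (N - 1)}).restrictScalars k) ≠ ⊥ →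
      (V₁ ⊓ (Ideal.span {(X - C q') ^ (N - 1)}).restrictScalars k) ≠ ⊥ → q = q') := by
  subst hV
  have hN1 : 1 ≤ N := by omega
  have hV₁le : V₁ ≤ Vc r a b := by rw [hV₁]; exact inf_le_left
  have hfin : Module.finrank k ↥V₁ + 1 = N := by
    have h := finrank_Vc_inf r a hr hN hp hN1
    rw [pow_one, ← hV₁] at h
    omega
  have hmemV₁ : ∀ x ∈ V₁, x.eval p = 0 := by
    intro x hx
    rw [hV₁] at hx
    have := (Submodule.mem_inf.1 hx).2
    rw [Submodule.restrictScalars_mem, Ideal.mem_span_singleton] at this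
    exact dvd_iff_isRoot.1 this
  haveI : Module.Finite k ↥V₁ := Submodule.finiteDimensional_of_le hV₁le
  have hRp := eval_Rs_ne r hp Finset.univ
  refine ⟨hfin, ?_, fun q hq hqp => ⟨?_, ?_⟩, ?_⟩
  · rw [eq_bot_iff, ← s17242 r a hN rfl hp]
    exact inf_le_inf_right _ hV₁le
  · rw [eq_bot_iff, ← s17242 r a hN rfl hq]
    exact inf_le_inf_right _ hV₁le
  · by_cases hN2 : 2 ≤ N
    · refine finrank_le_one_of_witness r a hr hN hN2 hq hV₁le
        ⟨X - C p, ?_, fun hmem => ?_⟩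
      · rw [mem_degreeLT_iff_natDegree (X_sub_C_ne_zero p), natDegree_X_sub_C]; omega
      · have h0 := hmemV₁ _ hmem
        have h1 : (X - C q) ^ (N - 1) * (X - C p) = (X - C p) ^ (0 + 1) * (X - C q) ^ (N - 1) := by
          ring
        rw [h1, Phi_pow_mul, pow_zero, one_mul, eval_Bq] at h0
        simp only [eval_pow, eval_sub, eval_X, eval_C, Nat.cast_zero, zero_add, one_mul] at h0
        rcases mul_eq_zero.1 h0 with h2 | h2
        · exact hqp (sub_eq_zero.1 (pow_eq_zero_iff (by omega) |>.1 h2)).symm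
        · exact hRp h2
    · have h0 : Module.finrank k ↥V₁ = 0 := by omega
      have := Submodule.finrank_mono (inf_le_left :
        V₁ ⊓ (Ideal.span {(X - C q) ^ (N - 2)}).restrictScalars k ≤ V₁)
      omega
  · intro q q' hq hqp hq' hqp' hne hne'
    have hP := hmemV₁ _ (pow_mem_of_ne_bot r a hN hN1 hq hV₁le hne)
    have hP' := hmemV₁ _ (pow_mem_of_ne_bot r a hN hN1 hq' hV₁le hne')
    obtain ⟨N', rfl⟩ : ∃ N', N = N' + 1 := ⟨N - 1, by omega⟩
    rw [eval_Phi_pow] at hP hP'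
    have e1 := (mul_eq_zero.1 hP).resolve_left
      (pow_ne_zero _ (sub_ne_zero.2 (Ne.symm hqp)))
    have e2 := (mul_eq_zero.1 hP').resolve_left
      (pow_ne_zero _ (sub_ne_zero.2 (Ne.symm hqp')))
    have e3 : (q - q') * (Ss r a Finset.univ).eval p = 0 := by linear_combination e1 - e2
    rcases mul_eq_zero.1 e3 with h | h
    · exact sub_eq_zero.1 h
    · exfalso
      rw [h, mul_zero, sub_zero] at e1
      rcases mul_eq_zero.1 e1 with h' | h'
      · exact Nat.cast_add_one_ne_zero N' h'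
      · exact hRp h'

end Groth.Agent.Helper17.PW
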