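import Groth.Agent.Lib.Helper17.PW2

set_option autoImplicit false

open Polynomial

namespace Groth.Agent.Helper17.PW

variable {k : Type*} [Field k] {m : ℕ} (r : Fin m → k) (a : Fin m → ℕ)

lemma ker_Phi_eq [CharZero k] :
    LinearMap.ker (Phi r a) = Submodule.span k {Es r a Finset.univ} := by
  ext G
  rw [LinearMap.mem_ker, Submodule.mem_span_singleton]
  constructor
  · intro h
    obtain ⟨c, hc⟩ := ker_Phi' r a h
    exact ⟨c, hc.symm⟩
  · rintro ⟨c, rfl⟩
    rw [map_smul, Phi_E, smul_zero]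

lemma finrank_map_Phi_of_not_mem [CharZero k] (K : Submodule k k[X])
    (hE : Es r a Finset.univ ∉ K) :
    Module.finrank k ↥(K.map (Phi r a)) = Module.finrank k ↥K := by
  have hinj : Function.Injective ((Phi r a).domRestrict K) := by
    rw [← LinearMap.ker_eq_bot, LinearMap.ker_eq_bot']
    intro x hx
    have hx' : Phi r a x.1 = 0 := hx
    obtain ⟨c, hc⟩ := ker_Phi' r a hx'
    by_cases hc0 : c = 0
    · apply Subtype.ext
      rw [hc, hc0, zero_smul]; rfl
    · exfalso
      apply hE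
      have h1 : Es r a Finset.univ = c⁻¹ • x.1 := by
        rw [hc, smul_smul, inv_mul_cancel₀ hc0, one_smul]
      rw [h1]
      exact K.smul_mem _ x.2
  have h2 := LinearMap.finrank_range_of_inj hinj
  rwa [LinearMap.range_domRestrict] at h2

lemma finrank_map_Phi_of_mem [CharZero k] (K : Submodule k k[X]) [Module.Finite k ↥K]
    (hE : Es r a Finset.univ ∈ K) :
    Module.finrank k ↥(K.map (Phi r a)) + 1 = Module.finrank k ↥K := by
  have h1 := LinearMap.finrank_range_add_finrank_ker ((Phi r a).domRestrict K)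
  rw [LinearMap.range_domRestrict, LinearMap.ker_domRestrict] at h1
  have h2 : Module.finrank k ↥((LinearMap.ker (Phi r a)).comap K.subtype) = 1 := by
    rw [LinearEquiv.finrank_eq (Submodule.equivSubtypeMap K _), Submodule.map_comap_subtype,
      ker_Phi_eq, inf_eq_right.2 ((Submodule.span_singleton_le_iff_mem _ _).2 hE)]
    exact finrank_span_singleton (Es_monic r a _).ne_zero
  omega

/-! ### marked points -/

noncomputable def Bi (i : Fin m) (n : ℕ) (H : k[X]) : k[X] :=
  (C (n : k) * H + (X - C (r i)) * derivative H) * Rs r (Finset.univ.erase i) -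
    H * Ss r a Finset.univ

lemma Phi_powi_mul (i : Fin m) (n : ℕ) (H : k[X]) :
    Phi r a ((X - C (r i)) ^ n * H) = (X - C (r i)) ^ n * Bi r a i n H := by
  rw [Phi_apply, Bi, derivative_mul, Rs_univ r i]
  linear_combination (H * Rs r (Finset.univ.erase i)) * der_pow_mul (r i) n

lemma eval_Ss (i : Fin m) :
    (Ss r a Finset.univ).eval (r i) = (a i : k) * (Rs r (Finset.univ.erase i)).eval (r i) := by
  rw [Ss_univ r a i]
  simp

lemma eval_Bi (i : Fin m) (n : ℕ) (H : k[X]) :
    (Bi r a i n H).eval (r i) =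
      ((n : k) - a i) * H.eval (r i) * (Rs r (Finset.univ.erase i)).eval (r i) := by
  simp only [Bi, eval_sub, eval_mul, eval_add, eval_C, eval_X, sub_self, zero_mul, add_zero,
    eval_Ss]
  ring

lemma eval_Rsi_ne (hr : Function.Injective r) (i : Fin m) :
    (Rs r (Finset.univ.erase i)).eval (r i) ≠ 0 := by
  unfold Rs
  rw [eval_prod]
  refine Finset.prod_ne_zero_iff.2 fun j hj => ?_
  simp only [eval_sub, eval_X, eval_C]
  exact sub_ne_zero.2 fun h => (Finset.ne_of_mem_erase hj) (hr h).symm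

lemma eval_Esi_ne (hr : Function.Injective r) (i : Fin m) :
    (Es r a (Finset.univ.erase i)).eval (r i) ≠ 0 := by
  unfold Es
  rw [eval_prod]
  refine Finset.prod_ne_zero_iff.2 fun j hj => ?_
  simp only [eval_sub, eval_X, eval_C, eval_pow]
  exact pow_ne_zero _ (sub_ne_zero.2 fun h => (Finset.ne_of_mem_erase hj) (hr h).symm)

lemma dvd_Phi_marked (i : Fin m) (n : ℕ) (H : k[X]) :
    (X - C (r i)) ^ n ∣ Phi r a ((X - C (r i)) ^ n * H) := by
  rw [Phi_powi_mul]; exact dvd_mul_right _ _

lemma exists_dvd_of_dvd_Phi_marked [CharZero k] (hr : Function.Injective r) (i : Fin m)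
    (n : ℕ) (G : k[X]) (h : (X - C (r i)) ^ n ∣ Phi r a G) :
    ∃ c : k, (X - C (r i)) ^ n ∣ G - c • Es r a Finset.univ := by
  induction n with
  | zero => exact ⟨0, by simp⟩
  | succ n ih =>
    obtain ⟨c, H, hH⟩ := ih ((pow_dvd_pow _ (Nat.le_succ n)).trans h)
    have hΦ : Phi r a G = (X - C (r i)) ^ n * Bi r a i n H := by
      rw [← Phi_sub_smul_E r a G c, hH, Phi_powi_mul]
    rw [hΦ, pow_succ, mul_dvd_mul_iff_left (pow_ne_zero _ (X_sub_C_ne_zero _))] at h
    have hev := dvd_iff_isRoot.1 h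
    rw [IsRoot.def, eval_Bi] at hev
    have hRi := eval_Rsi_ne r hr i
    by_cases hna : n = a i
    · have hEi := eval_Esi_ne r a hr i
      obtain ⟨c', hc'⟩ : ∃ c' : k,
        c' = H.eval (r i) / (Es r a (Finset.univ.erase i)).eval (r i) := ⟨_, rfl⟩
      refine ⟨c + c', ?_⟩
      have h1 : G - (c + c') • Es r a Finset.univ =
          (X - C (r i)) ^ n * (H - C c' * Es r a (Finset.univ.erase i)) := by
        have h2 : G = (X - C (r i)) ^ n * H + c • Es r a Finset.univ := by
          rw [← hH]; ring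
        rw [add_smul, h2, smul_eq_C_mul, smul_eq_C_mul, Es_univ r a i, ← hna]
        ring
      have h3 : (X - C (r i)) ∣ H - C c' * Es r a (Finset.univ.erase i) := by
        refine dvd_iff_isRoot.2 ?_
        rw [IsRoot.def, eval_sub, eval_mul, eval_C, hc', div_mul_cancel₀ _ hEi, sub_self]
      rw [h1, pow_succ]
      exact mul_dvd_mul_left _ h3
    · have hH0 : H.eval (r i) = 0 := by
        rcases mul_eq_zero.1 hev with h3 | h3
        · rcases mul_eq_zero.1 h3 with h4 | h4
          · exfalso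
            exact hna (Nat.cast_injective (sub_eq_zero.1 h4))
          · exact h4
        · exact absurd h3 hRi
      refine ⟨c, ?_⟩
      rw [hH, pow_succ]
      exact mul_dvd_mul_left _ (dvd_iff_isRoot.2 hH0)

noncomputable def Km (ρ : k) (N n : ℕ) : Submodule k k[X] :=
  (degreeLT k (N + 1 - n)).map (LinearMap.mulLeft k ((X - C ρ) ^ n))

lemma finrank_Km (ρ : k) (N n : ℕ) : Module.finrank k ↥(Km ρ N n) = N + 1 - n := by
  unfold Km
  have hinj : Function.Injective (LinearMap.mulLeft k ((X - C ρ) ^ n)) := fun y z h =>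
    mul_left_cancel₀ (pow_ne_zero n (X_sub_C_ne_zero ρ)) h
  rw [← LinearEquiv.finrank_eq (Submodule.equivMapOfInjective _ hinj _), finrank_degreeLT]

instance Km_finite (ρ : k) (N n : ℕ) : Module.Finite k ↥(Km ρ N n) := by
  unfold Km; infer_instance

lemma Km_le (ρ : k) {N n : ℕ} (hn : n ≤ N + 1) : Km ρ N n ≤ degreeLT k (N + 1) := by
  rintro _ ⟨H, hH, rfl⟩
  have hm := monic_pow_natDegree ρ n
  have h1 := monic_mul_mem hm.1 hm.2 hH
  have : n + (N + 1 - n) = N + 1 := by omega
  rw [this] at h1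
  exact h1

lemma Vc_inf_marked_eq [CharZero k] (hr : Function.Injective r) {b N : ℕ}
    (hN : N = (∑ j, a j) + b) (i : Fin m) {n : ℕ} (hn : n ≤ N + 1) :
    Vc r a b ⊓ (Ideal.span {(X - C (r i)) ^ n}).restrictScalars k =
      (Km (r i) N n).map (Phi r a) := by
  apply le_antisymm
  · rintro h ⟨hV, hd⟩
    obtain ⟨G, hG, rfl⟩ := Vc_le r a b hV
    obtain ⟨c, H, hH⟩ := exists_dvd_of_dvd_Phi_marked r a hr i n G (mem_span_pow_iff.1 hd)
    have hmem : G - c • Es r a Finset.univ ∈ degreeLT k ((∑ j, a j) + (b + 1)) := by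
      refine Submodule.sub_mem _ hG (Submodule.smul_mem _ _ ?_)
      exact degreeLT_mono (by omega) (Es_mem r a Finset.univ)
    rw [hH] at hmem
    have hm := monic_pow_natDegree (r i) n
    have hH' : H ∈ degreeLT k (N + 1 - n) := by
      refine mem_of_monic_mul_mem hm.1 hm.2 ?_
      have : n + (N + 1 - n) = (∑ j, a j) + (b + 1) := by omega
      rw [this]; exact hmem
    refine ⟨(X - C (r i)) ^ n * H, ⟨H, hH', rfl⟩, ?_⟩
    rw [← hH, Phi_sub_smul_E]
  · rintro _ ⟨_, ⟨H, hH, rfl⟩, rfl⟩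
    have h1 : (X - C (r i)) ^ n * H ∈ degreeLT k ((∑ j, a j) + (b + 1)) := by
      have := Km_le (r i) hn (⟨H, hH, rfl⟩ : (X - C (r i)) ^ n * H ∈ Km (r i) N n)
      have h2 : (∑ j, a j) + (b + 1) = N + 1 := by omega
      rw [h2]; exact this
    have h3 := le_Vc r a hr b (Submodule.mem_map_of_mem (f := Phi r a) h1)
    exact ⟨h3, mem_span_pow_iff.2 (dvd_Phi_marked r a i n H)⟩

lemma E_mem_Km {b N : ℕ} (hN : N = (∑ j, a j) + b) (i : Fin m) {n : ℕ} (hn : n ≤ a i) :
    Es r a Finset.univ ∈ Km (r i) N n := by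
  refine ⟨(X - C (r i)) ^ (a i - n) * Es r a (Finset.univ.erase i), ?_, ?_⟩
  · have hm1 := monic_pow_natDegree (r i) (a i - n)
    have hm2 := Es_monic r a (Finset.univ.erase i)
    rw [SetLike.mem_coe, mem_degreeLT_iff_natDegree (hm1.1.mul hm2).ne_zero,
      hm1.1.natDegree_mul hm2, hm1.2, Es_natDegree]
    have := Finset.add_sum_erase Finset.univ a (Finset.mem_univ i)
    omega
  · show (X - C (r i)) ^ n * ((X - C (r i)) ^ (a i - n) * Es r a (Finset.univ.erase i)) =
      Es r a Finset.univ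
    rw [Es_univ r a i, ← mul_assoc, ← pow_add, Nat.add_sub_cancel' hn]

lemma E_not_mem_Km (hr : Function.Injective r) (N : ℕ) (i : Fin m) {n : ℕ} (hn : a i < n) :
    Es r a Finset.univ ∉ Km (r i) N n := by
  rintro ⟨H, -, hH⟩
  have hH' : (X - C (r i)) ^ n * H = Es r a Finset.univ := hH
  have h1 : (X - C (r i)) ^ (a i + 1) ∣ Es r a Finset.univ := by
    rw [← hH']
    exact Dvd.dvd.mul_right (pow_dvd_pow _ hn) _
  rw [Es_univ r a i, pow_succ, mul_dvd_mul_iff_left (pow_ne_zero _ (X_sub_C_ne_zero _))] at h1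
  exact eval_Esi_ne r a hr i (dvd_iff_isRoot.1 h1)

lemma a_le_sum (i : Fin m) : a i ≤ ∑ j, a j :=
  Finset.single_le_sum (f := a) (fun _ _ => Nat.zero_le _) (Finset.mem_univ i)

lemma finrank_Vc_inf_marked [CharZero k] (hr : Function.Injective r) {b N : ℕ}
    (hN : N = (∑ j, a j) + b) (i : Fin m) (n : ℕ) :
    Module.finrank k ↥(Vc r a b ⊓ (Ideal.span {(X - C (r i)) ^ n}).restrictScalars k) =
      if n ≤ a i then N - n else N + 1 - n := by
  have hai := a_le_sum a i
  by_cases hn : n ≤ N + 1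
  · rw [Vc_inf_marked_eq r a hr hN i hn]
    split_ifs with h
    · have := finrank_map_Phi_of_mem r a (Km (r i) N n) (E_mem_Km r a hN i h)
      rw [finrank_Km] at this
      omega
    · rw [finrank_map_Phi_of_not_mem r a _ (E_not_mem_Km r a hr N i (by omega)), finrank_Km]
  · have h0 : Module.finrank k
        ↥(Vc r a b ⊓ (Ideal.span {(X - C (r i)) ^ (N + 1)}).restrictScalars k) = 0 := by
      rw [Vc_inf_marked_eq r a hr hN i le_rfl,
        finrank_map_Phi_of_not_mem r a _ (E_not_mem_Km r a hr N i (by omega)), finrank_Km]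
      omega
    have hle : Vc r a b ⊓ (Ideal.span {(X - C (r i)) ^ n}).restrictScalars k ≤
        Vc r a b ⊓ (Ideal.span {(X - C (r i)) ^ (N + 1)}).restrictScalars k := by
      refine inf_le_inf_left _ ?_
      intro x hx
      rw [mem_span_pow_iff] at hx ⊢
      exact (pow_dvd_pow _ (by omega)).trans hx
    haveI : Module.Finite k
        ↥(Vc r a b ⊓ (Ideal.span {(X - C (r i)) ^ (N + 1)}).restrictScalars k) :=
      Submodule.finiteDimensional_of_le inf_le_left
    have := Submodule.finrank_mono hle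
    rw [if_neg (by omega)]
    omega

/-! ### infinity -/

lemma Rs_monic (s : Finset (Fin m)) : (Rs r s).Monic :=
  monic_prod_of_monic _ _ fun j _ => monic_X_sub_C _

lemma Rs_natDegree (s : Finset (Fin m)) : (Rs r s).natDegree = s.card := by
  unfold Rs
  rw [natDegree_prod_of_monic _ _ fun j _ => monic_X_sub_C _]
  simp

lemma card_erase_univ (i : Fin m) : (Finset.univ.erase i).card = m - 1 := by
  rw [Finset.card_erase_of_mem (Finset.mem_univ i), Finset.card_univ, Fintype.card_fin]

lemma Ss_natDegree_le : (Ss r a Finset.univ).natDegree ≤ m - 1 := by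
  unfold Ss
  refine natDegree_sum_le_of_forall_le _ _ fun i _ => ?_
  refine (natDegree_C_mul_le _ _).trans ?_
  have := Rs_natDegree r (Finset.univ.erase i)
  rw [card_erase_univ] at this
  exact this.le

lemma Ss_coeff : (Ss r a Finset.univ).coeff (m - 1) = ((∑ j, a j : ℕ) : k) := by
  unfold Ss
  rw [finsetSum_coeff, Nat.cast_sum]
  refine Finset.sum_congr rfl fun i _ => ?_
  rw [coeff_C_mul]
  have h1 := Rs_natDegree r (Finset.univ.erase i)
  rw [card_erase_univ] at h1
  have h2 := (Rs_monic r (Finset.univ.erase i)).coeff_natDegree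
  rw [h1] at h2
  have h3 : (∏ j ∈ Finset.univ.erase i, (X - C (r j))) = Rs r (Finset.univ.erase i) := rfl
  rw [h3, h2, mul_one]

lemma coeff_Phi_top {G : k[X]} {e : ℕ} (hG : G.natDegree ≤ e) (hem : 1 ≤ e + m) :
    (Phi r a G).coeff (e + m - 1) = ((e : k) - ((∑ j, a j : ℕ) : k)) * G.coeff e := by
  rw [Phi_apply, coeff_sub]
  have hR1 : (Rs r Finset.univ).natDegree ≤ m := by
    rw [Rs_natDegree, Finset.card_univ, Fintype.card_fin]
  have hRc : (Rs r Finset.univ).coeff m = 1 := by
    have := (Rs_monic r Finset.univ).coeff_natDegree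
    rwa [Rs_natDegree, Finset.card_univ, Fintype.card_fin] at this
  have h1 : (derivative G * Rs r Finset.univ).coeff (e + m - 1) = (e : k) * G.coeff e := by
    rcases Nat.eq_zero_or_pos e with rfl | he
    · have h0 : derivative G = 0 := by
        rw [eq_C_of_natDegree_le_zero hG]; exact derivative_C
      rw [h0, zero_mul, coeff_zero, Nat.cast_zero, zero_mul]
    · obtain ⟨e', rfl⟩ : ∃ e', e = e' + 1 := ⟨e - 1, by omega⟩
      have hd : (derivative G).natDegree ≤ e' :=
        (natDegree_derivative_le G).trans (by omega)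
      have h2 : e' + 1 + m - 1 = e' + m := by omega
      rw [h2, coeff_mul_add_eq_of_natDegree_le hd hR1, hRc, mul_one, coeff_derivative]
      push_cast
      ring
  have h2 : (G * Ss r a Finset.univ).coeff (e + m - 1) =
      G.coeff e * ((∑ j, a j : ℕ) : k) := by
    rcases Nat.eq_zero_or_pos m with hm | hm
    · subst hm
      have h0 : Ss r a Finset.univ = 0 := by simp [Ss]
      rw [h0, mul_zero, coeff_zero]
      simp
    · have h3 : e + m - 1 = e + (m - 1) := by omega
      rw [h3, coeff_mul_add_eq_of_natDegree_le hG (Ss_natDegree_le r a), Ss_coeff]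
  rw [h1, h2]
  ring

lemma exists_mem_of_Phi_mem {t : ℕ} {G : k[X]} [CharZero k]
    (h : Phi r a G ∈ degreeLT k (t + m - 1)) :
    ∃ c : k, G - c • Es r a Finset.univ ∈ degreeLT k t := by
  refine ⟨G.coeff (∑ j, a j), ?_⟩
  obtain ⟨G₁, hG₁⟩ : ∃ G₁ : k[X],
    G₁ = G - G.coeff (∑ j, a j) • Es r a Finset.univ := ⟨_, rfl⟩
  rw [← hG₁]
  have hcoef : G₁.coeff (∑ j, a j) = 0 := by
    rw [hG₁, coeff_sub, coeff_smul, smul_eq_mul]
    have := (Es_monic r a Finset.univ).coeff_natDegree
    rw [Es_natDegree] at this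
    rw [this, mul_one, sub_self]
  have hΦ : Phi r a G₁ = Phi r a G := by rw [hG₁]; exact Phi_sub_smul_E r a G _
  by_contra hnot
  have h0 : G₁ ≠ 0 := fun h0 => hnot (h0 ▸ Submodule.zero_mem _)
  rw [mem_degreeLT_iff_natDegree h0, not_lt] at hnot
  have heA : G₁.natDegree ≠ ∑ j, a j := by
    intro he
    rw [← he] at hcoef
    exact h0 (leadingCoeff_eq_zero.1 hcoef)
  have hem : 1 ≤ G₁.natDegree + m := by
    by_contra hlt
    have he0 : G₁.natDegree = 0 := by omega
    have hm0 : m = 0 := by omega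
    subst hm0
    apply heA
    rw [he0]
    simp
  have hcf := coeff_Phi_top r a (le_refl G₁.natDegree) hem
  rw [hΦ] at hcf
  have hz : (Phi r a G).coeff (G₁.natDegree + m - 1) = 0 := by
    rw [mem_degreeLT, degree_lt_iff_coeff_zero] at h
    exact h _ (by omega)
  rw [hz] at hcf
  rcases mul_eq_zero.1 hcf.symm with h1 | h1
  · exact heA (Nat.cast_injective (sub_eq_zero.1 h1))
  · exact h0 (leadingCoeff_eq_zero.1 h1)

lemma mul_mem_degreeLT_of_natDegree_le {P Q : k[X]} {p c : ℕ} (hP : P.natDegree ≤ p)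
    (hQ : Q ∈ degreeLT k c) : P * Q ∈ degreeLT k (p + c) := by
  by_cases hPQ : P * Q = 0
  · rw [hPQ]; exact Submodule.zero_mem _
  have hQ0 : Q ≠ 0 := right_ne_zero_of_mul hPQ
  rw [mem_degreeLT_iff_natDegree hPQ]
  rw [mem_degreeLT_iff_natDegree hQ0] at hQ
  have := natDegree_mul_le (p := P) (q := Q)
  omega

lemma Phi_mem_of_mem {t : ℕ} {G : k[X]} (hG : G ∈ degreeLT k t) :
    Phi r a G ∈ degreeLT k (t + m - 1) := by
  rcases Nat.eq_zero_or_pos t with rfl | ht
  · rw [eq_zero_of_mem_degreeLT_zero hG, map_zero]; exact Submodule.zero_mem _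
  obtain ⟨t', rfl⟩ : ∃ t', t = t' + 1 := ⟨t - 1, by omega⟩
  rw [Phi_apply]
  refine Submodule.sub_mem _ ?_ ?_
  · have h1 : (Rs r Finset.univ).natDegree ≤ m := by
      rw [Rs_natDegree, Finset.card_univ, Fintype.card_fin]
    have h2 := mul_mem_degreeLT_of_natDegree_le h1 (derivative_mem hG)
    rw [mul_comm]
    refine degreeLT_mono ?_ h2
    omega
  · rcases Nat.eq_zero_or_pos m with hm | hm
    · subst hm
      have h0 : Ss r a Finset.univ = 0 := by simp [Ss]
      rw [h0, mul_zero]; exact Submodule.zero_mem _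
    · have h2 := mul_mem_degreeLT_of_natDegree_le (Ss_natDegree_le r a) hG
      rw [mul_comm]
      refine degreeLT_mono ?_ h2
      omega

lemma Vc_inf_infty_eq [CharZero k] (hr : Function.Injective r) {b N : ℕ}
    (hN : N = (∑ j, a j) + b) {n : ℕ} (hn : n ≤ N + 1) :
    Vc r a b ⊓ degreeLT k (N + m - n) = (degreeLT k (N + 1 - n)).map (Phi r a) := by
  have hidx : N + m - n = N + 1 - n + m - 1 := by omega
  apply le_antisymm
  · rintro h ⟨hV, hd⟩
    obtain ⟨G, hG, rfl⟩ := Vc_le r a b hV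
    have hd' : Phi r a G ∈ degreeLT k (N + 1 - n + m - 1) := by rw [← hidx]; exact hd
    obtain ⟨c, hc⟩ := exists_mem_of_Phi_mem r a hd'
    exact ⟨G - c • Es r a Finset.univ, hc, Phi_sub_smul_E r a G c⟩
  · rintro _ ⟨G, hG, rfl⟩
    refine ⟨?_, ?_⟩
    · refine le_Vc r a hr b (Submodule.mem_map_of_mem (f := Phi r a) ?_)
      exact degreeLT_mono (by omega) hG
    · rw [SetLike.mem_coe, hidx]
      exact Phi_mem_of_mem r a hG

lemma finrank_Vc_inf_infty [CharZero k] (hr : Function.Injective r) {b N : ℕ}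
    (hN : N = (∑ j, a j) + b) (n : ℕ) :
    Module.finrank k ↥(Vc r a b ⊓ degreeLT k (N + m - n)) =
      if n ≤ b then N - n else N + 1 - n := by
  by_cases hn : n ≤ N + 1
  · rw [Vc_inf_infty_eq r a hr hN hn]
    split_ifs with h
    · have hE : Es r a Finset.univ ∈ degreeLT k (N + 1 - n) := by
        rw [mem_degreeLT_iff_natDegree (Es_monic r a _).ne_zero, Es_natDegree]; omega
      have := finrank_map_Phi_of_mem r a (degreeLT k (N + 1 - n)) hE
      rw [finrank_degreeLT] at this
      omega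
    · have hE : Es r a Finset.univ ∉ degreeLT k (N + 1 - n) := by
        rw [mem_degreeLT_iff_natDegree (Es_monic r a _).ne_zero, Es_natDegree]; omega
      rw [finrank_map_Phi_of_not_mem r a _ hE, finrank_degreeLT]
  · have h0 : Module.finrank k ↥(Vc r a b ⊓ degreeLT k (N + m - (N + 1))) = 0 := by
      rw [Vc_inf_infty_eq r a hr hN le_rfl]
      have hE : Es r a Finset.univ ∉ degreeLT k (N + 1 - (N + 1)) := by
        rw [mem_degreeLT_iff_natDegree (Es_monic r a _).ne_zero, Es_natDegree]; omega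
      rw [finrank_map_Phi_of_not_mem r a _ hE, finrank_degreeLT]
      omega
    have hle : Vc r a b ⊓ degreeLT k (N + m - n) ≤ Vc r a b ⊓ degreeLT k (N + m - (N + 1)) :=
      inf_le_inf_left _ (degreeLT_mono (by omega))
    haveI : Module.Finite k ↥(Vc r a b ⊓ degreeLT k (N + m - (N + 1))) :=
      Submodule.finiteDimensional_of_le inf_le_left
    have := Submodule.finrank_mono hle
    rw [if_neg (by omega)]
    omega

lemma sum_succ_eq (a : Fin m → ℕ) : (∑ j, (a j + 1)) = (∑ j, a j) + m := by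
  rw [Finset.sum_add_distrib, Finset.sum_const, Finset.card_univ, Fintype.card_fin,
    smul_eq_mul, mul_one]

theorem s17241 [CharZero k] (hr : Function.Injective r) {b N d : ℕ}
    (hN : N = (∑ j, a j) + b) (hd : d + 1 = (∑ j, (a j + 1)) + b)
    {V : Submodule k k[X]} (hV : V = Vc r a b) :
    Module.finrank k ↥V = N ∧
    (∀ (i : Fin m) (n : ℕ),
      Module.finrank k ↥(V ⊓ (Ideal.span {(X - C (r i)) ^ n}).restrictScalars k) =
        if n ≤ a i then N - n else N + 1 - n) ∧
    (∀ n : ℕ, Module.finrank k ↥(V ⊓ Polynomial.degreeLT k (d + 1 - n)) =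
        if n ≤ b then N - n else N + 1 - n) := by
  subst hV
  refine ⟨finrank_Vc r a hr hN, fun i n => finrank_Vc_inf_marked r a hr hN i n, fun n => ?_⟩
  have hd' : d + 1 = N + m := by rw [hd, sum_succ_eq]; omega
  rw [hd']
  exact finrank_Vc_inf_infty r a hr hN n

end Groth.Agent.Helper17.PW
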