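import Groth.Agent.Lib.Helper17.PW3

set_option autoImplicit false

open Polynomial

namespace Groth.Agent.Helper17.PW

variable {k : Type*} [Field k] {m : ℕ} (r : Fin m → k) (a : Fin m → ℕ)

lemma hyperplane_inf {V V₁ M : Submodule k k[X]} [Module.Finite k ↥V] (hV₁ : V₁ ≤ V)
    (hfin : Module.finrank k ↥V₁ + 1 = Module.finrank k ↥V) (hM : M ≤ V) :
    (M ≤ V₁ → Module.finrank k ↥(V₁ ⊓ M) = Module.finrank k ↥M) ∧
    (¬ M ≤ V₁ → Module.finrank k ↥(V₁ ⊓ M) + 1 = Module.finrank k ↥M) := by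
  haveI : Module.Finite k ↥V₁ := Submodule.finiteDimensional_of_le hV₁
  haveI : Module.Finite k ↥M := Submodule.finiteDimensional_of_le hM
  refine ⟨fun h => by rw [inf_eq_right.2 h], fun hnot => ?_⟩
  have hsup : V₁ ⊔ M ≤ V := sup_le hV₁ hM
  haveI : Module.Finite k ↥(V₁ ⊔ M) := Submodule.finiteDimensional_of_le hsup
  have hlt : V₁ < V₁ ⊔ M :=
    lt_of_le_of_ne le_sup_left (fun h => hnot (by rw [h]; exact le_sup_right))
  have h1 := Submodule.finrank_lt_finrank_of_lt hlt
  have h2 := Submodule.finrank_mono hsup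
  have h3 := Submodule.finrank_sup_add_finrank_inf_eq V₁ M
  omega

lemma g_facts [CharZero k] (hr : Function.Injective r) {b N : ℕ} (hN : N = (∑ j, a j) + b)
    {V₁ : Submodule k k[X]} (hV₁ : V₁ ≤ Vc r a b) (hfin : Module.finrank k ↥V₁ + 1 = N)
    (F : Submodule k k[X]) :
    Module.finrank k ↥(V₁ ⊓ F) ≤ Module.finrank k ↥(Vc r a b ⊓ F) ∧
    (Vc r a b ⊓ F ≤ V₁ → Module.finrank k ↥(V₁ ⊓ F) = Module.finrank k ↥(Vc r a b ⊓ F)) ∧
    (¬ Vc r a b ⊓ F ≤ V₁ →
      Module.finrank k ↥(V₁ ⊓ F) + 1 = Module.finrank k ↥(Vc r a b ⊓ F)) := by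
  have hfin' : Module.finrank k ↥V₁ + 1 = Module.finrank k ↥(Vc r a b) := by
    rw [finrank_Vc r a hr hN]; exact hfin
  have key : V₁ ⊓ (Vc r a b ⊓ F) = V₁ ⊓ F := by rw [← inf_assoc, inf_eq_left.2 hV₁]
  obtain ⟨h1, h2⟩ := hyperplane_inf hV₁ hfin' (inf_le_left : Vc r a b ⊓ F ≤ Vc r a b)
  rw [key] at h1 h2
  refine ⟨?_, h1, h2⟩
  haveI : Module.Finite k ↥(Vc r a b ⊓ F) := Submodule.finiteDimensional_of_le inf_le_left
  exact Submodule.finrank_mono (inf_le_inf_right _ hV₁)

lemma choose_two_succ (K : ℕ) : (K + 1).choose 2 = K + K.choose 2 := by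
  rw [Nat.choose_succ_succ' K 1, Nat.choose_one_right]

lemma AL_claim (N e : ℕ) (f g : ℕ → ℕ)
    (hf : ∀ n, f n = if n ≤ e then N - n else N + 1 - n)
    (hg1 : ∀ n, 1 ≤ n → n + 1 ≤ N → g n + 1 = f n) :
    ∀ M, M + 1 ≤ N →
      (∑ n ∈ Finset.range M, g (n + 1)) + (N - 1 - M).choose 2 = (N - 1).choose 2 + (M - e) := by
  intro M
  induction M with
  | zero => intro _; simp
  | succ M ih =>
    intro hM
    have ih' := ih (by omega)
    rw [Finset.sum_range_succ]
    obtain ⟨K, hK⟩ : ∃ K, N = K + M + 2 := ⟨N - M - 2, by omega⟩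
    have h1 : N - 1 - M = K + 1 := by omega
    have h2 : N - 1 - (M + 1) = K := by omega
    rw [h1, choose_two_succ] at ih'
    rw [h2]
    have h4 := hg1 (M + 1) (by omega) (by omega)
    rw [hf] at h4
    split_ifs at h4 <;> omega

lemma sum_tail_zero (N : ℕ) (g : ℕ → ℕ) (hg0 : ∀ n, N < n → g n = 0) :
    ∀ d, N ≤ d → ∑ n ∈ Finset.range d, g (n + 1) = ∑ n ∈ Finset.range N, g (n + 1) := by
  intro d hd
  induction d, hd using Nat.le_induction with
  | base => rfl
  | succ d hd ih => rw [Finset.sum_range_succ, ih, hg0 (d + 1) (by omega), add_zero]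

lemma AL1 (N e d : ℕ) (f g : ℕ → ℕ) (hN1 : 1 ≤ N) (hd : N ≤ d)
    (hf : ∀ n, f n = if n ≤ e then N - n else N + 1 - n)
    (hg1 : ∀ n, 1 ≤ n → n + 1 ≤ N → g n + 1 = f n)
    (hg0 : ∀ n, N < n → g n = 0) (he : e + 1 ≤ N) :
    (∑ n ∈ Finset.range d, g (n + 1)) + 1 = (N - 1).choose 2 + (N - e) + g N := by
  have h1 := AL_claim N e f g hf hg1 (N - 1) (by omega)
  have hN' : N - 1 - (N - 1) = 0 := by omega
  have hc0 : Nat.choose 0 2 = 0 := rfl
  rw [hN', hc0] at h1
  have h2 : ∑ n ∈ Finset.range N, g (n + 1) =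
      (∑ n ∈ Finset.range (N - 1), g (n + 1)) + g N := by
    obtain ⟨N', rfl⟩ : ∃ N', N = N' + 1 := ⟨N - 1, by omega⟩
    rw [Finset.sum_range_succ, Nat.add_sub_cancel]
  rw [sum_tail_zero N g hg0 d hd, h2]
  omega

lemma AL_claim_f (N e : ℕ) (f : ℕ → ℕ)
    (hf : ∀ n, f n = if n ≤ e then N - n else N + 1 - n) :
    ∀ M, M ≤ N →
      (∑ n ∈ Finset.range M, f (n + 1)) + (N - M).choose 2 = N.choose 2 + (M - e) := by
  intro M
  induction M with
  | zero => intro _; simp
  | succ M ih =>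
    intro hM
    have ih' := ih (by omega)
    rw [Finset.sum_range_succ]
    obtain ⟨K, hK⟩ : ∃ K, N = K + M + 1 := ⟨N - M - 1, by omega⟩
    have h1 : N - M = K + 1 := by omega
    have h2 : N - (M + 1) = K := by omega
    rw [h1, choose_two_succ] at ih'
    rw [h2]
    have h4 := hf (M + 1)
    split_ifs at h4 <;> omega

lemma AL_f_sum (N b d : ℕ) (f : ℕ → ℕ)
    (hf : ∀ n, f n = if n ≤ b then N - n else N + 1 - n) (hbN : b ≤ N)
    (hd : N ≤ d ∨ (d + 1 = N ∧ b = N)) :
    ∑ n ∈ Finset.range d, f (n + 1) = N.choose 2 + (N - b) := by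
  rcases hd with hd | ⟨hd, hbN'⟩
  · have h0 : ∀ n, N < n → f n = 0 := by
      intro n hn
      rw [hf, if_neg (by omega)]
      omega
    rw [sum_tail_zero N f h0 d hd]
    have h1 := AL_claim_f N b f hf N le_rfl
    have hc0 : Nat.choose 0 2 = 0 := rfl
    rw [Nat.sub_self, hc0] at h1
    omega
  · have h1 := AL_claim_f N b f hf d (by omega)
    have h2 : N - d = 1 := by omega
    have hc1 : Nat.choose 1 2 = 0 := rfl
    rw [h2, hc1] at h1
    omega

lemma top_contra' [CharZero k] (hr : Function.Injective r) {b N : ℕ}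
    (hN : N = (∑ j, a j) + b) (hN1 : 1 ≤ N) {V₁ : Submodule k k[X]} (hV₁ : V₁ ≤ Vc r a b)
    (hfin : Module.finrank k ↥V₁ + 1 = N)
    (hW0 : degreeLT k (N - 1) ≤ V₁.comap (Phi r a)) (ρ : k)
    (hall : ∀ H ∈ degreeLT k 2, Phi r a ((X - C ρ) ^ (N - 1) * H) ∈ V₁) : False := by
  have hX : (X : k[X]) ∈ degreeLT k 2 := by
    rw [mem_degreeLT_iff_natDegree X_ne_zero, natDegree_X]; omega
  have h1 : (1 : k[X]) ∈ degreeLT k 2 := by
    rw [mem_degreeLT_iff_natDegree one_ne_zero, natDegree_one]; omega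
  have hP1 := hall 1 h1
  have hP2 := hall X hX
  rw [mul_one] at hP1
  have hm := pow_monic_mem ρ (N - 1)
  have hN' : N - 1 + 1 = N := by omega
  rw [hN'] at hm
  have hmon : ((X - C ρ) ^ (N - 1) * X).Monic := ((monic_X_sub_C ρ).pow _).mul monic_X
  have hnd : ((X - C ρ) ^ (N - 1) * X).natDegree = N := by
    rw [((monic_X_sub_C ρ).pow _).natDegree_mul monic_X, natDegree_X,
      (monic_pow_natDegree ρ (N - 1)).2]
    omega
  refine top_contra r a hr hN hN1 hV₁ hfin hW0 hP1 hP2 hm.1 (by rw [hm.2]; exact one_ne_zero)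
    ?_ ?_
  · rw [mem_degreeLT_iff_natDegree hmon.ne_zero, hnd]; omega
  · have := hmon.coeff_natDegree
    rw [hnd] at this
    rw [this]; exact one_ne_zero

lemma eval_Phi_mul_sub (p : k) (H : k[X]) :
    (Phi r a (H * (X - C p))).eval p = H.eval p * (Rs r Finset.univ).eval p := by
  have h1 : H * (X - C p) = (X - C p) ^ (0 + 1) * H := by ring
  rw [h1, Phi_pow_mul, pow_zero, one_mul, eval_Bq]
  simp

lemma m_le_sum (ha : ∀ j, 1 ≤ a j) : m ≤ ∑ j, a j := by
  have h := Finset.sum_le_sum (s := Finset.univ) (f := fun _ : Fin m => 1) (g := a)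
    (fun j _ => ha j)
  simpa using h

/-- Marked-point weight computation, common part. -/
lemma marked_weight [CharZero k] (hr : Function.Injective r) {b N d : ℕ} (hb : 1 ≤ b)
    (hN : N = (∑ j, a j) + b) (hd' : d + 1 = N + m)
    {V₁ : Submodule k k[X]} (hV₁ : V₁ ≤ Vc r a b) (hfin : Module.finrank k ↥V₁ + 1 = N)
    (i : Fin m)
    (hwit : ¬ (Vc r a b ⊓ (Ideal.span {(X - C (r i)) ^ (N - 1)}).restrictScalars k ≤ V₁)) :
    ∃ ε : ℕ, ε ≤ 1 ∧
      (∑ n ∈ Finset.range d, Module.finrank k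
        ↥(V₁ ⊓ (Ideal.span {(X - C (r i)) ^ (n + 1)}).restrictScalars k)) + 1 =
        (N - 1).choose 2 + (N - a i) + ε := by
  have hm : 1 ≤ m := i.pos
  have hai := a_le_sum a i
  have hN1 : 1 ≤ N := by omega
  have hf : ∀ n, Module.finrank k
      ↥(Vc r a b ⊓ (Ideal.span {(X - C (r i)) ^ n}).restrictScalars k) =
      if n ≤ a i then N - n else N + 1 - n := fun n => finrank_Vc_inf_marked r a hr hN i n
  have hgf : ∀ n, Module.finrank k
      ↥(V₁ ⊓ (Ideal.span {(X - C (r i)) ^ n}).restrictScalars k) ≤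
      Module.finrank k ↥(Vc r a b ⊓ (Ideal.span {(X - C (r i)) ^ n}).restrictScalars k) :=
    fun n => (g_facts r a hr hN hV₁ hfin _).1
  have hg1 : ∀ n, 1 ≤ n → n + 1 ≤ N → Module.finrank k
      ↥(V₁ ⊓ (Ideal.span {(X - C (r i)) ^ n}).restrictScalars k) + 1 =
      Module.finrank k ↥(Vc r a b ⊓ (Ideal.span {(X - C (r i)) ^ n}).restrictScalars k) := by
    intro n _ hnN
    refine (g_facts r a hr hN hV₁ hfin _).2.2 ?_
    intro hle
    apply hwit
    refine le_trans (inf_le_inf_left _ ?_) hle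
    intro x hx
    rw [mem_span_pow_iff] at hx ⊢
    exact (pow_dvd_pow _ (by omega)).trans hx
  have hg0 : ∀ n, N < n → Module.finrank k
      ↥(V₁ ⊓ (Ideal.span {(X - C (r i)) ^ n}).restrictScalars k) = 0 := by
    intro n hn
    have h1 := hgf n
    rw [hf n, if_neg (by omega)] at h1
    omega
  have hgN : Module.finrank k
      ↥(V₁ ⊓ (Ideal.span {(X - C (r i)) ^ N}).restrictScalars k) ≤ 1 := by
    have h1 := hgf N
    rw [hf N, if_neg (by omega)] at h1
    omega
  have := AL1 N (a i) d _ (fun n => Module.finrank k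
      ↥(V₁ ⊓ (Ideal.span {(X - C (r i)) ^ n}).restrictScalars k)) hN1 (by omega) hf hg1 hg0
      (by omega)
  exact ⟨_, hgN, this⟩

theorem s17244 [CharZero k] (hr : Function.Injective r) (ha : ∀ j, 1 ≤ a j) {b N d : ℕ}
    (hb : 1 ≤ b) (hN : N = (∑ j, a j) + b) (hd : d + 1 = (∑ j, (a j + 1)) + b)
    {V V₁ : Submodule k k[X]} (hV : V = Vc r a b) (hV₁ : V₁ ≤ V)
    (hfin : Module.finrank k ↥V₁ + 1 = N) (hU : Vc r a (b - 2) ≤ V₁) :
    (∀ i : Fin m, ∃ ε : ℕ, ε ≤ 1 ∧
      (∑ n ∈ Finset.range d, Module.finrank k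
        ↥(V₁ ⊓ (Ideal.span {(X - C (r i)) ^ (n + 1)}).restrictScalars k)) + 1 =
        (N - 1).choose 2 + (N - a i) + ε) ∧
    (∃ ε : ℕ, ε ≤ 1 ∧
      (∑ n ∈ Finset.range d, Module.finrank k ↥(V₁ ⊓ Polynomial.degreeLT k (d - n))) =
        (N - 1).choose 2 + (N - b) + (N - 2) + ε) := by
  subst hV
  have hN1 : 1 ≤ N := by omega
  have hd' : d + 1 = N + m := by rw [hd, sum_succ_eq]; omega
  have hW0 := hW0_of_hU r a hr hN hb hU
  have hmA := m_le_sum a ha
  refine ⟨fun i => ?_, ?_⟩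
  · refine marked_weight r a hr hb hN hd' hV₁ hfin i ?_
    intro hle
    refine top_contra' r a hr hN hN1 hV₁ hfin hW0 (r i) ?_
    intro H hH
    apply hle
    rw [Vc_inf_marked_eq r a hr hN i (by omega : N - 1 ≤ N + 1)]
    refine Submodule.mem_map_of_mem ⟨H, ?_, rfl⟩
    have : N + 1 - (N - 1) = 2 := by omega
    rw [this]; exact hH
  · have hf : ∀ n, Module.finrank k ↥(Vc r a b ⊓ degreeLT k (N + m - n)) =
        if n ≤ b then N - n else N + 1 - n := finrank_Vc_inf_infty r a hr hN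
    have hsum : ∑ n ∈ Finset.range d, Module.finrank k ↥(V₁ ⊓ degreeLT k (d - n)) =
        ∑ n ∈ Finset.range d, (fun n => Module.finrank k ↥(V₁ ⊓ degreeLT k (N + m - n))) (n + 1) := by
      refine Finset.sum_congr rfl fun n hn => ?_
      have h1 := Finset.mem_range.1 hn
      have : d - n = N + m - (n + 1) := by omega
      rw [this]
    rw [hsum]
    have hg2 : ∀ n, 2 ≤ n → Module.finrank k ↥(V₁ ⊓ degreeLT k (N + m - n)) =
        Module.finrank k ↥(Vc r a b ⊓ degreeLT k (N + m - n)) := by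
      intro n hn
      refine (g_facts r a hr hN hV₁ hfin _).2.1 ?_
      refine le_trans (inf_le_inf_left _ (degreeLT_mono (by omega : N + m - n ≤ N + m - 2))) ?_
      rw [Vc_inf_infty_eq r a hr hN (by omega : 2 ≤ N + 1)]
      have : N + 1 - 2 = N - 1 := by omega
      rw [this]
      exact Submodule.map_le_iff_le_comap.2 hW0
    have hg1 : Module.finrank k ↥(V₁ ⊓ degreeLT k (N + m - 1)) ≤
        Module.finrank k ↥(Vc r a b ⊓ degreeLT k (N + m - 1)) ∧
        Module.finrank k ↥(Vc r a b ⊓ degreeLT k (N + m - 1)) ≤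
        Module.finrank k ↥(V₁ ⊓ degreeLT k (N + m - 1)) + 1 := by
      obtain ⟨h1, h2, h3⟩ := g_facts r a hr hN hV₁ hfin (degreeLT k (N + m - 1))
      by_cases hle : Vc r a b ⊓ degreeLT k (N + m - 1) ≤ V₁
      · have := h2 hle; omega
      · have := h3 hle; omega
    by_cases hN2 : 2 ≤ N
    · obtain ⟨d', rfl⟩ : ∃ d', d = d' + 1 := ⟨d - 1, by omega⟩
      have hsf := AL_f_sum N b (d' + 1)
        (fun n => Module.finrank k ↥(Vc r a b ⊓ degreeLT k (N + m - n))) hf (by omega)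
        (by
          rcases Nat.eq_zero_or_pos m with hm | hm
          · right
            subst hm
            have : (∑ j : Fin 0, a j) = 0 := by simp
            omega
          · left; omega)
      have hsg : (∑ n ∈ Finset.range (d' + 1),
          (fun n => Module.finrank k ↥(V₁ ⊓ degreeLT k (N + m - n))) (n + 1)) +
          Module.finrank k ↥(Vc r a b ⊓ degreeLT k (N + m - 1)) =
          (∑ n ∈ Finset.range (d' + 1),
          (fun n => Module.finrank k ↥(Vc r a b ⊓ degreeLT k (N + m - n))) (n + 1)) +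
          Module.finrank k ↥(V₁ ⊓ degreeLT k (N + m - 1)) := by
        rw [Finset.sum_range_succ' (fun n =>
            (fun n => Module.finrank k ↥(V₁ ⊓ degreeLT k (N + m - n))) (n + 1)),
          Finset.sum_range_succ' (fun n =>
            (fun n => Module.finrank k ↥(Vc r a b ⊓ degreeLT k (N + m - n))) (n + 1))]
        have h3 : ∑ n ∈ Finset.range d',
            (fun n => Module.finrank k ↥(V₁ ⊓ degreeLT k (N + m - n))) (n + 1 + 1) =
            ∑ n ∈ Finset.range d',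
            (fun n => Module.finrank k ↥(Vc r a b ⊓ degreeLT k (N + m - n))) (n + 1 + 1) :=
          Finset.sum_congr rfl fun n _ => hg2 _ (by omega)
        rw [h3]
        simp only [zero_add]
        ring
      have hf1 : Module.finrank k ↥(Vc r a b ⊓ degreeLT k (N + m - 1)) = N - 1 := by
        rw [hf 1, if_pos hb]
      have hch : N.choose 2 = (N - 1).choose 2 + (N - 1) := by
        obtain ⟨N', rfl⟩ : ∃ N', N = N' + 1 := ⟨N - 1, by omega⟩
        rw [choose_two_succ, Nat.add_sub_cancel]; omega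
      refine ⟨Module.finrank k ↥(V₁ ⊓ degreeLT k (N + m - 1)) + 1 -
        Module.finrank k ↥(Vc r a b ⊓ degreeLT k (N + m - 1)), ?_, ?_⟩
      · omega
      · simp only at hsf hsg ⊢
        omega
    · have hN1' : N = 1 := by omega
      have hd0 : d = 0 := by omega
      subst hd0
      refine ⟨0, Nat.zero_le _, ?_⟩
      rw [hN1']
      simp [Nat.sub_eq_zero_of_le hb]

theorem s17246 [CharZero k] (hr : Function.Injective r) (ha : ∀ j, 1 ≤ a j) {b N d : ℕ}
    (hb : 1 ≤ b) (hN : N = (∑ j, a j) + b) (hd : d + 1 = (∑ j, (a j + 1)) + b)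
    {V V₁ : Submodule k k[X]} (hV : V = Vc r a b) {p : k} (hp : ∀ j, p ≠ r j)
    (hV₁ : V₁ = V ⊓ (Ideal.span {X - C p}).restrictScalars k) :
    (∀ i : Fin m, ∃ ε : ℕ, ε ≤ 1 ∧
      (∑ n ∈ Finset.range d, Module.finrank k
        ↥(V₁ ⊓ (Ideal.span {(X - C (r i)) ^ (n + 1)}).restrictScalars k)) + 1 =
        (N - 1).choose 2 + (N - a i) + ε) ∧
    (∃ ε : ℕ, ε ≤ 1 ∧
      (∑ n ∈ Finset.range d, Module.finrank k ↥(V₁ ⊓ Polynomial.degreeLT k (d - n))) + 1 =
        (N - 1).choose 2 + (N - b) + ε) := by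
  have hfin := (s17245 r a hr hb hN hV hp hV₁).1
  subst hV
  have hN1 : 1 ≤ N := by omega
  have hd' : d + 1 = N + m := by rw [hd, sum_succ_eq]; omega
  have hmA := m_le_sum a ha
  have hV₁le : V₁ ≤ Vc r a b := by rw [hV₁]; exact inf_le_left
  have hmemV₁ : ∀ x ∈ V₁, x.eval p = 0 := by
    intro x hx
    rw [hV₁] at hx
    have := (Submodule.mem_inf.1 hx).2
    rw [Submodule.restrictScalars_mem, Ideal.mem_span_singleton] at this
    exact dvd_iff_isRoot.1 this
  have hRp := eval_Rs_ne r hp Finset.univ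
  refine ⟨fun i => ?_, ?_⟩
  · refine marked_weight r a hr hb hN hd' hV₁le hfin i ?_
    intro hle
    have hmem : Phi r a ((X - C (r i)) ^ (N - 1) * (X - C p)) ∈
        Vc r a b ⊓ (Ideal.span {(X - C (r i)) ^ (N - 1)}).restrictScalars k := by
      rw [Vc_inf_marked_eq r a hr hN i (by omega : N - 1 ≤ N + 1)]
      refine Submodule.mem_map_of_mem ⟨X - C p, ?_, rfl⟩
      have : N + 1 - (N - 1) = 2 := by omega
      rw [this, SetLike.mem_coe, mem_degreeLT_iff_natDegree (X_sub_C_ne_zero p),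
        natDegree_X_sub_C]
      omega
    have h0 := hmemV₁ _ (hle hmem)
    rw [eval_Phi_mul_sub, eval_pow, eval_sub, eval_X, eval_C] at h0
    rcases mul_eq_zero.1 h0 with h2 | h2
    · exact absurd h2 (pow_ne_zero _ (sub_ne_zero.2 (hp i)))
    · exact hRp h2
  · have hf : ∀ n, Module.finrank k ↥(Vc r a b ⊓ degreeLT k (N + m - n)) =
        if n ≤ b then N - n else N + 1 - n := finrank_Vc_inf_infty r a hr hN
    have hsum : ∑ n ∈ Finset.range d, Module.finrank k ↥(V₁ ⊓ degreeLT k (d - n)) =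
        ∑ n ∈ Finset.range d, (fun n => Module.finrank k ↥(V₁ ⊓ degreeLT k (N + m - n))) (n + 1) := by
      refine Finset.sum_congr rfl fun n hn => ?_
      have h1 := Finset.mem_range.1 hn
      have : d - n = N + m - (n + 1) := by omega
      rw [this]
    rw [hsum]
    have hgf : ∀ n, Module.finrank k ↥(V₁ ⊓ degreeLT k (N + m - n)) ≤
        Module.finrank k ↥(Vc r a b ⊓ degreeLT k (N + m - n)) :=
      fun n => (g_facts r a hr hN hV₁le hfin _).1
    have hg1 : ∀ n, 1 ≤ n → n + 1 ≤ N →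
        Module.finrank k ↥(V₁ ⊓ degreeLT k (N + m - n)) + 1 =
        Module.finrank k ↥(Vc r a b ⊓ degreeLT k (N + m - n)) := by
      intro n _ hnN
      refine (g_facts r a hr hN hV₁le hfin _).2.2 ?_
      intro hle
      have hmem : Phi r a (1 * (X - C p)) ∈ Vc r a b ⊓ degreeLT k (N + m - n) := by
        have h1 : Phi r a (1 * (X - C p)) ∈ Vc r a b ⊓ degreeLT k (N + m - (N - 1)) := by
          rw [Vc_inf_infty_eq r a hr hN (by omega : N - 1 ≤ N + 1)]
          refine Submodule.mem_map_of_mem ?_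
          have : N + 1 - (N - 1) = 2 := by omega
          rw [this, one_mul, mem_degreeLT_iff_natDegree (X_sub_C_ne_zero p), natDegree_X_sub_C]
          omega
        exact ⟨h1.1, degreeLT_mono (by omega) h1.2⟩
      have h0 := hmemV₁ _ (hle hmem)
      rw [eval_Phi_mul_sub, eval_one, one_mul] at h0
      exact hRp h0
    rcases Nat.eq_zero_or_pos m with hm | hm
    · subst hm
      have hA : (∑ j : Fin 0, a j) = 0 := by simp
      have hbN : b = N := by omega
      have hdN : d = N - 1 := by omega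
      have h1 := AL_claim N b _
        (fun n => Module.finrank k ↥(V₁ ⊓ degreeLT k (N + 0 - n))) hf hg1 (N - 1) (by omega)
      have hN' : N - 1 - (N - 1) = 0 := by omega
      have hc0 : Nat.choose 0 2 = 0 := rfl
      rw [hN', hc0] at h1
      subst hdN
      refine ⟨1, le_rfl, ?_⟩
      beta_reduce at h1 ⊢
      omega
    · have hg0 : ∀ n, N < n → Module.finrank k ↥(V₁ ⊓ degreeLT k (N + m - n)) = 0 := by
        intro n hn
        have h1 := hgf n
        rw [hf n, if_neg (by omega)] at h1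
        omega
      have hgN : Module.finrank k ↥(V₁ ⊓ degreeLT k (N + m - N)) ≤ 1 := by
        have h1 := hgf N
        rw [hf N, if_neg (by omega)] at h1
        omega
      have := AL1 N b d _ (fun n => Module.finrank k ↥(V₁ ⊓ degreeLT k (N + m - n))) hN1
        (by omega) hf hg1 hg0 (by omega)
      exact ⟨_, hgN, this⟩

end Groth.Agent.Helper17.PW
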