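import Groth.Agent.Lib.Helper17.PW4

set_option autoImplicit false

open Polynomial

namespace Groth.Agent.Helper17.PW

variable {k : Type*} [Field k] {m : ℕ} (r : Fin m → k) (a : Fin m → ℕ)

lemma eq_zero_of_monic_dvd {P : k[X]} (hP : P.Monic) {n : ℕ} (hn : P.natDegree = n) {F : k[X]}
    (hF : F ∈ degreeLT k n) (hd : P ∣ F) : F = 0 := by
  by_contra h0
  rw [mem_degreeLT_iff_natDegree h0] at hF
  have := natDegree_le_of_dvd hd h0
  omega

lemma coprime_pow_sub {x y : k} (hxy : x ≠ y) (i j : ℕ) :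
    IsCoprime ((X - C x) ^ i) ((X - C y) ^ j) :=
  (isCoprime_X_sub_C_of_isUnit_sub (sub_ne_zero.2 hxy).isUnit).pow

lemma two_pow_monic (x y : k) (i j : ℕ) :
    ((X - C x) ^ i * (X - C y) ^ j).Monic ∧
      ((X - C x) ^ i * (X - C y) ^ j).natDegree = i + j := by
  have h1 := monic_pow_natDegree x i
  have h2 := monic_pow_natDegree y j
  exact ⟨h1.1.mul h2.1, by rw [h1.1.natDegree_mul h2.1, h1.2, h2.2]⟩

lemma marked_unm_bot [CharZero k] (hr : Function.Injective r) {b N : ℕ}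
    (hN : N = (∑ j, a j) + b) (i₀ : Fin m) {i j : ℕ} (hi : i ≤ a i₀) (hij : i + j = N + 1)
    (q : k) :
    Vc r a b ⊓ (Ideal.span {(X - C (r i₀)) ^ i * (X - C q) ^ j}).restrictScalars k = ⊥ := by
  rw [eq_bot_iff]
  rintro h ⟨hV, hd⟩
  rw [SetLike.mem_coe, Submodule.restrictScalars_mem, Ideal.mem_span_singleton] at hd
  obtain ⟨G, hG, rfl⟩ := Vc_le r a b hV
  have hGN : (∑ j, a j) + (b + 1) = N + 1 := by omega
  rw [hGN] at hG
  have hEm : Es r a Finset.univ ∈ degreeLT k (N + 1) :=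
    degreeLT_mono (by omega) (Es_mem r a Finset.univ)
  rw [Submodule.mem_bot]
  have hsub : ∀ c : k, G - c • Es r a Finset.univ ∈ degreeLT k (N + 1) := fun c =>
    Submodule.sub_mem _ hG (Submodule.smul_mem _ _ hEm)
  by_cases hq0 : q = r i₀
  · rw [hq0, ← pow_add, hij] at hd
    obtain ⟨c, hc⟩ := exists_dvd_of_dvd_Phi_marked r a hr i₀ (N + 1) G hd
    have hm := monic_pow_natDegree (r i₀) (N + 1)
    have h0 := eq_zero_of_monic_dvd hm.1 hm.2 (hsub c) hc
    rw [← Phi_sub_smul_E r a G c, h0, map_zero]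
  · -- divisibility of G - c'E by (X - r i₀)^i for every c'
    have hdi : (X - C (r i₀)) ^ i ∣ Phi r a G := (dvd_mul_right _ _).trans hd
    have hdj : (X - C q) ^ j ∣ Phi r a G := (dvd_mul_left _ _).trans hd
    obtain ⟨c, hc⟩ := exists_dvd_of_dvd_Phi_marked r a hr i₀ i G hdi
    have hEi : (X - C (r i₀)) ^ i ∣ Es r a Finset.univ := by
      rw [Es_univ r a i₀]
      exact Dvd.dvd.mul_right (pow_dvd_pow _ hi) _
    have hsm : ∀ c' : k, (X - C (r i₀)) ^ i ∣ c' • Es r a Finset.univ := fun c' => by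
      rw [smul_eq_C_mul]; exact Dvd.dvd.mul_left hEi _
    have hGi : (X - C (r i₀)) ^ i ∣ G := by
      have h1 : G = (G - c • Es r a Finset.univ) + c • Es r a Finset.univ := by ring
      rw [h1]
      exact dvd_add hc (hsm c)
    have hall : ∀ c' : k, (X - C (r i₀)) ^ i ∣ G - c' • Es r a Finset.univ := fun c' =>
      dvd_sub hGi (hsm c')
    obtain ⟨c', hc'⟩ : ∃ c' : k, (X - C q) ^ j ∣ G - c' • Es r a Finset.univ := by
      by_cases hqm : ∃ i₁, q = r i₁
      · obtain ⟨i₁, rfl⟩ := hqm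
        exact exists_dvd_of_dvd_Phi_marked r a hr i₁ j G hdj
      · push Not at hqm
        obtain ⟨c', hc'⟩ := exists_dvd_of_dvd_Phi r a hqm j G hdj
        exact ⟨c', (pow_dvd_pow _ (Nat.le_succ j)).trans hc'⟩
    have hprod := (coprime_pow_sub (Ne.symm hq0) i j).mul_dvd (hall c') hc'
    have hm := two_pow_monic (r i₀) q i j
    rw [hij] at hm
    have h0 := eq_zero_of_monic_dvd hm.1 hm.2 (hsub c') hprod
    rw [← Phi_sub_smul_E r a G c', h0, map_zero]

lemma finrank_two_point_le_one [CharZero k] (hr : Function.Injective r) {b N : ℕ}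
    (hN : N = (∑ j, a j) + b) {p q : k} (hp : ∀ j, p ≠ r j) (hq : ∀ j, q ≠ r j)
    {i j : ℕ} (hi : 1 ≤ i) (hj : 1 ≤ j) (hij : i + j = N + 1) :
    Module.finrank k
      ↥(Vc r a b ⊓ (Ideal.span {(X - C p) ^ (i - 1) * (X - C q) ^ (j - 1)}).restrictScalars k)
      ≤ 1 := by
  by_cases hpq : p = q
  · subst hpq
    have h1 : (X - C p) ^ (i - 1) * (X - C p) ^ (j - 1) = (X - C p) ^ (N - 1) := by
      rw [← pow_add]; congr 1; omega
    rw [h1, finrank_Vc_inf r a hr hN hp (Nat.sub_le N 1)]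
    omega
  · -- the parametrization by H
    obtain ⟨W'', hW''⟩ : ∃ W'' : Submodule k k[X], W'' = degreeLT k (N - (i - 1)) ⊓
        ((Ideal.span {(X - C q) ^ (j - 1)}).restrictScalars k).comap (gq r a p (i - 1)) :=
      ⟨_, rfl⟩
    have hW''le : W'' ≤ degreeLT k (N - (i - 1)) := by rw [hW'']; exact inf_le_left
    haveI : Module.Finite k ↥W'' := Submodule.finiteDimensional_of_le hW''le
    have hle : Vc r a b ⊓
        (Ideal.span {(X - C p) ^ (i - 1) * (X - C q) ^ (j - 1)}).restrictScalars k ≤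
        W''.map (gq r a p (i - 1)) := by
      rintro h ⟨hV, hd⟩
      rw [SetLike.mem_coe, Submodule.restrictScalars_mem, Ideal.mem_span_singleton] at hd
      have hdp : (X - C p) ^ (i - 1) ∣ h := (dvd_mul_right _ _).trans hd
      have hdq : (X - C q) ^ (j - 1) ∣ h := (dvd_mul_left _ _).trans hd
      have hmem : h ∈ Vc r a b ⊓ (Ideal.span {(X - C p) ^ (i - 1)}).restrictScalars k :=
        ⟨hV, mem_span_pow_iff.2 hdp⟩
      rw [Vc_inf_eq r a hr hN hp (by omega : i - 1 ≤ N)] at hmem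
      obtain ⟨H, hH, rfl⟩ := hmem
      refine ⟨H, ?_, rfl⟩
      rw [hW'']
      exact ⟨hH, mem_span_pow_iff.2 hdq⟩
    have h1 := Submodule.finrank_map_le (gq r a p (i - 1)) W''
    haveI : Module.Finite k ↥(W''.map (gq r a p (i - 1))) := inferInstance
    have h2 := Submodule.finrank_mono hle
    -- injective functional on W''
    have hinj : Function.Injective ((Polynomial.leval q).domRestrict W'') := by
      rw [← LinearMap.ker_eq_bot, LinearMap.ker_eq_bot']
      intro H hH0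
      have hHq : (H : k[X]).eval q = 0 := hH0
      obtain ⟨hHd, hHc⟩ := hW''.le H.2
      have hHc' : (X - C q) ^ (j - 1) ∣ Phi r a ((X - C p) ^ (i - 1 + 1) * (H : k[X])) :=
        mem_span_pow_iff.1 hHc
      have hi' : i - 1 + 1 = i := by omega
      have hj' : j - 1 + 1 = j := by omega
      rw [hi'] at hHc'
      obtain ⟨c', hc'⟩ := exists_dvd_of_dvd_Phi r a hq (j - 1) _ hHc'
      rw [hj'] at hc'
      have hc0 : c' = 0 := by
        have h3 : (X - C q) ∣ (X - C p) ^ i * (H : k[X]) - c' • Es r a Finset.univ :=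
          (dvd_pow_self _ (by omega)).trans hc'
        have h4 := dvd_iff_isRoot.1 h3
        rw [IsRoot.def, eval_sub, eval_mul, hHq, mul_zero, zero_sub, eval_smul, smul_eq_mul,
          neg_eq_zero] at h4
        exact (mul_eq_zero.1 h4).resolve_right (eval_Es_ne r a hq _)
      rw [hc0, zero_smul, sub_zero] at hc'
      have h5 : (X - C q) ^ j ∣ (H : k[X]) :=
        (coprime_pow_sub (Ne.symm hpq) j i).dvd_of_dvd_mul_left hc'
      have hm := monic_pow_natDegree q j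
      have hNj : N - (i - 1) = j := by omega
      rw [hNj] at hHd
      exact Subtype.ext (eq_zero_of_monic_dvd hm.1 hm.2 hHd h5)
    have h3 := LinearMap.finrank_le_finrank_of_injective hinj
    rw [Module.finrank_self] at h3
    omega


section ThreePoint

variable {K : Type*} [Field K]

/-- the marked points `0, 1` -/
def r3 : Fin 2 → K := ![0, 1]
/-- the multiplicities -/
def a3 (a b : ℕ) : Fin 2 → ℕ := ![a, b]

lemma r3_inj : Function.Injective (r3 : Fin 2 → K) := by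
  intro x y h
  fin_cases x <;> fin_cases y <;> simp_all [r3]

lemma erase0 : (Finset.univ : Finset (Fin 2)).erase 0 = {1} := by decide
lemma erase1 : (Finset.univ : Finset (Fin 2)).erase 1 = {0} := by decide

lemma Ds3_univ (a b : ℕ) :
    Ds (r3 : Fin 2 → K) (a3 a b) Finset.univ = X ^ (a + 1) * (X - 1) ^ (b + 1) := by
  simp [Ds, Fin.prod_univ_two, r3, a3]

lemma Ds3_erase0 (a b : ℕ) :
    Ds (r3 : Fin 2 → K) (a3 a b) (Finset.univ.erase 0) = (X - 1) ^ (b + 1) := by
  rw [erase0]; simp [Ds, r3, a3]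

lemma Ds3_erase1 (a b : ℕ) :
    Ds (r3 : Fin 2 → K) (a3 a b) (Finset.univ.erase 1) = X ^ (a + 1) := by
  rw [erase1]; simp [Ds, r3, a3]

lemma V3_le (a b : ℕ) :
    ((Ideal.span {(X : K[X]) ^ (a + 1)}).restrictScalars K ⊓ degreeLE K ↑(a + b)) ⊔
      ((Ideal.span {((X : K[X]) - 1) ^ (b + 1)}).restrictScalars K ⊓ degreeLE K ↑(a + b)) ⊔
      Submodule.span K {(X : K[X]) ^ (a + 1) * (X - 1) ^ (b + 1)} ≤
      Vc (r3 : Fin 2 → K) (a3 a b) 1 := by
  refine sup_le (sup_le ?_ ?_) ?_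
  · rintro x ⟨hx1, hx2⟩
    rw [SetLike.mem_coe, Submodule.restrictScalars_mem, Ideal.mem_span_singleton] at hx1
    obtain ⟨H, rfl⟩ := hx1
    rw [SetLike.mem_coe, ← degreeLT_succ_eq_degreeLE] at hx2
    have hH : H ∈ degreeLT K b := by
      refine mem_of_monic_mul_mem (monic_X_pow (a + 1)) (natDegree_X_pow (a + 1)) ?_
      have : a + 1 + b = a + b + 1 := by omega
      rw [this]; exact hx2
    refine Submodule.mem_sup_right (Submodule.mem_iSup_of_mem 1 ⟨H, ?_, ?_⟩)
    · simpa [a3] using hH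
    · show Ds (r3 : Fin 2 → K) (a3 a b) (Finset.univ.erase 1) * H = X ^ (a + 1) * H
      rw [Ds3_erase1]
  · rintro x ⟨hx1, hx2⟩
    rw [SetLike.mem_coe, Submodule.restrictScalars_mem, Ideal.mem_span_singleton] at hx1
    obtain ⟨H, rfl⟩ := hx1
    rw [SetLike.mem_coe, ← degreeLT_succ_eq_degreeLE] at hx2
    have hm := monic_pow_natDegree (1 : K) (b + 1)
    rw [C_1] at hm
    have hH : H ∈ degreeLT K a := by
      refine mem_of_monic_mul_mem hm.1 hm.2 ?_
      have : b + 1 + a = a + b + 1 := by omega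
      rw [this]; exact hx2
    refine Submodule.mem_sup_right (Submodule.mem_iSup_of_mem 0 ⟨H, ?_, ?_⟩)
    · simpa [a3] using hH
    · show Ds (r3 : Fin 2 → K) (a3 a b) (Finset.univ.erase 0) * H = (X - 1) ^ (b + 1) * H
      rw [Ds3_erase0]
  · rw [Submodule.span_singleton_le_iff_mem]
    refine Submodule.mem_sup_left ⟨1, ?_, ?_⟩
    · rw [SetLike.mem_coe, mem_degreeLT_iff_natDegree one_ne_zero, natDegree_one]; omega
    · show Ds (r3 : Fin 2 → K) (a3 a b) Finset.univ * 1 = X ^ (a + 1) * (X - 1) ^ (b + 1)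
      rw [Ds3_univ, mul_one]

lemma sum_a3 (a b : ℕ) : (∑ j, a3 a b j) = a + b := by
  simp [a3, Fin.sum_univ_two]

lemma ne_r3 {p : K} (h0 : p ≠ 0) (h1 : p ≠ 1) : ∀ j, p ≠ (r3 : Fin 2 → K) j := by
  intro j
  fin_cases j
  · simpa [r3] using h0
  · simpa [r3] using h1

theorem s16261 [CharZero K] (a b i j : ℕ) (hj : i + j = a + b + 2)
    (V : Submodule K K[X])
    (hV : V = ((Ideal.span {(X : K[X]) ^ (a + 1)}).restrictScalars K ⊓
        degreeLE K ↑(a + b)) ⊔
      ((Ideal.span {((X : K[X]) - 1) ^ (b + 1)}).restrictScalars K ⊓ degreeLE K ↑(a + b)) ⊔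
      Submodule.span K {(X : K[X]) ^ (a + 1) * (X - 1) ^ (b + 1)})
    (q : K)
    (h1 : 1 ≤ Module.finrank K
      ↥(V ⊓ (Ideal.span {(X : K[X]) ^ i * (X - C q) ^ j}).restrictScalars K)) :
    a + 1 ≤ i := by
  by_contra hcon
  push Not at hcon
  have hle : V ≤ Vc (r3 : Fin 2 → K) (a3 a b) 1 := by rw [hV]; exact V3_le a b
  have hN : a + b + 1 = (∑ j, a3 a b j) + 1 := by rw [sum_a3]
  have hbot := marked_unm_bot (r3 : Fin 2 → K) (a3 a b) r3_inj hN (0 : Fin 2) (i := i) (j := j)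
    (by
      have : a3 a b 0 = a := by simp [a3]
      rw [this]; omega) (by omega) q
  have h0 : (X - C ((r3 : Fin 2 → K) 0)) = X := by simp [r3]
  rw [h0] at hbot
  have hle2 : V ⊓ (Ideal.span {(X : K[X]) ^ i * (X - C q) ^ j}).restrictScalars K ≤ ⊥ := by
    rw [← hbot]; exact inf_le_inf_right _ hle
  have h2 : Module.finrank K
      ↥(V ⊓ (Ideal.span {(X : K[X]) ^ i * (X - C q) ^ j}).restrictScalars K) = 0 := by
    rw [le_bot_iff.1 hle2]; exact finrank_bot K K[X]
  omega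

theorem s16260 [CharZero K] (a b i j : ℕ) (hi : 0 < i) (hiab : i ≤ a + b)
    (hj : i + j = a + b + 2)
    (V : Submodule K K[X])
    (hV : V = ((Ideal.span {(X : K[X]) ^ (a + 1)}).restrictScalars K ⊓
        degreeLE K ↑(a + b)) ⊔
      ((Ideal.span {((X : K[X]) - 1) ^ (b + 1)}).restrictScalars K ⊓ degreeLE K ↑(a + b)) ⊔
      Submodule.span K {(X : K[X]) ^ (a + 1) * (X - 1) ^ (b + 1)})
    (p q : K) (hp0 : p ≠ 0) (hp1 : p ≠ 1) (hq0 : q ≠ 0) (hq1 : q ≠ 1) :
    ¬ (1 ≤ Module.finrank K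
        ↥(V ⊓ (Ideal.span {(X - C p) ^ i * (X - C q) ^ j}).restrictScalars K) ∧
       2 ≤ Module.finrank K
        ↥(V ⊓ (Ideal.span {(X - C p) ^ (i - 1) * (X - C q) ^ (j - 1)}).restrictScalars K)) := by
  rintro ⟨-, h2⟩
  have hle : V ≤ Vc (r3 : Fin 2 → K) (a3 a b) 1 := by rw [hV]; exact V3_le a b
  have hN : a + b + 1 = (∑ j, a3 a b j) + 1 := by rw [sum_a3]
  have hb := finrank_two_point_le_one (r3 : Fin 2 → K) (a3 a b) r3_inj hN (ne_r3 hp0 hp1)
    (ne_r3 hq0 hq1) (i := i) (j := j) hi (by omega) (by omega)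
  haveI : Module.Finite K ↥(Vc (r3 : Fin 2 → K) (a3 a b) 1 ⊓
      (Ideal.span {(X - C p) ^ (i - 1) * (X - C q) ^ (j - 1)}).restrictScalars K) :=
    Submodule.finiteDimensional_of_le inf_le_left
  have h3 := Submodule.finrank_mono (inf_le_inf_right
    ((Ideal.span {(X - C p) ^ (i - 1) * (X - C q) ^ (j - 1)}).restrictScalars K) hle)
  omega

end ThreePoint

end Groth.Agent.Helper17.PW
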