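import Mathlib
import Groth.Agent.Lib.Helper17.FieldBC

set_option autoImplicit false
universe u
open CategoryTheory CategoryTheory.Limits AlgebraicGeometry TopologicalSpace Topology TensorProduct

namespace Groth.Agent.Helper17.ProdDim

open Groth.Agent.Helper17.FieldBC

/-! ### sups of sums in `WithBot ℕ∞` -/

theorem L {ι : Sort*} (a : ι → WithBot ℕ∞) (c S : WithBot ℕ∞) (h : ∀ i, a i + c ≤ S) :
    (⨆ i, a i) + c ≤ S := by
  rcases eq_or_ne c ⊥ with rfl | hc
  · simp
  by_cases hall : ∀ i, a i = ⊥
  · have h0 : (⨆ i, a i) = ⊥ := by simp [hall]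
    rw [h0]; simp
  push Not at hall
  obtain ⟨i₀, hi₀⟩ := hall
  have hS : S ≠ ⊥ := by
    intro hS
    have h1 := h i₀
    rw [hS, le_bot_iff, WithBot.add_eq_bot] at h1
    rcases h1 with h1 | h1
    · exact hi₀ h1
    · exact hc h1
  lift c to ℕ∞ using hc
  lift S to ℕ∞ using hS
  haveI : Nonempty ι := ⟨i₀⟩
  have hcS : c ≤ S := by
    obtain ⟨x, hx⟩ := WithBot.ne_bot_iff_exists.mp hi₀
    have h1 := h i₀
    rw [← hx] at h1
    have h2 : x + c ≤ S := by exact_mod_cast h1
    exact le_trans le_add_self h2
  let a' : ι → ℕ∞ := fun i => (a i).unbotD 0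
  have ha' : ∀ i, a' i + c ≤ S := by
    intro i
    rcases eq_or_ne (a i) ⊥ with hi | hi
    · simp only [a', hi, WithBot.unbotD_bot, zero_add]; exact hcS
    · obtain ⟨x, hx⟩ := WithBot.ne_bot_iff_exists.mp hi
      have h1 := h i
      rw [← hx] at h1
      have h2 : x + c ≤ S := by exact_mod_cast h1
      simpa only [a', ← hx, WithBot.unbotD_coe] using h2
  have hle : ∀ i, a i ≤ ((a' i : ℕ∞) : WithBot ℕ∞) := by
    intro i
    rcases eq_or_ne (a i) ⊥ with hi | hi
    · rw [hi]; exact bot_le
    · obtain ⟨x, hx⟩ := WithBot.ne_bot_iff_exists.mp hi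
      simp only [a', ← hx, WithBot.unbotD_coe]; exact le_rfl
  have h1 : (⨆ i, a i) ≤ ((⨆ i, a' i : ℕ∞) : WithBot ℕ∞) :=
    iSup_le fun i => (hle i).trans (WithBot.coe_le_coe.mpr (le_iSup a' i))
  calc (⨆ i, a i) + (c : WithBot ℕ∞)
      ≤ ((⨆ i, a' i : ℕ∞) : WithBot ℕ∞) + (c : WithBot ℕ∞) := by gcongr
    _ = (((⨆ i, a' i) + c : ℕ∞) : WithBot ℕ∞) := by norm_cast
    _ ≤ (S : WithBot ℕ∞) := by
      rw [WithBot.coe_le_coe, ENat.iSup_add]
      exact iSup_le ha'

theorem supsum {ι κ : Sort*} (a : ι → WithBot ℕ∞) (b : κ → WithBot ℕ∞) (S : WithBot ℕ∞)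
    (h : ∀ i j, a i + b j ≤ S) : (⨆ i, a i) + (⨆ j, b j) ≤ S := by
  apply L
  intro i
  rw [add_comm]
  apply L
  intro j
  rw [add_comm]
  exact h i j

/-! ### algebra -/

section Alg
variable (k A B : Type u) [Field k] [CommRing A] [CommRing B] [Algebra k A] [Algebra k B]

theorem dim_tensor_add [Algebra.FiniteType k A] [IsNoetherianRing B] :
    ringKrullDim (B ⊗[k] A) = ringKrullDim B + ringKrullDim A := by
  rcases subsingleton_or_nontrivial A with hA | hA
  · haveI : Subsingleton (B ⊗[k] A) := by
      refine ⟨fun x y => ?_⟩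
      have h0 : ∀ z : B ⊗[k] A, z = 0 := by
        intro z
        induction z using TensorProduct.induction_on with
        | zero => rfl
        | tmul c a => rw [Subsingleton.elim a 0, TensorProduct.tmul_zero]
        | add x y hx hy => rw [hx, hy, add_zero]
      rw [h0 x, h0 y]
    rw [ringKrullDim_eq_bot_of_subsingleton, ringKrullDim_eq_bot_of_subsingleton (R := A)]
    simp
  obtain ⟨s, g, hinj, hint⟩ := exists_integral_inj_algHom_of_fg k A
  have hA : ringKrullDim A = (s : WithBot ℕ∞) := by
    rw [dim_eq_of_integral_injective g.toRingHom hint hinj, dim_mvPolynomial_field]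
  rw [hA]
  let θ : MvPolynomial (Fin s) B →ₐ[B] B ⊗[k] A :=
    MvPolynomial.aeval (fun i => (1 : B) ⊗ₜ[k] g (MvPolynomial.X i))
  let ιA : A →+* B ⊗[k] A := (Algebra.TensorProduct.includeRight : A →ₐ[k] B ⊗[k] A).toRingHom
  have hsq : θ.toRingHom.comp (MvPolynomial.map (algebraMap k B)) = ιA.comp g.toRingHom := by
    apply MvPolynomial.ringHom_ext
    · intro c
      show θ (MvPolynomial.map (algebraMap k B) (MvPolynomial.C c)) =
        (1 : B) ⊗ₜ[k] g (MvPolynomial.C c)
      have e1 : θ (MvPolynomial.C (algebraMap k B c)) = (algebraMap k B c) ⊗ₜ[k] (1 : A) := by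
        rw [MvPolynomial.aeval_C, Algebra.TensorProduct.algebraMap_apply]
        rfl
      have e2 : g (MvPolynomial.C c) = algebraMap k A c := by
        rw [← MvPolynomial.algebraMap_eq, AlgHom.commutes]
      rw [MvPolynomial.map_C, e1, e2, Algebra.algebraMap_eq_smul_one,
        Algebra.algebraMap_eq_smul_one, TensorProduct.smul_tmul]
    · intro i
      show θ (MvPolynomial.map (algebraMap k B) (MvPolynomial.X i)) =
        (1 : B) ⊗ₜ[k] g (MvPolynomial.X i)
      rw [MvPolynomial.map_X, MvPolynomial.aeval_X]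
  have hsq' : ∀ p, θ (MvPolynomial.map (algebraMap k B) p) = (1 : B) ⊗ₜ[k] g p := fun p => by
    have := congrArg (fun φ => φ p) hsq
    simpa [ιA] using this
  have hθint : θ.toRingHom.IsIntegral := by
    have h1 : ∀ a : A, θ.toRingHom.IsIntegralElem ((1 : B) ⊗ₜ[k] a) := by
      intro a
      obtain ⟨p, hp_monic, hp⟩ := hint a
      refine ⟨p.map (MvPolynomial.map (algebraMap k B)), hp_monic.map _, ?_⟩
      rw [Polynomial.eval₂_map, hsq]
      have : (1 : B) ⊗ₜ[k] a = ιA a := rfl
      rw [this, ← Polynomial.hom_eval₂, hp, map_zero]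
    intro x
    induction x using TensorProduct.induction_on with
    | zero => exact θ.toRingHom.isIntegralElem_zero
    | tmul c a =>
      have : c ⊗ₜ[k] a = θ.toRingHom (MvPolynomial.C c) * ((1 : B) ⊗ₜ[k] a) := by
        simp [θ, Algebra.TensorProduct.algebraMap_apply]
      rw [this]
      exact RingHom.IsIntegralElem.mul _ (θ.toRingHom.isIntegralElem_map) (h1 a)
    | add x y hx hy => exact RingHom.IsIntegralElem.add _ hx hy
  have hθinj : Function.Injective θ := by
    let e := MvPolynomial.algebraTensorAlgEquiv (σ := Fin s) k B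
    have hcomp : ∀ z : B ⊗[k] MvPolynomial (Fin s) k, θ (e z) = (g.toLinearMap.lTensor B) z := by
      intro z
      induction z using TensorProduct.induction_on with
      | zero => simp
      | tmul c p =>
        rw [MvPolynomial.algebraTensorAlgEquiv_tmul, map_smul, hsq', LinearMap.lTensor_tmul,
          TensorProduct.smul_tmul', smul_eq_mul, mul_one]
        rfl
      | add x y hx hy => rw [map_add, map_add, map_add, hx, hy]
    have hl : Function.Injective (g.toLinearMap.lTensor B) :=
      Module.Flat.lTensor_preserves_injective_linearMap (M := B) g.toLinearMap hinj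
    intro x y hxy
    have hx := hcomp (e.symm x)
    have hy := hcomp (e.symm y)
    rw [AlgEquiv.apply_symm_apply] at hx hy
    have := hl (hx.symm.trans (hxy.trans hy))
    exact e.symm.injective this
  rw [dim_eq_of_integral_injective θ.toRingHom hθint hθinj,
    MvPolynomial.ringKrullDim_of_isNoetherianRing]
  simp

end Alg

/-! ### schemes -/

set_option backward.isDefEq.respectTransparency.types false in
theorem dim_pullback_Spec_Spec {k : Type u} [Field k] (R T : CommRingCat.{u})
    (a : Spec R ⟶ Spec (CommRingCat.of k)) (b : Spec T ⟶ Spec (CommRingCat.of k))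
    [LocallyOfFiniteType a] [LocallyOfFiniteType b] :
    topologicalKrullDim ↥(pullback a b) =
      topologicalKrullDim ↥(Spec R) + topologicalKrullDim ↥(Spec T) := by
  let φ : CommRingCat.of k ⟶ R := Spec.preimage a
  have hφ : Spec.map φ = a := Spec.map_preimage a
  let ψ : CommRingCat.of k ⟶ T := Spec.preimage b
  have hψ : Spec.map ψ = b := Spec.map_preimage b
  letI : Algebra k R := φ.hom.toAlgebra
  letI : Algebra k T := ψ.hom.toAlgebra
  haveI : Algebra.FiniteType k R := by
    have h1 : LocallyOfFiniteType (Spec.map φ) := by rw [hφ]; infer_instance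
    exact (HasRingHomProperty.Spec_iff (P := @LocallyOfFiniteType)).mp h1
  haveI : Algebra.FiniteType k T := by
    have h1 : LocallyOfFiniteType (Spec.map ψ) := by rw [hψ]; infer_instance
    exact (HasRingHomProperty.Spec_iff (P := @LocallyOfFiniteType)).mp h1
  haveI : IsNoetherianRing R := Algebra.FiniteType.isNoetherianRing k R
  have e1 : pullback a b ≅
      pullback (Spec.map (CommRingCat.ofHom (algebraMap k R)))
        (Spec.map (CommRingCat.ofHom (algebraMap k T))) :=
    pullback.congrHom hφ.symm hψ.symm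
  rw [dim_of_iso (e1 ≪≫ pullbackSpecIso k R T), dim_Spec, dim_Spec, dim_Spec]
  exact dim_tensor_add k T R

set_option backward.isDefEq.respectTransparency.types false in
theorem dim_pullback_add {k : Type u} [Field k] {X Y : Scheme.{u}}
    (f : X ⟶ Spec (CommRingCat.of k)) (g : Y ⟶ Spec (CommRingCat.of k))
    [LocallyOfFiniteType f] [LocallyOfFiniteType g] :
    topologicalKrullDim ↥(pullback f g) = topologicalKrullDim ↥X + topologicalKrullDim ↥Y := by
  have key : ∀ (i : X.affineCover.I₀) (j : Y.affineCover.I₀),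
      topologicalKrullDim ↥(pullback (X.affineCover.f i ≫ f) (Y.affineCover.f j ≫ g)) =
        topologicalKrullDim ↥(X.affineCover.X i) + topologicalKrullDim ↥(Y.affineCover.X j) := by
    intro i j
    haveI : IsOpenImmersion (X.affineCover.f i) := inferInstance
    haveI : IsOpenImmersion (Y.affineCover.f j) := inferInstance
    have inst1 : LocallyOfFiniteType (X.affineCover.f i ≫ f) := inferInstance
    have inst2 : LocallyOfFiniteType (Y.affineCover.f j ≫ g) := inferInstance
    exact @dim_pullback_Spec_Spec k _ _ _ (X.affineCover.f i ≫ f) (Y.affineCover.f j ≫ g)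
      inst1 inst2
  rw [dim_openCover (Scheme.Pullback.openCoverOfLeftRight X.affineCover Y.affineCover f g),
    dim_openCover X.affineCover, dim_openCover Y.affineCover]
  apply le_antisymm
  · apply iSup_le
    rintro ⟨i, j⟩
    refine (key i j).le.trans ?_
    exact add_le_add (le_iSup (fun i => topologicalKrullDim ↥(X.affineCover.X i)) i)
      (le_iSup (fun j => topologicalKrullDim ↥(Y.affineCover.X j)) j)
  · apply supsum
    intro i j
    rw [← key i j]
    exact le_iSup (fun p => topologicalKrullDim
      ↥((Scheme.Pullback.openCoverOfLeftRight X.affineCover Y.affineCover f g).X p)) (i, j)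

end Groth.Agent.Helper17.ProdDim
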