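import Mathlib
import Groth.Agent.Lib.Helper17.CompBC
import Groth.Agent.Lib.Helper17.ProdComp
import Groth.Agent.Lib.Helper17.ProdDim
import Groth.Agent.S2680

set_option autoImplicit false
universe u
open CategoryTheory CategoryTheory.Limits AlgebraicGeometry TopologicalSpace Topology TensorProduct

namespace Groth.Agent.Helper17.ProdCompDim

variable {k A B : Type u} [Field k] [CommRing A] [CommRing B] [Algebra k A] [Algebra k B]

theorem finiteType_tensor [Algebra.FiniteType k A] [Algebra.FiniteType k B] :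
    Algebra.FiniteType k (A ⊗[k] B) :=
  Algebra.FiniteType.trans (inferInstance : Algebra.FiniteType k A)
    (inferInstance : Algebra.FiniteType A (A ⊗[k] B))

theorem dim_quot_prod_ge [IsDomain A] [IsDomain B] [Algebra.FiniteType k A]
    [Algebra.FiniteType k B] (Q : Ideal (A ⊗[k] B)) (hQ : Q ∈ minimalPrimes (A ⊗[k] B)) :
    ringKrullDim A + ringKrullDim B ≤ ringKrullDim ((A ⊗[k] B) ⧸ Q) := by
  classical
  haveI : Q.IsPrime := hQ.1.1
  haveI : Algebra.FiniteType k (A ⊗[k] B) := finiteType_tensor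
  haveI : IsNoetherianRing (A ⊗[k] B) := Algebra.FiniteType.isNoetherianRing k (A ⊗[k] B)
  haveI : IsNoetherianRing A := Algebra.FiniteType.isNoetherianRing k A
  haveI : IsNoetherianRing B := Algebra.FiniteType.isNoetherianRing k B
  haveI : IsJacobsonRing A := isJacobsonRing_of_finiteType (A := k) (B := A)
  set φ := algebraMap A (A ⊗[k] B) with hφ
  have hφfl : φ.Flat := RingHom.flat_algebraMap_iff.mpr inferInstance
  have hcomapQ : Q.comap φ = ⊥ := ProdComp.comap_minimal_eq_bot φ hφfl Q hQ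
  have hfin : (minimalPrimes (A ⊗[k] B)).Finite := minimalPrimes.finite_of_isNoetherianRing _
  have hFcl : IsClosed (⋃ Q' ∈ {Q' ∈ minimalPrimes (A ⊗[k] B) | Q' ≠ Q},
      PrimeSpectrum.zeroLocus (Q' : Set (A ⊗[k] B))) :=
    (hfin.subset (Set.sep_subset _ _)).isClosed_biUnion
      (fun Q' _ => PrimeSpectrum.isClosed_zeroLocus _)
  set F := ⋃ Q' ∈ {Q' ∈ minimalPrimes (A ⊗[k] B) | Q' ≠ Q},
      PrimeSpectrum.zeroLocus (Q' : Set (A ⊗[k] B)) with hF
  have hQF : (⟨Q, inferInstance⟩ : PrimeSpectrum (A ⊗[k] B)) ∉ F := by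
    intro hx
    obtain ⟨Q', ⟨hQ'min, hQ'ne⟩, hle⟩ := Set.mem_iUnion₂.mp hx
    have hle' : Q' ≤ Q := hle
    exact hQ'ne (le_antisymm hle' (hQ.2 hQ'min.1 hle'))
  have hFmem : ∀ q : PrimeSpectrum (A ⊗[k] B), q ∉ F → ∀ Q' ∈ minimalPrimes (A ⊗[k] B),
      Q' ≤ q.asIdeal → Q' = Q := by
    intro q hq Q' hQ'min hle
    by_contra hne
    exact hq (Set.mem_biUnion (show Q' ∈ {Q' ∈ minimalPrimes (A ⊗[k] B) | Q' ≠ Q} from
      ⟨hQ'min, hne⟩) hle)
  have hopen : IsOpen (PrimeSpectrum.comap φ '' Fᶜ) :=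
    PrimeSpectrum.isOpenMap_comap_algebraMap_tensorProduct_of_field _ hFcl.isOpen_compl
  have hbot : (⟨⊥, Ideal.isPrime_bot⟩ : PrimeSpectrum A) ∈ PrimeSpectrum.comap φ '' Fᶜ :=
    ⟨⟨Q, inferInstance⟩, hQF, PrimeSpectrum.ext hcomapQ⟩
  -- a maximal ideal in the open set
  obtain ⟨m, hmmax, hmmem⟩ : ∃ m : Ideal A, ∃ hm : m.IsMaximal,
      (⟨m, hm.isPrime⟩ : PrimeSpectrum A) ∈ PrimeSpectrum.comap φ '' Fᶜ := by
    obtain ⟨_, ⟨_, ⟨g, rfl⟩, rfl⟩, hgmem, hgsub⟩ :=
      PrimeSpectrum.isBasis_basic_opens.exists_subset_of_mem_open hbot hopen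
    have hg0 : g ≠ 0 := by
      intro h0
      have : g ∉ (⊥ : Ideal A) := hgmem
      exact this (by rw [h0]; exact Ideal.zero_mem _)
    have hjac : (⊥ : Ideal A).jacobson = ⊥ :=
      (isJacobsonRing_iff.mp inferInstance) ⊥ (Ideal.isPrime_bot.isRadical)
    have hgj : g ∉ (⊥ : Ideal A).jacobson := by
      rw [hjac]; simpa using hg0
    rw [Ideal.jacobson, Ideal.mem_sInf] at hgj
    push Not at hgj
    obtain ⟨J, ⟨-, hJmax⟩, hgJ⟩ := hgj
    exact ⟨J, hJmax, hgsub (show (⟨J, hJmax.isPrime⟩ : PrimeSpectrum A) ∈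
      (PrimeSpectrum.basicOpen g : Set _) from hgJ)⟩
  obtain ⟨Q₁, hQ₁F, hQ₁m⟩ := hmmem
  have hQ₁m' : Q₁.asIdeal.comap φ = m := congrArg PrimeSpectrum.asIdeal hQ₁m
  haveI := hmmax
  -- the fibre ring
  letI : Field (A ⧸ m) := Ideal.Quotient.field m
  let ρ₀ : A ⊗[k] B →ₐ[k] (A ⧸ m) ⊗[k] B :=
    Algebra.TensorProduct.map (Ideal.Quotient.mkₐ k m) (AlgHom.id k B)
  let ρ : A ⊗[k] B →ₐ[k] B ⊗[k] (A ⧸ m) :=
    (Algebra.TensorProduct.comm k (A ⧸ m) B).toAlgHom.comp ρ₀
  have hs1 : Function.Surjective (Ideal.Quotient.mkₐ k m) := Ideal.Quotient.mkₐ_surjective k m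
  have hρ₀surj : Function.Surjective ρ₀ :=
    Algebra.TensorProduct.map_surjective _ _ hs1 Function.surjective_id
  have hρsurj : Function.Surjective ρ :=
    (Algebra.TensorProduct.comm k (A ⧸ m) B).surjective.comp hρ₀surj
  have hker : RingHom.ker ρ.toRingHom = m.map φ := by
    have e1 : RingHom.ker (Ideal.Quotient.mkₐ k m) = m := by
      ext x; simp [RingHom.mem_ker, Ideal.Quotient.eq_zero_iff_mem]
    have h1 := Algebra.TensorProduct.rTensor_ker (R := k) (S := k) (C := B)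
      (Ideal.Quotient.mkₐ k m) hs1
    rw [e1] at h1
    ext t
    rw [RingHom.mem_ker]
    have h2 : ρ.toRingHom t = (Algebra.TensorProduct.comm k (A ⧸ m) B) (ρ₀ t) := rfl
    rw [h2, EmbeddingLike.map_eq_zero_iff]
    have h3 : ρ₀ t = 0 ↔ t ∈ RingHom.ker ρ₀ := (RingHom.mem_ker).symm
    rw [h3]
    show t ∈ RingHom.ker (Algebra.TensorProduct.map (Ideal.Quotient.mkₐ k m) (AlgHom.id k B)) ↔ _
    rw [h1]
    rfl
  have hkerQ₁ : RingHom.ker ρ.toRingHom ≤ Q₁.asIdeal := by
    rw [hker, Ideal.map_le_iff_le_comap, hQ₁m']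
  haveI := Q₁.isPrime
  haveI hQ₁bar : (Q₁.asIdeal.map ρ.toRingHom).IsPrime :=
    Ideal.map_isPrime_of_surjective hρsurj hkerQ₁
  have hcm : (Q₁.asIdeal.map ρ.toRingHom).comap ρ.toRingHom = Q₁.asIdeal := by
    rw [Ideal.comap_map_of_surjective ρ.toRingHom hρsurj]
    exact sup_eq_left.mpr hkerQ₁
  obtain ⟨Qb, hQbmin, hQble⟩ :=
    Ideal.exists_minimalPrimes_le (bot_le : (⊥ : Ideal _) ≤ Q₁.asIdeal.map ρ.toRingHom)
  haveI : Qb.IsPrime := hQbmin.1.1
  set Qm : Ideal (A ⊗[k] B) := Qb.comap ρ.toRingHom with hQm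
  haveI hQmprime : Qm.IsPrime := Ideal.comap_isPrime _ _
  have hQmle : Qm ≤ Q₁.asIdeal := by rw [← hcm]; exact Ideal.comap_mono hQble
  -- dimension of T/Qm
  haveI : (⊥ : Ideal B).IsPrime := Ideal.isPrime_bot
  have hdimfib : ringKrullDim ((B ⊗[k] (A ⧸ m)) ⧸ Qb) = ringKrullDim B := by
    have hQb' : Qb ∈ ((⊥ : Ideal B).map (algebraMap B (B ⊗[k] (A ⧸ m)))).minimalPrimes := by
      rw [Ideal.map_bot]; exact hQbmin
    rw [CompBC.dim_quot_eq (⊥ : Ideal B) Qb hQb']
    exact ringKrullDim_eq_of_ringEquiv (RingEquiv.quotientBot B)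
  have hdimQm : ringKrullDim B ≤ ringKrullDim ((A ⊗[k] B) ⧸ Qm) := by
    rw [← hdimfib]
    exact ringKrullDim_le_of_surjective (Ideal.quotientMap Qb ρ.toRingHom (le_refl _))
      (Ideal.quotientMap_surjective hρsurj)
  -- Qm lies over m and only Q below it
  have hQmF : ∀ Q' ∈ minimalPrimes (A ⊗[k] B), Q' ≤ Qm → Q' = Q := fun Q' hQ' hle =>
    hFmem Q₁ hQ₁F Q' hQ' (hle.trans hQmle)
  have hQmm : Qm.comap φ = m := by
    have hle : m ≤ Qm.comap φ := by
      rw [← Ideal.map_le_iff_le_comap, ← hker]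
      intro t ht
      show ρ.toRingHom t ∈ Qb
      rw [(RingHom.mem_ker).mp ht]
      exact Ideal.zero_mem _
    exact (hmmax.eq_of_le (Ideal.IsPrime.ne_top (Ideal.comap_isPrime φ Qm)) hle).symm
  -- numbers
  obtain ⟨m', hm'max⟩ := Ideal.exists_maximal B
  haveI := hm'max
  have hhtA : (m.height : WithBot ℕ∞) = ringKrullDim A :=
    Groth.Agent.S2680.height_eq_of_isMaximal k A m
  have hhtB : (m'.height : WithBot ℕ∞) = ringKrullDim B :=
    Groth.Agent.S2680.height_eq_of_isMaximal k B m'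
  haveI : m.IsPrime := hmmax.isPrime
  haveI : m'.IsPrime := hm'max.isPrime
  obtain ⟨na, hna⟩ := ENat.ne_top_iff_exists.mp (Ideal.height_ne_top hmmax.ne_top)
  obtain ⟨nb, hnb⟩ := ENat.ne_top_iff_exists.mp (Ideal.height_ne_top hm'max.ne_top)
  -- chain part 1
  have hh : Order.height (⟨m, inferInstance⟩ : PrimeSpectrum A) = na := by
    rw [← PrimeSpectrum.height_eq_orderHeight]; exact hna.symm
  obtain ⟨lA, hlAlast, hlAlen⟩ := Order.exists_series_of_height_eq_coe _ hh
  haveI : Qm.LiesOver lA.last.asIdeal := ⟨by rw [hlAlast]; exact hQmm.symm⟩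
  obtain ⟨L, hLlen, hLlast, -⟩ := Ideal.exists_ltSeries_of_hasGoingDown lA Qm
  have hheadle : L.head ≤ (⟨Qm, hQmprime⟩ : PrimeSpectrum (A ⊗[k] B)) := by
    have : L.head ≤ L.last := LTSeries.head_le_last L
    rw [hLlast] at this
    exact this
  haveI := L.head.isPrime
  obtain ⟨Q'', hQ''min, hQ''le⟩ :=
    Ideal.exists_minimalPrimes_le (bot_le : (⊥ : Ideal _) ≤ L.head.asIdeal)
  have hQ''Q : Q'' = Q := hQmF Q'' hQ''min (hQ''le.trans hheadle)
  have hmemL : ∀ i, L i ∈ PrimeSpectrum.zeroLocus (Q : Set (A ⊗[k] B)) := by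
    intro i
    show Q ≤ (L i).asIdeal
    rw [← hQ''Q]
    exact hQ''le.trans (show L.head ≤ L i from L.monotone (Fin.zero_le i))
  let L' : LTSeries ↥(PrimeSpectrum.zeroLocus (Q : Set (A ⊗[k] B))) :=
    { length := L.length
      toFun := fun i => ⟨L i, hmemL i⟩
      step := fun i => L.step i }
  have hQQm : Q ≤ Qm := by
    have := hmemL (Fin.last _)
    have h2 : L (Fin.last _) = ⟨Qm, hQmprime⟩ := hLlast
    rw [h2] at this
    exact this
  let x₀ : ↥(PrimeSpectrum.zeroLocus (Q : Set (A ⊗[k] B))) := ⟨⟨Qm, hQmprime⟩, hQQm⟩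
  have hL'last : L'.last = x₀ := Subtype.ext hLlast
  have h1 : (na : ℕ∞) ≤ Order.height x₀ := by
    have := Order.length_le_height_last (p := L')
    rw [hL'last] at this
    have hlen : L'.length = na := by
      show L.length = na
      rw [hLlen, hlAlen]
    rw [hlen] at this
    exact this
  -- chain part 2
  have hnbdim : ((nb : ℕ) : WithBot ℕ∞) ≤
      Order.krullDim ↥(PrimeSpectrum.zeroLocus (Qm : Set (A ⊗[k] B))) := by
    rw [← ringKrullDim_quotient]
    refine le_trans (le_of_eq ?_) hdimQm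
    rw [← hhtB, ← hnb]
    rfl
  obtain ⟨r, hrlen⟩ := Order.le_krullDim_iff.mp hnbdim
  let r' : LTSeries ↥(PrimeSpectrum.zeroLocus (Q : Set (A ⊗[k] B))) :=
    { length := r.length
      toFun := fun i => ⟨(r i).1, hQQm.trans (r i).2⟩
      step := fun i => r.step i }
  have hx₀r : x₀ ≤ r'.head := by
    show Qm ≤ (r 0).1.asIdeal
    exact (r 0).2
  have h2 : (nb : ℕ∞) ≤ Order.coheight x₀ := by
    have := Order.length_le_coheight (x := x₀) (p := r') hx₀r
    have hlen : r'.length = nb := hrlen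
    rw [hlen] at this
    exact this
  -- conclusion
  haveI : Nonempty ↥(PrimeSpectrum.zeroLocus (Q : Set (A ⊗[k] B))) := ⟨x₀⟩
  rw [ringKrullDim_quotient, ← hhtA, ← hhtB, ← hna, ← hnb,
    Order.krullDim_eq_iSup_height_add_coheight_of_nonempty]
  have h3 : ((na : ℕ∞) + (nb : ℕ∞)) ≤ ⨆ a : ↥(PrimeSpectrum.zeroLocus (Q : Set (A ⊗[k] B))),
      Order.height a + Order.coheight a :=
    (add_le_add h1 h2).trans
      (le_iSup (fun a : ↥(PrimeSpectrum.zeroLocus (Q : Set (A ⊗[k] B))) =>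
        Order.height a + Order.coheight a) x₀)
  exact_mod_cast h3

theorem dim_quot_prod [IsDomain A] [IsDomain B] [Algebra.FiniteType k A]
    [Algebra.FiniteType k B] (Q : Ideal (A ⊗[k] B)) (hQ : Q ∈ minimalPrimes (A ⊗[k] B)) :
    ringKrullDim ((A ⊗[k] B) ⧸ Q) = ringKrullDim A + ringKrullDim B := by
  haveI : IsNoetherianRing A := Algebra.FiniteType.isNoetherianRing k A
  apply le_antisymm
  · exact (ringKrullDim_quotient_le Q).trans (le_of_eq (ProdDim.dim_tensor_add k B A))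
  · exact dim_quot_prod_ge Q hQ

/-! ### scheme level -/

section sch
variable {k : Type u} [Field k] {X Y : Scheme.{u}}

set_option backward.isDefEq.respectTransparency.types false in
theorem chart_bound (f : X ⟶ Spec (CommRingCat.of k)) (g : Y ⟶ Spec (CommRingCat.of k))
    [IsIntegral X] [IsIntegral Y] [LocallyOfFiniteType f] [LocallyOfFiniteType g]
    (ζ : ↥(pullback f g)) (hζ : ∀ t : ↥(pullback f g), t ⤳ ζ → t = ζ)
    (R S : CommRingCat.{u}) (cX : Spec R ⟶ X) [IsOpenImmersion cX]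
    (cY : Spec S ⟶ Y) [IsOpenImmersion cY] :
    topologicalKrullDim ↥(Spec R) + topologicalKrullDim ↥(Spec S) ≤
      topologicalKrullDim ↥(closure ({ζ} : Set ↥(pullback f g))) := by
  rw [FieldBC.dim_Spec, FieldBC.dim_Spec]
  rcases subsingleton_or_nontrivial R with hR | hR
  · rw [ringKrullDim_eq_bot_of_subsingleton, WithBot.bot_add]; exact bot_le
  rcases subsingleton_or_nontrivial S with hS | hS
  · rw [ringKrullDim_eq_bot_of_subsingleton (R := S), WithBot.add_bot]; exact bot_le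
  haveI : Nonempty ↥(Spec R) := (inferInstance : Nonempty (PrimeSpectrum R))
  haveI : Nonempty ↥(Spec S) := (inferInstance : Nonempty (PrimeSpectrum S))
  -- algebra structures
  let φ : CommRingCat.of k ⟶ R := Spec.preimage (cX ≫ f)
  have hφ : Spec.map φ = cX ≫ f := Spec.map_preimage _
  letI algR : Algebra k R := φ.hom.toAlgebra
  haveI : Algebra.FiniteType k R := by
    have h1 : LocallyOfFiniteType (Spec.map φ) := by rw [hφ]; infer_instance
    exact (HasRingHomProperty.Spec_iff (P := @LocallyOfFiniteType)).mp h1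
  let ψ : CommRingCat.of k ⟶ S := Spec.preimage (cY ≫ g)
  have hψ : Spec.map ψ = cY ≫ g := Spec.map_preimage _
  letI algS : Algebra k S := ψ.hom.toAlgebra
  haveI : Algebra.FiniteType k S := by
    have h1 : LocallyOfFiniteType (Spec.map ψ) := by rw [hψ]; infer_instance
    exact (HasRingHomProperty.Spec_iff (P := @LocallyOfFiniteType)).mp h1
  haveI : IsIntegral (Spec R) := isIntegral_of_isOpenImmersion cX
  haveI : IsIntegral (Spec S) := isIntegral_of_isOpenImmersion cY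
  haveI : IsDomain R := (affine_isIntegral_iff R).mp inferInstance
  haveI : IsDomain S := (affine_isIntegral_iff S).mp inferInstance
  obtain ⟨j, hjo, hj1, hj2, hjr⟩ := ProdComp.chart2 f g R S cX cY hφ.symm hψ.symm
  have hje : Topology.IsOpenEmbedding ⇑j := j.isOpenEmbedding
  -- the projections of ζ are the generic points
  haveI : Flat f := inferInstance
  haveI : Flat g := inferInstance
  haveI : Flat (pullback.fst f g) := inferInstance
  haveI : Flat (pullback.snd f g) := inferInstance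
  have hgp : GeneralizingMap ⇑(pullback.fst f g) := Flat.generalizingMap (pullback.fst f g)
  have hgq : GeneralizingMap ⇑(pullback.snd f g) := Flat.generalizingMap (pullback.snd f g)
  have hpζ : (pullback.fst f g) ζ ∈ Set.range ⇑cX := by
    have hsp : genericPoint X ⤳ (pullback.fst f g) ζ :=
      (genericPoint_spec X).specializes (Set.mem_univ _)
    obtain ⟨ζ', hζ', hpζ'⟩ := hgp hsp
    rw [hζ ζ' hζ'] at hpζ'
    rw [hpζ']
    rw [(genericPoint_spec X).mem_open_set_iff cX.isOpenEmbedding.isOpen_range]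
    obtain ⟨r⟩ := (inferInstance : Nonempty ↥(Spec R))
    exact ⟨cX r, Set.mem_univ _, ⟨r, rfl⟩⟩
  have hqζ : (pullback.snd f g) ζ ∈ Set.range ⇑cY := by
    have hsp : genericPoint Y ⤳ (pullback.snd f g) ζ :=
      (genericPoint_spec Y).specializes (Set.mem_univ _)
    obtain ⟨ζ', hζ', hqζ'⟩ := hgq hsp
    rw [hζ ζ' hζ'] at hqζ'
    rw [hqζ']
    rw [(genericPoint_spec Y).mem_open_set_iff cY.isOpenEmbedding.isOpen_range]
    obtain ⟨r⟩ := (inferInstance : Nonempty ↥(Spec S))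
    exact ⟨cY r, Set.mem_univ _, ⟨r, rfl⟩⟩
  obtain ⟨Q', hQ'⟩ := hjr ζ hpζ hqζ
  let Q : PrimeSpectrum (R ⊗[k] S) := Q'
  have hQ : j Q = ζ := hQ'
  have hQmin : Q.asIdeal ∈ minimalPrimes (R ⊗[k] S) := by
    refine ⟨⟨Q.isPrime, bot_le⟩, fun J hJ hle => ?_⟩
    let q : PrimeSpectrum (R ⊗[k] S) := ⟨J, hJ.1⟩
    have hsp : j q ⤳ ζ := by
      rw [← hQ]
      exact ((PrimeSpectrum.le_iff_specializes q Q).mp hle).map hje.continuous
    have h1 : j q = j Q := (hζ _ hsp).trans hQ.symm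
    have h2 : q = Q := hje.injective h1
    rw [← h2]
  have h1 := dim_quot_prod Q.asIdeal hQmin
  have h2 := CompBCS.dim_quot_le_dim_closure j Q
  rw [hQ] at h2
  rw [← h1]
  exact h2

end sch

end Groth.Agent.Helper17.ProdCompDim
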