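import Mathlib
import Groth.Agent.Lib.Helper17.FieldBC
import Groth.Prelude.Def_SgaExt

set_option autoImplicit false
universe u
open CategoryTheory AlgebraicGeometry

namespace Groth.Agent.Helper17.PtCount

open Groth.Agent.Helper17.FieldBC

section Alg
variable (k : Type u) [Field k] [Finite k] (A : Type u) [CommRing A] [Algebra k A]

theorem card_algHom_le [Algebra.FiniteType k A] (r : ℕ)
    (hr : ringKrullDim A ≤ (r : WithBot ℕ∞)) :
    ∃ c : ℕ, ∀ (k' : Type u) [Field k'] [Algebra k k'] [Finite k'],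
      Finite (A →ₐ[k] k') ∧
        Nat.card (A →ₐ[k] k') ≤ c * Nat.card k ^ (r * Module.finrank k k') := by
  classical
  rcases subsingleton_or_nontrivial A with hA | hA
  · refine ⟨0, fun k' _ _ _ => ?_⟩
    haveI : IsEmpty (A →ₐ[k] k') := ⟨fun φ => by
      have h1 : φ 1 = 1 := map_one φ
      have h0 : φ 0 = 0 := map_zero φ
      rw [Subsingleton.elim (1 : A) 0, h0] at h1
      exact zero_ne_one h1⟩
    exact ⟨inferInstance, by simp⟩
  obtain ⟨s, g, hinj, hint⟩ := exists_integral_inj_algHom_of_fg k A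
  have hA : ringKrullDim A = (s : WithBot ℕ∞) := by
    rw [dim_eq_of_integral_injective g.toRingHom hint hinj, dim_mvPolynomial_field]
  have hsr : s ≤ r := by
    rw [hA] at hr
    exact_mod_cast hr
  obtain ⟨t, ht⟩ := (inferInstance : Algebra.FiniteType k A).out
  have hint' : ∀ a : A, ∃ p : Polynomial (MvPolynomial (Fin s) k),
      p.Monic ∧ Polynomial.eval₂ g.toRingHom a p = 0 := fun a => hint a
  choose p hpm hp using hint'
  refine ⟨∏ a ∈ t, (p a).natDegree, fun k' _ _ _ => ?_⟩
  have hinjΦ : Function.Injective (fun (φ : A →ₐ[k] k') (a : t) => φ a.1) := by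
    intro φ ψ h
    apply AlgHom.ext_of_adjoin_eq_top ht
    intro a ha
    exact congrFun h ⟨a, ha⟩
  haveI : Finite (A →ₐ[k] k') := Finite.of_injective _ hinjΦ
  refine ⟨inferInstance, ?_⟩
  haveI := Fintype.ofFinite (A →ₐ[k] k')
  haveI := Fintype.ofFinite k'
  haveI := Fintype.ofFinite k
  let Ψ : (A →ₐ[k] k') → (Fin s → k') := fun φ i => φ (g (MvPolynomial.X i))
  have hcomp : ∀ φ : A →ₐ[k] k', ∀ P : MvPolynomial (Fin s) k,
      φ (g P) = MvPolynomial.aeval (Ψ φ) P := by
    intro φ P
    have h1 : (φ.comp g) = MvPolynomial.aeval (Ψ φ) := by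
      apply MvPolynomial.algHom_ext
      intro i
      simp [Ψ]
    exact DFunLike.congr_fun h1 P
  have hfib : ∀ u ∈ (Finset.univ : Finset (Fin s → k')),
      (Finset.univ.filter fun φ : A →ₐ[k] k' => Ψ φ = u).card ≤ ∏ a ∈ t, (p a).natDegree := by
    intro u _
    let q : A → Polynomial k' := fun a =>
      (p a).map (MvPolynomial.aeval u : MvPolynomial (Fin s) k →ₐ[k] k').toRingHom
    have hqm : ∀ a, (q a).Monic := fun a => (hpm a).map _
    let T : Finset (t → k') := Fintype.piFinset fun a : t => (q a.1).roots.toFinset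
    have hT : T.card ≤ ∏ a ∈ t, (p a).natDegree := by
      rw [Fintype.card_piFinset, ← Finset.prod_coe_sort t (fun a => (p a).natDegree)]
      apply Finset.prod_le_prod (fun _ _ => Nat.zero_le _)
      intro a _
      calc ((q a.1).roots.toFinset).card ≤ Multiset.card (q a.1).roots :=
            Multiset.toFinset_card_le _
        _ ≤ (q a.1).natDegree := Polynomial.card_roots' _
        _ = (p a.1).natDegree := (hpm a.1).natDegree_map _
    refine le_trans (Finset.card_le_card_of_injOn (fun φ (a : t) => φ a.1) ?_ ?_) hT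
    · intro φ hφ
      have hu : Ψ φ = u := (Finset.mem_filter.mp hφ).2
      rw [Finset.mem_coe, Fintype.mem_piFinset]
      intro a
      rw [Multiset.mem_toFinset, Polynomial.mem_roots (hqm a.1).ne_zero, Polynomial.IsRoot.def,
        Polynomial.eval_map]
      have h2 : Polynomial.eval₂ (φ.toRingHom.comp g.toRingHom) (φ.toRingHom a.1) (p a.1) = 0 := by
        rw [← Polynomial.hom_eval₂, hp a.1, map_zero]
      have h3 : φ.toRingHom.comp g.toRingHom =
          (MvPolynomial.aeval u : MvPolynomial (Fin s) k →ₐ[k] k').toRingHom := by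
        refine RingHom.ext fun P => ?_
        show φ (g P) = MvPolynomial.aeval u P
        rw [hcomp φ P, hu]
      rw [← h3]
      exact h2
    · intro φ _ ψ _ h
      exact hinjΦ h
  have hcard : Fintype.card k' = Fintype.card k ^ Module.finrank k k' :=
    Module.card_eq_pow_finrank
  have hq : 1 ≤ Fintype.card k := Fintype.card_pos
  calc Nat.card (A →ₐ[k] k') = (Finset.univ : Finset (A →ₐ[k] k')).card := by
        rw [Nat.card_eq_fintype_card]; rfl
    _ ≤ (∏ a ∈ t, (p a).natDegree) * (Finset.univ : Finset (Fin s → k')).card :=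
        Finset.card_le_mul_card_image_of_maps_to (f := Ψ) (fun _ _ => Finset.mem_univ _) _ hfib
    _ = (∏ a ∈ t, (p a).natDegree) * (Fintype.card k) ^ (Module.finrank k k' * s) := by
        rw [Finset.card_univ, Fintype.card_fun, Fintype.card_fin, hcard, ← pow_mul]
    _ ≤ (∏ a ∈ t, (p a).natDegree) * Nat.card k ^ (r * Module.finrank k k') := by
        rw [Nat.card_eq_fintype_card]
        apply Nat.mul_le_mul_left
        apply Nat.pow_le_pow_right hq
        rw [mul_comm]
        exact Nat.mul_le_mul_right _ hsr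

end Alg

section Geom

variable {k : Type u} [Field k]

/-- the set of `k'`-points of the `k`-scheme `f : X ⟶ Spec k` -/
abbrev Pts {X : Scheme.{u}} (f : X ⟶ Spec (CommRingCat.of k)) (k' : Type u) [Field k']
    [Algebra k k'] : Type u :=
  { g : Spec (CommRingCat.of k') ⟶ X //
    g ≫ f = Spec.map (CommRingCat.ofHom (algebraMap k k')) }

theorem pointCount_le_of_charts {X : Scheme.{u}} (f : X ⟶ Spec (CommRingCat.of k))
    (J : Type u) [Fintype J] (Z : J → Scheme.{u})
    (j : ∀ i, Z i ⟶ X) [∀ i, IsOpenImmersion (j i)]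
    (hcov : ∀ x : X, ∃ i, x ∈ Set.range (j i))
    (k' : Type u) [Field k'] [Algebra k k'] (N : J → ℕ)
    (hfin : ∀ i, Finite (Pts (j i ≫ f) k'))
    (hN : ∀ i, Nat.card (Pts (j i ≫ f) k') ≤ N i) :
    SgaExt.pointCount f k' ≤ ∑ i, N i := by
  classical
  unfold SgaExt.pointCount
  let pt : Spec (CommRingCat.of k') := (default : PrimeSpectrum k')
  have hsub : ∀ y : Spec (CommRingCat.of k'), y = pt := fun y =>
    Subsingleton.elim (α := PrimeSpectrum k') y pt
  have hidx : ∀ g : Spec (CommRingCat.of k') ⟶ X, ∃ i, Set.range g ⊆ Set.range (j i) := by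
    intro g
    obtain ⟨i, hi⟩ := hcov (g pt)
    refine ⟨i, ?_⟩
    rintro _ ⟨y, rfl⟩
    rw [hsub y]; exact hi
  choose idx hidx using hidx
  let Φ : Pts f k' → Σ i, Pts (j i ≫ f) k' :=
    fun g => ⟨idx g.1, ⟨IsOpenImmersion.lift (j (idx g.1)) g.1 (hidx g.1), by
      rw [← Category.assoc, IsOpenImmersion.lift_fac]; exact g.2⟩⟩
  let back : (Σ i, Pts (j i ≫ f) k') → (Spec (CommRingCat.of k') ⟶ X) :=
    fun x => x.2.1 ≫ j x.1
  have hback : ∀ g, back (Φ g) = g.1 := by
    intro g
    show IsOpenImmersion.lift (j (idx g.1)) g.1 (hidx g.1) ≫ j (idx g.1) = g.1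
    rw [IsOpenImmersion.lift_fac]
  have hΦinj : Function.Injective Φ := by
    intro g g' h
    apply Subtype.ext
    rw [← hback g, ← hback g', h]
  haveI : ∀ i, Finite (Pts (j i ≫ f) k') := hfin
  calc Nat.card (Pts f k') ≤ Nat.card (Σ i, Pts (j i ≫ f) k') :=
        Nat.card_le_card_of_injective Φ hΦinj
    _ = ∑ i, Nat.card (Pts (j i ≫ f) k') := Nat.card_sigma
    _ ≤ ∑ i, N i := Finset.sum_le_sum fun i _ => hN i

set_option backward.isDefEq.respectTransparency.types false in
theorem card_Pts_Spec_le [Finite k] (R : CommRingCat.{u}) (a : Spec R ⟶ Spec (CommRingCat.of k))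
    [LocallyOfFiniteType a] (r : ℕ) (hr : topologicalKrullDim (Spec R) ≤ (r : WithBot ℕ∞)) :
    ∃ c : ℕ, ∀ (k' : Type u) [Field k'] [Algebra k k'] [Finite k'],
      Finite (Pts a k') ∧ Nat.card (Pts a k') ≤ c * Nat.card k ^ (r * Module.finrank k k') := by
  let φ : CommRingCat.of k ⟶ R := Spec.preimage a
  have hφ : Spec.map φ = a := Spec.map_preimage a
  letI : Algebra k R := φ.hom.toAlgebra
  haveI : Algebra.FiniteType k R := by
    have h1 : LocallyOfFiniteType (Spec.map φ) := by rw [hφ]; infer_instance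
    exact (HasRingHomProperty.Spec_iff (P := @LocallyOfFiniteType)).mp h1
  have hdim : ringKrullDim R ≤ (r : WithBot ℕ∞) := by rw [← dim_Spec]; exact hr
  obtain ⟨c, hc⟩ := card_algHom_le k R r hdim
  refine ⟨c, fun k' _ _ _ => ?_⟩
  obtain ⟨hfin, hle⟩ := hc k'
  have hcomm : ∀ g : Pts a k', φ ≫ Spec.preimage g.1 = CommRingCat.ofHom (algebraMap k k') := by
    intro g
    apply Spec.map_injective
    rw [Spec.map_comp, Spec.map_preimage, hφ]
    exact g.2
  let ι : Pts a k' → (R →ₐ[k] k') := fun g =>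
    { (Spec.preimage g.1).hom with
      commutes' := fun c => by
        show (Spec.preimage g.1).hom (φ.hom c) = algebraMap k k' c
        exact congrArg (fun h => h.hom c) (hcomm g) }
  have hι : Function.Injective ι := by
    intro g g' h
    apply Subtype.ext
    have h1 : (Spec.preimage g.1).hom = (Spec.preimage g'.1).hom :=
      congrArg (fun h : R →ₐ[k] k' => (h : R →+* k')) h
    have h2 : Spec.preimage g.1 = Spec.preimage g'.1 := CommRingCat.hom_ext h1
    rw [← Spec.map_preimage g.1, ← Spec.map_preimage g'.1, h2]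
  exact ⟨Finite.of_injective ι hι, (Nat.card_le_card_of_injective ι hι).trans hle⟩

set_option backward.isDefEq.respectTransparency.types false in
theorem main [Finite k] {X : Scheme.{u}} (f : X ⟶ Spec (CommRingCat.of k))
    [LocallyOfFiniteType f] [QuasiCompact f] (r : ℕ)
    (hr : topologicalKrullDim X ≤ r) :
    ∃ c : ℕ, ∀ (k' : Type u) [Field k'] [Algebra k k'] [Finite k'],
      SgaExt.pointCount f k' ≤ c * Nat.card k ^ (r * Module.finrank k k') := by
  haveI : CompactSpace X := QuasiCompact.compactSpace_of_compactSpace f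
  let 𝒰 := X.affineCover.finiteSubcover
  have hpiece : ∀ i : 𝒰.I₀, ∃ c : ℕ, ∀ (k' : Type u) [Field k'] [Algebra k k'] [Finite k'],
      Finite (Pts (𝒰.f i ≫ f) k') ∧
        Nat.card (Pts (𝒰.f i ≫ f) k') ≤ c * Nat.card k ^ (r * Module.finrank k k') := by
    intro i
    haveI : IsOpenImmersion (𝒰.f i) := inferInstance
    have inst : LocallyOfFiniteType (𝒰.f i ≫ f) := inferInstance
    have hdim : topologicalKrullDim (𝒰.X i) ≤ (r : WithBot ℕ∞) :=
      ((𝒰.f i).isOpenEmbedding.isInducing.topologicalKrullDim_le).trans hr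
    exact @card_Pts_Spec_le k _ _ _ (𝒰.f i ≫ f) inst r hdim
  choose c hc using hpiece
  refine ⟨∑ i, c i, fun k' _ _ _ => ?_⟩
  have h := pointCount_le_of_charts f 𝒰.I₀ 𝒰.X 𝒰.f (fun x => ⟨𝒰.idx x, 𝒰.covers x⟩) k'
    (fun i => c i * Nat.card k ^ (r * Module.finrank k k')) (fun i => (hc i k').1)
    (fun i => (hc i k').2)
  rw [Finset.sum_mul]
  exact h

end Geom

end Groth.Agent.Helper17.PtCount
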