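import Mathlib

set_option autoImplicit false
universe u
open CategoryTheory AlgebraicGeometry TopologicalSpace Opposite

namespace Groth.Agent.Helper17.QAff

set_option backward.isDefEq.respectTransparency.types false in
theorem main {X Y : Scheme.{u}} [IsAffine Y]
    (f : X ⟶ Y) {ι : Type u} (V : ι → Y.Opens) (hV : iSup V = ⊤) (hVa : ∀ i, IsAffineOpen (V i))
    (hq : ∀ i, Scheme.IsQuasiAffine (↑(f ⁻¹ᵁ V i) : Scheme.{u})) :
    X.IsQuasiAffine := by
  have hqc : QuasiCompact f := by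
    refine IsZariskiLocalAtTarget.of_iSup_eq_top (P := @QuasiCompact) V hV fun i => ?_
    haveI : IsAffine (V i : Scheme) := hVa i
    haveI := hq i
    infer_instance
  have hqs : QuasiSeparated f := by
    refine IsZariskiLocalAtTarget.of_iSup_eq_top (P := @QuasiSeparated) V hV fun i => ?_
    haveI : IsAffine (V i : Scheme) := hVa i
    haveI := hq i
    infer_instance
  haveI : CompactSpace X := QuasiCompact.compactSpace_of_compactSpace f
  haveI : QuasiSeparatedSpace X := (quasiSeparated_iff_quasiSeparatedSpace f).mp hqs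
  refine Scheme.IsQuasiAffine.of_forall_exists_mem_basicOpen X fun x => ?_
  have hx : f x ∈ (⊤ : Y.Opens) := trivial
  rw [← hV] at hx
  obtain ⟨i, hi⟩ := Opens.mem_iSup.mp hx
  obtain ⟨_, ⟨g, rfl⟩, hxg, hgV⟩ := Opens.isBasis_iff_nbhd.mp (isBasis_basicOpen Y) hi
  haveI := hq i
  set W : X.Opens := f ⁻¹ᵁ V i with hW
  set g' : Γ(X, ⊤) := f.appTop g with hg'
  set D : X.Opens := X.basicOpen g' with hDdef
  have hD : D = f ⁻¹ᵁ Y.basicOpen g := (Scheme.preimage_basicOpen_top f g).symm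
  have hDW : D ≤ W := by
    rw [hD]; intro z hz; exact hgV hz
  have hxD : x ∈ D := by rw [hD]; exact hxg
  obtain ⟨_, ⟨s, hs, rfl⟩, hxs, hsD⟩ :=
    Opens.isBasis_iff_nbhd.mp (Scheme.IsQuasiAffine.isBasis_basicOpen (W : Scheme.{u}))
      (U := W.ι ⁻¹ᵁ D) (x := (⟨x, hi⟩ : W)) hxD
  set T : X.Opens := W.ι ''ᵁ (W.toScheme.basicOpen s) with hTdef
  have hT : IsAffineOpen T := hs.image_of_isOpenImmersion W.ι
  have hTeq : T = X.basicOpen (U := W.ι ''ᵁ ⊤) s := Scheme.Opens.ι_image_basicOpen (U := W) s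
  have hTD : T ≤ D := by
    rintro _ ⟨y, hy, rfl⟩
    exact hsD hy
  have hxT : x ∈ T := ⟨⟨x, hi⟩, hxs, rfl⟩
  have hDW' : D ≤ W.ι ''ᵁ ⊤ := by rw [Scheme.Opens.ι_image_top]; exact hDW
  set s' : Γ(X, D) := X.presheaf.map (homOfLE hDW').op s with hs'def
  have hs' : X.basicOpen s' = T := by
    have := Scheme.basicOpen_res (X := X) (U := W.ι ''ᵁ ⊤) (V := D) s (homOfLE hDW').op
    rw [hs'def]
    refine this.trans ?_
    rw [← hTeq]
    exact inf_eq_right.mpr hTD
  obtain ⟨n, y, e⟩ := exists_eq_pow_mul_of_isCompact_of_isQuasiSeparated X ⊤ isCompact_univ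
    isQuasiSeparated_univ g' s'
  dsimp only [TopCat.Presheaf.restrictOpenCommRingCat_apply] at e
  have key : X.basicOpen (y * g') = T := by
    rw [Scheme.basicOpen_mul]
    have h1 := congrArg X.basicOpen e
    have hu : X.basicOpen ((X.presheaf.map (homOfLE (X.basicOpen_le g')).op g') ^ n) = D :=
      Scheme.basicOpen_of_isUnit X (IsUnit.pow n (RingedSpace.isUnit_res_basicOpen _ g'))
    rw [Scheme.basicOpen_res, Scheme.basicOpen_mul, hs'] at h1
    rw [hu] at h1
    rw [inf_comm]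
    refine h1.trans ?_
    exact inf_eq_right.mpr hTD
  exact ⟨y * g', key ▸ hT, key ▸ hxT⟩

end Groth.Agent.Helper17.QAff
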