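import Mathlib
import Groth.Prelude.Def_W4c1limliniiiiRamP1

set_option autoImplicit false

namespace Groth.Agent.Helper17.RM

open Polynomial W4c1limliniiii

variable {k : Type*} [Field k]

lemma natDegree_pow_X_sub_C' (a : k) (n : ℕ) : ((X - C a : k[X]) ^ n).natDegree = n := by
  rw [(monic_X_sub_C a).natDegree_pow, natDegree_X_sub_C, mul_one]

lemma pow_X_sub_C_ne_zero (a : k) (n : ℕ) : ((X - C a : k[X]) ^ n) ≠ 0 :=
  ((monic_X_sub_C a).pow n).ne_zero

lemma pow_dvd_derivative {a : k} {m : ℕ} {s : k[X]} (h : (X - C a) ^ m ∣ s) :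
    (X - C a) ^ (m - 1) ∣ derivative s := by
  obtain ⟨A, rfl⟩ := h
  rw [derivative_mul, derivative_X_sub_C_pow]
  refine dvd_add ?_ ?_
  · exact Dvd.dvd.mul_right (Dvd.dvd.mul_left (dvd_refl _) _) _
  · exact Dvd.dvd.mul_right (pow_dvd_pow _ (Nat.sub_le _ _)) _

lemma pow_dvd_wronskian {a : k} {m n : ℕ} {s t : k[X]} (hs : (X - C a) ^ m ∣ s)
    (ht : (X - C a) ^ n ∣ t) (hm : 1 ≤ m) : (X - C a) ^ (m + n - 1) ∣ wronskian s t := by
  unfold wronskian
  refine dvd_sub ?_ ?_
  · have h1 : (X - C a) ^ (m + (n - 1)) ∣ s * derivative t := by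
      rw [pow_add]; exact mul_dvd_mul hs (pow_dvd_derivative ht)
    exact (pow_dvd_pow _ (by omega)).trans h1
  · have h1 : (X - C a) ^ ((m - 1) + n) ∣ derivative s * t := by
      rw [pow_add]; exact mul_dvd_mul (pow_dvd_derivative hs) ht
    exact (pow_dvd_pow _ (by omega)).trans h1

lemma natDegree_wronskian_le {d : ℕ} (hd : 1 ≤ d) {F G : k[X]} (hF : F.natDegree ≤ d)
    (hG : G.natDegree ≤ d) : (wronskian F G).natDegree ≤ 2 * d - 2 := by
  have hF' : (derivative F).natDegree ≤ d - 1 := (natDegree_derivative_le F).trans (by omega)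
  have hG' : (derivative G).natDegree ≤ d - 1 := (natDegree_derivative_le G).trans (by omega)
  have h1 : (F * derivative G).natDegree ≤ d + (d - 1) := natDegree_mul_le_of_le hF hG'
  have h2 : (derivative F * G).natDegree ≤ (d - 1) + d := natDegree_mul_le_of_le hF' hG
  have h3 : (wronskian F G).natDegree ≤ 2 * d - 1 := by
    unfold wronskian
    refine (natDegree_sub_le _ _).trans (max_le (h1.trans (by omega)) (h2.trans (by omega)))
  have h4 : (wronskian F G).coeff (2 * d - 1) = 0 := by
    unfold wronskian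
    rw [coeff_sub]
    have e1 : 2 * d - 1 = d + (d - 1) := by omega
    have e2 : 2 * d - 1 = (d - 1) + d := by omega
    have c1 : (F * derivative G).coeff (2 * d - 1) = F.coeff d * (derivative G).coeff (d - 1) := by
      rw [e1]; exact coeff_mul_add_eq_of_natDegree_le hF hG'
    have c2 : (derivative F * G).coeff (2 * d - 1) = (derivative F).coeff (d - 1) * G.coeff d := by
      rw [e2]; exact coeff_mul_add_eq_of_natDegree_le hF' hG
    rw [c1, c2, coeff_derivative, coeff_derivative]
    have e3 : d - 1 + 1 = d := by omega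
    rw [e3]
    ring
  rw [natDegree_le_iff_coeff_eq_zero]
  intro N hN
  by_cases hN' : N = 2 * d - 1
  · rw [hN']; exact h4
  · exact coeff_eq_zero_of_natDegree_lt (by omega)

lemma wronskian_comb (a b c e : k) (F G : k[X]) :
    wronskian (C a * F + C b * G) (C c * F + C e * G) = C (a * e - b * c) * wronskian F G := by
  unfold wronskian
  simp only [derivative_add, derivative_mul, derivative_C, zero_mul, zero_add, map_sub, map_mul]
  ring

lemma wronskian_mul_mul (g u v : k[X]) :
    wronskian (g * u) (g * v) = g ^ 2 * wronskian u v := by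
  unfold wronskian
  simp only [derivative_mul]
  ring

/-- pairwise coprimality of powers of distinct linear factors -/
lemma coprime_pow {a b : k} (hab : a ≠ b) (m n : ℕ) :
    IsCoprime ((X - C a : k[X]) ^ m) ((X - C b) ^ n) :=
  (isCoprime_X_sub_C_of_isUnit_sub (sub_ne_zero.2 hab).isUnit).pow

/-- a polynomial divisible by pairwise coprime powers has large degree -/
lemma sum_le_natDegree {n : ℕ} {P : Fin n → k} (hP : Function.Injective P) (m : Fin n → ℕ)
    {W : k[X]} (hW : W ≠ 0) (h : ∀ i, (X - C (P i)) ^ (m i) ∣ W) : ∑ i, m i ≤ W.natDegree := by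
  have hdvd : ∏ i, (X - C (P i)) ^ (m i) ∣ W := by
    refine Finset.prod_dvd_of_coprime ?_ (fun i _ => h i)
    intro i _ j _ hij
    exact coprime_pow (fun h' => hij (hP h')) _ _
  have hdeg : (∏ i, (X - C (P i) : k[X]) ^ (m i)).natDegree = ∑ i, m i := by
    rw [natDegree_prod_of_monic _ _ (fun i _ => (monic_X_sub_C (P i)).pow (m i))]
    exact Finset.sum_congr rfl (fun i _ => natDegree_pow_X_sub_C' _ _)
  rw [← hdeg]
  exact natDegree_le_of_dvd hdvd hW

/-- same with an extra point -/
lemma sum_succ_le_natDegree {n : ℕ} {P : Fin n → k} (hP : Function.Injective P) (m : Fin n → ℕ)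
    {W : k[X]} (hW : W ≠ 0) (h : ∀ i, (X - C (P i)) ^ (m i) ∣ W) {a : k} (ha : ∀ i, P i ≠ a)
    (haW : (X - C a) ∣ W) : ∑ i, m i + 1 ≤ W.natDegree := by
  have hdvd : ∏ i, (X - C (P i)) ^ (m i) ∣ W := by
    refine Finset.prod_dvd_of_coprime ?_ (fun i _ => h i)
    intro i _ j _ hij
    exact coprime_pow (fun h' => hij (hP h')) _ _
  have hcop : IsCoprime (∏ i, (X - C (P i) : k[X]) ^ (m i)) (X - C a) := by
    refine IsCoprime.prod_left (fun i _ => ?_)
    have := coprime_pow (ha i) (m i) 1
    rwa [pow_one] at this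
  have hdvd2 := hcop.mul_dvd hdvd haW
  have hmon : (∏ i, (X - C (P i) : k[X]) ^ (m i)).Monic :=
    monic_prod_of_monic _ _ (fun i _ => (monic_X_sub_C (P i)).pow (m i))
  have hdeg : ((∏ i, (X - C (P i) : k[X]) ^ (m i)) * (X - C a)).natDegree = ∑ i, m i + 1 := by
    rw [hmon.natDegree_mul (monic_X_sub_C a), natDegree_X_sub_C,
      natDegree_prod_of_monic _ _ (fun i _ => (monic_X_sub_C (P i)).pow (m i))]
    congr 1
    exact Finset.sum_congr rfl (fun i _ => natDegree_pow_X_sub_C' _ _)
  rw [← hdeg]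
  exact natDegree_le_of_dvd hdvd2 hW

/-- disjointness -/
lemma eq_zero_of_two_dvd {a b : k} (hab : a ≠ b) {m n d : ℕ} (hmn : d < m + n) {s : k[X]}
    (hs : s.natDegree ≤ d) (h1 : (X - C a) ^ m ∣ s) (h2 : (X - C b) ^ n ∣ s) : s = 0 := by
  by_contra h0
  have hdvd := (coprime_pow hab m n).mul_dvd h1 h2
  have := natDegree_le_of_dvd hdvd h0
  rw [((monic_X_sub_C a).pow m).natDegree_mul ((monic_X_sub_C b).pow n),
    natDegree_pow_X_sub_C', natDegree_pow_X_sub_C'] at this
  omega

lemma span_pair_eq {V : Submodule k k[X]} [FiniteDimensional k V]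
    (hV2 : Module.finrank k V = 2) {F G : k[X]} (hF : F ∈ V) (hG : G ∈ V)
    (hind : ∀ a b : k, C a * F + C b * G = 0 → a = 0 ∧ b = 0) : Submodule.span k {F, G} = V := by
  have hli : LinearIndependent k ![F, G] := by
    rw [LinearIndependent.pair_iff]
    intro a b hab
    rw [smul_eq_C_mul, smul_eq_C_mul] at hab
    exact hind a b hab
  have hle : Submodule.span k {F, G} ≤ V := by
    rw [Submodule.span_le]
    intro x hx
    rcases hx with rfl | rfl
    · exact hF
    · exact hG
  have hfr : Module.finrank k (Submodule.span k ({F, G} : Set k[X])) = 2 := by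
    have := finrank_span_eq_card hli
    rw [Fintype.card_fin] at this
    have hr : Set.range ![F, G] = ({F, G} : Set k[X]) := by
      ext x
      simp only [Set.mem_range, Fin.exists_fin_two, Matrix.cons_val_zero, Matrix.cons_val_one,
        Set.mem_insert_iff, Set.mem_singleton_iff]
      constructor
      · rintro (h | h)
        · exact Or.inl h.symm
        · exact Or.inr h.symm
      · rintro (h | h)
        · exact Or.inl h.symm
        · exact Or.inr h.symm
    rw [hr] at this
    exact this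
  exact Submodule.eq_of_le_of_finrank_eq hle (by rw [hfr, hV2])

lemma mem_span_pair' {F G x : k[X]} :
    x ∈ Submodule.span k ({F, G} : Set k[X]) ↔ ∃ a b : k, x = C a * F + C b * G := by
  rw [Submodule.mem_span_pair]
  constructor
  · rintro ⟨a, b, rfl⟩
    exact ⟨a, b, by rw [smul_eq_C_mul, smul_eq_C_mul]⟩
  · rintro ⟨a, b, rfl⟩
    exact ⟨a, b, by rw [smul_eq_C_mul, smul_eq_C_mul]⟩

lemma natDegree_le_of_mem {d : ℕ} {V : Submodule k k[X]} (hV : V ≤ degreeLE k d) {s : k[X]}
    (hs : s ∈ V) : s.natDegree ≤ d :=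
  natDegree_le_iff_degree_le.2 (mem_degreeLE.1 (hV hs))

end Groth.Agent.Helper17.RM
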