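import Mathlib
import Groth.Prelude.Def_W4c1limliniiiiRamP1
import Groth.Agent.Lib.Helper17.RM1

set_option autoImplicit false

namespace Groth.Agent.Helper17.RM

open Polynomial W4c1limliniiii

variable {k : Type*} [Field k]

/-- the "at least the required ramification" condition -/
def GeRam (P : Fin 3 → k) (e : Fin 3 → ℕ) (V : Submodule k k[X]) : Prop :=
  ∀ i, ∃ s ∈ V, s ≠ 0 ∧ e i ≤ rootMultiplicity (P i) s

lemma finiteDimensional_of_le_degreeLE {d : ℕ} {V : Submodule k k[X]} (hV : V ≤ degreeLE k d) :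
    FiniteDimensional k V := by
  haveI : FiniteDimensional k (degreeLE k d) := by
    rw [← degreeLT_succ_eq_degreeLE]
    infer_instance
  exact Submodule.finiteDimensional_of_le hV

/-- structure of a pencil with at least the required ramification -/
lemma structure_lemma {d : ℕ} {P : Fin 3 → k} (hP : Function.Injective P) {e : Fin 3 → ℕ}
    (hsum : e 0 + e 1 + e 2 = 2 * d + 1) (hed : ∀ i, e i ≤ d)
    {V : Submodule k k[X]} (hV : V ≤ degreeLE k d) (hV2 : Module.finrank k V = 2)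
    (hram : GeRam P e V) :
    ∃ s : Fin 3 → k[X], (∀ i, s i ∈ V ∧ s i ≠ 0 ∧ (X - C (P i)) ^ (e i) ∣ s i) ∧
      s 0 + s 1 + s 2 = 0 ∧ Submodule.span k {s 0, s 1} = V := by
  haveI := finiteDimensional_of_le_degreeLE hV
  obtain ⟨s0, hs0V, hs0, hs0e⟩ := hram 0
  obtain ⟨s1, hs1V, hs1, hs1e⟩ := hram 1
  obtain ⟨s2, hs2V, hs2, hs2e⟩ := hram 2
  have hd0 : (X - C (P 0)) ^ (e 0) ∣ s0 := (le_rootMultiplicity_iff hs0).1 hs0e
  have hd1 : (X - C (P 1)) ^ (e 1) ∣ s1 := (le_rootMultiplicity_iff hs1).1 hs1e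
  have hd2 : (X - C (P 2)) ^ (e 2) ∣ s2 := (le_rootMultiplicity_iff hs2).1 hs2e
  have hP01 : P 0 ≠ P 1 := fun h => by have := hP h; exact absurd this (by decide)
  have hP02 : P 0 ≠ P 2 := fun h => by have := hP h; exact absurd this (by decide)
  have hP12 : P 1 ≠ P 2 := fun h => by have := hP h; exact absurd this (by decide)
  have h0 := hed 0
  have h1 := hed 1
  have h2 := hed 2
  have hind : ∀ a b : k, C a * s0 + C b * s1 = 0 → a = 0 ∧ b = 0 := by
    intro a b hab
    have ha : a = 0 := by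
      by_contra ha
      have hs0' : s0 = C (-(b / a)) * s1 := by
        have : C a * s0 = C a * (C (-(b / a)) * s1) := by
          rw [← mul_assoc, ← C_mul, mul_neg, mul_div_cancel₀ _ ha, C_neg, neg_mul]
          exact eq_neg_of_add_eq_zero_left hab
        exact mul_left_cancel₀ (C_ne_zero.2 ha) this
      apply hs0
      refine eq_zero_of_two_dvd hP01 (m := e 0) (n := e 1) (d := d) (by omega)
        (natDegree_le_of_mem hV hs0V) hd0 ?_
      rw [hs0']
      exact Dvd.dvd.mul_left hd1 _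
    refine ⟨ha, ?_⟩
    rw [ha, C_0, zero_mul, zero_add] at hab
    rcases mul_eq_zero.1 hab with h | h
    · exact C_eq_zero.1 h
    · exact absurd h hs1
  have hspan := span_pair_eq hV2 hs0V hs1V hind
  have hs2mem : s2 ∈ Submodule.span k ({s0, s1} : Set k[X]) := by rw [hspan]; exact hs2V
  obtain ⟨a, b, hab⟩ := mem_span_pair'.1 hs2mem
  have ha : a ≠ 0 := by
    intro ha
    rw [ha, C_0, zero_mul, zero_add] at hab
    apply hs2
    refine eq_zero_of_two_dvd hP12 (m := e 1) (n := e 2) (d := d) (by omega)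
      (natDegree_le_of_mem hV hs2V) ?_ hd2
    rw [hab]
    exact Dvd.dvd.mul_left hd1 _
  have hb : b ≠ 0 := by
    intro hb
    rw [hb, C_0, zero_mul, add_zero] at hab
    apply hs2
    refine eq_zero_of_two_dvd hP02 (m := e 0) (n := e 2) (d := d) (by omega)
      (natDegree_le_of_mem hV hs2V) ?_ hd2
    rw [hab]
    exact Dvd.dvd.mul_left hd0 _
  refine ⟨![C a * s0, C b * s1, -s2], ?_, ?_, ?_⟩
  · intro i
    fin_cases i
    · refine ⟨?_, mul_ne_zero (C_ne_zero.2 ha) hs0, Dvd.dvd.mul_left hd0 _⟩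
      show C a * s0 ∈ V
      rw [← smul_eq_C_mul]; exact V.smul_mem _ hs0V
    · refine ⟨?_, mul_ne_zero (C_ne_zero.2 hb) hs1, Dvd.dvd.mul_left hd1 _⟩
      show C b * s1 ∈ V
      rw [← smul_eq_C_mul]; exact V.smul_mem _ hs1V
    · exact ⟨V.neg_mem hs2V, neg_ne_zero.2 hs2, (dvd_neg).2 hd2⟩
  · show C a * s0 + C b * s1 + -s2 = 0
    rw [← hab]; ring
  · show Submodule.span k {C a * s0, C b * s1} = V
    refine span_pair_eq hV2 ?_ ?_ ?_
    · rw [← smul_eq_C_mul]; exact V.smul_mem _ hs0V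
    · rw [← smul_eq_C_mul]; exact V.smul_mem _ hs1V
    · intro x y hxy
      have := hind (x * a) (y * b) (by rw [C_mul, C_mul]; linear_combination hxy)
      exact ⟨(mul_eq_zero.1 this.1).resolve_right ha, (mul_eq_zero.1 this.2).resolve_right hb⟩

/-- rigidity -/
lemma rigidity {d : ℕ} {P : Fin 3 → k} (hP : Function.Injective P) {e : Fin 3 → ℕ}
    (hsum : e 0 + e 1 + e 2 = 2 * d + 1) {s t : Fin 3 → k[X]}
    (hs : ∀ i, (s i).natDegree ≤ d ∧ (X - C (P i)) ^ (e i) ∣ s i)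
    (ht : ∀ i, (t i).natDegree ≤ d ∧ (X - C (P i)) ^ (e i) ∣ t i)
    (hs0 : s 0 + s 1 + s 2 = 0) (ht0 : t 0 + t 1 + t 2 = 0) :
    t 0 * s 1 = s 0 * t 1 := by
  rw [← sub_eq_zero]
  by_contra hG
  have hdeg : (t 0 * s 1 - s 0 * t 1).natDegree ≤ d + d :=
    (natDegree_sub_le _ _).trans (max_le (natDegree_mul_le_of_le (ht 0).1 (hs 1).1)
      (natDegree_mul_le_of_le (hs 0).1 (ht 1).1))
  have h := sum_le_natDegree hP e hG (by
    intro i
    fin_cases i
    · exact dvd_sub (Dvd.dvd.mul_right (ht 0).2 _) (Dvd.dvd.mul_right (hs 0).2 _)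
    · exact dvd_sub (Dvd.dvd.mul_left (hs 1).2 _) (Dvd.dvd.mul_left (ht 1).2 _)
    · have e1 : t 0 * s 1 - s 0 * t 1 = s 0 * t 2 - t 0 * s 2 := by
        have hs1 : s 1 = -(s 0) - s 2 := by linear_combination hs0
        have ht1 : t 1 = -(t 0) - t 2 := by linear_combination ht0
        rw [hs1, ht1]; ring
      show (X - C (P 2)) ^ (e 2) ∣ t 0 * s 1 - s 0 * t 1
      rw [e1]
      exact dvd_sub (Dvd.dvd.mul_left (ht 2).2 _) (Dvd.dvd.mul_left (hs 2).2 _))
  rw [Fin.sum_univ_three] at h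
  omega

/-- uniqueness -/
theorem unique_of_isPencil [IsAlgClosed k] {d : ℕ} {P : Fin 3 → k} (hP : Function.Injective P)
    {e : Fin 3 → ℕ} (hsum : e 0 + e 1 + e 2 = 2 * d + 1) (hed : ∀ i, e i ≤ d)
    {V V' : Submodule k k[X]} (hV : IsPencil d V) (hVram : GeRam P e V)
    (hV' : V' ≤ degreeLE k d) (hV'2 : Module.finrank k V' = 2) (hV'ram : GeRam P e V') :
    V' = V := by
  obtain ⟨hVle, hV2, ⟨D, hDV, hDd⟩, hbpf⟩ := hV
  obtain ⟨s, hs, hs0, hsV⟩ := structure_lemma hP hsum hed hVle hV2 hVram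
  obtain ⟨t, ht, ht0, htV⟩ := structure_lemma hP hsum hed hV' hV'2 hV'ram
  have hrig := rigidity hP hsum (s := s) (t := t)
    (fun i => ⟨natDegree_le_of_mem hVle (hs i).1, (hs i).2.2⟩)
    (fun i => ⟨natDegree_le_of_mem hV' (ht i).1, (ht i).2.2⟩) hs0 ht0
  -- coprimality
  have hcop : IsCoprime (s 0) (s 1) := by
    refine (Polynomial.isCoprime_iff_aeval_ne_zero_of_isAlgClosed (k := k) k (s 0) (s 1)).2 ?_
    intro a
    by_contra hcon
    push Not at hcon
    obtain ⟨x, hxV, hxa⟩ := hbpf a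
    rw [← hsV] at hxV
    obtain ⟨u, v, rfl⟩ := mem_span_pair'.1 hxV
    apply hxa
    have h1 : eval a (s 0) = 0 := by simpa using hcon.1
    have h2 : eval a (s 1) = 0 := by simpa using hcon.2
    rw [eval_add, eval_mul, eval_mul, h1, h2, mul_zero, mul_zero, add_zero]
  have hdvd : s 0 ∣ t 0 := by
    apply hcop.dvd_of_dvd_mul_right
    rw [hrig]
    exact dvd_mul_right _ _
  obtain ⟨h, hh⟩ := hdvd
  have ht1 : t 1 = h * s 1 := by
    have : s 0 * t 1 = s 0 * (h * s 1) := by rw [← hrig, hh]; ring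
    exact mul_left_cancel₀ (hs 0).2.1 this
  have hh0 : h ≠ 0 := by
    intro h0
    apply (ht 0).2.1
    rw [hh, h0, mul_zero]
  -- degree-d element
  rw [← hsV] at hDV
  obtain ⟨u, v, hD⟩ := mem_span_pair'.1 hDV
  have hDne : D ≠ 0 := by
    intro h0
    have h2d : e 0 + e 1 + e 2 ≤ 3 * d := by
      have := hed 0; have := hed 1; have := hed 2; omega
    have : d = 0 := by rw [← hDd, h0, natDegree_zero]
    omega
  have hhD : h * D ∈ V' := by
    have : h * D = C u * t 0 + C v * t 1 := by rw [hD, hh, ht1]; ring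
    rw [this]
    refine V'.add_mem ?_ ?_
    · rw [← smul_eq_C_mul]; exact V'.smul_mem _ (ht 0).1
    · rw [← smul_eq_C_mul]; exact V'.smul_mem _ (ht 1).1
  have hdeg := natDegree_le_of_mem hV' hhD
  rw [natDegree_mul hh0 hDne, hDd] at hdeg
  have hhc : h = C (h.coeff 0) := eq_C_of_natDegree_eq_zero (by omega)
  have hc0 : h.coeff 0 ≠ 0 := by
    intro h0
    apply hh0
    rw [hhc, h0, C_0]
  haveI := finiteDimensional_of_le_degreeLE hVle
  have hle : V' ≤ V := by
    rw [← htV, Submodule.span_le]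
    intro x hx
    rcases hx with rfl | rfl
    · show t 0 ∈ V
      rw [hh, mul_comm, hhc, ← smul_eq_C_mul]
      exact V.smul_mem _ (hs 0).1
    · show t 1 ∈ V
      rw [ht1, hhc, ← smul_eq_C_mul]
      exact V.smul_mem _ (hs 1).1
  exact Submodule.eq_of_le_of_finrank_eq hle (by rw [hV2, hV'2])

end Groth.Agent.Helper17.RM
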