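import Mathlib
import Groth.Prelude.Def_W4c1limliniiiiRamP1
import Groth.Agent.Lib.Helper17.RM2
import Groth.Agent.Lib.Helper17.PW1

set_option autoImplicit false

namespace Groth.Agent.Helper17.RM

open Polynomial W4c1limliniiii

variable {k : Type*} [Field k]

lemma sum_update_succ {n : ℕ} (f : Fin n → ℕ) (i : Fin n) :
    ∑ j, Function.update f i (f i + 1) j = ∑ j, f j + 1 := by
  rw [Finset.sum_update_of_mem (Finset.mem_univ i),
    Finset.sum_eq_add_sum_sdiff_singleton_of_mem (Finset.mem_univ i) f]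
  ring

lemma finrank_span_pair {F G : k[X]}
    (hind : ∀ a b : k, C a * F + C b * G = 0 → a = 0 ∧ b = 0) :
    Module.finrank k (Submodule.span k ({F, G} : Set k[X])) = 2 := by
  have hli : LinearIndependent k ![F, G] := by
    rw [LinearIndependent.pair_iff]
    intro a b hab
    rw [smul_eq_C_mul, smul_eq_C_mul] at hab
    exact hind a b hab
  have := finrank_span_eq_card hli
  rw [Fintype.card_fin] at this
  have hr : Set.range ![F, G] = ({F, G} : Set k[X]) := by
    ext x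
    simp only [Set.mem_range, Fin.exists_fin_two, Matrix.cons_val_zero, Matrix.cons_val_one,
      Set.mem_insert_iff, Set.mem_singleton_iff]
    constructor
    · rintro (h | h)
      · exact Or.inl h.symm
      · exact Or.inr h.symm
    · rintro (h | h)
      · exact Or.inl h.symm
      · exact Or.inr h.symm
  rw [hr] at this
  exact this

/-- separable + at least the required ramification ⇒ in `ramMaps` -/
theorem mem_ramMaps_of_separable {d : ℕ} (hd : 2 ≤ d) {P : Fin 3 → k}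
    (hP : Function.Injective P) {e : Fin 3 → ℕ}
    (hsum : e 0 + e 1 + e 2 = 2 * d + 1) (he1 : ∀ i, 1 ≤ e i)
    {V : Submodule k k[X]} (hV : V ≤ degreeLE k d) (hV2 : Module.finrank k V = 2)
    (hsep : IsSeparable V) (hram : GeRam P e V) : V ∈ ramMaps d P e := by
  haveI := finiteDimensional_of_le_degreeLE hV
  obtain ⟨F₀, hF₀, G₀, hG₀, hW₀⟩ := hsep
  have hind : ∀ a b : k, C a * F₀ + C b * G₀ = 0 → a = 0 ∧ b = 0 := by
    intro a b hab
    have h1 : wronskian (C a * F₀ + C b * G₀) (C 0 * F₀ + C 1 * G₀) =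
        C (a * 1 - b * 0) * wronskian F₀ G₀ := wronskian_comb _ _ _ _ _ _
    have h2 : wronskian (C a * F₀ + C b * G₀) (C 1 * F₀ + C 0 * G₀) =
        C (a * 0 - b * 1) * wronskian F₀ G₀ := wronskian_comb _ _ _ _ _ _
    rw [hab, wronskian_zero_left] at h1 h2
    constructor
    · have := (mul_eq_zero.1 h1.symm).resolve_right hW₀
      simpa using this
    · have := (mul_eq_zero.1 h2.symm).resolve_right hW₀
      simpa using this
  have hspan := span_pair_eq hV2 hF₀ hG₀ hind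
  have hDb : ∀ s ∈ V, s ≠ 0 → ∃ t ∈ V, ∃ c : k, c ≠ 0 ∧
      wronskian s t = C c * wronskian F₀ G₀ := by
    intro s hsV hs
    rw [← hspan] at hsV
    obtain ⟨a, b, rfl⟩ := mem_span_pair'.1 hsV
    by_cases ha : a = 0
    · have hb : b ≠ 0 := by
        intro hb; apply hs; rw [ha, hb]; simp
      refine ⟨F₀, hF₀, -b, neg_ne_zero.2 hb, ?_⟩
      have := wronskian_comb a b 1 0 F₀ G₀
      rw [C_1, C_0, one_mul, zero_mul, add_zero] at this
      rw [this]; congr 2; ring
    · refine ⟨G₀, hG₀, a, ha, ?_⟩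
      have := wronskian_comb a b 0 1 F₀ G₀
      rw [C_1, C_0, one_mul, zero_mul, zero_add] at this
      rw [this]; congr 2; ring
  have hunit : ∀ (c : k) (Q : k[X]), c ≠ 0 → Q ∣ C c * wronskian F₀ G₀ → Q ∣ wronskian F₀ G₀ := by
    intro c Q hc h1
    have h2 : wronskian F₀ G₀ = C c⁻¹ * (C c * wronskian F₀ G₀) := by
      rw [← mul_assoc, ← C_mul, inv_mul_cancel₀ hc, C_1, one_mul]
    rw [h2]
    exact Dvd.dvd.mul_left h1 _
  have htrans : ∀ (a : k) (n : ℕ) (s : k[X]), s ∈ V → s ≠ 0 → (X - C a) ^ (n + 1) ∣ s →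
      (X - C a) ^ n ∣ wronskian F₀ G₀ := by
    intro a n s hsV hs hdvd
    obtain ⟨t, htV, c, hc, hw⟩ := hDb s hsV hs
    have h1 := pow_dvd_wronskian (n := 0) (t := t) hdvd (by rw [pow_zero]; exact one_dvd t) (by omega)
    have e1 : n + 1 + 0 - 1 = n := by omega
    rw [hw, e1] at h1
    exact hunit c _ hc h1
  have hdivW : ∀ i, (X - C (P i)) ^ (e i - 1) ∣ wronskian F₀ G₀ := by
    intro i
    obtain ⟨s, hsV, hs, hse⟩ := hram i
    have hdv := (le_rootMultiplicity_iff hs).1 hse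
    have : e i - 1 + 1 = e i := by have := he1 i; omega
    exact htrans (P i) (e i - 1) s hsV hs (by rw [this]; exact hdv)
  have hWle : (wronskian F₀ G₀).natDegree ≤ 2 * d - 2 :=
    natDegree_wronskian_le (by omega) (natDegree_le_of_mem hV hF₀) (natDegree_le_of_mem hV hG₀)
  have hsum1 : ∑ i, (e i - 1) = 2 * d - 2 := by
    rw [Fin.sum_univ_three]; have := he1 0; have := he1 1; have := he1 2; omega
  have hno : ∀ i, ¬ (X - C (P i)) ^ (e i) ∣ wronskian F₀ G₀ := by
    intro i hdi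
    have hei : e i - 1 + 1 = e i := by have := he1 i; omega
    have h := sum_le_natDegree hP (Function.update (fun j => e j - 1) i (e i - 1 + 1)) hW₀ (by
      intro j
      by_cases hj : j = i
      · subst hj; rw [Function.update_self, hei]; exact hdi
      · rw [Function.update_of_ne hj]; exact hdivW j)
    rw [sum_update_succ (fun j => e j - 1) i, hsum1] at h
    omega
  refine ⟨⟨hV, hV2, ?_, ?_⟩, ⟨F₀, hF₀, G₀, hG₀, hW₀⟩, ?_⟩
  · by_contra hcon
    push Not at hcon
    have hlt : ∀ s ∈ V, s.natDegree ≤ d - 1 := fun s hs => by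
      have := natDegree_le_of_mem hV hs; have := hcon s hs; omega
    have h1 := natDegree_wronskian_le (d := d - 1) (by omega) (hlt _ hF₀) (hlt _ hG₀)
    have h2 := sum_le_natDegree hP (fun j => e j - 1) hW₀ hdivW
    rw [hsum1] at h2
    omega
  · intro a
    by_contra hcon
    push Not at hcon
    have hdv : ∀ s ∈ V, (X - C a) ∣ s := fun s hs => dvd_iff_isRoot.2 (hcon s hs)
    by_cases ha : ∃ i, P i = a
    · obtain ⟨i, rfl⟩ := ha
      obtain ⟨s, hsV, hs, hse⟩ := hram i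
      have hdd := (le_rootMultiplicity_iff hs).1 hse
      obtain ⟨t, htV, c, hc, hw⟩ := hDb s hsV hs
      have h1 := pow_dvd_wronskian (n := 1) (t := t) hdd (by rw [pow_one]; exact hdv t htV) (he1 i)
      rw [hw, Nat.add_sub_cancel] at h1
      exact hno i (hunit c _ hc h1)
    · push Not at ha
      have h1 := pow_dvd_wronskian (m := 1) (n := 1) (s := F₀) (t := G₀)
        (by rw [pow_one]; exact hdv _ hF₀) (by rw [pow_one]; exact hdv _ hG₀) le_rfl
      rw [show 1 + 1 - 1 = 1 from rfl, pow_one] at h1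
      have h2 := sum_succ_le_natDegree hP (fun j => e j - 1) hW₀ hdivW ha h1
      rw [hsum1] at h2
      omega
  · intro i
    refine ⟨hram i, ?_⟩
    intro s hsV hs
    by_contra hcon
    push Not at hcon
    have hdd := (le_rootMultiplicity_iff hs).1 (Nat.succ_le_of_lt hcon)
    exact hno i (htrans (P i) (e i) s hsV hs hdd)

/-- multiplication by `(X - a)^n` from `degreeLT (d+1-n)` to `degreeLT (d+1)` -/
noncomputable def mulBy (d : ℕ) (a : k) (n : ℕ) (hn : n ≤ d) :
    degreeLT k (d + 1 - n) →ₗ[k] degreeLT k (d + 1) :=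
  LinearMap.codRestrict (degreeLT k (d + 1))
    ((LinearMap.mulLeft k ((X - C a) ^ n)).comp (degreeLT k (d + 1 - n)).subtype) (by
      intro A
      have h := PW.monic_mul_mem ((monic_X_sub_C a).pow n) (natDegree_pow_X_sub_C' a n) A.2
      have e1 : n + (d + 1 - n) = d + 1 := by omega
      rw [e1] at h
      exact h)

lemma mulBy_val (d : ℕ) (a : k) (n : ℕ) (hn : n ≤ d) (A : degreeLT k (d + 1 - n)) :
    ((mulBy d a n hn A : degreeLT k (d + 1)) : k[X]) = (X - C a) ^ n * A.1 := rfl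

lemma natDegree_le_of_mem_degreeLT {d : ℕ} {f : k[X]} (hf : f ∈ degreeLT k (d + 1)) :
    f.natDegree ≤ d := by
  rw [degreeLT_succ_eq_degreeLE] at hf
  exact natDegree_le_iff_degree_le.2 (mem_degreeLE.1 hf)

theorem exists_ker {d : ℕ} (P : Fin 3 → k) {e : Fin 3 → ℕ}
    (hsum : e 0 + e 1 + e 2 = 2 * d + 1) (hed : ∀ i, e i ≤ d) :
    ∃ s : Fin 3 → k[X], (∀ i, (s i).natDegree ≤ d ∧ (X - C (P i)) ^ (e i) ∣ s i) ∧
      s 0 + s 1 + s 2 = 0 ∧ ∃ i, s i ≠ 0 := by
  have h0 := hed 0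
  have h1 := hed 1
  have h2 := hed 2
  obtain ⟨φ, hφ⟩ : ∃ φ : (degreeLT k (d + 1 - e 0) × degreeLT k (d + 1 - e 1) ×
      degreeLT k (d + 1 - e 2)) →ₗ[k] degreeLT k (d + 1), φ =
      (mulBy d (P 0) (e 0) h0).coprod ((mulBy d (P 1) (e 1) h1).coprod
        (mulBy d (P 2) (e 2) h2)) := ⟨_, rfl⟩
  have hker : LinearMap.ker φ ≠ ⊥ := by
    apply LinearMap.ker_ne_bot_of_finrank_lt
    rw [Module.finrank_prod, Module.finrank_prod]
    simp only [PW.finrank_degreeLT]
    omega
  obtain ⟨x, hx, hx0⟩ := Submodule.exists_mem_ne_zero_of_ne_bot hker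
  obtain ⟨A, B, C'⟩ := x
  have hsum0 : (X - C (P 0)) ^ (e 0) * A.1 + ((X - C (P 1)) ^ (e 1) * B.1 +
      (X - C (P 2)) ^ (e 2) * C'.1) = 0 := by
    have := congrArg Subtype.val (LinearMap.mem_ker.1 hx)
    rw [hφ] at this
    exact this
  refine ⟨![(X - C (P 0)) ^ (e 0) * A.1, (X - C (P 1)) ^ (e 1) * B.1,
    (X - C (P 2)) ^ (e 2) * C'.1], ?_, ?_, ?_⟩
  · intro i
    fin_cases i
    · exact ⟨natDegree_le_of_mem_degreeLT (mulBy d (P 0) (e 0) h0 A).2, dvd_mul_right _ _⟩
    · exact ⟨natDegree_le_of_mem_degreeLT (mulBy d (P 1) (e 1) h1 B).2, dvd_mul_right _ _⟩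
    · exact ⟨natDegree_le_of_mem_degreeLT (mulBy d (P 2) (e 2) h2 C').2, dvd_mul_right _ _⟩
  · show (X - C (P 0)) ^ (e 0) * A.1 + (X - C (P 1)) ^ (e 1) * B.1 +
      (X - C (P 2)) ^ (e 2) * C'.1 = 0
    rw [add_assoc]; exact hsum0
  · by_contra hcon
    push Not at hcon
    apply hx0
    have hA : A = 0 := by
      have := hcon 0
      have h' : (X - C (P 0)) ^ (e 0) * A.1 = 0 := this
      exact Subtype.ext ((mul_eq_zero.1 h').resolve_left (pow_X_sub_C_ne_zero _ _))
    have hB : B = 0 := by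
      have := hcon 1
      have h' : (X - C (P 1)) ^ (e 1) * B.1 = 0 := this
      exact Subtype.ext ((mul_eq_zero.1 h').resolve_left (pow_X_sub_C_ne_zero _ _))
    have hC : C' = 0 := by
      have := hcon 2
      have h' : (X - C (P 2)) ^ (e 2) * C'.1 = 0 := this
      exact Subtype.ext ((mul_eq_zero.1 h').resolve_left (pow_X_sub_C_ne_zero _ _))
    rw [hA, hB, hC]
    rfl

/-- a pencil with at least the required ramification always exists -/
theorem exists_geRam_pencil {d : ℕ} {P : Fin 3 → k} (hP : Function.Injective P) {e : Fin 3 → ℕ}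
    (hsum : e 0 + e 1 + e 2 = 2 * d + 1) (hed : ∀ i, e i ≤ d) :
    ∃ s : Fin 3 → k[X], (∀ i, (s i).natDegree ≤ d ∧ s i ≠ 0 ∧ (X - C (P i)) ^ (e i) ∣ s i) ∧
      s 0 + s 1 + s 2 = 0 ∧ (∀ a b : k, C a * s 0 + C b * s 1 = 0 → a = 0 ∧ b = 0) := by
  obtain ⟨s, hs, hs0, hne⟩ := exists_ker P hsum hed
  have hP01 : P 0 ≠ P 1 := fun h => by have := hP h; exact absurd this (by decide)
  have hP02 : P 0 ≠ P 2 := fun h => by have := hP h; exact absurd this (by decide)
  have hP12 : P 1 ≠ P 2 := fun h => by have := hP h; exact absurd this (by decide)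
  have h0 := hed 0
  have h1 := hed 1
  have h2 := hed 2
  -- if one vanishes, all vanish
  have hz0 : s 0 = 0 → s 1 = 0 ∧ s 2 = 0 := by
    intro hz
    have h12 : s 1 = -(s 2) := by rw [hz, zero_add] at hs0; exact eq_neg_of_add_eq_zero_left hs0
    have : s 1 = 0 := eq_zero_of_two_dvd hP12 (m := e 1) (n := e 2) (d := d) (by omega)
      (hs 1).1 (hs 1).2 (by rw [h12]; exact (dvd_neg).2 (hs 2).2)
    exact ⟨this, by rw [this] at h12; exact neg_eq_zero.1 h12.symm⟩
  have hz1 : s 1 = 0 → s 0 = 0 ∧ s 2 = 0 := by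
    intro hz
    have h02 : s 0 = -(s 2) := by rw [hz, add_zero] at hs0; exact eq_neg_of_add_eq_zero_left hs0
    have : s 0 = 0 := eq_zero_of_two_dvd hP02 (m := e 0) (n := e 2) (d := d) (by omega)
      (hs 0).1 (hs 0).2 (by rw [h02]; exact (dvd_neg).2 (hs 2).2)
    exact ⟨this, by rw [this] at h02; exact neg_eq_zero.1 h02.symm⟩
  have hz2 : s 2 = 0 → s 0 = 0 ∧ s 1 = 0 := by
    intro hz
    have h01 : s 0 = -(s 1) := by rw [hz, add_zero] at hs0; exact eq_neg_of_add_eq_zero_left hs0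
    have : s 0 = 0 := eq_zero_of_two_dvd hP01 (m := e 0) (n := e 1) (d := d) (by omega)
      (hs 0).1 (hs 0).2 (by rw [h01]; exact (dvd_neg).2 (hs 1).2)
    exact ⟨this, by rw [this] at h01; exact neg_eq_zero.1 h01.symm⟩
  have hall : ∀ i, s i ≠ 0 := by
    obtain ⟨i₀, hi₀⟩ := hne
    intro i hi
    apply hi₀
    fin_cases i
    · have := hz0 hi
      fin_cases i₀
      · exact hi
      · exact this.1
      · exact this.2
    · have := hz1 hi
      fin_cases i₀
      · exact this.1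
      · exact hi
      · exact this.2
    · have := hz2 hi
      fin_cases i₀
      · exact this.1
      · exact this.2
      · exact hi
  refine ⟨s, fun i => ⟨(hs i).1, hall i, (hs i).2⟩, hs0, ?_⟩
  intro a b hab
  have ha : a = 0 := by
    by_contra ha
    have hs0' : s 0 = C (-(b / a)) * s 1 := by
      have : C a * s 0 = C a * (C (-(b / a)) * s 1) := by
        rw [← mul_assoc, ← C_mul, mul_neg, mul_div_cancel₀ _ ha, C_neg, neg_mul]
        exact eq_neg_of_add_eq_zero_left hab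
      exact mul_left_cancel₀ (C_ne_zero.2 ha) this
    apply hall 0
    refine eq_zero_of_two_dvd hP01 (m := e 0) (n := e 1) (d := d) (by omega)
      (hs 0).1 (hs 0).2 ?_
    rw [hs0']
    exact Dvd.dvd.mul_left (hs 1).2 _
  refine ⟨ha, ?_⟩
  rw [ha, C_0, zero_mul, zero_add] at hab
  rcases mul_eq_zero.1 hab with h | h
  · exact C_eq_zero.1 h
  · exact absurd h (hall 1)

lemma eq_C_of_derivative_eq_zero (p : ℕ) [CharP k p] {d : ℕ} (hp : p = 0 ∨ d < p) {a : k[X]}
    (ha : a.natDegree ≤ d) (hda : derivative a = 0) : a = C (a.coeff 0) := by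
  apply eq_C_of_natDegree_eq_zero
  by_contra hne
  have hpos : 0 < a.natDegree := Nat.pos_of_ne_zero hne
  have h1 : (derivative a).coeff (a.natDegree - 1) = 0 := by rw [hda, coeff_zero]
  rw [coeff_derivative, Nat.sub_add_cancel hpos] at h1
  have hlc : a.coeff a.natDegree ≠ 0 := by
    rw [coeff_natDegree]
    exact leadingCoeff_ne_zero.2 (fun h0 => by rw [h0, natDegree_zero] at hpos; exact lt_irrefl _ hpos)
  have h2 : ((a.natDegree - 1 : ℕ) : k) + 1 = 0 := (mul_eq_zero.1 h1).resolve_left hlc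
  have h3 : ((a.natDegree : ℕ) : k) = 0 := by
    rw [← h2]
    have : a.natDegree = (a.natDegree - 1) + 1 := by omega
    conv_lhs => rw [this]
    push_cast
    rfl
  rw [CharP.cast_eq_zero_iff k p] at h3
  rcases hp with hp | hp
  · rw [hp] at h3
    have := Nat.eq_zero_of_zero_dvd h3
    omega
  · have := Nat.le_of_dvd hpos h3
    omega

lemma exists_eq_C_mul_of_wronskian_eq_zero (p : ℕ) [CharP k p] {d : ℕ} (hp : p = 0 ∨ d < p)
    {F G : k[X]} (hF : F.natDegree ≤ d) (hG : G.natDegree ≤ d) (hG0 : G ≠ 0)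
    (hw : wronskian F G = 0) : ∃ c : k, F = C c * G := by
  classical
  by_cases hF0 : F = 0
  · exact ⟨0, by rw [hF0, C_0, zero_mul]⟩
  obtain ⟨g, hg⟩ : ∃ g, g = EuclideanDomain.gcd F G := ⟨_, rfl⟩
  obtain ⟨a, ha⟩ : g ∣ F := hg ▸ EuclideanDomain.gcd_dvd_left F G
  obtain ⟨b, hb⟩ : g ∣ G := hg ▸ EuclideanDomain.gcd_dvd_right F G
  have hg0 : g ≠ 0 := by
    intro h0
    rw [h0, zero_mul] at hb
    exact hG0 hb
  obtain ⟨x, y, hbez⟩ : ∃ x y, g = F * x + G * y :=
    ⟨_, _, hg ▸ EuclideanDomain.gcd_eq_gcd_ab F G⟩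
  have hcop : IsCoprime a b := by
    refine ⟨x, y, mul_left_cancel₀ hg0 ?_⟩
    rw [mul_one]
    calc g * (x * a + y * b) = (g * a) * x + (g * b) * y := by ring
      _ = F * x + G * y := by rw [← ha, ← hb]
      _ = g := hbez.symm
  have hw' : wronskian a b = 0 := by
    rw [ha, hb, wronskian_mul_mul] at hw
    exact (mul_eq_zero.1 hw).resolve_left (pow_ne_zero 2 hg0)
  obtain ⟨hda, hdb⟩ := hcop.wronskian_eq_zero_iff.1 hw'
  have ha0 : a ≠ 0 := by
    intro h0; rw [h0, mul_zero] at ha; exact hF0 ha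
  have hb0 : b ≠ 0 := by
    intro h0; rw [h0, mul_zero] at hb; exact hG0 hb
  have hadeg : a.natDegree ≤ d := by
    have : F.natDegree = g.natDegree + a.natDegree := by rw [ha, natDegree_mul hg0 ha0]
    omega
  have hbdeg : b.natDegree ≤ d := by
    have : G.natDegree = g.natDegree + b.natDegree := by rw [hb, natDegree_mul hg0 hb0]
    omega
  have hac := eq_C_of_derivative_eq_zero p hp hadeg hda
  have hbc := eq_C_of_derivative_eq_zero p hp hbdeg hdb
  obtain ⟨a0, ha0'⟩ : ∃ a0, a = C a0 := ⟨_, hac⟩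
  obtain ⟨b0, hb0'⟩ : ∃ b0, b = C b0 := ⟨_, hbc⟩
  have hb00 : b0 ≠ 0 := by
    intro h0; apply hb0; rw [hb0', h0, C_0]
  refine ⟨a0 / b0, ?_⟩
  have hC : (C a0 : k[X]) = C (a0 / b0) * C b0 := by rw [← C_mul, div_mul_cancel₀ _ hb00]
  rw [hb, ha, ha0', hb0', hC]
  ring

lemma admissible_unpack {p d : ℕ} {e : Fin 3 → ℕ} (he : Admissible p d e) :
    e 0 + e 1 + e 2 = 2 * d + 1 ∧ (∀ i, e i ≤ d) ∧ (∀ i, 2 ≤ e i) ∧ 2 ≤ d := by
  obtain ⟨h1, h2⟩ := he
  rw [Fin.sum_univ_three] at h2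
  refine ⟨by omega, fun i => (h1 i).2.1, fun i => (h1 i).1, ?_⟩
  have := (h1 0).1
  have := (h1 0).2.1
  omega

theorem ramMaps_subsingleton [IsAlgClosed k] {p d : ℕ} {P : Fin 3 → k}
    (hP : Function.Injective P) {e : Fin 3 → ℕ} (he : Admissible p d e) :
    (ramMaps d P e).Subsingleton := by
  obtain ⟨hsum, hed, he2, hd⟩ := admissible_unpack he
  intro V hV V' hV'
  exact (unique_of_isPencil hP hsum hed hV.1 (fun i => (hV.2.2 i).1) hV'.1.1 hV'.1.2.1
    (fun i => (hV'.2.2 i).1)).symm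

theorem s13918 [IsAlgClosed k] (p : ℕ) [CharP k p] (d : ℕ) (P : Fin 3 → k)
    (hP : Function.Injective P) (e : Fin 3 → ℕ) (he : Admissible p d e) :
    (ramMaps d P e).Subsingleton ∧
      (ramMaps d P e = ∅ ↔
        ∃ V : Submodule k k[X], V ≤ Polynomial.degreeLE k d ∧ Module.finrank k V = 2 ∧
          ¬ IsSeparable V ∧
          ∀ i, ∃ s ∈ V, s ≠ 0 ∧ e i ≤ Polynomial.rootMultiplicity (P i) s) := by
  obtain ⟨hsum, hed, he2, hd⟩ := admissible_unpack he
  refine ⟨ramMaps_subsingleton hP he, ?_, ?_⟩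
  · intro hempty
    obtain ⟨s, hs, hs0, hind⟩ := exists_geRam_pencil hP hsum hed
    have hVle : Submodule.span k ({s 0, s 1} : Set k[X]) ≤ degreeLE k d := by
      rw [Submodule.span_le]
      intro x hx
      rcases hx with rfl | rfl
      · exact mem_degreeLE.2 (natDegree_le_iff_degree_le.1 (hs 0).1)
      · exact mem_degreeLE.2 (natDegree_le_iff_degree_le.1 (hs 1).1)
    have hV2 := finrank_span_pair hind
    have hm0 : s 0 ∈ Submodule.span k ({s 0, s 1} : Set k[X]) :=
      Submodule.subset_span (Set.mem_insert _ _)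
    have hm1 : s 1 ∈ Submodule.span k ({s 0, s 1} : Set k[X]) :=
      Submodule.subset_span (Set.mem_insert_of_mem _ rfl)
    have hm2 : s 2 ∈ Submodule.span k ({s 0, s 1} : Set k[X]) := by
      have : s 2 = -(s 0) - s 1 := by linear_combination hs0
      rw [this]
      exact Submodule.sub_mem _ (Submodule.neg_mem _ hm0) hm1
    have hram : GeRam P e (Submodule.span k ({s 0, s 1} : Set k[X])) := by
      intro i
      fin_cases i
      · exact ⟨s 0, hm0, (hs 0).2.1, (le_rootMultiplicity_iff (hs 0).2.1).2 (hs 0).2.2⟩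
      · exact ⟨s 1, hm1, (hs 1).2.1, (le_rootMultiplicity_iff (hs 1).2.1).2 (hs 1).2.2⟩
      · exact ⟨s 2, hm2, (hs 2).2.1, (le_rootMultiplicity_iff (hs 2).2.1).2 (hs 2).2.2⟩
    refine ⟨_, hVle, hV2, ?_, hram⟩
    intro hsep
    have := mem_ramMaps_of_separable hd hP hsum (fun i => by have := he2 i; omega) hVle hV2
      hsep hram
    rw [hempty] at this
    exact this
  · rintro ⟨V', hV'le, hV'2, hV'ns, hV'ram⟩
    by_contra hne
    obtain ⟨V, hV⟩ := Set.nonempty_iff_ne_empty.2 hne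
    have := unique_of_isPencil hP hsum hed hV.1 (fun i => (hV.2.2 i).1) hV'le hV'2 hV'ram
    rw [this] at hV'ns
    exact hV'ns hV.2.1

end Groth.Agent.Helper17.RM
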