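import Mathlib
import Groth.Prelude.Def_W4c1limliniiiiRamP1
import Groth.Agent.Lib.Helper17.RM3

set_option autoImplicit false

namespace Groth.Agent.Helper17.RM

open Polynomial W4c1limliniiii

variable {k : Type*} [Field k]

theorem s13919a [IsAlgClosed k] (p : ℕ) [CharP k p] (d : ℕ) (P : Fin 3 → k)
    (hP : Function.Injective P) (e : Fin 3 → ℕ) (he : Admissible p d e)
    (hp0 : p ≠ 0) (h0 : e 0 < p) (h1 : e 1 < p) (hpd : p ≤ d) : ramMaps d P e = ∅ := by
  haveI : Fact p.Prime := ⟨(CharP.char_is_prime_or_zero k p).resolve_right hp0⟩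
  obtain ⟨hsum, hed, he2, hd⟩ := admissible_unpack he
  obtain ⟨g, hg⟩ : ∃ g : k[X], g = (X - C (P 2)) ^ (e 2 - p) := ⟨_, rfl⟩
  have hgne : g ≠ 0 := by rw [hg]; exact pow_X_sub_C_ne_zero _ _
  have hgdeg : g.natDegree = e 2 - p := by rw [hg]; exact natDegree_pow_X_sub_C' _ _
  have hfrob : ∀ a : k, (X - C a : k[X]) ^ p = X ^ p - C (a ^ p) := by
    intro a; rw [sub_pow_char, ← C_pow]
  have hind : ∀ a b : k, C a * g + C b * (g * X ^ p) = 0 → a = 0 ∧ b = 0 := by
    intro a b hab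
    have h1 : g * (C a + C b * X ^ p) = 0 := by rw [← hab]; ring
    have h2 : C a + C b * X ^ p = 0 := (mul_eq_zero.1 h1).resolve_left hgne
    have hb : b = 0 := by
      have := congrArg (fun f => coeff f p) h2
      simp only [coeff_add, coeff_C_mul, coeff_X_pow, coeff_C, coeff_zero, if_neg hp0,
        if_true, zero_add, mul_one] at this
      exact this
    refine ⟨?_, hb⟩
    rw [hb, C_0, zero_mul, add_zero] at h2
    exact C_eq_zero.1 h2
  have hV'2 := finrank_span_pair hind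
  have hmem : ∀ a : k, g * (X - C a) ^ p ∈ Submodule.span k ({g, g * X ^ p} : Set k[X]) := by
    intro a
    rw [hfrob, mem_span_pair']
    exact ⟨-(a ^ p), 1, by rw [C_neg, C_1]; ring⟩
  have hV'le : Submodule.span k ({g, g * X ^ p} : Set k[X]) ≤ degreeLE k d := by
    rw [Submodule.span_le]
    intro x hx
    have h2 := hed 2
    rcases hx with rfl | rfl
    · refine mem_degreeLE.2 (natDegree_le_iff_degree_le.1 ?_)
      rw [hgdeg]; omega
    · refine mem_degreeLE.2 (natDegree_le_iff_degree_le.1 ?_)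
      rw [natDegree_mul hgne (pow_ne_zero _ X_ne_zero), hgdeg, natDegree_X_pow]; omega
  have hV'ns : ¬ IsSeparable (Submodule.span k ({g, g * X ^ p} : Set k[X])) := by
    rintro ⟨F, hF, G, hG, hW⟩
    obtain ⟨a, b, rfl⟩ := mem_span_pair'.1 hF
    obtain ⟨c, e', rfl⟩ := mem_span_pair'.1 hG
    apply hW
    have hu : ∀ a b : k, derivative (C a + C b * X ^ p : k[X]) = 0 := by
      intro a b
      rw [derivative_add, derivative_C, derivative_mul, derivative_C, derivative_X_pow,
        CharP.cast_eq_zero k p, C_0]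
      ring
    have e1 : C a * g + C b * (g * X ^ p) = g * (C a + C b * X ^ p) := by ring
    have e2 : C c * g + C e' * (g * X ^ p) = g * (C c + C e' * X ^ p) := by ring
    rw [e1, e2, wronskian_mul_mul]
    unfold wronskian
    rw [hu, hu, mul_zero, zero_mul, sub_zero, mul_zero]
  have hV'ram : GeRam P e (Submodule.span k ({g, g * X ^ p} : Set k[X])) := by
    intro i
    have hne : g * (X - C (P i)) ^ p ≠ 0 := mul_ne_zero hgne (pow_X_sub_C_ne_zero _ _)
    refine ⟨g * (X - C (P i)) ^ p, hmem (P i), hne, (le_rootMultiplicity_iff hne).2 ?_⟩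
    fin_cases i
    · exact Dvd.dvd.mul_left (pow_dvd_pow _ h0.le) _
    · exact Dvd.dvd.mul_left (pow_dvd_pow _ h1.le) _
    · show (X - C (P 2)) ^ (e 2) ∣ g * (X - C (P 2)) ^ p
      rw [hg, ← pow_add]
      exact pow_dvd_pow _ (by omega)
  by_contra hne
  obtain ⟨V, hV⟩ := Set.nonempty_iff_ne_empty.2 hne
  have := unique_of_isPencil hP hsum hed hV.1 (fun i => (hV.2.2 i).1) hV'le hV'2 hV'ram
  rw [this] at hV'ns
  exact hV'ns hV.2.1

theorem s13919b [IsAlgClosed k] (p : ℕ) [CharP k p] (d : ℕ) (P : Fin 3 → k)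
    (hP : Function.Injective P) (e : Fin 3 → ℕ) (he : Admissible p d e)
    (hp : p = 0 ∨ d < p) : ∃ V : Submodule k k[X], ramMaps d P e = {V} := by
  obtain ⟨hsum, hed, he2, hd⟩ := admissible_unpack he
  obtain ⟨s, hs, hs0, hind⟩ := exists_geRam_pencil hP hsum hed
  have hVle : Submodule.span k ({s 0, s 1} : Set k[X]) ≤ degreeLE k d := by
    rw [Submodule.span_le]
    intro x hx
    rcases hx with rfl | rfl
    · exact mem_degreeLE.2 (natDegree_le_iff_degree_le.1 (hs 0).1)
    · exact mem_degreeLE.2 (natDegree_le_iff_degree_le.1 (hs 1).1)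
  have hV2 := finrank_span_pair hind
  have hm0 : s 0 ∈ Submodule.span k ({s 0, s 1} : Set k[X]) :=
    Submodule.subset_span (Set.mem_insert _ _)
  have hm1 : s 1 ∈ Submodule.span k ({s 0, s 1} : Set k[X]) :=
    Submodule.subset_span (Set.mem_insert_of_mem _ rfl)
  have hm2 : s 2 ∈ Submodule.span k ({s 0, s 1} : Set k[X]) := by
    have : s 2 = -(s 0) - s 1 := by linear_combination hs0
    rw [this]
    exact Submodule.sub_mem _ (Submodule.neg_mem _ hm0) hm1
  have hram : GeRam P e (Submodule.span k ({s 0, s 1} : Set k[X])) := by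
    intro i
    fin_cases i
    · exact ⟨s 0, hm0, (hs 0).2.1, (le_rootMultiplicity_iff (hs 0).2.1).2 (hs 0).2.2⟩
    · exact ⟨s 1, hm1, (hs 1).2.1, (le_rootMultiplicity_iff (hs 1).2.1).2 (hs 1).2.2⟩
    · exact ⟨s 2, hm2, (hs 2).2.1, (le_rootMultiplicity_iff (hs 2).2.1).2 (hs 2).2.2⟩
  have hsep : IsSeparable (Submodule.span k ({s 0, s 1} : Set k[X])) := by
    refine ⟨s 0, hm0, s 1, hm1, fun hw => ?_⟩
    obtain ⟨c, hc⟩ := exists_eq_C_mul_of_wronskian_eq_zero p hp (hs 0).1 (hs 1).1 (hs 1).2.1 hw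
    have := hind 1 (-c) (by rw [hc, C_1, C_neg]; ring)
    exact one_ne_zero this.1
  have hmem := mem_ramMaps_of_separable hd hP hsum (fun i => by have := he2 i; omega) hVle hV2
    hsep hram
  exact ⟨_, (ramMaps_subsingleton hP he).eq_singleton_of_mem hmem⟩

theorem s13919 [IsAlgClosed k] (p : ℕ) [CharP k p] (d : ℕ) (P : Fin 3 → k)
    (hP : Function.Injective P) (e : Fin 3 → ℕ) (he : Admissible p d e) :
    (p ≠ 0 → e 0 < p → e 1 < p → p ≤ d → ramMaps d P e = ∅) ∧
      (p = 0 ∨ d < p → ∃ V : Submodule k k[X], ramMaps d P e = {V}) :=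
  ⟨fun hp0 h0 h1 hpd => s13919a p d P hP e he hp0 h0 h1 hpd, fun hp => s13919b p d P hP e he hp⟩

end Groth.Agent.Helper17.RM
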