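import Mathlib
import Groth.Prelude.Def_W4c1limliniiiiRamP1
import Groth.Agent.Lib.Helper17.RM3

set_option autoImplicit false

namespace Groth.Agent.Helper17.RM

open Polynomial W4c1limliniiii

variable {k : Type*} [Field k]

section span2
variable (F G : k[X])

lemma wr_all {s t : k[X]} (hs : s ∈ Submodule.span k ({F, G} : Set k[X]))
    (ht : t ∈ Submodule.span k ({F, G} : Set k[X])) :
    ∃ c : k, wronskian s t = C c * wronskian F G := by
  obtain ⟨a, b, rfl⟩ := mem_span_pair'.1 hs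
  obtain ⟨c, e, rfl⟩ := mem_span_pair'.1 ht
  exact ⟨_, wronskian_comb a b c e F G⟩

lemma wr_ind (hW : wronskian F G ≠ 0) : ∀ a b : k, C a * F + C b * G = 0 → a = 0 ∧ b = 0 := by
  intro a b hab
  have h1 : wronskian (C a * F + C b * G) (C 0 * F + C 1 * G) =
      C (a * 1 - b * 0) * wronskian F G := wronskian_comb _ _ _ _ _ _
  have h2 : wronskian (C a * F + C b * G) (C 1 * F + C 0 * G) =
      C (a * 0 - b * 1) * wronskian F G := wronskian_comb _ _ _ _ _ _
  rw [hab, wronskian_zero_left] at h1 h2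
  constructor
  · have := (mul_eq_zero.1 h1.symm).resolve_right hW
    simpa using this
  · have := (mul_eq_zero.1 h2.symm).resolve_right hW
    simpa using this

lemma wr_exists {s : k[X]} (hs : s ∈ Submodule.span k ({F, G} : Set k[X])) (hs0 : s ≠ 0) :
    ∃ t ∈ Submodule.span k ({F, G} : Set k[X]), ∃ c : k, c ≠ 0 ∧
      wronskian s t = C c * wronskian F G := by
  obtain ⟨a, b, rfl⟩ := mem_span_pair'.1 hs
  by_cases ha : a = 0
  · have hb : b ≠ 0 := by
      intro hb; apply hs0; rw [ha, hb]; simp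
    refine ⟨F, Submodule.subset_span (Set.mem_insert _ _), -b, neg_ne_zero.2 hb, ?_⟩
    have := wronskian_comb a b 1 0 F G
    rw [C_1, C_0, one_mul, zero_mul, add_zero] at this
    rw [this]; congr 2; ring
  · refine ⟨G, Submodule.subset_span (Set.mem_insert_of_mem _ rfl), a, ha, ?_⟩
    have := wronskian_comb a b 0 1 F G
    rw [C_1, C_0, one_mul, zero_mul, zero_add] at this
    rw [this]; congr 2; ring

lemma dvd_of_dvd_C_mul {c : k} (hc : c ≠ 0) {Q W : k[X]} (h1 : Q ∣ C c * W) : Q ∣ W := by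
  have h2 : W = C c⁻¹ * (C c * W) := by
    rw [← mul_assoc, ← C_mul, inv_mul_cancel₀ hc, C_1, one_mul]
  rw [h2]
  exact Dvd.dvd.mul_left h1 _

lemma wr_trans {a : k} {n : ℕ} {s : k[X]} (hs : s ∈ Submodule.span k ({F, G} : Set k[X]))
    (hs0 : s ≠ 0) (hdvd : (X - C a) ^ (n + 1) ∣ s) : (X - C a) ^ n ∣ wronskian F G := by
  obtain ⟨t, htV, c, hc, hw⟩ := wr_exists F G hs hs0
  have h1 := pow_dvd_wronskian (n := 0) (t := t) hdvd (by rw [pow_zero]; exact one_dvd t)
    (by omega)
  have e1 : n + 1 + 0 - 1 = n := by omega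
  rw [hw, e1] at h1
  exact dvd_of_dvd_C_mul hc h1

end span2

lemma not_pow_dvd_wronskian {a : k} {β : ℕ} (hβ : 1 ≤ β) (hβk : (β : k) ≠ 0) {s₀ u : k[X]}
    (hs₀ : s₀.eval a ≠ 0) (hu : u.eval a ≠ 0) :
    ¬ (X - C a) ^ β ∣ wronskian s₀ ((X - C a) ^ β * u) := by
  intro hdvd
  have hpow : (X - C a : k[X]) ^ β = (X - C a) ^ (β - 1) * (X - C a) := by
    rw [← pow_succ, Nat.sub_add_cancel hβ]
  have hW : wronskian s₀ ((X - C a) ^ β * u) = (X - C a) ^ (β - 1) *
      (s₀ * (C (β : k) * u + (X - C a) * derivative u) - derivative s₀ * ((X - C a) * u)) := by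
    unfold wronskian
    rw [derivative_mul, derivative_X_sub_C_pow, hpow]
    ring
  rw [hW] at hdvd
  nth_rewrite 1 [hpow] at hdvd
  have h3 := (mul_dvd_mul_iff_left (pow_X_sub_C_ne_zero a (β - 1))).1 hdvd
  have h4 := dvd_iff_isRoot.1 h3
  simp only [IsRoot.def, eval_sub, eval_mul, eval_add, eval_X, eval_C, sub_self, zero_mul,
    mul_zero, add_zero, sub_zero] at h4
  rcases mul_eq_zero.1 h4 with h | h
  · exact hs₀ h
  · rcases mul_eq_zero.1 h with h | h
    · exact hβk h
    · exact hu h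

lemma cast_ne_zero_of_lt (p : ℕ) [CharP k p] {β : ℕ} (h1 : 1 ≤ β) (h2 : β < p) :
    (β : k) ≠ 0 := by
  intro h
  rw [CharP.cast_eq_zero_iff k p] at h
  have := Nat.le_of_dvd (by omega) h
  omega

lemma hasRamIdx_transfer (p : ℕ) [CharP k p] {F G F' G' : k[X]}
    (hW : wronskian F G ≠ 0) (hWW : wronskian F' G' = wronskian F G) (a : k) (ε : ℕ)
    (hε1 : 1 ≤ ε) (hεp : ε < p)
    (hbpf : ∃ s ∈ Submodule.span k ({F, G} : Set k[X]), s.eval a ≠ 0)
    (hbpf' : ∃ s ∈ Submodule.span k ({F', G'} : Set k[X]), s.eval a ≠ 0)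
    (h : HasRamIdx (Submodule.span k ({F, G} : Set k[X])) a ε) :
    HasRamIdx (Submodule.span k ({F', G'} : Set k[X])) a ε := by
  obtain ⟨⟨s₁, hs₁V, hs₁0, hs₁ε⟩, hmax⟩ := h
  obtain ⟨s₀, hs₀V, hs₀a⟩ := hbpf
  have hrm : rootMultiplicity a s₁ = ε := le_antisymm (hmax s₁ hs₁V hs₁0) hs₁ε
  obtain ⟨u, hu1, hu2⟩ := exists_eq_pow_rootMultiplicity_mul_and_not_dvd s₁ hs₁0 a
  rw [hrm] at hu1
  have hua : u.eval a ≠ 0 := fun h0 => hu2 (dvd_iff_isRoot.2 h0)
  have hεk : (ε : k) ≠ 0 := cast_ne_zero_of_lt p hε1 hεp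
  have hnot : ¬ (X - C a) ^ ε ∣ wronskian F G := by
    intro hd
    have h1 := not_pow_dvd_wronskian hε1 hεk hs₀a hua
    rw [← hu1] at h1
    obtain ⟨c, hc⟩ := wr_all F G hs₀V hs₁V
    rw [hc] at h1
    exact h1 (Dvd.dvd.mul_left hd _)
  have hdiv : (X - C a) ^ (ε - 1) ∣ wronskian F G := by
    refine wr_trans F G hs₁V hs₁0 ?_
    rw [Nat.sub_add_cancel hε1, hu1]
    exact dvd_mul_right _ _
  have hW' : wronskian F' G' ≠ 0 := by rw [hWW]; exact hW
  obtain ⟨s₀', hs₀'V, hs₀'a⟩ := hbpf'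
  constructor
  · -- existence
    obtain ⟨s₁', hs₁'⟩ : ∃ s₁' : k[X], s₁' = C (eval a G') * F' + C (-(eval a F')) * G' := ⟨_, rfl⟩
    have hs₁'V : s₁' ∈ Submodule.span k ({F', G'} : Set k[X]) := by
      rw [hs₁']; exact mem_span_pair'.2 ⟨_, _, rfl⟩
    have hs₁'0 : s₁' ≠ 0 := by
      intro h0
      rw [hs₁'] at h0
      obtain ⟨h1, h2⟩ := wr_ind F' G' hW' _ _ h0
      obtain ⟨x, y, hxy⟩ := mem_span_pair'.1 hs₀'V
      apply hs₀'a
      rw [hxy, eval_add, eval_mul, eval_mul, h1, neg_eq_zero.1 h2, mul_zero, mul_zero, add_zero]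
    have hs₁'a : s₁'.eval a = 0 := by
      rw [hs₁', eval_add, eval_mul, eval_mul, eval_C, eval_C]; ring
    obtain ⟨u', hu'1, hu'2⟩ := exists_eq_pow_rootMultiplicity_mul_and_not_dvd s₁' hs₁'0 a
    have hu'a : u'.eval a ≠ 0 := fun h0 => hu'2 (dvd_iff_isRoot.2 h0)
    have hβ1 : 1 ≤ rootMultiplicity a s₁' := (rootMultiplicity_pos hs₁'0).2 hs₁'a
    refine ⟨s₁', hs₁'V, hs₁'0, ?_⟩
    by_contra hlt
    push Not at hlt
    have hβk : ((rootMultiplicity a s₁' : ℕ) : k) ≠ 0 := cast_ne_zero_of_lt p hβ1 (by omega)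
    have h1 := not_pow_dvd_wronskian hβ1 hβk hs₀'a hu'a
    rw [← hu'1] at h1
    obtain ⟨c, hc⟩ := wr_all F' G' hs₀'V hs₁'V
    rw [hc, hWW] at h1
    exact h1 (Dvd.dvd.mul_left ((pow_dvd_pow _ (by omega)).trans hdiv) _)
  · intro s hsV hs0
    by_contra hcon
    push Not at hcon
    have hdd := (le_rootMultiplicity_iff hs0).1 (Nat.succ_le_of_lt hcon)
    have := wr_trans F' G' hsV hs0 hdd
    rw [hWW] at this
    exact hnot this

theorem s13920 [IsAlgClosed k] (p : ℕ) [Fact p.Prime] [CharP k p] (d n : ℕ) (P : Fin n → k)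
    (e : Fin n → ℕ) (E : ℕ)
    (he : Admissible p d (Fin.cons E e : Fin (n + 1) → ℕ))
    (hlt : ∀ i, e i < p) (hE : p < E) :
    {V : Submodule k k[X] | V ∈ ramMaps d P e ∧ HasRamIdxInf d V E} = ∅ ∨
      {V : Submodule k k[X] | V ∈ ramMaps d P e ∧ HasRamIdxInf d V E}.Infinite := by
  by_cases hemp : {V : Submodule k k[X] | V ∈ ramMaps d P e ∧ HasRamIdxInf d V E} = ∅
  · exact Or.inl hemp
  right
  obtain ⟨V, hV⟩ := Set.nonempty_iff_ne_empty.2 hemp
  obtain ⟨⟨⟨hVle, hV2, ⟨F, hFV, hFd⟩, hbpf⟩, hsep, hram⟩, ⟨G, hGV, hG0, hGE⟩, hinf⟩ := hV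
  have hE2 : 2 ≤ E ∧ E ≤ d := by
    have := he.1 0
    rw [Fin.cons_zero] at this
    exact ⟨this.1, this.2.1⟩
  have he2 : ∀ i, 2 ≤ e i := fun i => by
    have := (he.1 i.succ).1
    rwa [Fin.cons_succ] at this
  have hGd : G.natDegree + E = d := le_antisymm hGE (hinf G hGV hG0)
  have hp2 : 2 ≤ p := (Fact.out : p.Prime).two_le
  have hp0 : p ≠ 0 := by omega
  have hF0 : F ≠ 0 := by
    intro h; rw [h, natDegree_zero] at hFd; omega
  have hindFG : ∀ a b : k, C a * F + C b * G = 0 → a = 0 ∧ b = 0 := by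
    intro a b hab
    have ha : a = 0 := by
      by_contra ha
      have h1 : (C a * F + C b * G).natDegree = d := by
        rw [natDegree_add_eq_left_of_natDegree_lt]
        · rw [natDegree_C_mul ha, hFd]
        · rw [natDegree_C_mul ha, hFd]
          exact lt_of_le_of_lt (natDegree_C_mul_le _ _) (by omega)
      rw [hab, natDegree_zero] at h1
      omega
    refine ⟨ha, ?_⟩
    rw [ha, C_0, zero_mul, zero_add] at hab
    rcases mul_eq_zero.1 hab with h | h
    · exact C_eq_zero.1 h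
    · exact absurd h hG0
  haveI := finiteDimensional_of_le_degreeLE hVle
  have hspan := span_pair_eq hV2 hFV hGV hindFG
  have hW₀ : wronskian F G ≠ 0 := by
    obtain ⟨F', hF', G', hG', hW'⟩ := hsep
    rw [← hspan] at hF' hG'
    obtain ⟨c, hc⟩ := wr_all F G hF' hG'
    intro h0
    rw [hc, h0, mul_zero] at hW'
    exact hW' rfl
  have hGXdeg : (G * X ^ p).natDegree = G.natDegree + p := by
    rw [natDegree_mul hG0 (pow_ne_zero _ X_ne_zero), natDegree_X_pow]
  have hFt_deg : ∀ t : k, (F + C t * (G * X ^ p)).natDegree = d := by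
    intro t
    rw [natDegree_add_eq_left_of_natDegree_lt, hFd]
    rw [hFd]
    exact lt_of_le_of_lt (natDegree_C_mul_le _ _) (by rw [hGXdeg]; omega)
  have hWt : ∀ t : k, wronskian (F + C t * (G * X ^ p)) G = wronskian F G := by
    intro t
    have hder : derivative (C t * (G * X ^ p)) = C t * (derivative G * X ^ p) := by
      rw [derivative_C_mul, derivative_mul, derivative_X_pow, CharP.cast_eq_zero k p, C_0,
        zero_mul, mul_zero, add_zero]
    unfold wronskian
    rw [derivative_add, hder]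
    ring
  -- the family
  obtain ⟨f, hf⟩ : ∃ f : k → Submodule k k[X],
      f = fun t => Submodule.span k ({F + C t * (G * X ^ p), G} : Set k[X]) := ⟨_, rfl⟩
  have hfinj : Function.Injective f := by
    intro t t' htt
    by_contra hne
    have hmem : F + C t * (G * X ^ p) ∈ f t' := by
      rw [← htt, hf]
      exact Submodule.subset_span (Set.mem_insert _ _)
    rw [hf] at hmem
    obtain ⟨x, y, hxy⟩ := mem_span_pair'.1 hmem
    have hrel : C (1 - x) * F + (C (t - x * t') * X ^ p - C y) * G = 0 := by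
      have : C (1 - x) * F + (C (t - x * t') * X ^ p - C y) * G =
          (F + C t * (G * X ^ p)) - (C x * (F + C t' * (G * X ^ p)) + C y * G) := by
        simp only [C_sub, C_mul, C_1]
        ring
      rw [this, ← hxy, sub_self]
    have hRdeg : ((C (t - x * t') * X ^ p - C y) * G).natDegree ≤ p + G.natDegree := by
      refine natDegree_mul_le_of_le ?_ le_rfl
      refine (natDegree_sub_le _ _).trans (max_le ?_ ?_)
      · exact (natDegree_C_mul_le _ _).trans (by rw [natDegree_X_pow])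
      · rw [natDegree_C]; omega
    have hx1 : 1 - x = 0 := by
      by_contra hx1
      have h1 : (C (1 - x) * F + (C (t - x * t') * X ^ p - C y) * G).natDegree = d := by
        rw [natDegree_add_eq_left_of_natDegree_lt]
        · rw [natDegree_C_mul hx1, hFd]
        · rw [natDegree_C_mul hx1, hFd]
          omega
      rw [hrel, natDegree_zero] at h1
      omega
    rw [hx1, C_0, zero_mul, zero_add] at hrel
    have hR0 : C (t - x * t') * X ^ p - C y = 0 := (mul_eq_zero.1 hrel).resolve_right hG0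
    have hcoef := congrArg (fun q => coeff q p) hR0
    simp only [coeff_sub, coeff_C_mul, coeff_X_pow, coeff_C, coeff_zero, if_neg hp0, if_true,
      mul_one, sub_zero] at hcoef
    have hx : x = 1 := by linear_combination -hx1
    rw [hx, one_mul] at hcoef
    exact hne (sub_eq_zero.1 hcoef)
  have hfmem : ∀ t : k, f t ∈ {V : Submodule k k[X] | V ∈ ramMaps d P e ∧ HasRamIdxInf d V E} := by
    intro t
    rw [hf]
    have hFtV : F + C t * (G * X ^ p) ∈
        Submodule.span k ({F + C t * (G * X ^ p), G} : Set k[X]) :=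
      Submodule.subset_span (Set.mem_insert _ _)
    have hGVt : G ∈ Submodule.span k ({F + C t * (G * X ^ p), G} : Set k[X]) :=
      Submodule.subset_span (Set.mem_insert_of_mem _ rfl)
    have hWt' : wronskian (F + C t * (G * X ^ p)) G ≠ 0 := by rw [hWt]; exact hW₀
    have hle : Submodule.span k ({F + C t * (G * X ^ p), G} : Set k[X]) ≤ degreeLE k d := by
      rw [Submodule.span_le]
      intro x hx
      rcases hx with rfl | rfl
      · exact mem_degreeLE.2 (natDegree_le_iff_degree_le.1 (hFt_deg t).le)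
      · exact mem_degreeLE.2 (natDegree_le_iff_degree_le.1 (by omega))
    have hbpft : ∀ a : k, ∃ s ∈ Submodule.span k ({F + C t * (G * X ^ p), G} : Set k[X]),
        s.eval a ≠ 0 := by
      intro a
      by_cases hGa : eval a G = 0
      · obtain ⟨s, hsV, hsa⟩ := hbpf a
        rw [← hspan] at hsV
        obtain ⟨x, y, rfl⟩ := mem_span_pair'.1 hsV
        have hFa : eval a F ≠ 0 := by
          intro h0
          apply hsa
          rw [eval_add, eval_mul, eval_mul, h0, hGa, mul_zero, mul_zero, add_zero]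
        refine ⟨_, hFtV, ?_⟩
        rw [eval_add, eval_mul, eval_mul, hGa, zero_mul, mul_zero, add_zero]
        exact hFa
      · exact ⟨G, hGVt, hGa⟩
    refine ⟨⟨⟨hle, finrank_span_pair (wr_ind _ _ hWt'), ⟨_, hFtV, hFt_deg t⟩, hbpft⟩,
      ⟨_, hFtV, _, hGVt, hWt'⟩, ?_⟩, ⟨G, hGVt, hG0, hGE⟩, ?_⟩
    · intro i
      have hi := hram i
      rw [← hspan] at hi
      refine hasRamIdx_transfer p hW₀ (hWt t) (P i) (e i) (by have := he2 i; omega) (hlt i) ?_
        (hbpft (P i)) hi
      obtain ⟨s, hsV, hsa⟩ := hbpf (P i)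
      exact ⟨s, by rw [hspan]; exact hsV, hsa⟩
    · intro s hsV hs0
      obtain ⟨x, y, rfl⟩ := mem_span_pair'.1 hsV
      by_cases hx : x = 0
      · rw [hx, C_0, zero_mul, zero_add] at hs0 ⊢
        have hy : y ≠ 0 := by
          intro hy; apply hs0; rw [hy, C_0, zero_mul]
        rw [natDegree_C_mul hy]
        omega
      · have h1 : (C x * (F + C t * (G * X ^ p)) + C y * G).natDegree = d := by
          rw [natDegree_add_eq_left_of_natDegree_lt]
          · rw [natDegree_C_mul hx, hFt_deg]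
          · rw [natDegree_C_mul hx, hFt_deg]
            exact lt_of_le_of_lt (natDegree_C_mul_le _ _) (by omega)
        rw [h1]
        omega
  exact Set.infinite_of_injective_forall_mem hfinj hfmem

end Groth.Agent.Helper17.RM
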