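import Mathlib
import Groth.Prelude.Def_W4c1limliniiiiRamP1
import Groth.Agent.Lib.Helper17.RM3

set_option autoImplicit false

namespace Groth.Agent.Helper17.RM

open Polynomial W4c1limliniiii

variable {k : Type*} [Field k]

/-- the linear space of normalised pairs -/
def Lsub (d : ℕ) (P : Fin 3 → k) (e : Fin 3 → ℕ) : Submodule k (k[X] × k[X]) where
  carrier := {v | v.1 ∈ degreeLE k d ∧ v.2 ∈ degreeLE k d ∧ (X - C (P 0)) ^ (e 0) ∣ v.1 ∧
    (X - C (P 1)) ^ (e 1) ∣ v.2 ∧ (X - C (P 2)) ^ (e 2) ∣ v.1 + v.2}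
  add_mem' := by
    rintro v w ⟨hv1, hv2, hv3, hv4, hv5⟩ ⟨hw1, hw2, hw3, hw4, hw5⟩
    refine ⟨Submodule.add_mem _ hv1 hw1, Submodule.add_mem _ hv2 hw2, dvd_add hv3 hw3,
      dvd_add hv4 hw4, ?_⟩
    have : (v + w).1 + (v + w).2 = (v.1 + v.2) + (w.1 + w.2) := by
      simp only [Prod.fst_add, Prod.snd_add]; ring
    rw [this]
    exact dvd_add hv5 hw5
  zero_mem' := by
    refine ⟨Submodule.zero_mem _, Submodule.zero_mem _, dvd_zero _, dvd_zero _, ?_⟩
    simp
  smul_mem' := by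
    rintro c v ⟨hv1, hv2, hv3, hv4, hv5⟩
    refine ⟨Submodule.smul_mem _ c hv1, Submodule.smul_mem _ c hv2, ?_, ?_, ?_⟩
    · show (X - C (P 0)) ^ (e 0) ∣ c • v.1
      rw [smul_eq_C_mul]; exact Dvd.dvd.mul_left hv3 _
    · show (X - C (P 1)) ^ (e 1) ∣ c • v.2
      rw [smul_eq_C_mul]; exact Dvd.dvd.mul_left hv4 _
    · show (X - C (P 2)) ^ (e 2) ∣ c • v.1 + c • v.2
      rw [← smul_add, smul_eq_C_mul]; exact Dvd.dvd.mul_left hv5 _

lemma mem_Lsub {d : ℕ} {P : Fin 3 → k} {e : Fin 3 → ℕ} {v : k[X] × k[X]} :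
    v ∈ Lsub d P e ↔ v.1 ∈ degreeLE k d ∧ v.2 ∈ degreeLE k d ∧ (X - C (P 0)) ^ (e 0) ∣ v.1 ∧
    (X - C (P 1)) ^ (e 1) ∣ v.2 ∧ (X - C (P 2)) ^ (e 2) ∣ v.1 + v.2 := Iff.rfl

lemma natDegree_le_of_mem_degreeLE {d : ℕ} {f : k[X]} (hf : f ∈ degreeLE k d) :
    f.natDegree ≤ d := natDegree_le_iff_degree_le.2 (mem_degreeLE.1 hf)

/-- properties of nonzero elements of `Lsub` -/
lemma Lsub_props {d : ℕ} {P : Fin 3 → k} (hP : Function.Injective P) {e : Fin 3 → ℕ}
    (hsum : e 0 + e 1 + e 2 = 2 * d + 1) (hed : ∀ i, e i ≤ d) {v : k[X] × k[X]}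
    (hv : v ∈ Lsub d P e) (hv0 : v ≠ 0) :
    v.1 ≠ 0 ∧ v.2 ≠ 0 ∧ v.1 + v.2 ≠ 0 ∧
      (∀ a b : k, C a * v.1 + C b * v.2 = 0 → a = 0 ∧ b = 0) := by
  obtain ⟨h1, h2, h3, h4, h5⟩ := hv
  have hd1 := natDegree_le_of_mem_degreeLE h1
  have hd2 := natDegree_le_of_mem_degreeLE h2
  have hP01 : P 0 ≠ P 1 := fun h => by have := hP h; exact absurd this (by decide)
  have hP02 : P 0 ≠ P 2 := fun h => by have := hP h; exact absurd this (by decide)
  have hP12 : P 1 ≠ P 2 := fun h => by have := hP h; exact absurd this (by decide)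
  have he0 := hed 0
  have he1 := hed 1
  have he2 := hed 2
  have hz1 : v.1 = 0 → v.2 = 0 := by
    intro hz
    rw [hz, zero_add] at h5
    exact eq_zero_of_two_dvd hP12 (m := e 1) (n := e 2) (d := d) (by omega) hd2 h4 h5
  have hz2 : v.2 = 0 → v.1 = 0 := by
    intro hz
    rw [hz, add_zero] at h5
    exact eq_zero_of_two_dvd hP02 (m := e 0) (n := e 2) (d := d) (by omega) hd1 h3 h5
  have hne1 : v.1 ≠ 0 := by
    intro hz
    exact hv0 (Prod.ext hz (hz1 hz))
  have hne2 : v.2 ≠ 0 := by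
    intro hz
    exact hv0 (Prod.ext (hz2 hz) hz)
  have hind : ∀ a b : k, C a * v.1 + C b * v.2 = 0 → a = 0 ∧ b = 0 := by
    intro a b hab
    have ha : a = 0 := by
      by_contra ha
      have hs0' : v.1 = C (-(b / a)) * v.2 := by
        have : C a * v.1 = C a * (C (-(b / a)) * v.2) := by
          rw [← mul_assoc, ← C_mul, mul_neg, mul_div_cancel₀ _ ha, C_neg, neg_mul]
          exact eq_neg_of_add_eq_zero_left hab
        exact mul_left_cancel₀ (C_ne_zero.2 ha) this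
      apply hne1
      refine eq_zero_of_two_dvd hP01 (m := e 0) (n := e 1) (d := d) (by omega) hd1 h3 ?_
      rw [hs0']
      exact Dvd.dvd.mul_left h4 _
    refine ⟨ha, ?_⟩
    rw [ha, C_0, zero_mul, zero_add] at hab
    rcases mul_eq_zero.1 hab with h | h
    · exact C_eq_zero.1 h
    · exact absurd h hne2
  refine ⟨hne1, hne2, ?_, hind⟩
  intro hz
  have := hind 1 1 (by rw [C_1, one_mul, one_mul]; exact hz)
  exact one_ne_zero this.1

theorem s13937 [IsAlgClosed k] (p : ℕ) [CharP k p] (d : ℕ) (P : Fin 3 → k)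
    (hP : Function.Injective P) (e : Fin 3 → ℕ) (he : Admissible p d e) :
    ∃ L : Submodule k (k[X] × k[X]), L ≠ ⊥ ∧
      (∀ v ∈ L, v ≠ 0 →
        Submodule.span k {v.1, v.2} ≤ Polynomial.degreeLE k d ∧
          Module.finrank k (Submodule.span k {v.1, v.2}) = 2 ∧
          ∀ i, ∃ s ∈ Submodule.span k {v.1, v.2}, s ≠ 0 ∧
            e i ≤ Polynomial.rootMultiplicity (P i) s) ∧
      (∀ V : Submodule k k[X], V ≤ Polynomial.degreeLE k d → Module.finrank k V = 2 →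
        (∀ i, ∃ s ∈ V, s ≠ 0 ∧ e i ≤ Polynomial.rootMultiplicity (P i) s) →
          ∃ v ∈ L, v ≠ 0 ∧ Submodule.span k {v.1, v.2} = V) ∧
      (∀ v ∈ L, ∀ w ∈ L, v ≠ 0 → w ≠ 0 →
        Submodule.span k {v.1, v.2} = Submodule.span k {w.1, w.2} → ∃ c : k, w = c • v) := by
  obtain ⟨hsum, hed, he2, hd⟩ := admissible_unpack he
  have hP01 : P 0 ≠ P 1 := fun h => by have := hP h; exact absurd this (by decide)
  have hP02 : P 0 ≠ P 2 := fun h => by have := hP h; exact absurd this (by decide)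
  have hP12 : P 1 ≠ P 2 := fun h => by have := hP h; exact absurd this (by decide)
  have he0' := hed 0
  have he1' := hed 1
  have he2' := hed 2
  refine ⟨Lsub d P e, ?_, ?_, ?_, ?_⟩
  · obtain ⟨s, hs, hs0, hind⟩ := exists_geRam_pencil hP hsum hed
    intro hbot
    have hmem : (s 0, s 1) ∈ Lsub d P e := by
      refine ⟨mem_degreeLE.2 (natDegree_le_iff_degree_le.1 (hs 0).1),
        mem_degreeLE.2 (natDegree_le_iff_degree_le.1 (hs 1).1), (hs 0).2.2, (hs 1).2.2, ?_⟩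
      have : s 0 + s 1 = -(s 2) := by linear_combination hs0
      show (X - C (P 2)) ^ (e 2) ∣ s 0 + s 1
      rw [this]
      exact (dvd_neg).2 (hs 2).2.2
    rw [hbot, Submodule.mem_bot, Prod.mk_eq_zero] at hmem
    exact (hs 0).2.1 hmem.1
  · intro v hv hv0
    obtain ⟨hne1, hne2, hne3, hind⟩ := Lsub_props hP hsum hed hv hv0
    obtain ⟨h1, h2, h3, h4, h5⟩ := hv
    have hm1 : v.1 ∈ Submodule.span k ({v.1, v.2} : Set k[X]) :=
      Submodule.subset_span (Set.mem_insert _ _)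
    have hm2 : v.2 ∈ Submodule.span k ({v.1, v.2} : Set k[X]) :=
      Submodule.subset_span (Set.mem_insert_of_mem _ rfl)
    refine ⟨?_, finrank_span_pair hind, ?_⟩
    · rw [Submodule.span_le]
      intro x hx
      rcases hx with rfl | rfl
      · exact h1
      · exact h2
    · intro i
      fin_cases i
      · exact ⟨v.1, hm1, hne1, (le_rootMultiplicity_iff hne1).2 h3⟩
      · exact ⟨v.2, hm2, hne2, (le_rootMultiplicity_iff hne2).2 h4⟩
      · exact ⟨v.1 + v.2, Submodule.add_mem _ hm1 hm2, hne3, (le_rootMultiplicity_iff hne3).2 h5⟩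
  · intro V hVle hV2 hVram
    obtain ⟨s, hs, hs0, hsV⟩ := structure_lemma hP hsum hed hVle hV2 hVram
    refine ⟨(s 0, s 1), ?_, ?_, hsV⟩
    · refine ⟨hVle (hs 0).1, hVle (hs 1).1, (hs 0).2.2, (hs 1).2.2, ?_⟩
      have : s 0 + s 1 = -(s 2) := by linear_combination hs0
      show (X - C (P 2)) ^ (e 2) ∣ s 0 + s 1
      rw [this]
      exact (dvd_neg).2 (hs 2).2.2
    · intro h0
      rw [Prod.mk_eq_zero] at h0
      exact (hs 0).2.1 h0.1
  · intro v hv w hw hv0 hw0 hspan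
    obtain ⟨hv1, hv2, hv3, hvind⟩ := Lsub_props hP hsum hed hv hv0
    obtain ⟨hw1, hw2, hw3, hwind⟩ := Lsub_props hP hsum hed hw hw0
    obtain ⟨h1, h2, h3, h4, h5⟩ := hv
    obtain ⟨g1, g2, g3, g4, g5⟩ := hw
    have hd1 := natDegree_le_of_mem_degreeLE h1
    have hd2 := natDegree_le_of_mem_degreeLE h2
    have hmw1 : w.1 ∈ Submodule.span k ({v.1, v.2} : Set k[X]) := by
      rw [hspan]; exact Submodule.subset_span (Set.mem_insert _ _)
    have hmw2 : w.2 ∈ Submodule.span k ({v.1, v.2} : Set k[X]) := by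
      rw [hspan]; exact Submodule.subset_span (Set.mem_insert_of_mem _ rfl)
    obtain ⟨a, b, hab⟩ := mem_span_pair'.1 hmw1
    obtain ⟨a', b', hab'⟩ := mem_span_pair'.1 hmw2
    -- b = 0
    have hb : b = 0 := by
      by_contra hb
      apply hv2
      refine eq_zero_of_two_dvd hP01 (m := e 0) (n := e 1) (d := d) (by omega) hd2 ?_ h4
      have : v.2 = C b⁻¹ * (w.1 - C a * v.1) := by
        rw [hab, add_sub_cancel_left, ← mul_assoc, ← C_mul, inv_mul_cancel₀ hb, C_1, one_mul]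
      rw [this]
      exact Dvd.dvd.mul_left (dvd_sub g3 (Dvd.dvd.mul_left h3 _)) _
    have ha' : a' = 0 := by
      by_contra ha'
      apply hv1
      refine eq_zero_of_two_dvd hP01 (m := e 0) (n := e 1) (d := d) (by omega) hd1 h3 ?_
      have : v.1 = C a'⁻¹ * (w.2 - C b' * v.2) := by
        rw [hab', add_sub_cancel_right, ← mul_assoc, ← C_mul, inv_mul_cancel₀ ha', C_1, one_mul]
      rw [this]
      exact Dvd.dvd.mul_left (dvd_sub g4 (Dvd.dvd.mul_left h4 _)) _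
    rw [hb, C_0, zero_mul, add_zero] at hab
    rw [ha', C_0, zero_mul, zero_add] at hab'
    have hba : b' = a := by
      by_contra hne
      apply hv2
      refine eq_zero_of_two_dvd hP12 (m := e 1) (n := e 2) (d := d) (by omega) hd2 h4 ?_
      have hsub : b' - a ≠ 0 := sub_ne_zero.2 hne
      have : v.2 = C (b' - a)⁻¹ * ((w.1 + w.2) - C a * (v.1 + v.2)) := by
        rw [hab, hab']
        have : C a * v.1 + C b' * v.2 - C a * (v.1 + v.2) = C (b' - a) * v.2 := by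
          rw [C_sub]; ring
        rw [this, ← mul_assoc, ← C_mul, inv_mul_cancel₀ hsub, C_1, one_mul]
      rw [this]
      exact Dvd.dvd.mul_left (dvd_sub g5 (Dvd.dvd.mul_left h5 _)) _
    refine ⟨a, Prod.ext ?_ ?_⟩
    · show w.1 = a • v.1
      rw [hab, smul_eq_C_mul]
    · show w.2 = a • v.2
      rw [hab', hba, smul_eq_C_mul]

end Groth.Agent.Helper17.RM
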