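import Mathlib

set_option autoImplicit false
universe u
open CategoryTheory AlgebraicGeometry

namespace Groth.Agent.Helper17.RegEmb

theorem regular_stalk (k : Type u) [Field k] (n : ℕ)
    (y : Spec (CommRingCat.of (MvPolynomial (Fin n) k))) :
    IsRegularLocalRing ((Spec (CommRingCat.of (MvPolynomial (Fin n) k))).presheaf.stalk y) := by
  haveI : y.asIdeal.IsPrime := y.2
  letI : Algebra (MvPolynomial (Fin n) k)
      ((Spec (CommRingCat.of (MvPolynomial (Fin n) k))).presheaf.stalk y) :=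
    StructureSheaf.stalkAlgebra (MvPolynomial (Fin n) k) y
  haveI : IsLocalization.AtPrime
      ((Spec (CommRingCat.of (MvPolynomial (Fin n) k))).presheaf.stalk y) y.asIdeal :=
    StructureSheaf.IsLocalization.to_stalk _ y
  haveI : IsRegularRing k := inferInstance
  haveI : IsRegularRing (MvPolynomial (Fin n) k) := inferInstance
  haveI : IsRegularLocalRing (Localization.AtPrime y.asIdeal) := inferInstance
  exact IsRegularLocalRing.of_ringEquiv
    (IsLocalization.algEquiv y.asIdeal.primeCompl (Localization.AtPrime y.asIdeal) _).toRingEquiv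

set_option backward.isDefEq.respectTransparency.types false in
theorem aux (k : Type u) [Field k] (R : CommRingCat.{u}) (a : Spec R ⟶ Spec (CommRingCat.of k))
    [LocallyOfFiniteType a] :
    ∃ (n : ℕ) (c : Spec R ⟶ Spec (CommRingCat.of (MvPolynomial (Fin n) k))), IsClosedImmersion c ∧
      c ≫ Spec.map (CommRingCat.ofHom (MvPolynomial.C : k →+* MvPolynomial (Fin n) k)) = a := by
  let φ : CommRingCat.of k ⟶ R := Spec.preimage a
  have hφ : Spec.map φ = a := Spec.map_preimage a
  letI : Algebra k R := φ.hom.toAlgebra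
  haveI : Algebra.FiniteType k R := by
    have h1 : LocallyOfFiniteType (Spec.map φ) := by rw [hφ]; infer_instance
    exact (HasRingHomProperty.Spec_iff (P := @LocallyOfFiniteType)).mp h1
  obtain ⟨n, π, hπ⟩ := Algebra.FiniteType.iff_quotient_mvPolynomial''.mp
    (inferInstance : Algebra.FiniteType k R)
  refine ⟨n, Spec.map (CommRingCat.ofHom π.toRingHom),
    IsClosedImmersion.spec_of_surjective _ hπ, ?_⟩
  rw [← Spec.map_comp, ← hφ]
  congr 1
  ext c
  exact π.commutes c

theorem main_aux (k : Type u) [Field k] {X : Scheme.{u}}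
    (f : X ⟶ Spec (CommRingCat.of k)) (x : X) (Z : Scheme.{u}) (j : Z ⟶ X) [IsOpenImmersion j]
    (hx : x ∈ Set.range j) (n : ℕ) (c : Z ⟶ Spec (CommRingCat.of (MvPolynomial (Fin n) k)))
    [IsClosedImmersion c]
    (hcomp : c ≫ Spec.map (CommRingCat.ofHom (MvPolynomial.C : k →+* MvPolynomial (Fin n) k)) =
      j ≫ f) :
    ∃ (U : X.Opens) (_ : x ∈ U) (Y : Scheme.{u}) (g : Y ⟶ Spec (CommRingCat.of k))
      (i : (U : Scheme.{u}) ⟶ Y),
      IsImmersion i ∧ i ≫ g = U.ι ≫ f ∧ ∀ y : Y, IsRegularLocalRing (Y.presheaf.stalk y) := by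
  refine ⟨j.opensRange, hx, Spec (CommRingCat.of (MvPolynomial (Fin n) k)),
    Spec.map (CommRingCat.ofHom (MvPolynomial.C : k →+* MvPolynomial (Fin n) k)),
    j.isoOpensRange.inv ≫ c, ?_, ?_, fun y => regular_stalk k n y⟩
  · infer_instance
  · rw [Category.assoc, hcomp, ← Category.assoc, Scheme.Hom.isoOpensRange_inv_comp]

set_option backward.isDefEq.respectTransparency.types false in
theorem main (k : Type u) [Field k] {X : Scheme.{u}}
    (f : X ⟶ Spec (CommRingCat.of k)) [LocallyOfFiniteType f] (x : X) :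
    ∃ (U : X.Opens) (_ : x ∈ U) (Y : Scheme.{u}) (g : Y ⟶ Spec (CommRingCat.of k))
      (i : (U : Scheme.{u}) ⟶ Y),
      IsImmersion i ∧ i ≫ g = U.ι ≫ f ∧ ∀ y : Y, IsRegularLocalRing (Y.presheaf.stalk y) := by
  let 𝒰 := X.affineCover
  let i₀ := 𝒰.idx x
  have hx : x ∈ Set.range (𝒰.f i₀) := 𝒰.covers x
  haveI : IsOpenImmersion (𝒰.f i₀) := inferInstance
  have inst : LocallyOfFiniteType (𝒰.f i₀ ≫ f) := inferInstance
  obtain ⟨n, c, hc, hcomp⟩ := @aux k _ _ (𝒰.f i₀ ≫ f) inst
  exact @main_aux k _ X f x (𝒰.X i₀) (𝒰.f i₀) _ hx n c hc hcomp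

end Groth.Agent.Helper17.RegEmb
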