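import Mathlib

set_option autoImplicit false

namespace Groth.Agent.Helper17.TriOrth

open CategoryTheory CategoryTheory.Limits CategoryTheory.Pretriangulated

universe u v

variable {D : Type u} [Category.{v} D] [Preadditive D] [HasZeroObject D] [HasShift D ℤ]
    [∀ n : ℤ, (shiftFunctor D n).Additive] [Pretriangulated D]

theorem bijective_of_leftOrthogonal (P : ObjectProperty D) [P.IsStableUnderShift ℤ]
    (T : Triangle D) (hT : T ∈ distinguishedTriangles)
    (hX : P.leftOrthogonal T.obj₁) (B : D) (hB : P B) :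
    Function.Bijective (fun u : T.obj₃ ⟶ B => T.mor₂ ≫ u) := by
  constructor
  · intro u₁ u₂ h
    dsimp only at h
    have h0 : T.mor₂ ≫ (u₁ - u₂) = 0 := by rw [Preadditive.comp_sub, h, sub_self]
    obtain ⟨g, hg⟩ := Triangle.yoneda_exact₃ T hT (u₁ - u₂) h0
    have hX1 : P.leftOrthogonal ((shiftFunctor D (1:ℤ)).obj T.obj₁) :=
      P.leftOrthogonal.le_shift 1 _ hX
    have hg0 : g = 0 := hX1 g hB
    rw [hg0, comp_zero] at hg
    exact sub_eq_zero.mp hg
  · intro v
    have h0 : T.mor₁ ≫ v = 0 := hX _ hB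
    obtain ⟨g, hg⟩ := Triangle.yoneda_exact₂ T hT v h0
    exact ⟨g, hg.symm⟩

theorem leftOrthogonal_of_bijective (P : ObjectProperty D) [P.IsStableUnderShift ℤ]
    (T : Triangle D) (hT : T ∈ distinguishedTriangles)
    (h : ∀ B : D, P B → Function.Bijective (fun u : T.obj₃ ⟶ B => T.mor₂ ≫ u)) :
    P.leftOrthogonal T.obj₁ := by
  intro Y f hY
  have hY1 : P ((shiftFunctor D (1:ℤ)).obj Y) := P.le_shift 1 _ hY
  have h1 : T.mor₃ ≫ (shiftFunctor D (1:ℤ)).map f = 0 := by
    apply (h _ hY1).1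
    dsimp only
    rw [comp_zero, ← Category.assoc, comp_distTriang_mor_zero₂₃ _ hT, zero_comp]
  obtain ⟨g, hg⟩ := Triangle.yoneda_exact₃ _ (rot_of_distTriang _ hT)
    ((shiftFunctor D (1:ℤ)).map f) h1
  obtain ⟨g₀, rfl⟩ := (shiftFunctor D (1:ℤ)).map_surjective g
  obtain ⟨g', hg'⟩ := (h Y hY).2 g₀
  dsimp only at hg'
  have h2 : (shiftFunctor D (1:ℤ)).map f = (shiftFunctor D (1:ℤ)).map (-(T.mor₁ ≫ g₀)) := by
    rw [hg]
    simp
    exact Preadditive.neg_comp _ _
  have hf := (shiftFunctor D (1:ℤ)).map_injective h2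
  rw [hf, ← hg', ← Category.assoc, comp_distTriang_mor_zero₁₂ _ hT, zero_comp, neg_zero]

end Groth.Agent.Helper17.TriOrth
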