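import Mathlib
import Groth.Prelude.Def_W4c1zetahwZeta

set_option autoImplicit false
universe u
open CategoryTheory AlgebraicGeometry

namespace Groth.Agent.Helper17.ZetaMul

section Formal
open PowerSeries

theorem constantCoeff_exp_subst {g : PowerSeries ℚ} (hg0 : constantCoeff g = 0) :
    constantCoeff (subst g (exp ℚ)) = 1 := by
  have hsub : HasSubst g := HasSubst.of_constantCoeff_zero' hg0
  have h6 := constantCoeff_subst hsub (exp ℚ)
  rw [finsum_eq_single _ 0] at h6
  · have h9 : MvPowerSeries.constantCoeff (subst g (exp ℚ)) = 1 := by simpa using h6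
    exact h9
  · intro d hd
    have h7 : MvPowerSeries.constantCoeff (g ^ d) = 0 := by
      rw [map_pow]
      have h8 : MvPowerSeries.constantCoeff g = 0 := hg0
      rw [h8, zero_pow hd]
    rw [h7, smul_zero]

theorem derivative_exp_subst {g : PowerSeries ℚ} (hg0 : constantCoeff g = 0) :
    derivative ℚ (subst g (exp ℚ)) = derivative ℚ g * subst g (exp ℚ) := by
  have hsub : HasSubst g := HasSubst.of_constantCoeff_zero' hg0
  rw [derivative_subst hsub, derivative_exp, mul_comm]

theorem ld_mul {g h c e : PowerSeries ℚ} (hg : derivative ℚ g = c * g)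
    (hh : derivative ℚ h = e * h) :
    derivative ℚ (g * h) = (c + e) * (g * h) := by
  rw [Derivation.leibniz, hg, hh, smul_eq_mul, smul_eq_mul]; ring

theorem ld_prod {ι : Type*} (s : Finset ι) (g c : ι → PowerSeries ℚ)
    (h : ∀ i ∈ s, derivative ℚ (g i) = c i * g i) :
    derivative ℚ (∏ i ∈ s, g i) = (∑ i ∈ s, c i) * ∏ i ∈ s, g i := by
  classical
  induction s using Finset.induction_on with
  | empty => simp
  | insert a s ha ih =>
    rw [Finset.prod_insert ha, Finset.sum_insert ha]
    exact ld_mul (h a (Finset.mem_insert_self a s))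
      (ih fun i hi => h i (Finset.mem_insert_of_mem hi))

theorem ode_zero {W G : PowerSeries ℚ} (hW : derivative ℚ W = G * W)
    (h0 : constantCoeff W = 0) : W = 0 := by
  ext n
  induction n using Nat.strong_induction_on with
  | _ n ih =>
    cases n with
    | zero =>
      rw [coeff_zero_eq_constantCoeff_apply, h0]; simp
    | succ n =>
      have h1 : coeff n (derivative ℚ W) = coeff (n + 1) W * ((n : ℚ) + 1) :=
        coeff_derivative W n
      have h2 : coeff n (G * W) = 0 := by
        rw [coeff_mul]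
        apply Finset.sum_eq_zero
        intro p hp
        have hp' : p.1 + p.2 = n := Finset.HasAntidiagonal.mem_antidiagonal.mp hp
        rw [ih p.2 (by omega), map_zero, mul_zero]
      rw [hW, h2] at h1
      have h3 : ((n : ℚ) + 1) ≠ 0 := Nat.cast_add_one_ne_zero n
      rcases mul_eq_zero.mp h1.symm with h | h
      · rw [h, map_zero]
      · exact absurd h h3

theorem ode_unique {W V G : PowerSeries ℚ} (hW : derivative ℚ W = G * W)
    (hV : derivative ℚ V = G * V) (h0 : constantCoeff W = constantCoeff V) : W = V := by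
  have h : W - V = 0 := by
    apply ode_zero (G := G)
    · rw [map_sub, hW, hV, mul_sub]
    · rw [map_sub, h0, sub_self]
  exact sub_eq_zero.mp h

theorem exp_subst_sum {ι : Type*} (s : Finset ι) (a : ι → PowerSeries ℚ)
    (ha : ∀ i ∈ s, constantCoeff (a i) = 0) :
    subst (∑ i ∈ s, a i) (exp ℚ) = ∏ i ∈ s, subst (a i) (exp ℚ) := by
  have h0 : constantCoeff (∑ i ∈ s, a i) = 0 := by
    rw [map_sum]; exact Finset.sum_eq_zero ha
  apply ode_unique (G := derivative ℚ (∑ i ∈ s, a i))
  · exact derivative_exp_subst h0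
  · rw [map_sum]
    exact ld_prod s _ _ (fun i hi => derivative_exp_subst (ha i hi))
  · rw [constantCoeff_exp_subst h0, map_prod]
    symm
    exact Finset.prod_eq_one (fun i hi => constantCoeff_exp_subst (ha i hi))

end Formal

section ZetaFormal
variable {k : Type u} [Field k]

theorem nPts_eq_sum {X : Scheme.{u}} (f : X ⟶ Spec (CommRingCat.of k)) {ι : Type*} [Fintype ι]
    (Y : ι → Scheme.{u}) (h : ∀ i, Y i ⟶ Spec (CommRingCat.of k))
    (hdeg : ∀ e, 1 ≤ e → Zeta.degCount f e = ∑ i, Zeta.degCount (h i) e) (m : ℕ) :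
    Zeta.nPts f m = ∑ i, Zeta.nPts (h i) m := by
  unfold Zeta.nPts
  rw [Finset.sum_comm]
  apply Finset.sum_congr rfl
  intro e he
  rw [hdeg e (Nat.pos_of_mem_divisors he), Finset.mul_sum]

theorem zetaFun_eq_prod {X : Scheme.{u}} (f : X ⟶ Spec (CommRingCat.of k)) {ι : Type*}
    [Fintype ι] (Y : ι → Scheme.{u}) (h : ∀ i, Y i ⟶ Spec (CommRingCat.of k))
    (hdeg : ∀ e, 1 ≤ e → Zeta.degCount f e = ∑ i, Zeta.degCount (h i) e) :
    Zeta.zetaFun f = ∏ i, Zeta.zetaFun (h i) := by
  have hlog : Zeta.logZeta f = ∑ i, Zeta.logZeta (h i) := by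
    ext m
    rw [map_sum]
    simp only [Zeta.logZeta, PowerSeries.coeff_mk]
    rw [nPts_eq_sum f Y h hdeg m, Nat.cast_sum, Finset.sum_div]
  unfold Zeta.zetaFun
  rw [hlog]
  apply exp_subst_sum
  intro i _
  simp [Zeta.logZeta]

end ZetaFormal


section Geom
variable {k : Type u} [Field k]

theorem surjective_of_isClosedImmersion_SpecMap {R S : CommRingCat.{u}} (φ : R ⟶ S)
    [IsClosedImmersion (Spec.map φ)] : Function.Surjective φ.hom := by
  have h1 := (IsClosedImmersion.isAffine_surjective_of_isAffine (Spec.map φ)).2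
  have h2 : φ = (Scheme.ΓSpecIso R).inv ≫ (Spec.map φ).appTop ≫ (Scheme.ΓSpecIso S).hom := by
    rw [Scheme.ΓSpecIso_naturality, Iso.inv_hom_id_assoc]
  rw [h2]
  simp only [CommRingCat.hom_comp, RingHom.coe_comp]
  exact (ConcreteCategory.bijective_of_isIso (Scheme.ΓSpecIso S).hom).2.comp
    (h1.comp (ConcreteCategory.bijective_of_isIso (Scheme.ΓSpecIso R).inv).2)

/-- for a point `s` of `Spec k`, the map `k → κ(s)` -/
noncomputable def ψ (s : Spec (CommRingCat.of k)) :
    CommRingCat.of k ⟶ (Spec (CommRingCat.of k)).residueField s :=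
  Spec.preimage ((Spec (CommRingCat.of k)).fromSpecResidueField s)

theorem Spec_map_ψ (s : Spec (CommRingCat.of k)) :
    Spec.map (ψ s) = (Spec (CommRingCat.of k)).fromSpecResidueField s := Spec.map_preimage _

theorem ψ_bijective (s : Spec (CommRingCat.of k)) : Function.Bijective (ψ s).hom := by
  constructor
  · exact RingHom.injective ((ψ s).hom : k →+* _)
  · have hcl : IsClosed ({s} : Set (Spec (CommRingCat.of k))) := by
      have : ({s} : Set (Spec (CommRingCat.of k))) = Set.univ := by
        apply Set.eq_univ_of_forall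
        intro t
        exact Set.mem_singleton_iff.mpr (Subsingleton.elim (α := PrimeSpectrum k) t s)
      rw [this]; exact isClosed_univ
    haveI : IsClosedImmersion (Spec.map (ψ s)) := by
      rw [Spec_map_ψ]; exact isClosed_singleton_iff_isClosedImmersion.mp hcl
    exact surjective_of_isClosedImmersion_SpecMap (ψ s)

/-- the structure map `k → κ(x)` -/
noncomputable def ρc {X : Scheme.{u}} (f : X ⟶ Spec (CommRingCat.of k)) (x : X) :
    CommRingCat.of k ⟶ X.residueField x :=
  ψ (f x) ≫ f.residueFieldMap x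

theorem fromSpecResidueField_comp {X : Scheme.{u}} (f : X ⟶ Spec (CommRingCat.of k)) (x : X) :
    X.fromSpecResidueField x ≫ f = Spec.map (ρc f x) := by
  unfold ρc
  rw [Spec.map_comp, Spec_map_ψ, Scheme.Hom.SpecMap_residueFieldMap_fromSpecResidueField]

theorem finrank_ρ {X : Scheme.{u}} (f : X ⟶ Spec (CommRingCat.of k)) (x : X) :
    @Module.finrank k (X.residueField x) _ _ (ρc f x).hom.toAlgebra.toModule =
      EGA4loc.residueDegree f x := by
  unfold EGA4loc.residueDegree
  letI a1 : Algebra k (X.residueField x) := (ρc f x).hom.toAlgebra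
  letI a2 : Algebra ((Spec (CommRingCat.of k)).residueField (f x)) (X.residueField x) :=
    (f.residueFieldMap x).hom.toAlgebra
  exact Algebra.finrank_eq_of_equiv_equiv
    (RingEquiv.ofBijective (ψ (f x)).hom (ψ_bijective _)) (RingEquiv.refl _)
    (RingHom.ext fun a => rfl)

theorem nonempty_algEquiv (k : Type*) [Field k] [Finite k] (l l' : Type*) [Field l] [Field l']
    [Algebra k l] [Algebra k l'] (e : ℕ) (he : 1 ≤ e) (h : Module.finrank k l = e)
    (h' : Module.finrank k l' = e) : Nonempty (l ≃ₐ[k] l') := by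
  obtain ⟨p, hp⟩ := CharP.exists k
  haveI : Fact p.Prime := ⟨CharP.char_is_prime k p⟩
  haveI : NeZero e := ⟨by omega⟩
  exact ⟨(FiniteField.algEquivExtension k p e l h).trans
    (FiniteField.algEquivExtension k p e l' h').symm⟩

/-- the set of `k'`-points of the `k`-scheme `f : X ⟶ Spec k` -/
abbrev Pts {X : Scheme.{u}} (f : X ⟶ Spec (CommRingCat.of k)) (k' : Type u) [Field k']
    [Algebra k k'] : Type u :=
  { g : Spec (CommRingCat.of k') ⟶ X //
    g ≫ f = Spec.map (CommRingCat.ofHom (algebraMap k k')) }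

theorem finite_algHom (A : Type u) [CommRing A] [Algebra k A] [Algebra.FiniteType k A]
    (k' : Type u) [Field k'] [Algebra k k'] [Finite k'] : Finite (A →ₐ[k] k') := by
  obtain ⟨t, ht⟩ := (inferInstance : Algebra.FiniteType k A).out
  have hinjΦ : Function.Injective (fun (φ : A →ₐ[k] k') (a : t) => φ a.1) := by
    intro φ ψ h
    apply AlgHom.ext_of_adjoin_eq_top ht
    intro a ha
    exact congrFun h ⟨a, ha⟩
  exact Finite.of_injective _ hinjΦ

set_option backward.isDefEq.respectTransparency.types false in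
theorem finite_Pts_Spec (R : CommRingCat.{u}) (a : Spec R ⟶ Spec (CommRingCat.of k))
    [LocallyOfFiniteType a] (k' : Type u) [Field k'] [Algebra k k'] [Finite k'] :
    Finite (Pts a k') := by
  let φ : CommRingCat.of k ⟶ R := Spec.preimage a
  have hφ : Spec.map φ = a := Spec.map_preimage a
  letI : Algebra k R := φ.hom.toAlgebra
  haveI : Algebra.FiniteType k R := by
    have h1 : LocallyOfFiniteType (Spec.map φ) := by rw [hφ]; infer_instance
    exact (HasRingHomProperty.Spec_iff (P := @LocallyOfFiniteType)).mp h1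
  haveI := finite_algHom (k := k) R k'
  have hcomm : ∀ g : Pts a k', φ ≫ Spec.preimage g.1 = CommRingCat.ofHom (algebraMap k k') := by
    intro g
    apply Spec.map_injective
    rw [Spec.map_comp, Spec.map_preimage, hφ]
    exact g.2
  let ι : Pts a k' → (R →ₐ[k] k') := fun g =>
    { (Spec.preimage g.1).hom with
      commutes' := fun c => by
        show (Spec.preimage g.1).hom (φ.hom c) = algebraMap k k' c
        exact congrArg (fun h => h.hom c) (hcomm g) }
  have hι : Function.Injective ι := by
    intro g g' h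
    apply Subtype.ext
    have h1 : (Spec.preimage g.1).hom = (Spec.preimage g'.1).hom :=
      congrArg (fun h : R →ₐ[k] k' => (h : R →+* k')) h
    have h2 : Spec.preimage g.1 = Spec.preimage g'.1 := CommRingCat.hom_ext h1
    rw [← Spec.map_preimage g.1, ← Spec.map_preimage g'.1, h2]
  exact Finite.of_injective ι hι

theorem finite_Pts_of_charts {X : Scheme.{u}} (f : X ⟶ Spec (CommRingCat.of k))
    (J : Type u) [Finite J] (Z : J → Scheme.{u})
    (j : ∀ i, Z i ⟶ X) [∀ i, IsOpenImmersion (j i)]
    (hcov : ∀ x : X, ∃ i, x ∈ Set.range (j i))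
    (k' : Type u) [Field k'] [Algebra k k']
    (hfin : ∀ i, Finite (Pts (j i ≫ f) k')) :
    Finite (Pts f k') := by
  classical
  let pt : Spec (CommRingCat.of k') := (default : PrimeSpectrum k')
  have hsub : ∀ y : Spec (CommRingCat.of k'), y = pt := fun y =>
    Subsingleton.elim (α := PrimeSpectrum k') y pt
  have hidx : ∀ g : Spec (CommRingCat.of k') ⟶ X, ∃ i, Set.range g ⊆ Set.range (j i) := by
    intro g
    obtain ⟨i, hi⟩ := hcov (g pt)
    refine ⟨i, ?_⟩
    rintro _ ⟨y, rfl⟩
    rw [hsub y]; exact hi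
  choose idx hidx using hidx
  let Φ : Pts f k' → Σ i, Pts (j i ≫ f) k' :=
    fun g => ⟨idx g.1, ⟨IsOpenImmersion.lift (j (idx g.1)) g.1 (hidx g.1), by
      rw [← Category.assoc, IsOpenImmersion.lift_fac]; exact g.2⟩⟩
  let back : (Σ i, Pts (j i ≫ f) k') → (Spec (CommRingCat.of k') ⟶ X) :=
    fun x => x.2.1 ≫ j x.1
  have hback : ∀ g, back (Φ g) = g.1 := by
    intro g
    show IsOpenImmersion.lift (j (idx g.1)) g.1 (hidx g.1) ≫ j (idx g.1) = g.1
    rw [IsOpenImmersion.lift_fac]
  have hΦinj : Function.Injective Φ := by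
    intro g g' h
    apply Subtype.ext
    rw [← hback g, ← hback g', h]
  haveI : ∀ i, Finite (Pts (j i ≫ f) k') := hfin
  exact Finite.of_injective Φ hΦinj

set_option backward.isDefEq.respectTransparency.types false in
theorem finite_Pts {X : Scheme.{u}} (f : X ⟶ Spec (CommRingCat.of k))
    [LocallyOfFiniteType f] [QuasiCompact f] (k' : Type u) [Field k'] [Algebra k k'] [Finite k'] :
    Finite (Pts f k') := by
  haveI : CompactSpace X := QuasiCompact.compactSpace_of_compactSpace f
  let 𝒰 := X.affineCover.finiteSubcover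
  have hpiece : ∀ i : 𝒰.I₀, Finite (Pts (𝒰.f i ≫ f) k') := by
    intro i
    haveI : IsOpenImmersion (𝒰.f i) := inferInstance
    have inst : LocallyOfFiniteType (𝒰.f i ≫ f) := inferInstance
    exact @finite_Pts_Spec k _ _ (𝒰.f i ≫ f) inst k' _ _ _
  exact finite_Pts_of_charts f 𝒰.I₀ 𝒰.X 𝒰.f (fun x => ⟨𝒰.idx x, 𝒰.covers x⟩) k' hpiece

theorem finite_deg [Finite k] {X : Scheme.{u}} (f : X ⟶ Spec (CommRingCat.of k))
    [LocallyOfFiniteType f] [QuasiCompact f] (e : ℕ) (he : 1 ≤ e) :
    Set.Finite {x : X | EGA4loc.residueDegree f x = e} := by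
  by_cases hne : ∃ x₀ : X, EGA4loc.residueDegree f x₀ = e
  · obtain ⟨x₀, hx₀⟩ := hne
    letI algK : Algebra k (X.residueField x₀) := (ρc f x₀).hom.toAlgebra
    have hK : Module.finrank k (X.residueField x₀) = e := (finrank_ρ f x₀).trans hx₀
    haveI : Module.Finite k (X.residueField x₀) := Module.finite_of_finrank_pos (by omega)
    haveI : Finite (X.residueField x₀) := Module.finite_of_finite k
    haveI := finite_Pts f (X.residueField x₀)
    let pt : Spec (CommRingCat.of (X.residueField x₀)) :=
      (default : PrimeSpectrum (X.residueField x₀))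
    let ev : Pts f (X.residueField x₀) → X := fun g => g.1 pt
    apply (Set.finite_range ev).subset
    intro x hx
    have hx' : EGA4loc.residueDegree f x = e := hx
    letI algx : Algebra k (X.residueField x) := (ρc f x).hom.toAlgebra
    have hL : Module.finrank k (X.residueField x) = e := (finrank_ρ f x).trans hx'
    obtain ⟨σ⟩ := nonempty_algEquiv k (X.residueField x) (X.residueField x₀) e he hL hK
    let σc : X.residueField x ⟶ CommRingCat.of (X.residueField x₀) :=
      CommRingCat.ofHom (σ : X.residueField x →+* X.residueField x₀)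
    refine ⟨⟨Spec.map σc ≫ X.fromSpecResidueField x, ?_⟩, ?_⟩
    · rw [Category.assoc, fromSpecResidueField_comp, ← Spec.map_comp]
      congr 1
      ext a
      exact σ.commutes a
    · show (Spec.map σc ≫ X.fromSpecResidueField x) pt = x
      simp
  · have : {x : X | EGA4loc.residueDegree f x = e} = ∅ := by
      ext x
      simp only [Set.mem_ofPred_eq, Set.mem_empty_iff_false, iff_false]
      intro hx; exact hne ⟨x, hx⟩
    rw [this]; exact Set.finite_empty

theorem isClosed_iff_of_immersion {X Y : Scheme.{u}} [JacobsonSpace X] (g : Y ⟶ X)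
    [IsImmersion g] (y : Y) :
    IsClosed ({y} : Set Y) ↔ IsClosed ({g y} : Set X) := by
  constructor
  · intro h
    exact g.closePoints_subset_preimage_closedPoints h
  · intro h
    have : ({y} : Set Y) = g ⁻¹' {g y} := by
      ext z
      simp only [Set.mem_singleton_iff, Set.mem_preimage]
      exact ⟨fun h => by rw [h], fun h => g.isEmbedding.injective h⟩
    rw [this]
    exact h.preimage g.continuous

theorem residueFieldMap_bijective_of_immersion {X Y : Scheme.{u}} (g : Y ⟶ X) [IsImmersion g]
    (y : Y) : Function.Bijective (g.residueFieldMap y).hom := by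
  constructor
  · exact RingHom.injective _
  · intro b
    obtain ⟨b', rfl⟩ := Y.residue_surjective y b
    obtain ⟨a', rfl⟩ := g.stalkMap_surjective y b'
    refine ⟨X.residue (g y) a', ?_⟩
    have h := Scheme.residue_residueFieldMap g y
    exact congrArg (fun φ => φ.hom a') h

theorem residueDegree_comp_of_immersion {X Y S : Scheme.{u}} (g : Y ⟶ X) [IsImmersion g]
    (f : X ⟶ S) (y : Y) :
    EGA4loc.residueDegree (g ≫ f) y = EGA4loc.residueDegree f (g y) := by
  unfold EGA4loc.residueDegree
  letI a1 : Algebra (S.residueField ((g ≫ f) y)) (Y.residueField y) :=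
    ((g ≫ f).residueFieldMap y).hom.toAlgebra
  letI a2 : Algebra (S.residueField (f (g y))) (X.residueField (g y)) :=
    (f.residueFieldMap (g y)).hom.toAlgebra
  symm
  exact Algebra.finrank_eq_of_equiv_equiv (RingEquiv.refl _)
    (RingEquiv.ofBijective _ (residueFieldMap_bijective_of_immersion g y)) (by
      ext a
      exact congrArg (fun φ => φ.hom a) (Scheme.residueFieldMap_comp g f y))

end Geom


section Assembly
variable {k : Type u} [Field k]

/-- closed points of residue degree `e` -/
abbrev DegPts {X : Scheme.{u}} (f : X ⟶ Spec (CommRingCat.of k)) (e : ℕ) : Type u :=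
  { x : X // IsClosed ({x} : Set X) ∧ EGA4loc.residueDegree f x = e }

theorem degCount_eq_sum [Finite k] {X : Scheme.{u}} (f : X ⟶ Spec (CommRingCat.of k))
    [LocallyOfFiniteType f] [QuasiCompact f]
    {ι : Type*} [Fintype ι] (Y : ι → Scheme.{u}) (g : ∀ i, Y i ⟶ X) [∀ i, IsImmersion (g i)]
    (hpart : ∀ x : X, IsClosed ({x} : Set X) → ∃! i, x ∈ Set.range (g i))
    (e : ℕ) (he : 1 ≤ e) :
    Zeta.degCount f e = ∑ i, Zeta.degCount (g i ≫ f) e := by
  haveI : JacobsonSpace X := LocallyOfFiniteType.jacobsonSpace f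
  show Nat.card (DegPts f e) = ∑ i, Nat.card (DegPts (g i ≫ f) e)
  haveI hS : Finite (DegPts f e) := by
    have h1 := finite_deg f e he
    exact (h1.subset (fun x (hx : IsClosed ({x} : Set X) ∧ EGA4loc.residueDegree f x = e) =>
      hx.2)).to_subtype
  let φ : (Σ i, DegPts (g i ≫ f) e) → DegPts f e := fun p =>
    ⟨g p.1 p.2.1, (isClosed_iff_of_immersion (g p.1) p.2.1).mp p.2.2.1, by
      rw [← residueDegree_comp_of_immersion]; exact p.2.2.2⟩
  have hinj : Function.Injective φ := by
    rintro ⟨i, y, hy1, hy2⟩ ⟨i', y', hy1', hy2'⟩ h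
    have hxy : g i y = g i' y' := congrArg Subtype.val h
    have hcl : IsClosed ({g i y} : Set X) := (isClosed_iff_of_immersion (g i) y).mp hy1
    obtain ⟨i₀, _, huniq⟩ := hpart _ hcl
    have hi : i = i' := (huniq i ⟨y, rfl⟩).trans (huniq i' ⟨y', hxy.symm⟩).symm
    subst hi
    have hyy : y = y' := (g i).isEmbedding.injective hxy
    subst hyy
    rfl
  have hsurj : Function.Surjective φ := by
    rintro ⟨x, hx1, hx2⟩
    obtain ⟨i, ⟨y, rfl⟩, _⟩ := hpart x hx1
    exact ⟨⟨i, y, (isClosed_iff_of_immersion (g i) y).mpr hx1, by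
      rw [residueDegree_comp_of_immersion]; exact hx2⟩, rfl⟩
  haveI : ∀ i, Finite (DegPts (g i ≫ f) e) := fun i =>
    Finite.of_injective (fun y : DegPts (g i ≫ f) e => φ ⟨i, y⟩) (fun y y' h => by
      have h2 := hinj h
      exact eq_of_heq (Sigma.mk.inj_iff.mp h2).2)
  calc Nat.card (DegPts f e) = Nat.card (Σ i, DegPts (g i ≫ f) e) :=
        (Nat.card_congr (Equiv.ofBijective φ ⟨hinj, hsurj⟩)).symm
    _ = ∑ i, Nat.card (DegPts (g i ≫ f) e) := Nat.card_sigma

theorem main [Finite k] {X : Scheme.{u}} (f : X ⟶ Spec (CommRingCat.of k))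
    [LocallyOfFiniteType f] [QuasiCompact f]
    {ι : Type*} [Fintype ι] (Y : ι → Scheme.{u}) (g : ∀ i, Y i ⟶ X) [∀ i, IsImmersion (g i)]
    (hpart : ∀ x : X, IsClosed ({x} : Set X) → ∃! i, x ∈ Set.range (g i)) :
    Zeta.zetaFun f = ∏ i, Zeta.zetaFun (g i ≫ f) :=
  zetaFun_eq_prod f Y (fun i => g i ≫ f) (fun e he => degCount_eq_sum f Y g hpart e he)

theorem main2 [Finite k] {X Y : Scheme.{u}} (f : X ⟶ Spec (CommRingCat.of k))
    [LocallyOfFiniteType f] [QuasiCompact f]
    (U : X.Opens) (i : Y ⟶ X) [IsClosedImmersion i] (hY : Set.range i = (U : Set X)ᶜ) :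
    Zeta.zetaFun f = Zeta.zetaFun (i ≫ f) * Zeta.zetaFun (U.ι ≫ f) := by
  let Y' : Bool → Scheme.{u} := fun b => bif b then Y else U.toScheme
  let g : ∀ b, Y' b ⟶ X := fun b => Bool.rec (motive := fun b => Y' b ⟶ X) U.ι i b
  haveI : ∀ b, IsImmersion (g b) := by
    intro b; cases b
    · show IsImmersion U.ι; infer_instance
    · show IsImmersion i; infer_instance
  have hU : Set.range (g false) = (U : Set X) := by
    show Set.range U.ι = (U : Set X)
    exact Scheme.Opens.range_ι U
  have hYr : Set.range (g true) = (U : Set X)ᶜ := hY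
  have h := main f Y' g (by
    intro x _
    by_cases hxU : x ∈ (U : Set X)
    · refine ⟨false, by show x ∈ Set.range (g false); rw [hU]; exact hxU, ?_⟩
      intro b hb
      cases b
      · rfl
      · have hb' : x ∈ Set.range (g true) := hb
        rw [hYr] at hb'; exact absurd hxU hb'
    · refine ⟨true, by show x ∈ Set.range (g true); rw [hYr]; exact hxU, ?_⟩
      intro b hb
      cases b
      · have hb' : x ∈ Set.range (g false) := hb
        rw [hU] at hb'; exact absurd hb' hxU
      · rfl)
  rw [h, Fintype.prod_bool]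

end Assembly

end Groth.Agent.Helper17.ZetaMul
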