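import Mathlib
import Groth.Agent.Lib.Helper17.ZetaMul
import Groth.Prelude.Def_SgaExt

set_option autoImplicit false
universe u
open CategoryTheory AlgebraicGeometry

namespace Groth.Agent.Helper17.ZetaPts

open Groth.Agent.Helper17.ZetaMul

variable {k : Type u} [Field k]

theorem isClosed_of_deg_pos {X : Scheme.{u}} (f : X ⟶ Spec (CommRingCat.of k))
    [LocallyOfFiniteType f] (x : X) (h : 1 ≤ EGA4loc.residueDegree f x) :
    IsClosed ({x} : Set X) := by
  haveI : JacobsonSpace X := LocallyOfFiniteType.jacobsonSpace f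
  rw [isClosed_singleton_iff_locallyOfFiniteType]
  letI : Algebra k (X.residueField x) := (ρc f x).hom.toAlgebra
  have hfr : Module.finrank k (X.residueField x) = EGA4loc.residueDegree f x := finrank_ρ f x
  haveI : Module.Finite k (X.residueField x) := Module.finite_of_finrank_pos (by omega)
  haveI : LocallyOfFiniteType (X.fromSpecResidueField x ≫ f) := by
    rw [fromSpecResidueField_comp, HasRingHomProperty.Spec_iff (P := @LocallyOfFiniteType)]
    exact (inferInstance : Algebra.FiniteType k (X.residueField x))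
  exact locallyOfFiniteType_of_comp _ f

/-- `k`-algebra maps `κ(x) → k'` -/
abbrev Hx {X : Scheme.{u}} (f : X ⟶ Spec (CommRingCat.of k)) (k' : Type u) [Field k']
    [Algebra k k'] (x : X) : Type u :=
  {φ : X.residueField x ⟶ CommRingCat.of k' //
    ρc f x ≫ φ = CommRingCat.ofHom (algebraMap k k')}

theorem Hx_facts {X : Scheme.{u}} (f : X ⟶ Spec (CommRingCat.of k)) (k' : Type u) [Field k']
    [Algebra k k'] [Finite k'] (x : X) :
    (Nonempty (Hx f k' x) → EGA4loc.residueDegree f x ∣ Module.finrank k k') ∧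
    (EGA4loc.residueDegree f x ∣ Module.finrank k k' →
      Nat.card (Hx f k' x) = EGA4loc.residueDegree f x) := by
  letI : Algebra k (X.residueField x) := (ρc f x).hom.toAlgebra
  have hfr : Module.finrank k (X.residueField x) = EGA4loc.residueDegree f x := finrank_ρ f x
  let E : Hx f k' x ≃ (X.residueField x →ₐ[k] k') :=
    { toFun := fun φ => { φ.1.hom with commutes' := fun c => congrArg (fun h => h.hom c) φ.2 }
      invFun := fun ψ => ⟨CommRingCat.ofHom ψ.toRingHom, by ext c; exact ψ.commutes c⟩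
      left_inv := fun φ => by apply Subtype.ext; rfl
      right_inv := fun ψ => by ext a; rfl }
  rw [← hfr]
  constructor
  · rintro ⟨φ⟩
    exact FiniteField.nonempty_algHom_iff_finrank_dvd.mp ⟨E φ⟩
  · intro hd
    rw [Nat.card_congr E]
    exact FiniteField.natCard_algHom_of_finrank_dvd hd

theorem pts_cond {X : Scheme.{u}} (f : X ⟶ Spec (CommRingCat.of k)) (k' : Type u) [Field k']
    [Algebra k k'] (p : Σ x : X, (X.residueField x ⟶ CommRingCat.of k')) :
    ((Scheme.SpecToEquivOfField k' X).symm p) ≫ f =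
        Spec.map (CommRingCat.ofHom (algebraMap k k')) ↔
      ρc f p.1 ≫ p.2 = CommRingCat.ofHom (algebraMap k k') := by
  have hg : (Scheme.SpecToEquivOfField k' X).symm p =
      Spec.map p.2 ≫ X.fromSpecResidueField p.1 := rfl
  rw [hg, Category.assoc, fromSpecResidueField_comp, ← Spec.map_comp]
  exact ⟨fun h => Spec.map_injective h, fun h => by rw [h]⟩

theorem card_inner [Finite k] {X : Scheme.{u}} (f : X ⟶ Spec (CommRingCat.of k))
    [LocallyOfFiniteType f] [QuasiCompact f] (k' : Type u) [Field k'] [Algebra k k'] [Finite k']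
    (e : ℕ) (he : e ∈ (Module.finrank k k').divisors) :
    Finite (Σ y : DegPts f e, Hx f k' y.1) ∧
      Nat.card (Σ y : DegPts f e, Hx f k' y.1) = e * Zeta.degCount f e := by
  have he1 : 1 ≤ e := Nat.pos_of_mem_divisors he
  have hed : e ∣ Module.finrank k k' := (Nat.mem_divisors.mp he).1
  haveI hS : Finite (DegPts f e) := by
    have h1 := finite_deg f e he1
    exact (h1.subset (fun x (hx : IsClosed ({x} : Set X) ∧ EGA4loc.residueDegree f x = e) =>
      hx.2)).to_subtype
  have hcard : ∀ y : DegPts f e, Nat.card (Hx f k' y.1) = e := by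
    intro y
    have h2 := (Hx_facts f k' y.1).2 (by rw [y.2.2]; exact hed)
    rw [h2, y.2.2]
  haveI : ∀ y : DegPts f e, Finite (Hx f k' y.1) := fun y =>
    Nat.finite_of_card_ne_zero (by rw [hcard y]; omega)
  refine ⟨inferInstance, ?_⟩
  haveI := Fintype.ofFinite (DegPts f e)
  rw [Nat.card_sigma]
  simp only [hcard]
  rw [Finset.sum_const, Finset.card_univ, smul_eq_mul, mul_comm]
  congr 1
  show Fintype.card (DegPts f e) = Nat.card (DegPts f e)
  rw [Nat.card_eq_fintype_card]

theorem main [Finite k] {X : Scheme.{u}} (f : X ⟶ Spec (CommRingCat.of k))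
    [LocallyOfFiniteType f] [QuasiCompact f] (k' : Type u) [Field k'] [Algebra k k'] [Finite k'] :
    SgaExt.pointCount f k' = Zeta.nPts f (Module.finrank k k') := by
  haveI : Module.Finite k k' := Module.Finite.of_finite
  have hr0 : Module.finrank k k' ≠ 0 := (Module.finrank_pos (R := k) (M := k')).ne'
  let Q := {p : Σ x : X, (X.residueField x ⟶ CommRingCat.of k') //
    ρc f p.1 ≫ p.2 = CommRingCat.ofHom (algebraMap k k')}
  let e1 : Q ≃ Pts f k' :=
    Equiv.subtypeEquiv (Scheme.SpecToEquivOfField k' X).symm (fun p => (pts_cond f k' p).symm)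
  have hmem : ∀ b : Q, EGA4loc.residueDegree f b.1.1 ∈ (Module.finrank k k').divisors := fun b =>
    Nat.mem_divisors.mpr ⟨(Hx_facts f k' b.1.1).1 ⟨⟨b.1.2, b.2⟩⟩, hr0⟩
  have hclosed : ∀ b : Q, IsClosed ({b.1.1} : Set X) := fun b =>
    isClosed_of_deg_pos f b.1.1 (Nat.pos_of_mem_divisors (hmem b))
  let e2 : Q ≃ Σ (e : (Module.finrank k k').divisors), Σ (y : DegPts f e.1), Hx f k' y.1 :=
    { toFun := fun b => ⟨⟨EGA4loc.residueDegree f b.1.1, hmem b⟩,
        ⟨⟨b.1.1, hclosed b, rfl⟩, ⟨b.1.2, b.2⟩⟩⟩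
      invFun := fun t => ⟨⟨t.2.1.1, t.2.2.1⟩, t.2.2.2⟩
      left_inv := by rintro ⟨⟨x, φ⟩, h⟩; rfl
      right_inv := by
        rintro ⟨⟨e, he⟩, ⟨⟨x, hcl, hx⟩, φ⟩⟩
        have hx' : EGA4loc.residueDegree f x = e := hx
        subst hx'
        rfl }
  haveI : ∀ e : (Module.finrank k k').divisors, Finite (Σ (y : DegPts f e.1), Hx f k' y.1) :=
    fun e => (card_inner f k' e.1 e.2).1
  show Nat.card (Pts f k') = _
  rw [← Nat.card_congr e1, Nat.card_congr e2, Nat.card_sigma]
  unfold Zeta.nPts
  rw [← Finset.sum_coe_sort (Module.finrank k k').divisors (fun e => e * Zeta.degCount f e)]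
  apply Finset.sum_congr rfl
  intro e _
  exact (card_inner f k' e.1 e.2).2

end Groth.Agent.Helper17.ZetaPts
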