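import Mathlib
import Groth.Agent.Lib.Helper17.ZetaPts

set_option autoImplicit false
universe u
open CategoryTheory AlgebraicGeometry

namespace Groth.Agent.Helper17.ZetaA1

open Groth.Agent.Helper17.ZetaMul Groth.Agent.Helper17.ZetaPts

theorem exists_field_ext (k : Type u) [Field k] [Finite k] (m : ℕ) (hm : 1 ≤ m) :
    ∃ (K : Type u) (_ : Field K) (_ : Algebra k K), Finite K ∧ Module.finrank k K = m := by
  obtain ⟨p, hp⟩ := CharP.exists k
  haveI : Fact p.Prime := ⟨CharP.char_is_prime k p⟩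
  haveI : NeZero m := ⟨by omega⟩
  refine ⟨ULift.{u} (FiniteField.Extension k p m), inferInstance, inferInstance, inferInstance, ?_⟩
  exact (ULift.moduleEquiv (R := k) (M := FiniteField.Extension k p m)).finrank_eq.trans
    (FiniteField.finrank_extension k p m)

section Formal
open PowerSeries

theorem exp_subst_rescale (q : ℚ) {a : PowerSeries ℚ} (ha : constantCoeff a = 0) :
    subst (rescale q a) (exp ℚ) = rescale q (subst a (exp ℚ)) := by
  have hsa : HasSubst a := HasSubst.of_constantCoeff_zero' ha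
  rw [rescale_eq_subst q (subst a (exp ℚ)), subst_comp_subst_apply hsa (HasSubst.smul_X' q),
    ← rescale_eq_subst]

end Formal

section Geom
variable {k : Type u} [Field k]

/-- points of the affine line over `X` -/
noncomputable def ptsEquiv {X : Scheme.{u}} (f : X ⟶ Spec (CommRingCat.of k)) (K : Type u)
    [Field K] [Algebra k K] :
    Pts ((𝔸(PUnit.{u + 1}; X) ↘ X) ≫ f) K ≃
      Pts f K × (PUnit.{u + 1} → Γ(Spec (CommRingCat.of K), ⊤)) where
  toFun h := (⟨h.1 ≫ (𝔸(PUnit.{u + 1}; X) ↘ X), by rw [Category.assoc]; exact h.2⟩,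
    fun i => h.1.appTop (AffineSpace.coord X i))
  invFun p := ⟨AffineSpace.homOfVector p.1.1 p.2, by
    rw [← Category.assoc, AffineSpace.homOfVector_over]; exact p.1.2⟩
  left_inv h := by
    apply Subtype.ext
    apply AffineSpace.hom_ext
    · simp
    · intro i
      simp
  right_inv p := by
    apply Prod.ext
    · apply Subtype.ext
      simp
    · funext i
      simp

theorem nPts_affineLine [Finite k] {X : Scheme.{u}} (f : X ⟶ Spec (CommRingCat.of k))
    [LocallyOfFiniteType f] [QuasiCompact f] (m : ℕ) (hm : 1 ≤ m) :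
    Zeta.nPts ((𝔸(PUnit.{u + 1}; X) ↘ X) ≫ f) m = Nat.card k ^ m * Zeta.nPts f m := by
  obtain ⟨K, _, _, hfin, hK⟩ := exists_field_ext k m hm
  rw [← hK, ← ZetaPts.main ((𝔸(PUnit.{u + 1}; X) ↘ X) ≫ f) K, ← ZetaPts.main f K]
  show Nat.card (Pts ((𝔸(PUnit.{u + 1}; X) ↘ X) ≫ f) K) = _ * Nat.card (Pts f K)
  rw [Nat.card_congr (ptsEquiv f K), Nat.card_prod, mul_comm]
  congr 1
  rw [Nat.card_congr (Equiv.punitArrowEquiv _),
    Nat.card_congr (Scheme.ΓSpecIso (CommRingCat.of K)).commRingCatIsoToRingEquiv.toEquiv]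
  exact Module.natCard_eq_pow_finrank

theorem main [Finite k] {X : Scheme.{u}} (f : X ⟶ Spec (CommRingCat.of k))
    [LocallyOfFiniteType f] [QuasiCompact f] :
    Zeta.zetaFun ((𝔸(PUnit.{u + 1}; X) ↘ X) ≫ f) =
      PowerSeries.rescale (Nat.card k : ℚ) (Zeta.zetaFun f) := by
  have hlog : Zeta.logZeta ((𝔸(PUnit.{u + 1}; X) ↘ X) ≫ f) =
      PowerSeries.rescale (Nat.card k : ℚ) (Zeta.logZeta f) := by
    ext m
    rw [PowerSeries.coeff_rescale]
    simp only [Zeta.logZeta, PowerSeries.coeff_mk]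
    rcases Nat.eq_zero_or_pos m with rfl | hm
    · simp
    · rw [nPts_affineLine f m hm]
      push_cast
      ring
  unfold Zeta.zetaFun
  rw [hlog]
  apply exp_subst_rescale
  simp [Zeta.logZeta]

end Geom

end Groth.Agent.Helper17.ZetaA1
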