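import Mathlib
import Groth.Agent.Lib.Helper17.ZetaA1

set_option autoImplicit false
universe u
open CategoryTheory AlgebraicGeometry Limits

namespace Groth.Agent.Helper17.ZetaBC

open Groth.Agent.Helper17.ZetaMul Groth.Agent.Helper17.ZetaPts Groth.Agent.Helper17.ZetaA1

section Formal
open PowerSeries
variable {A : Type*} [Field A] [CharZero A] [Algebra ℚ A]

theorem constantCoeff_exp_subst' {g : PowerSeries A} (hg0 : constantCoeff g = 0) :
    constantCoeff (subst g (exp A)) = 1 := by
  have hsub : HasSubst g := HasSubst.of_constantCoeff_zero' hg0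
  have h6 := constantCoeff_subst hsub (exp A)
  rw [finsum_eq_single _ 0] at h6
  · have h9 : MvPowerSeries.constantCoeff (subst g (exp A)) = 1 := by simpa using h6
    exact h9
  · intro d hd
    have h7 : MvPowerSeries.constantCoeff (g ^ d) = 0 := by
      rw [map_pow]
      have h8 : MvPowerSeries.constantCoeff g = 0 := hg0
      rw [h8, zero_pow hd]
    rw [h7, smul_zero]

theorem derivative_exp_subst' {g : PowerSeries A} (hg0 : constantCoeff g = 0) :
    derivative A (subst g (exp A)) = derivative A g * subst g (exp A) := by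
  have hsub : HasSubst g := HasSubst.of_constantCoeff_zero' hg0
  rw [derivative_subst hsub, derivative_exp, mul_comm]

theorem ld_mul' {g h c e : PowerSeries A} (hg : derivative A g = c * g)
    (hh : derivative A h = e * h) :
    derivative A (g * h) = (c + e) * (g * h) := by
  rw [Derivation.leibniz, hg, hh, smul_eq_mul, smul_eq_mul]; ring

theorem ld_prod' {ι : Type*} (s : Finset ι) (g c : ι → PowerSeries A)
    (h : ∀ i ∈ s, derivative A (g i) = c i * g i) :
    derivative A (∏ i ∈ s, g i) = (∑ i ∈ s, c i) * ∏ i ∈ s, g i := by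
  classical
  induction s using Finset.induction_on with
  | empty => simp
  | insert a s ha ih =>
    rw [Finset.prod_insert ha, Finset.sum_insert ha]
    exact ld_mul' (h a (Finset.mem_insert_self a s))
      (ih fun i hi => h i (Finset.mem_insert_of_mem hi))

theorem ode_zero' {W G : PowerSeries A} (hW : derivative A W = G * W)
    (h0 : constantCoeff W = 0) : W = 0 := by
  ext n
  induction n using Nat.strong_induction_on with
  | _ n ih =>
    cases n with
    | zero =>
      rw [coeff_zero_eq_constantCoeff_apply, h0]; simp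
    | succ n =>
      have h1 : coeff n (derivative A W) = coeff (n + 1) W * ((n : A) + 1) :=
        coeff_derivative W n
      have h2 : coeff n (G * W) = 0 := by
        rw [coeff_mul]
        apply Finset.sum_eq_zero
        intro p hp
        have hp' : p.1 + p.2 = n := Finset.HasAntidiagonal.mem_antidiagonal.mp hp
        rw [ih p.2 (by omega), map_zero, mul_zero]
      rw [hW, h2] at h1
      have h3 : ((n : A) + 1) ≠ 0 := Nat.cast_add_one_ne_zero n
      rcases mul_eq_zero.mp h1.symm with h | h
      · rw [h, map_zero]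
      · exact absurd h h3

theorem ode_unique' {W V G : PowerSeries A} (hW : derivative A W = G * W)
    (hV : derivative A V = G * V) (h0 : constantCoeff W = constantCoeff V) : W = V := by
  have h : W - V = 0 := by
    apply ode_zero' (G := G)
    · rw [map_sub, hW, hV, mul_sub]
    · rw [map_sub, h0, sub_self]
  exact sub_eq_zero.mp h

theorem exp_subst_sum' {ι : Type*} (s : Finset ι) (a : ι → PowerSeries A)
    (ha : ∀ i ∈ s, constantCoeff (a i) = 0) :
    subst (∑ i ∈ s, a i) (exp A) = ∏ i ∈ s, subst (a i) (exp A) := by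
  have h0 : constantCoeff (∑ i ∈ s, a i) = 0 := by
    rw [map_sum]; exact Finset.sum_eq_zero ha
  apply ode_unique' (G := derivative A (∑ i ∈ s, a i))
  · exact derivative_exp_subst' h0
  · rw [map_sum]
    exact ld_prod' s _ _ (fun i hi => derivative_exp_subst' (ha i hi))
  · rw [constantCoeff_exp_subst' h0, map_prod]
    symm
    exact Finset.prod_eq_one (fun i hi => constantCoeff_exp_subst' (ha i hi))

theorem exp_subst_rescale' (q : A) {a : PowerSeries A} (ha : constantCoeff a = 0) :
    subst (rescale q a) (exp A) = rescale q (subst a (exp A)) := by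
  have hsa : HasSubst a := HasSubst.of_constantCoeff_zero' ha
  rw [rescale_eq_subst q (subst a (exp A)), subst_comp_subst_apply hsa (HasSubst.smul_X' q),
    ← rescale_eq_subst]

theorem geom_root (r : ℕ) (hr : 1 ≤ r) (ξ : ℂ) (hξ : IsPrimitiveRoot ξ r) (n : ℕ) :
    ∑ i ∈ Finset.range r, (ξ ^ i) ^ n = if r ∣ n then (r : ℂ) else 0 := by
  have h1 : ∀ i, (ξ ^ i) ^ n = (ξ ^ n) ^ i := fun i => by rw [← pow_mul, ← pow_mul, mul_comm]
  simp only [h1]
  split_ifs with hd
  · have : ξ ^ n = 1 := (hξ.pow_eq_one_iff_dvd n).mpr hd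
    simp [this]
  · have hne : ξ ^ n ≠ 1 := fun h => hd ((hξ.pow_eq_one_iff_dvd n).mp h)
    have hpow : (ξ ^ n) ^ r = 1 := by rw [← pow_mul, mul_comm, pow_mul, hξ.pow_eq_one, one_pow]
    have h2 := mul_geom_sum (ξ ^ n) r
    rw [hpow, sub_self] at h2
    rcases mul_eq_zero.mp h2 with h | h
    · exact absurd (sub_eq_zero.mp h) hne
    · exact h

theorem formal_bc (r : ℕ) (hr : 1 ≤ r) (ξ : ℂ) (hξ : IsPrimitiveRoot ξ r) (L L' : PowerSeries ℚ)
    (hL0 : constantCoeff L = 0) (hL'0 : constantCoeff L' = 0)
    (hLL' : ∀ m, 1 ≤ m → coeff m L' = r * coeff (r * m) L) :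
    subst ((X : PowerSeries ℂ) ^ r) (map (algebraMap ℚ ℂ) (subst L' (exp ℚ))) =
      ∏ i ∈ Finset.range r, rescale (ξ ^ i) (map (algebraMap ℚ ℂ) (subst L (exp ℚ))) := by
  have hsL : HasSubst L := HasSubst.of_constantCoeff_zero' hL0
  have hsL' : HasSubst L' := HasSubst.of_constantCoeff_zero' hL'0
  have hm0 : constantCoeff (map (algebraMap ℚ ℂ) L) = 0 := by
    rw [← coeff_zero_eq_constantCoeff_apply, coeff_map, coeff_zero_eq_constantCoeff_apply, hL0,
      map_zero]
  have hm0' : constantCoeff (map (algebraMap ℚ ℂ) L') = 0 := by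
    rw [← coeff_zero_eq_constantCoeff_apply, coeff_map, coeff_zero_eq_constantCoeff_apply, hL'0,
      map_zero]
  have e1 : map (algebraMap ℚ ℂ) (subst L (exp ℚ)) = subst (map (algebraMap ℚ ℂ) L) (exp ℂ) := by
    have h := map_subst hsL (h := algebraMap ℚ ℂ) (exp ℚ)
    rw [map_exp] at h
    exact h
  have e2 : map (algebraMap ℚ ℂ) (subst L' (exp ℚ)) =
      subst (map (algebraMap ℚ ℂ) L') (exp ℂ) := by
    have h := map_subst hsL' (h := algebraMap ℚ ℂ) (exp ℚ)
    rw [map_exp] at h
    exact h
  rw [e1, e2, subst_comp_subst_apply (HasSubst.of_constantCoeff_zero' hm0')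
    (HasSubst.X_pow (by omega))]
  have e3 : ∀ i ∈ Finset.range r, rescale (ξ ^ i) (subst (map (algebraMap ℚ ℂ) L) (exp ℂ)) =
      subst (rescale (ξ ^ i) (map (algebraMap ℚ ℂ) L)) (exp ℂ) := fun i _ =>
    (exp_subst_rescale' (ξ ^ i) hm0).symm
  rw [Finset.prod_congr rfl e3, ← exp_subst_sum']
  · congr 1
    ext n
    rw [coeff_subst_X_pow (by omega), map_sum]
    simp only [coeff_rescale, coeff_map]
    rw [← Finset.sum_mul, geom_root r hr ξ hξ n]
    split_ifs with hd
    · obtain ⟨m, rfl⟩ := hd
      rcases Nat.eq_zero_or_pos m with rfl | hm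
      · simp [hL0, hL'0]
      · rw [Nat.mul_div_cancel_left m (by omega), hLL' m hm]
        simp
    · simp
  · intro i _
    rw [← coeff_zero_eq_constantCoeff_apply, coeff_rescale, coeff_zero_eq_constantCoeff_apply, hm0,
      mul_zero]

end Formal

section Geom
variable {k : Type u} [Field k]

/-- `K`-points of the base change over `k'` are `K`-points of `X` over `k` -/
noncomputable def bcEquiv {X : Scheme.{u}} (f : X ⟶ Spec (CommRingCat.of k)) (k' : Type u)
    [Field k'] [Algebra k k'] (K : Type u) [Field K] [Algebra k' K] [Algebra k K]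
    [IsScalarTower k k' K] :
    Pts (pullback.snd f (Spec.map (CommRingCat.ofHom (algebraMap k k')))) K ≃ Pts f K where
  toFun h := ⟨h.1 ≫ pullback.fst f _, by
      rw [Category.assoc, pullback.condition, ← Category.assoc, h.2, ← Spec.map_comp]
      congr 1
      ext a
      exact (IsScalarTower.algebraMap_apply k k' K a).symm⟩
  invFun g₀ := ⟨pullback.lift g₀.1 (Spec.map (CommRingCat.ofHom (algebraMap k' K))) (by
      rw [g₀.2, ← Spec.map_comp]
      congr 1
      ext a
      exact IsScalarTower.algebraMap_apply k k' K a), pullback.lift_snd _ _ _⟩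
  left_inv h := by
    apply Subtype.ext
    apply pullback.hom_ext
    · exact pullback.lift_fst _ _ _
    · exact (pullback.lift_snd _ _ _).trans h.2.symm
  right_inv g₀ := by
    apply Subtype.ext
    exact pullback.lift_fst _ _ _

theorem nPts_baseChange [Finite k] {X : Scheme.{u}} (f : X ⟶ Spec (CommRingCat.of k))
    [LocallyOfFiniteType f] [QuasiCompact f] (k' : Type u) [Field k'] [Algebra k k'] [Finite k']
    (m : ℕ) (hm : 1 ≤ m) :
    Zeta.nPts (pullback.snd f (Spec.map (CommRingCat.ofHom (algebraMap k k')))) m =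
      Zeta.nPts f (Module.finrank k k' * m) := by
  obtain ⟨K, _, _, hfin, hK⟩ := exists_field_ext k' m hm
  letI : Algebra k K := ((algebraMap k' K).comp (algebraMap k k')).toAlgebra
  haveI : IsScalarTower k k' K := IsScalarTower.of_algebraMap_eq (fun _ => rfl)
  have hfr : Module.finrank k K = Module.finrank k k' * m := by
    rw [← hK, Module.finrank_mul_finrank]
  have h1 := ZetaPts.main (pullback.snd f (Spec.map (CommRingCat.ofHom (algebraMap k k')))) K
  have h2 := ZetaPts.main f K
  rw [hK] at h1
  rw [hfr] at h2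
  rw [← h1, ← h2]
  exact Nat.card_congr (bcEquiv f k' K)

theorem main [Finite k] {X : Scheme.{u}} (f : X ⟶ Spec (CommRingCat.of k))
    [LocallyOfFiniteType f] [QuasiCompact f] (k' : Type u) [Field k'] [Algebra k k'] [Finite k']
    (ξ : ℂ) (hξ : IsPrimitiveRoot ξ (Module.finrank k k')) :
    PowerSeries.subst ((PowerSeries.X : PowerSeries ℂ) ^ Module.finrank k k')
        (PowerSeries.map (algebraMap ℚ ℂ) (Zeta.zetaFun
          (pullback.snd f (Spec.map (CommRingCat.ofHom (algebraMap k k')))))) =
      ∏ i ∈ Finset.range (Module.finrank k k'),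
        PowerSeries.rescale (ξ ^ i) (PowerSeries.map (algebraMap ℚ ℂ) (Zeta.zetaFun f)) := by
  haveI : Module.Finite k k' := Module.Finite.of_finite
  have hr : 1 ≤ Module.finrank k k' := Module.finrank_pos
  unfold Zeta.zetaFun
  refine formal_bc _ hr ξ hξ (Zeta.logZeta f) (Zeta.logZeta _) ?_ ?_ ?_
  · simp [Zeta.logZeta]
  · simp [Zeta.logZeta]
  · intro m hm
    simp only [Zeta.logZeta, PowerSeries.coeff_mk]
    rw [nPts_baseChange f k' m hm]
    have hm' : (m : ℚ) ≠ 0 := by exact_mod_cast (by omega : m ≠ 0)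
    have hr' : ((Module.finrank k k' : ℕ) : ℚ) ≠ 0 := by exact_mod_cast (by omega : Module.finrank k k' ≠ 0)
    push_cast
    field_simp

end Geom

end Groth.Agent.Helper17.ZetaBC
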